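import Groth.Prelude.Def_EtMil
import Mathlib.RingTheory.TensorProduct.Quotient
import Mathlib.RingTheory.Ideal.Maps
import Mathlib.LinearAlgebra.TensorProduct.RightExactness

set_option autoImplicit false
set_option linter.unusedSectionVars false
universe u
open TensorProduct

namespace Groth.Agent.Lib.Helper63.Milnor

variable {B' B A' A : Type u} [CommRing B'] [CommRing B] [CommRing A'] [CommRing A]
  [Algebra B' B] [Algebra B' A'] [Algebra B A] [Algebra A' A] [Algebra B' A]
  [IsScalarTower B' B A] [IsScalarTower B' A' A]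

theorem compat (x : B') :
    algebraMap B A (algebraMap B' B x) = algebraMap A' A (algebraMap B' A' x) := by
  rw [← IsScalarTower.algebraMap_apply, ← IsScalarTower.algebraMap_apply]

theorem ext' (hsq : EtMil.IsFibreSquare B' B A' A) {x y : B'}
    (h1 : algebraMap B' B x = algebraMap B' B y) (h2 : algebraMap B' A' x = algebraMap B' A' y) :
    x = y := by
  obtain ⟨z, -, hz⟩ := hsq.2 (algebraMap B' B x) (algebraMap B' A' x) (compat x)
  rw [hz x ⟨rfl, rfl⟩, hz y ⟨h1.symm, h2.symm⟩]

noncomputable def lift (hsq : EtMil.IsFibreSquare B' B A' A) (b : B) (a' : A')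
    (h : algebraMap B A b = algebraMap A' A a') : B' :=
  (hsq.2 b a' h).choose

theorem lift_fst (hsq : EtMil.IsFibreSquare B' B A' A) (b : B) (a' : A')
    (h : algebraMap B A b = algebraMap A' A a') : algebraMap B' B (lift hsq b a' h) = b :=
  (hsq.2 b a' h).choose_spec.1.1

theorem lift_snd (hsq : EtMil.IsFibreSquare B' B A' A) (b : B) (a' : A')
    (h : algebraMap B A b = algebraMap A' A a') : algebraMap B' A' (lift hsq b a' h) = a' :=
  (hsq.2 b a' h).choose_spec.1.2

theorem surjective_left (hsq : EtMil.IsFibreSquare B' B A' A) :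
    Function.Surjective (algebraMap B' B) := by
  intro b
  obtain ⟨a', ha'⟩ := hsq.1 (algebraMap B A b)
  exact ⟨lift hsq b a' ha'.symm, lift_fst hsq b a' ha'.symm⟩

theorem exists_of_mem_ker (hsq : EtMil.IsFibreSquare B' B A' A) (a' : A')
    (h : algebraMap A' A a' = 0) :
    ∃ j : B', algebraMap B' B j = 0 ∧ algebraMap B' A' j = a' :=
  ⟨lift hsq 0 a' (by rw [map_zero, h]), lift_fst hsq 0 a' _, lift_snd hsq 0 a' _⟩

theorem snd_mem_ker {j : B'} (hj : algebraMap B' B j = 0) :
    algebraMap A' A (algebraMap B' A' j) = 0 := by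
  rw [← compat (B := B) (A' := A') (A := A) j, hj, map_zero]

noncomputable def star (hsq : EtMil.IsFibreSquare B' B A' A) (j : B')
    (hj : algebraMap B' B j = 0) (a' : A') : B' :=
  lift hsq 0 (algebraMap B' A' j * a') (by rw [map_zero, map_mul, snd_mem_ker hj, zero_mul])

theorem star_fst (hsq : EtMil.IsFibreSquare B' B A' A) (j : B')
    (hj : algebraMap B' B j = 0) (a' : A') : algebraMap B' B (star hsq j hj a') = 0 :=
  lift_fst hsq _ _ _

theorem star_snd (hsq : EtMil.IsFibreSquare B' B A' A) (j : B')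
    (hj : algebraMap B' B j = 0) (a' : A') :
    algebraMap B' A' (star hsq j hj a') = algebraMap B' A' j * a' :=
  lift_snd hsq _ _ _

theorem star_one (hsq : EtMil.IsFibreSquare B' B A' A) (j : B')
    (hj : algebraMap B' B j = 0) : star hsq j hj 1 = j :=
  ext' hsq (by rw [star_fst, hj]) (by rw [star_snd, mul_one])

theorem star_add (hsq : EtMil.IsFibreSquare B' B A' A) (j : B')
    (hj : algebraMap B' B j = 0) (x y : A') :
    star hsq j hj (x + y) = star hsq j hj x + star hsq j hj y :=
  ext' hsq (by rw [map_add, star_fst, star_fst, star_fst, add_zero])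
    (by rw [map_add, star_snd, star_snd, star_snd, mul_add])

theorem star_smul (hsq : EtMil.IsFibreSquare B' B A' A) (j : B')
    (hj : algebraMap B' B j = 0) (c : B') (x : A') :
    star hsq j hj (c • x) = c * star hsq j hj x :=
  ext' hsq (by rw [map_mul, star_fst, star_fst, mul_zero])
    (by rw [map_mul, star_snd, star_snd, Algebra.smul_def]; ring)

noncomputable def starMap (hsq : EtMil.IsFibreSquare B' B A' A) (j : B')
    (hj : algebraMap B' B j = 0) (L' : Type u) [AddCommGroup L'] [Module B' L'] :
    A' ⊗[B'] L' →ₗ[B'] L' :=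
  TensorProduct.lift
    { toFun := fun a' => star hsq j hj a' • (LinearMap.id : L' →ₗ[B'] L')
      map_add' := fun x y => by rw [star_add, add_smul]
      map_smul' := fun c x => by rw [star_smul, RingHom.id_apply, mul_smul] }

theorem starMap_tmul (hsq : EtMil.IsFibreSquare B' B A' A) (j : B')
    (hj : algebraMap B' B j = 0) (L' : Type u) [AddCommGroup L'] [Module B' L'] (a' : A')
    (l : L') : starMap hsq j hj L' (a' ⊗ₜ[B'] l) = star hsq j hj a' • l := by
  simp [starMap]

theorem smul_eq_zero_of_tmul_eq_zero (hsq : EtMil.IsFibreSquare B' B A' A)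
    (L' : Type u) [AddCommGroup L'] [Module B' L'] (l : L')
    (h2 : ((1 : A') ⊗ₜ[B'] l : A' ⊗[B'] L') = 0) (j : B') (hj : algebraMap B' B j = 0) :
    j • l = 0 := by
  have := starMap_tmul hsq j hj L' 1 l
  rw [h2, map_zero, star_one] at this
  exact this.symm

theorem mem_smul_top_of_tmul_eq_zero (hs : Function.Surjective (algebraMap B' B))
    (L' : Type u) [AddCommGroup L'] [Module B' L'] (l : L')
    (h1 : ((1 : B) ⊗ₜ[B'] l : B ⊗[B'] L') = 0) :
    l ∈ (RingHom.ker (algebraMap B' B)) • (⊤ : Submodule B' L') := by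
  set J : Ideal B' := RingHom.ker (algebraMap B' B) with hJ
  have hex : Function.Exact (J.subtype : J →ₗ[B'] B') (Algebra.linearMap B' B) := by
    intro x
    constructor
    · intro hx
      exact ⟨⟨x, hx⟩, rfl⟩
    · rintro ⟨y, rfl⟩
      exact y.2
  have hsurj : Function.Surjective (Algebra.linearMap B' B) := hs
  have h := rTensor_exact L' hex hsurj
  have hl : (Algebra.linearMap B' B).rTensor L' ((1 : B') ⊗ₜ[B'] l) = 0 := by
    rw [LinearMap.rTensor_tmul, Algebra.linearMap_apply, map_one, h1]
  obtain ⟨y, hy⟩ := (h _).1 hl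
  rw [← Ideal.subtype_rTensor_range]
  refine ⟨y, ?_⟩
  rw [LinearMap.comp_apply, hy]
  simp

end Groth.Agent.Lib.Helper63.Milnor
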