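import Groth.Agent.S0543
import Mathlib.RingTheory.AdicCompletion.Algebra
import Mathlib.RingTheory.AdicCompletion.Completeness
import Mathlib.RingTheory.AdicCompletion.Noetherian

set_option autoImplicit false
universe u

namespace Groth.Agent.Lib.Helper63.ComplRing

variable {B : Type u} [CommRing B] (J : Ideal B)

theorem evalₐ_eq_zero_iff (n : ℕ) (x : AdicCompletion J B) :
    AdicCompletion.evalₐ J n x = 0 ↔ AdicCompletion.eval J B n x = 0 := by
  have h : (J ^ n • ⊤ : Ideal B) = J ^ n := by ext x; simp
  rw [← AdicCompletion.factor_eval_eq_evalₐ J x (le_of_eq h)]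
  constructor
  · intro h0
    obtain ⟨b, hb⟩ := Submodule.Quotient.mk_surjective _ (AdicCompletion.eval J B n x)
    rw [← hb] at h0 ⊢
    have h1 : Ideal.Quotient.mk (J ^ n) b = 0 := h0
    rw [Ideal.Quotient.eq_zero_iff_mem, ← h] at h1
    exact (Submodule.Quotient.mk_eq_zero _).mpr h1
  · intro h0
    rw [h0, map_zero]

theorem mem_map_pow_iff (hJ : J.FG) (n : ℕ) (x : AdicCompletion J B) :
    x ∈ (J.map (algebraMap B (AdicCompletion J B))) ^ n ↔ AdicCompletion.evalₐ J n x = 0 := by
  rw [evalₐ_eq_zero_iff, ← LinearMap.mem_ker, ← AdicCompletion.pow_smul_top_eq_ker_eval hJ,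
    Ideal.smul_top_eq_map, ← Ideal.map_pow]
  rfl

theorem exists_sub_mem (hJ : J.FG) (x : AdicCompletion J B) (n : ℕ) :
    ∃ b : B, x - algebraMap B (AdicCompletion J B) b ∈
      (J.map (algebraMap B (AdicCompletion J B))) ^ n := by
  obtain ⟨b, hb⟩ := Ideal.Quotient.mk_surjective (AdicCompletion.evalₐ J n x)
  refine ⟨b, ?_⟩
  rw [mem_map_pow_iff J hJ, map_sub, AdicCompletion.algebraMap_apply, Algebra.algebraMap_self,
    RingHom.id_apply, AdicCompletion.evalₐ_of, hb, sub_self]

theorem mem_sup_of_map_mem_sup (hJ : J.FG) (K : Ideal B) (n : ℕ) (b : B)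
    (h : algebraMap B (AdicCompletion J B) b ∈ K.map (algebraMap B (AdicCompletion J B)) ⊔
      (J.map (algebraMap B (AdicCompletion J B))) ^ n) : b ∈ K ⊔ J ^ n := by
  have hle : K.map (algebraMap B (AdicCompletion J B)) ⊔
      (J.map (algebraMap B (AdicCompletion J B))) ^ n ≤
      Ideal.comap (AdicCompletion.evalₐ J n).toRingHom (K.map (Ideal.Quotient.mk (J ^ n))) := by
    refine sup_le ?_ ?_
    · rw [Ideal.map_le_iff_le_comap]
      intro k hk
      rw [Ideal.mem_comap, Ideal.mem_comap]
      have : (AdicCompletion.evalₐ J n).toRingHom (algebraMap B (AdicCompletion J B) k) =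
          Ideal.Quotient.mk (J ^ n) k := by
        change AdicCompletion.evalₐ J n (algebraMap B (AdicCompletion J B) k) = _
        rw [AdicCompletion.algebraMap_apply, Algebra.algebraMap_self, RingHom.id_apply,
          AdicCompletion.evalₐ_of]
      rw [this]
      exact Ideal.mem_map_of_mem _ hk
    · intro x hx
      rw [Ideal.mem_comap]
      have : (AdicCompletion.evalₐ J n).toRingHom x = 0 := (mem_map_pow_iff J hJ n x).mp hx
      rw [this]
      exact Ideal.zero_mem _
  have h1 := hle h
  rw [Ideal.mem_comap] at h1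
  have h2 : (AdicCompletion.evalₐ J n).toRingHom (algebraMap B (AdicCompletion J B) b) =
      Ideal.Quotient.mk (J ^ n) b := by
    change AdicCompletion.evalₐ J n (algebraMap B (AdicCompletion J B) b) = _
    rw [AdicCompletion.algebraMap_apply, Algebra.algebraMap_self, RingHom.id_apply,
      AdicCompletion.evalₐ_of]
  rw [h2, Ideal.mem_map_iff_of_surjective _ Ideal.Quotient.mk_surjective] at h1
  obtain ⟨k, hk, hkb⟩ := h1
  have h3 : b - k ∈ J ^ n := by
    rw [← Ideal.Quotient.eq_zero_iff_mem, map_sub, hkb, sub_self]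
  have : b = k + (b - k) := by ring
  rw [this]
  exact Submodule.add_mem_sup hk h3

theorem map_le_jacobson (hJ : J.FG) :
    J.map (algebraMap B (AdicCompletion J B)) ≤ Ideal.jacobson ⊥ := by
  have h1 : IsAdicComplete J (AdicCompletion J B) := AdicCompletion.isAdicComplete hJ
  have h2 : IsAdicComplete (J.map (algebraMap B (AdicCompletion J B))) (AdicCompletion J B) :=
    (IsAdicComplete.map_algebraMap_iff (S := AdicCompletion J B) J (AdicCompletion J B)).mpr h1
  exact IsAdicComplete.le_jacobson_bot _

theorem mem_of_forall_mem_sup [IsNoetherianRing B] (P : Ideal (AdicCompletion J B))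
    (x : AdicCompletion J B)
    (h : ∀ n, x ∈ P ⊔ (J.map (algebraMap B (AdicCompletion J B))) ^ n) : x ∈ P := by
  have hJ : J.FG := IsNoetherian.noetherian J
  have hN : IsNoetherianRing (AdicCompletion J B) := Groth.Agent.S0543.result B J
  have hH : IsHausdorff (J.map (algebraMap B (AdicCompletion J B))) (AdicCompletion J B ⧸ P) :=
    IsHausdorff.of_le_jacobson _ _ (map_le_jacobson J hJ)
  have h0 : Ideal.Quotient.mk P x = 0 := by
    apply hH.haus
    intro n
    rw [SModEq.zero]
    obtain ⟨y, hy, z, hz, hyz⟩ := Submodule.mem_sup.mp (h n)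
    have h1 : Ideal.Quotient.mk P x = Ideal.Quotient.mk P z := by
      rw [← hyz, map_add, Ideal.Quotient.eq_zero_iff_mem.mpr hy, zero_add]
    rw [h1]
    have h2 : z ∈ (J.map (algebraMap B (AdicCompletion J B))) ^ n •
        (⊤ : Submodule (AdicCompletion J B) (AdicCompletion J B)) := by
      rw [smul_eq_mul, Ideal.mul_top]
      exact hz
    have h3 := Submodule.mem_map_of_mem (f := P.mkQ) h2
    rw [Submodule.map_smul'', Submodule.map_top, Submodule.range_mkQ] at h3
    exact h3
  exact Ideal.Quotient.eq_zero_iff_mem.mp h0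

end Groth.Agent.Lib.Helper63.ComplRing
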