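import Groth.Agent.Lib.Helper63.Perf
import Mathlib.AlgebraicGeometry.Morphisms.UniversallyInjective
import Mathlib.AlgebraicGeometry.Morphisms.Etale
import Mathlib.AlgebraicGeometry.Morphisms.FlatMono
import Mathlib.AlgebraicGeometry.Morphisms.Integral
import Mathlib.AlgebraicGeometry.Properties

set_option autoImplicit false
set_option linter.unusedSectionVars false
universe u

open CategoryTheory CategoryTheory.Limits AlgebraicGeometry FrobSch

namespace Groth.Agent.Lib.Helper63.Perf

variable (p : ℕ) [Fact p.Prime]

theorem pow_injective_of_isReduced (T : Scheme.{u}) [IsCharP T p] [IsReduced T] (V : T.Opens) :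
    Function.Injective (fun x : Γ(T, V) => x ^ p) := by
  have h : Function.Injective (powHom p Γ(T, V) (natCast_eq_zero_app T p V)) := by
    rw [injective_iff_map_eq_zero]
    intro x hx
    exact IsReduced.eq_zero x ⟨p, hx⟩
  exact h

theorem frob_cancel_of_isReduced {T W : Scheme.{u}} [IsCharP T p] [IsReduced T] (g1 g2 : T ⟶ W)
    (h : frob T p ≫ g1 = frob T p ≫ g2) : g1 = g2 := by
  have hbase : g1.base = g2.base := by
    have := congrArg (fun g => g.base) h
    simpa using this
  refine Scheme.Hom.ext hbase (fun U => ?_)
  have happ := Scheme.Hom.congr_app h U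
  rw [Scheme.Hom.comp_app, Scheme.Hom.comp_app] at happ
  have hU : g2 ⁻¹ᵁ U = g1 ⁻¹ᵁ U := congr((TopologicalSpace.Opens.map $hbase.symm).obj U)
  ext s
  have hs := congrArg (fun φ => φ.hom s) happ
  have hs' : (g1.app U s) ^ p = T.presheaf.map (eqToHom hU.symm).op ((g2.app U s) ^ p) := hs
  rw [map_pow] at hs'
  have hab := pow_injective_of_isReduced p T _ hs'
  change T.presheaf.map (eqToHom hU).op (g1.app U s) = g2.app U s
  rw [hab, ← CommRingCat.comp_apply, ← Functor.map_comp, ← op_comp, eqToHom_trans, eqToHom_refl,
    op_id, CategoryTheory.Functor.map_id]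
  rfl

theorem universallyInjective_iff_field {X Y : Scheme.{u}} (f : X ⟶ Y) :
    UniversallyInjective f ↔
      ∀ (K : Type u) [Field K], Function.Injective (fun g : Spec (.of K) ⟶ X ↦ g ≫ f) :=
  (tfae_universallyInjective f).out 0 1

theorem universallyInjective_frob (W : Scheme.{u}) [IsCharP W p] :
    UniversallyInjective (frob W p) := by
  rw [universallyInjective_iff_field]
  intro K _ g1 g2 hg
  have hg : g1 ≫ frob W p = g2 ≫ frob W p := hg
  have hc : IsCharP (Spec (.of K)) p := IsCharP.of_hom g1 p
  apply frob_cancel_of_isReduced p g1 g2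
  rw [frob_comp, frob_comp, hg]

theorem fst_relFrob {X S : Scheme.{u}} (f : X ⟶ S) [IsCharP S p] :
    pullback.fst f (frob S p) ≫ relFrob f p = frob (frobTwist f p) p := by
  have hX : IsCharP X p := IsCharP.of_hom f p
  have e1 : relFrob f p ≫ pullback.fst f (frob S p) = frob X p := relFrob_fst f p
  have e2 : relFrob f p ≫ pullback.snd f (frob S p) = f := relFrob_snd f p
  have e3 := frob_comp p (pullback.fst f (frob S p))
  have e4 := frob_comp p (pullback.snd f (frob S p))
  apply pullback.hom_ext
  · rw [Category.assoc, e1, e3]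
  · rw [Category.assoc, e2, pullback.condition, e4]

theorem isIntegralHom_frob (X : Scheme.{u}) [IsCharP X p] : IsIntegralHom (frob X p) := by
  have haff : IsAffineHom (frob X p) := ⟨fun U hU => hU⟩
  refine ⟨fun U hU => ?_⟩
  intro x
  let y : Γ(X, U) := x
  refine ⟨Polynomial.X ^ p - Polynomial.C y,
    Polynomial.monic_X_pow_sub_C y (Fact.out : p.Prime).ne_zero, ?_⟩
  rw [Polynomial.eval₂_sub, Polynomial.eval₂_pow, Polynomial.eval₂_X, Polynomial.eval₂_C]
  exact sub_self (x ^ p)

theorem isIntegralHom_relFrob {X S : Scheme.{u}} (f : X ⟶ S) [IsCharP S p] :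
    IsIntegralHom (relFrob f p) := by
  have hX : IsCharP X p := IsCharP.of_hom f p
  have h1 : IsIntegralHom (frob S p) := isIntegralHom_frob p S
  have h2 : IsIntegralHom (frob X p) := isIntegralHom_frob p X
  have hsep : IsSeparated (pullback.fst f (frob S p)) := inferInstance
  refine MorphismProperty.of_postcomp (W := @IsIntegralHom) (W' := @IsSeparated)
    (relFrob f p) (pullback.fst f (frob S p)) hsep ?_
  rw [relFrob_fst]
  exact h2

theorem isIso_relFrob_of_etale {X S : Scheme.{u}} (f : X ⟶ S) [IsCharP S p] [Etale f] :
    IsIso (relFrob f p) := by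
  have hX : IsCharP X p := IsCharP.of_hom f p
  have hint : IsIntegralHom (relFrob f p) := isIntegralHom_relFrob p f
  have hsurj : Surjective (relFrob f p) := by
    constructor
    intro y
    refine ⟨pullback.fst f (frob S p) y, ?_⟩
    rw [← Scheme.Hom.comp_apply, fst_relFrob, frob_apply]
  have het : Etale (relFrob f p) := by
    have : Etale (relFrob f p ≫ pullback.snd f (frob S p)) := by
      rw [relFrob_snd]
      infer_instance
    exact Etale.of_comp (relFrob f p) (pullback.snd f (frob S p))
  have hui : UniversallyInjective (relFrob f p) := by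
    rw [universallyInjective_iff_field]
    intro K _ g1 g2 hg
    have hg : g1 ≫ relFrob f p = g2 ≫ relFrob f p := hg
    have h := (universallyInjective_iff_field (frob X p)).1 (universallyInjective_frob p X) K
    apply h
    have e1 : relFrob f p ≫ pullback.fst f (frob S p) = frob X p := relFrob_fst f p
    change g1 ≫ frob X p = g2 ≫ frob X p
    rw [← e1, ← Category.assoc, hg, Category.assoc]
  have hdiag_surj : Surjective (pullback.diagonal (relFrob f p)) :=
    (UniversallyInjective.iff_diagonal _).1 hui
  have hdiag_open : IsOpenImmersion (pullback.diagonal (relFrob f p)) := inferInstance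
  have hdiag_iso : IsIso (pullback.diagonal (relFrob f p)) :=
    (isIso_iff_isOpenImmersion_and_surjective _).2 ⟨hdiag_open, hdiag_surj⟩
  have hmono : Mono (relFrob f p) := by
    constructor
    intro Z a b hab
    have h1 : pullback.lift a b hab ≫ pullback.fst _ _ = a := pullback.lift_fst _ _ _
    have h2 : pullback.lift a b hab ≫ pullback.snd _ _ = b := pullback.lift_snd _ _ _
    have h3 : pullback.fst (relFrob f p) (relFrob f p) = pullback.snd _ _ := by
      rw [← cancel_epi (pullback.diagonal (relFrob f p)), pullback.diagonal_fst,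
        pullback.diagonal_snd]
    calc a = pullback.lift a b hab ≫ pullback.fst _ _ := h1.symm
      _ = pullback.lift a b hab ≫ pullback.snd _ _ := by rw [h3]
      _ = b := h2
  exact Flat.isIso_of_surjective_of_mono (relFrob f p)

theorem isPerfect_of_etale {X S : Scheme.{u}} (f : X ⟶ S) [IsCharP S p] [IsCharP X p]
    [IsPerfect S p] [Etale f] : IsPerfect X p := by
  have h1 : IsIso (relFrob f p) := isIso_relFrob_of_etale p f
  have h2 : IsIso (pullback.fst f (frob S p)) := inferInstance
  have : frob X p = relFrob f p ≫ pullback.fst f (frob S p) := (relFrob_fst f p).symm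
  change IsIso (frob X p)
  rw [this]
  infer_instance

end Groth.Agent.Lib.Helper63.Perf
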