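import Groth.Agent.Lib.Helper63.PerfIntegral
import Groth.Agent.Lib.Helper63.PerfEtale
import Groth.Prelude.Def_Flat
import Mathlib.AlgebraicGeometry.Morphisms.Flat
import Mathlib.AlgebraicGeometry.Morphisms.Proper
import Mathlib.RingTheory.RingHom.Flat

set_option autoImplicit false
set_option linter.unusedSectionVars false
universe u

open CategoryTheory CategoryTheory.Limits AlgebraicGeometry FrobSch MorphismProperty

namespace Groth.Agent.Lib.Helper63.Perf

variable (p : ℕ) [Fact p.Prime]

theorem epi_Spec_algebraicClosure (K : Type u) [Field K] :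
    Epi (Spec.map (CommRingCat.ofHom (algebraMap K (AlgebraicClosure K)))) := by
  have hflat : Flat (Spec.map (CommRingCat.ofHom (algebraMap K (AlgebraicClosure K)))) := by
    rw [HasRingHomProperty.Spec_iff (P := @Flat)]
    exact RingHom.flat_algebraMap_iff.2 inferInstance
  have hsurj : Surjective (Spec.map (CommRingCat.ofHom (algebraMap K (AlgebraicClosure K)))) := by
    constructor
    intro x
    have hs : Subsingleton (PrimeSpectrum K) := inferInstance
    exact ⟨(default : PrimeSpectrum (AlgebraicClosure K)), hs.elim _ _⟩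
  exact Flat.epi_of_flat_of_surjective _

theorem isPerfect_Spec_algebraicClosure (K : Type u) [Field K]
    [hc : IsCharP (Spec (CommRingCat.of (AlgebraicClosure K))) p] :
    IsPerfect (Spec (CommRingCat.of (AlgebraicClosure K))) p := by
  have h0 : (p : CommRingCat.of (AlgebraicClosure K)) = 0 := by
    have h := congrArg (Scheme.ΓSpecIso (CommRingCat.of (AlgebraicClosure K))).hom.hom
      hc.natCast_eq_zero
    simpa using h
  have hchar : CharP (AlgebraicClosure K) p := (CharP.charP_iff_prime_eq_zero Fact.out).2 h0
  have hbij : Function.Bijective (fun r : CommRingCat.of (AlgebraicClosure K) => r ^ p) :=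
    ⟨frobenius_inj (AlgebraicClosure K) p,
      fun x => IsAlgClosed.exists_pow_nat_eq x (Fact.out : p.Prime).pos⟩
  exact isPerfect_Spec p _ h0 hbij

theorem universallyInjective_of_isPerfection {P V : Scheme.{u}} [IsCharP P p] (π : P ⟶ V)
    (hπ : IsPerfection π p) : UniversallyInjective π := by
  rw [universallyInjective_iff_field]
  intro K _ g1 g2 hg
  have hg : g1 ≫ π = g2 ≫ π := hg
  have hepi := epi_Spec_algebraicClosure K
  have hcL : IsCharP (Spec (CommRingCat.of (AlgebraicClosure K))) p :=
    IsCharP.of_hom (Spec.map (CommRingCat.ofHom (algebraMap K (AlgebraicClosure K))) ≫ g1) p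
  have hQ := isPerfect_Spec_algebraicClosure p K
  rw [← cancel_epi (Spec.map (CommRingCat.ofHom (algebraMap K (AlgebraicClosure K))))]
  apply (hπ.2 _ hQ).1
  change (_ ≫ g1) ≫ π = (_ ≫ g2) ≫ π
  rw [Category.assoc, Category.assoc, hg]

theorem isUnivHomeo_iff {X Y : Scheme.{u}} (f : X ⟶ Y) :
    FlatMor.IsUnivHomeo f ↔ UniversallyInjective f ∧ Surjective f ∧ UniversallyClosed f := by
  constructor
  · intro h
    refine ⟨⟨fun X' Y' i₁ i₂ f' H => (h i₁ i₂ f' H).injective⟩,
      ⟨(h _ _ _ IsPullback.of_id_snd).surjective⟩,
      ⟨fun X' Y' i₁ i₂ f' H => (h i₁ i₂ f' H).isClosedMap⟩⟩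
  · rintro ⟨h1, h2, h3⟩ X' Y' i₁ i₂ f' H
    change IsHomeomorph f'
    rw [isHomeomorph_iff_continuous_isClosedMap_bijective]
    have hs : Surjective f' := MorphismProperty.of_isPullback (P := @Surjective) H.flip h2
    exact ⟨f'.continuous, h3.universally_isClosedMap i₁ i₂ f' H,
      h1.universally_injective i₁ i₂ f' H, hs.surj⟩

section Square

variable {X Y XP YP : Scheme.{u}} [IsCharP X p] [IsCharP Y p] [IsCharP XP p] [IsCharP YP p]
  (πX : XP ⟶ X) (πY : YP ⟶ Y) (hX : IsPerfection πX p) (hY : IsPerfection πY p)
  (f : X ⟶ Y) (fP : XP ⟶ YP) (w : fP ≫ πY = πX ≫ f)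

include hX hY w

theorem universallyClosed_iff_of_isPerfection :
    UniversallyClosed f ↔ UniversallyClosed fP := by
  have hIX : IsIntegralHom πX := isIntegralHom_of_isPerfection p πX hX
  have hIY : IsIntegralHom πY := isIntegralHom_of_isPerfection p πY hY
  have hSX : Surjective πX := surjective_of_isPerfection p πX hX
  constructor
  · intro hf
    have : UniversallyClosed (fP ≫ πY) := by
      rw [w]
      infer_instance
    exact UniversallyClosed.of_comp_of_isSeparated fP πY
  · intro hfP
    have : UniversallyClosed (πX ≫ f) := by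
      rw [← w]
      infer_instance
    exact UniversallyClosed.of_comp_surjective πX f

theorem surjective_iff_of_isPerfection : Surjective f ↔ Surjective fP := by
  have hSX : Surjective πX := surjective_of_isPerfection p πX hX
  have hSY : Surjective πY := surjective_of_isPerfection p πY hY
  constructor
  · intro hf
    have hcW : IsCharP (pullback πY f) p := IsCharP.of_hom (pullback.fst πY f) p
    let c : XP ⟶ pullback πY f := pullback.lift fP πX w
    have hc1 : c ≫ pullback.fst πY f = fP := pullback.lift_fst _ _ _
    have hc2 : c ≫ pullback.snd πY f = πX := pullback.lift_snd _ _ _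
    have hc : IsPerfection c p := by
      refine ⟨hX.1, ?_⟩
      intro T _ hT
      constructor
      · intro h1 h2 h12
        have h12 : h1 ≫ c = h2 ≫ c := h12
        apply (hX.2 T hT).1
        change h1 ≫ πX = h2 ≫ πX
        rw [← hc2, ← Category.assoc, h12, Category.assoc]
      · intro h
        obtain ⟨h', hh'⟩ := (hX.2 T hT).2 (h ≫ pullback.snd πY f)
        have hh' : h' ≫ πX = h ≫ pullback.snd πY f := hh'
        refine ⟨h', ?_⟩
        change h' ≫ c = h
        apply pullback.hom_ext
        · apply (hY.2 T hT).1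
          change ((h' ≫ c) ≫ pullback.fst πY f) ≫ πY = (h ≫ pullback.fst πY f) ≫ πY
          rw [Category.assoc, Category.assoc, ← Category.assoc c, hc1, w, ← Category.assoc, hh',
            Category.assoc, Category.assoc, pullback.condition]
        · rw [Category.assoc, hc2, hh']
    have hcs : Surjective c := surjective_of_isPerfection p c hc
    have hfs : Surjective (pullback.fst πY f) := inferInstance
    rw [← hc1]
    infer_instance
  · intro hfP
    have h1 : Surjective (πX ≫ f) := by
      rw [← w]
      infer_instance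
    constructor
    intro y
    obtain ⟨x, hx⟩ := h1.surj y
    exact ⟨πX x, by rw [← Scheme.Hom.comp_apply]; exact hx⟩

theorem universallyInjective_iff_of_isPerfection :
    UniversallyInjective f ↔ UniversallyInjective fP := by
  have hUX : UniversallyInjective πX := universallyInjective_of_isPerfection p πX hX
  have hUY : UniversallyInjective πY := universallyInjective_of_isPerfection p πY hY
  constructor
  · intro hf
    have h1 : UniversallyInjective (fP ≫ πY) := by
      rw [w]
      exact MorphismProperty.comp_mem (W := @UniversallyInjective) _ _ hUX hf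
    rw [universallyInjective_iff_field] at h1 ⊢
    intro K _ g1 g2 hg
    have hg : g1 ≫ fP = g2 ≫ fP := hg
    apply h1 K
    change g1 ≫ fP ≫ πY = g2 ≫ fP ≫ πY
    rw [← Category.assoc, hg, Category.assoc]
  · intro hfP
    have h1 : UniversallyInjective (πX ≫ f) := by
      rw [← w]
      exact MorphismProperty.comp_mem (W := @UniversallyInjective) _ _ hfP hUY
    rw [universallyInjective_iff_field] at h1 ⊢
    intro K _ g1 g2 hg
    have hg : g1 ≫ f = g2 ≫ f := hg
    have hepi := epi_Spec_algebraicClosure K
    have hcL : IsCharP (Spec (CommRingCat.of (AlgebraicClosure K))) p :=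
      IsCharP.of_hom (Spec.map (CommRingCat.ofHom (algebraMap K (AlgebraicClosure K))) ≫ g1) p
    have hQ := isPerfect_Spec_algebraicClosure p K
    rw [← cancel_epi (Spec.map (CommRingCat.ofHom (algebraMap K (AlgebraicClosure K))))]
    obtain ⟨a1, ha1⟩ := (hX.2 _ hQ).2
      (Spec.map (CommRingCat.ofHom (algebraMap K (AlgebraicClosure K))) ≫ g1)
    obtain ⟨a2, ha2⟩ := (hX.2 _ hQ).2
      (Spec.map (CommRingCat.ofHom (algebraMap K (AlgebraicClosure K))) ≫ g2)
    have ha1 : a1 ≫ πX = _ ≫ g1 := ha1
    have ha2 : a2 ≫ πX = _ ≫ g2 := ha2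
    have h12 : a1 = a2 := by
      apply h1 (AlgebraicClosure K)
      change a1 ≫ πX ≫ f = a2 ≫ πX ≫ f
      rw [← Category.assoc, ha1, ← Category.assoc, ha2, Category.assoc, Category.assoc, hg]
    rw [← ha1, ← ha2, h12]

end Square

end Groth.Agent.Lib.Helper63.Perf
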