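import Groth.Agent.Lib.Helper63.SemilocalGlue2
import Mathlib.AlgebraicGeometry.Noetherian
import Mathlib.RingTheory.Localization.Ideal

set_option autoImplicit false
set_option linter.unusedSectionVars false
universe u

open CategoryTheory CategoryTheory.Limits AlgebraicGeometry

namespace Groth.Agent.Lib.Helper63.SemilocalGlueN

open Groth.Agent.Lib.Helper63.SemilocalGlue Groth.Agent.Lib.Helper63.SemilocalGlue2

variable {K : Type u} [Field K] {ι : Type} [Fintype ι] [DecidableEq ι] [Nonempty ι]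
  (A : ι → Subring K) [∀ i, IsFractionRing (A i) K] [∀ i, Ring.KrullDimLE 1 (A i)]
  (e : ι → K) (he1 : ∀ i, e i ∈ A i ∧ (e i)⁻¹ ∈ A i) (he0 : ∀ i, e i ≠ 0)
  (herad : ∀ k i, k ≠ i → e k ∈ radSet (A i)) (hsum : ∑ i, e i = 1)

include he1 herad in
theorem mem_all (k i : ι) : e k ∈ A i := by
  by_cases h : k = i
  · subst h
    exact (he1 k).1
  · exact (herad k i h).1

include he1 herad in
theorem mem_iInf (k : ι) : e k ∈ ⨅ i, A i :=
  Subring.mem_iInf.mpr (fun i => mem_all A e he1 herad k i)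

include he1 herad in
theorem exists_pow_mul_mem_iInf (i : ι) (c : K) (hc : c ∈ A i) :
    ∃ n : ℕ, e i ^ n * c ∈ ⨅ j, A j := by
  have h1 : ∀ j, ∃ n : ℕ, e i ^ n * c ∈ A j := by
    intro j
    by_cases h : i = j
    · subst h
      exact ⟨0, by rw [pow_zero, one_mul]; exact hc⟩
    · exact radSet_pow_mul (herad i j h) c
  choose n hn using h1
  refine ⟨∑ j, n j, Subring.mem_iInf.mpr fun j => ?_⟩
  have hle : n j ≤ ∑ j, n j := Finset.single_le_sum (f := n) (fun _ _ => Nat.zero_le _)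
    (Finset.mem_univ j)
  have h2 : e i ^ (∑ j, n j) * c = e i ^ ((∑ j, n j) - n j) * (e i ^ n j * c) := by
    rw [← mul_assoc, ← pow_add, Nat.sub_add_cancel hle]
  rw [h2]
  exact (A j).mul_mem ((A j).pow_mem (mem_all A e he1 herad i j) _) (hn j)

include he1 he0 herad in
theorem away (i : ι) :
    @IsLocalization.Away _ _ (⟨e i, mem_iInf A e he1 herad i⟩ : ↥(⨅ j, A j)) (A i) _
      (Subring.inclusion (iInf_le A i)).toAlgebra :=
  away_of (iInf_le A i) ⟨e i, mem_iInf A e he1 herad i⟩ (he1 i).2 (he0 i)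
    (fun c hc => exists_pow_mul_mem_iInf A e he1 herad i c hc)

include he1 he0 herad in
theorem isFractionRing_iInf : IsFractionRing ↥(⨅ j, A j) K := by
  obtain ⟨i⟩ := (inferInstance : Nonempty ι)
  refine IsFractionRing.of_field _ K (fun z => ?_)
  obtain ⟨a1, a2, -, rfl⟩ := IsFractionRing.div_surjective (A := A i) z
  obtain ⟨n1, h1⟩ := exists_pow_mul_mem_iInf A e he1 herad i a1 a1.2
  obtain ⟨n2, h2⟩ := exists_pow_mul_mem_iInf A e he1 herad i a2 a2.2
  have heR := mem_iInf A e he1 herad i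
  refine ⟨⟨e i ^ (n1 + n2) * a1, ?_⟩, ⟨e i ^ (n1 + n2) * a2, ?_⟩, ?_⟩
  · rw [pow_add, mul_comm (e i ^ n1), mul_assoc]
    exact Subring.mul_mem _ (Subring.pow_mem _ heR _) h1
  · rw [pow_add, mul_assoc]
    exact Subring.mul_mem _ (Subring.pow_mem _ heR _) h2
  · exact (mul_div_mul_left _ _ (pow_ne_zero _ (he0 i))).symm

include he1 he0 herad in
theorem not_isField_iInf (hnf : ∀ i, ¬ IsField (A i)) : ¬ IsField ↥(⨅ j, A j) := by
  intro hF
  obtain ⟨i⟩ := (inferInstance : Nonempty ι)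
  have hinv : ∀ r : K, r ∈ ⨅ j, A j → r ≠ 0 → r⁻¹ ∈ ⨅ j, A j := by
    intro r hr hr0
    have hne : (⟨r, hr⟩ : ↥(⨅ j, A j)) ≠ 0 := fun h => hr0 (congrArg Subtype.val h)
    obtain ⟨w, hw⟩ := hF.mul_inv_cancel hne
    have hwK : r * (w : K) = 1 := congrArg Subtype.val hw
    rw [inv_eq_of_mul_eq_one_right hwK]
    exact w.2
  apply hnf i
  refine ⟨⟨0, 1, zero_ne_one⟩, mul_comm, fun {c} hc => ?_⟩
  have hc0 : (c : K) ≠ 0 := fun h => hc (Subtype.ext h)
  obtain ⟨n, hn⟩ := exists_pow_mul_mem_iInf A e he1 herad i c c.2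
  have hr0 : e i ^ n * (c : K) ≠ 0 := mul_ne_zero (pow_ne_zero _ (he0 i)) hc0
  have h1 := hinv _ hn hr0
  have h2 : (c : K)⁻¹ = e i ^ n * (e i ^ n * (c : K))⁻¹ := by
    rw [mul_inv, ← mul_assoc, mul_inv_cancel₀ (pow_ne_zero _ (he0 i)), one_mul]
  have h3 : (c : K)⁻¹ ∈ A i := by
    rw [h2]
    exact (A i).mul_mem ((A i).pow_mem (he1 i).1 n) (iInf_le A i h1)
  exact ⟨⟨(c : K)⁻¹, h3⟩, Subtype.ext (mul_inv_cancel₀ hc0)⟩

include he1 herad in
theorem mem_or_mem_of_prime (P : Ideal ↥(⨅ j, A j)) (hP : P.IsPrime) (hP0 : P ≠ ⊥)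
    (i j : ι) (hij : i ≠ j) :
    (⟨e i, mem_iInf A e he1 herad i⟩ : ↥(⨅ j, A j)) ∈ P ∨
      (⟨e j, mem_iInf A e he1 herad j⟩ : ↥(⨅ j, A j)) ∈ P := by
  obtain ⟨c, hcP, hc0⟩ := Submodule.exists_mem_ne_zero_of_ne_bot hP0
  have hcA : (⟨(c : K), iInf_le A i c.2⟩ : A i) ≠ 0 := fun h =>
    hc0 (Subtype.ext (congrArg (Subtype.val : A i → K) h))
  obtain ⟨n, hn⟩ := exists_pow_mem_span (herad j i hij.symm).2 hcA
  obtain ⟨a, ha⟩ := Ideal.mem_span_singleton'.mp hn
  have haK : (a : K) * (c : K) = e j ^ n := congrArg (Subtype.val : A i → K) ha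
  obtain ⟨k, hk⟩ := exists_pow_mul_mem_iInf A e he1 herad i a a.2
  have hmem : (⟨e i, mem_iInf A e he1 herad i⟩ : ↥(⨅ j, A j)) ^ k *
      (⟨e j, mem_iInf A e he1 herad j⟩ : ↥(⨅ j, A j)) ^ n ∈ P := by
    have h1 : (⟨e i, mem_iInf A e he1 herad i⟩ : ↥(⨅ j, A j)) ^ k *
        (⟨e j, mem_iInf A e he1 herad j⟩ : ↥(⨅ j, A j)) ^ n =
        (⟨e i ^ k * (a : K), hk⟩ : ↥(⨅ j, A j)) * c := by
      apply Subtype.ext
      change e i ^ k * e j ^ n = e i ^ k * (a : K) * (c : K)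
      rw [mul_assoc, haK]
    rw [h1]
    exact Ideal.mul_mem_left _ _ hcP
  rcases hP.mem_or_mem hmem with h | h
  · exact Or.inl (hP.mem_of_pow_mem _ h)
  · exact Or.inr (hP.mem_of_pow_mem _ h)

include he1 herad hsum in
theorem exists_notMem (P : Ideal ↥(⨅ j, A j)) (hP : P ≠ ⊤) :
    ∃ i, (⟨e i, mem_iInf A e he1 herad i⟩ : ↥(⨅ j, A j)) ∉ P := by
  by_contra hcon
  push Not at hcon
  apply hP
  rw [Ideal.eq_top_iff_one]
  have h1 : (1 : ↥(⨅ j, A j)) = ∑ i, (⟨e i, mem_iInf A e he1 herad i⟩ : ↥(⨅ j, A j)) := by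
    apply Subtype.ext
    rw [Subring.coe_one, ← hsum]
    exact (map_sum (Subring.subtype (⨅ j, A j))
      (fun i => (⟨e i, mem_iInf A e he1 herad i⟩ : ↥(⨅ j, A j))) Finset.univ).symm
  rw [h1]
  exact Ideal.sum_mem _ (fun i _ => hcon i)

include he1 he0 herad hsum in
theorem krullDimLE_iInf : Ring.KrullDimLE 1 ↥(⨅ j, A j) := by
  refine Ring.KrullDimLE.mk₁' fun P hP0 hP => ?_
  obtain ⟨Q, hQ, hPQ⟩ := Ideal.exists_le_maximal P hP.ne_top
  obtain ⟨i, hi⟩ := exists_notMem A e he1 herad hsum Q hQ.ne_top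
  have hiP : (⟨e i, mem_iInf A e he1 herad i⟩ : ↥(⨅ j, A j)) ∉ P := fun h => hi (hPQ h)
  let _ : Algebra ↥(⨅ j, A j) (A i) := (Subring.inclusion (iInf_le A i)).toAlgebra
  have hloc : IsLocalization.Away (⟨e i, mem_iInf A e he1 herad i⟩ : ↥(⨅ j, A j)) (A i) :=
    away A e he1 he0 herad i
  have hdisj : ∀ I : Ideal ↥(⨅ j, A j), I.IsPrime →
      (⟨e i, mem_iInf A e he1 herad i⟩ : ↥(⨅ j, A j)) ∉ I →
      Disjoint ((Submonoid.powers (⟨e i, mem_iInf A e he1 herad i⟩ : ↥(⨅ j, A j)) :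
        Submonoid ↥(⨅ j, A j)) : Set ↥(⨅ j, A j)) (I : Set ↥(⨅ j, A j)) := by
    intro I hI hnot
    refine Set.disjoint_left.mpr ?_
    rintro x ⟨n, rfl⟩ hx
    exact hnot (hI.mem_of_pow_mem n hx)
  have hP' := IsLocalization.isPrime_of_isPrime_disjoint _ (A i) P hP (hdisj P hP hiP)
  have hQ' := IsLocalization.isPrime_of_isPrime_disjoint _ (A i) Q hQ.isPrime
    (hdisj Q hQ.isPrime hi)
  have hP'0 : Ideal.map (algebraMap ↥(⨅ j, A j) (A i)) P ≠ ⊥ := by
    obtain ⟨c, hcP, hc0⟩ := Submodule.exists_mem_ne_zero_of_ne_bot hP0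
    intro hbot
    have h1 : algebraMap ↥(⨅ j, A j) (A i) c ∈ Ideal.map (algebraMap ↥(⨅ j, A j) (A i)) P :=
      Ideal.mem_map_of_mem _ hcP
    rw [hbot, Ideal.mem_bot] at h1
    exact hc0 (Subtype.ext (congrArg (Subtype.val : A i → K) h1))
  have hP'max := hP'.isMaximal_of_ne_bot hP'0
  have heq : Ideal.map (algebraMap ↥(⨅ j, A j) (A i)) P =
      Ideal.map (algebraMap ↥(⨅ j, A j) (A i)) Q :=
    hP'max.eq_of_le hQ'.ne_top (Ideal.map_mono hPQ)
  have h1 := IsLocalization.under_map_of_isPrime_disjoint _ (A i) hP (hdisj P hP hiP)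
  have h2 := IsLocalization.under_map_of_isPrime_disjoint _ (A i) hQ.isPrime
    (hdisj Q hQ.isPrime hi)
  have hPQeq : P = Q := by
    rw [← h1, ← h2, heq]
  rw [hPQeq]
  exact hQ

include he1 he0 herad hsum in
theorem ringKrullDim_iInf (hnf : ∀ i, ¬ IsField (A i)) : ringKrullDim ↥(⨅ j, A j) = 1 := by
  have h1 : Ring.KrullDimLE 1 ↥(⨅ j, A j) := krullDimLE_iInf A e he1 he0 herad hsum
  have hn := not_isField_iInf A e he1 he0 herad hnf
  have h2 : ¬ ringKrullDim ↥(⨅ j, A j) ≤ 0 := fun h => by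
    have : Ring.KrullDimLE 0 ↥(⨅ j, A j) := Ring.krullDimLE_iff.mpr h
    exact hn Ring.KrullDimLE.isField_of_isDomain
  rw [Ring.krullDimLE_iff] at h1
  exact le_antisymm h1 (Order.succ_le_of_lt (lt_of_not_ge h2))

include he1 he0 herad hsum in
theorem finite_maximalSpectrum_iInf (hnf : ∀ i, ¬ IsField (A i))
    (hsl : ∀ i, Finite (MaximalSpectrum (A i))) : Finite (MaximalSpectrum ↥(⨅ j, A j)) := by
  have hn := not_isField_iInf A e he1 he0 herad hnf
  have hex : ∀ m : MaximalSpectrum ↥(⨅ j, A j),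
      ∃ i, (⟨e i, mem_iInf A e he1 herad i⟩ : ↥(⨅ j, A j)) ∉ m.asIdeal := fun m =>
    exists_notMem A e he1 herad hsum m.asIdeal m.isMaximal.ne_top
  choose idx hidx using hex
  have hdisj : ∀ m : MaximalSpectrum ↥(⨅ j, A j),
      Disjoint ((Submonoid.powers (⟨e (idx m), mem_iInf A e he1 herad (idx m)⟩ : ↥(⨅ j, A j)) :
        Submonoid ↥(⨅ j, A j)) : Set ↥(⨅ j, A j)) (m.asIdeal : Set ↥(⨅ j, A j)) := by
    intro m
    refine Set.disjoint_left.mpr ?_
    rintro x ⟨n, rfl⟩ hx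
    exact hidx m (m.isMaximal.isPrime.mem_of_pow_mem n hx)
  have hmax : ∀ m : MaximalSpectrum ↥(⨅ j, A j),
      (Ideal.map (Subring.inclusion (iInf_le A (idx m))) m.asIdeal).IsMaximal := by
    intro m
    let _ : Algebra ↥(⨅ j, A j) (A (idx m)) := (Subring.inclusion (iInf_le A (idx m))).toAlgebra
    have hloc : IsLocalization.Away (⟨e (idx m), mem_iInf A e he1 herad (idx m)⟩ : ↥(⨅ j, A j))
        (A (idx m)) := away A e he1 he0 herad (idx m)
    have hP' := IsLocalization.isPrime_of_isPrime_disjoint _ (A (idx m)) m.asIdeal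
      m.isMaximal.isPrime (hdisj m)
    have hm0 : m.asIdeal ≠ ⊥ := by
      intro h
      apply hn
      rw [Ring.isField_iff_maximal_bot, ← h]
      exact m.isMaximal
    have hP'0 : Ideal.map (algebraMap ↥(⨅ j, A j) (A (idx m))) m.asIdeal ≠ ⊥ := by
      obtain ⟨c, hcP, hc0⟩ := Submodule.exists_mem_ne_zero_of_ne_bot hm0
      intro hbot
      have h1 : algebraMap ↥(⨅ j, A j) (A (idx m)) c ∈
          Ideal.map (algebraMap ↥(⨅ j, A j) (A (idx m))) m.asIdeal := Ideal.mem_map_of_mem _ hcP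
      rw [hbot, Ideal.mem_bot] at h1
      exact hc0 (Subtype.ext (congrArg (Subtype.val : A (idx m) → K) h1))
    exact hP'.isMaximal_of_ne_bot hP'0
  let f : MaximalSpectrum ↥(⨅ j, A j) → Σ i, MaximalSpectrum (A i) := fun m =>
    ⟨idx m, ⟨Ideal.map (Subring.inclusion (iInf_le A (idx m))) m.asIdeal, hmax m⟩⟩
  let g : (Σ i, MaximalSpectrum (A i)) → Ideal ↥(⨅ j, A j) := fun p =>
    Ideal.comap (Subring.inclusion (iInf_le A p.1)) p.2.asIdeal
  have hgf : ∀ m, g (f m) = m.asIdeal := by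
    intro m
    let _ : Algebra ↥(⨅ j, A j) (A (idx m)) := (Subring.inclusion (iInf_le A (idx m))).toAlgebra
    have hloc : IsLocalization.Away (⟨e (idx m), mem_iInf A e he1 herad (idx m)⟩ : ↥(⨅ j, A j))
        (A (idx m)) := away A e he1 he0 herad (idx m)
    exact IsLocalization.under_map_of_isPrime_disjoint _ (A (idx m)) m.isMaximal.isPrime (hdisj m)
  have hinj : Function.Injective f := by
    intro m m' h
    have h1 : g (f m) = g (f m') := by rw [h]
    rw [hgf, hgf] at h1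
    exact MaximalSpectrum.ext h1
  exact Finite.of_injective f hinj

include he1 he0 herad hsum in
theorem isNoetherianRing_iInf (hN : ∀ i, IsNoetherianRing (A i)) :
    IsNoetherianRing ↥(⨅ j, A j) := by
  classical
  refine isNoetherianRing_of_away (Finset.univ.image
    (fun i => (⟨e i, mem_iInf A e he1 herad i⟩ : ↥(⨅ j, A j)))) ?_ ?_
  · rw [Ideal.eq_top_iff_one]
    have h1 : (1 : ↥(⨅ j, A j)) = ∑ i, (⟨e i, mem_iInf A e he1 herad i⟩ : ↥(⨅ j, A j)) := by
      apply Subtype.ext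
      rw [Subring.coe_one, ← hsum]
      exact (map_sum (Subring.subtype (⨅ j, A j))
        (fun i => (⟨e i, mem_iInf A e he1 herad i⟩ : ↥(⨅ j, A j))) Finset.univ).symm
    rw [h1]
    refine Ideal.sum_mem _ (fun i _ => Ideal.subset_span ?_)
    exact Finset.mem_coe.mpr (Finset.mem_image.mpr ⟨i, Finset.mem_univ i, rfl⟩)
  · rintro ⟨s, hs⟩
    obtain ⟨i, -, rfl⟩ := Finset.mem_image.mp hs
    let _ : Algebra ↥(⨅ j, A j) (A i) := (Subring.inclusion (iInf_le A i)).toAlgebra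
    have hloc : IsLocalization.Away (⟨e i, mem_iInf A e he1 herad i⟩ : ↥(⨅ j, A j)) (A i) :=
      away A e he1 he0 herad i
    have eqv := IsLocalization.algEquiv
      (Submonoid.powers (⟨e i, mem_iInf A e he1 herad i⟩ : ↥(⨅ j, A j))) (A i)
      (Localization.Away (⟨e i, mem_iInf A e he1 herad i⟩ : ↥(⨅ j, A j)))
    exact isNoetherianRing_of_ringEquiv (A i) eqv.toRingEquiv

include he1 he0 herad in
theorem isOpenImmersion_iInf (i : ι) :
    IsOpenImmersion (Spec.map (CommRingCat.ofHom (Subring.inclusion (iInf_le A i)))) := by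
  let _ : Algebra ↥(⨅ j, A j) (A i) := (Subring.inclusion (iInf_le A i)).toAlgebra
  have hloc : IsLocalization.Away (⟨e i, mem_iInf A e he1 herad i⟩ : ↥(⨅ j, A j)) (A i) :=
    away A e he1 he0 herad i
  exact IsOpenImmersion.of_isLocalization (R := ↥(⨅ j, A j)) (S := A i)
    (⟨e i, mem_iInf A e he1 herad i⟩ : ↥(⨅ j, A j))

include he1 he0 herad in
theorem range_iInf (i : ι) :
    Set.range (Spec.map (CommRingCat.ofHom (Subring.inclusion (iInf_le A i)))).base =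
      (PrimeSpectrum.basicOpen (⟨e i, mem_iInf A e he1 herad i⟩ : ↥(⨅ j, A j)) :
        Set (PrimeSpectrum ↥(⨅ j, A j))) := by
  let _ : Algebra ↥(⨅ j, A j) (A i) := (Subring.inclusion (iInf_le A i)).toAlgebra
  have hloc : IsLocalization.Away (⟨e i, mem_iInf A e he1 herad i⟩ : ↥(⨅ j, A j)) (A i) :=
    away A e he1 he0 herad i
  exact PrimeSpectrum.localization_away_comap_range (A i)
    (⟨e i, mem_iInf A e he1 herad i⟩ : ↥(⨅ j, A j))

include he1 he0 herad hsum in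
theorem iUnion_range_iInf :
    (⋃ i, Set.range (Spec.map (CommRingCat.ofHom (Subring.inclusion (iInf_le A i)))).base) =
      Set.univ := by
  ext p
  simp only [Set.mem_iUnion, Set.mem_univ, iff_true]
  obtain ⟨i, hi⟩ := exists_notMem A e he1 herad hsum p.asIdeal p.2.ne_top
  refine ⟨i, ?_⟩
  rw [range_iInf A e he1 he0 herad i]
  exact (PrimeSpectrum.mem_basicOpen _ p).mpr hi

include he1 he0 herad hsum in
theorem existsUnique_range_iInf (hnf : ∀ i, ¬ IsField (A i))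
    (m : PrimeSpectrum ↥(⨅ j, A j)) (hm : m.asIdeal.IsMaximal) :
    ∃! i, m ∈ Set.range (Spec.map (CommRingCat.ofHom (Subring.inclusion (iInf_le A i)))).base := by
  have hn := not_isField_iInf A e he1 he0 herad hnf
  have hm0 : m.asIdeal ≠ ⊥ := by
    intro h
    apply hn
    rw [Ring.isField_iff_maximal_bot, ← h]
    exact hm
  obtain ⟨i, hi⟩ := exists_notMem A e he1 herad hsum m.asIdeal hm.ne_top
  refine ⟨i, ?_, fun j hj => ?_⟩
  · change m ∈ Set.range (Spec.map (CommRingCat.ofHom (Subring.inclusion (iInf_le A i)))).base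
    rw [range_iInf A e he1 he0 herad i]
    exact (PrimeSpectrum.mem_basicOpen _ m).mpr hi
  · by_contra hne
    have hj' : m ∈ Set.range
        (Spec.map (CommRingCat.ofHom (Subring.inclusion (iInf_le A j)))).base := hj
    rw [range_iInf A e he1 he0 herad j] at hj'
    have hj2 : (⟨e j, mem_iInf A e he1 herad j⟩ : ↥(⨅ j, A j)) ∉ m.asIdeal :=
      (PrimeSpectrum.mem_basicOpen _ m).mp hj'
    rcases mem_or_mem_of_prime A e he1 herad m.asIdeal m.2 hm0 j i hne with h | h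
    · exact hj2 h
    · exact hi h

end Groth.Agent.Lib.Helper63.SemilocalGlueN
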