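import Groth.Prelude.Def_Frob
import Mathlib.RingTheory.Flat.EquationalCriterion
import Mathlib.RingTheory.RingHom.Flat

set_option autoImplicit false
set_option linter.unusedSectionVars false
universe u

namespace Groth.Agent.Lib.Helper63.PerfFlat

variable (p : ℕ) [Fact p.Prime]

noncomputable def frobIter (A : Type u) [CommRing A] (h : (p : A) = 0) : ℕ → (A →+* A)
  | 0 => RingHom.id A
  | n + 1 => (FrobSch.powHom p A h).comp (frobIter A h n)

theorem frobIter_apply (A : Type u) [CommRing A] (h : (p : A) = 0) (n : ℕ) (x : A) :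
    frobIter p A h n x = x ^ (p ^ n) := by
  induction n with
  | zero => simp [frobIter]
  | succ n ih =>
    change (frobIter p A h n x) ^ p = _
    rw [ih, ← pow_mul, ← pow_succ]

theorem frobIter_bijective (A : Type u) [CommRing A] (h : (p : A) = 0)
    (hb : Function.Bijective (fun s : A => s ^ p)) (n : ℕ) :
    Function.Bijective (frobIter p A h n) := by
  induction n with
  | zero => exact Function.bijective_id
  | succ n ih =>
    have h1 : Function.Bijective (FrobSch.powHom p A h) := hb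
    have h2 : Function.Bijective ((FrobSch.powHom p A h) ∘ (frobIter p A h n)) :=
      Function.Bijective.comp h1 ih
    exact h2

theorem map_frobIter {A B : Type u} [CommRing A] [CommRing B] (hA : (p : A) = 0)
    (hB : (p : B) = 0) (g : A →+* B) (n : ℕ) (x : A) :
    g (frobIter p A hA n x) = frobIter p B hB n (g x) := by
  rw [frobIter_apply, frobIter_apply, map_pow]

theorem flat_of_roots {R R' S S' : Type u} [CommRing R] [CommRing R'] [CommRing S] [CommRing S']
    (φ : R →+* S) (φ' : R' →+* S') (f : R →+* R') (g : S →+* S')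
    (hcomm : ∀ r, g (φ r) = φ' (f r))
    (hR' : (p : R') = 0) (hS : (p : S) = 0) (hS' : (p : S') = 0)
    (hbS : Function.Bijective (fun s : S => s ^ p))
    (hbS' : Function.Bijective (fun s : S' => s ^ p))
    (hrootS : ∀ s : S, ∃ (n : ℕ) (r : R), s ^ (p ^ n) = φ r)
    (hrootS' : ∀ s : S', ∃ (n : ℕ) (r : R'), s ^ (p ^ n) = φ' r)
    (hker : ∀ r : R', φ' r = 0 → IsNilpotent r) (hf : f.Flat) : g.Flat := by
  algebraize [f, g]
  change Module.Flat S S'
  rw [Module.Flat.iff_forall_isTrivialRelation]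
  intro l a x hax
  choose nA rA hA using fun i => hrootS (a i)
  choose nX rX hX using fun i => hrootS' (x i)
  let N : ℕ := Finset.univ.sup nA ⊔ Finset.univ.sup nX
  have hNA : ∀ i, nA i ≤ N := fun i =>
    le_trans (Finset.le_sup (Finset.mem_univ i)) le_sup_left
  have hNX : ∀ i, nX i ≤ N := fun i =>
    le_trans (Finset.le_sup (Finset.mem_univ i)) le_sup_right
  obtain ⟨r, hA'⟩ : ∃ r : Fin l → R, ∀ i, (a i) ^ (p ^ N) = φ (r i) := by
    refine ⟨fun i => rA i ^ (p ^ (N - nA i)), fun i => ?_⟩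
    rw [map_pow, ← hA i, ← pow_mul, ← pow_add, Nat.add_sub_cancel' (hNA i)]
  obtain ⟨r', hX'⟩ : ∃ r' : Fin l → R', ∀ i, (x i) ^ (p ^ N) = φ' (r' i) := by
    refine ⟨fun i => rX i ^ (p ^ (N - nX i)), fun i => ?_⟩
    rw [map_pow, ← hX i, ← pow_mul, ← pow_add, Nat.add_sub_cancel' (hNX i)]
  let ρ : R' := ∑ i, f (r i) * r' i
  have hρ : φ' ρ = 0 := by
    have h1 : frobIter p S' hS' N (∑ i, a i • x i) = 0 := by rw [hax, map_zero]
    rw [map_sum] at h1
    rw [map_sum, ← h1]
    refine Finset.sum_congr rfl (fun i _ => ?_)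
    rw [map_mul, ← hcomm, ← hA' i, ← hX' i, Algebra.smul_def, map_mul, frobIter_apply,
      frobIter_apply, map_pow]
    rfl
  obtain ⟨k, hk⟩ := hker ρ hρ
  have hρm : ρ ^ (p ^ k) = 0 :=
    pow_eq_zero_of_le (le_of_lt (Nat.lt_pow_self (Fact.out : p.Prime).one_lt)) hk
  have hrel : ∑ i, (r i ^ (p ^ k)) • (r' i ^ (p ^ k)) = 0 := by
    rw [← hρm, ← frobIter_apply p R' hR' k ρ, map_sum]
    refine Finset.sum_congr rfl (fun i _ => ?_)
    rw [map_mul, frobIter_apply, frobIter_apply, Algebra.smul_def, ← map_pow]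
    rfl
  obtain ⟨kk, b, u, hy, hb⟩ := Module.Flat.isTrivialRelation_of_sum_smul_eq_zero hrel
  have hy : ∀ i, r' i ^ (p ^ k) = ∑ j, b i j • u j := hy
  have hb : ∀ j, ∑ i, r i ^ (p ^ k) * b i j = 0 := hb
  have hbijS := frobIter_bijective p S hS hbS (N + k)
  have hbijS' := frobIter_bijective p S' hS' hbS' (N + k)
  let eS := Equiv.ofBijective _ hbijS
  let eS' := Equiv.ofBijective _ hbijS'
  let β : Fin l → Fin kk → S := fun i j => eS.symm (φ (b i j))
  let υ : Fin kk → S' := fun j => eS'.symm (φ' (u j))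
  have hβ : ∀ i j, frobIter p S hS (N + k) (β i j) = φ (b i j) := fun i j =>
    eS.apply_symm_apply _
  have hυ : ∀ j, frobIter p S' hS' (N + k) (υ j) = φ' (u j) := fun j =>
    eS'.apply_symm_apply _
  refine ⟨kk, β, υ, ?_, ?_⟩
  · intro i
    apply hbijS'.1
    rw [map_sum]
    have h2 : frobIter p S' hS' (N + k) (x i) = φ' (r' i ^ (p ^ k)) := by
      rw [frobIter_apply, pow_add, pow_mul, hX' i, map_pow]
    rw [h2, hy i, map_sum]
    refine Finset.sum_congr rfl (fun j _ => ?_)
    rw [Algebra.smul_def, Algebra.smul_def, map_mul, map_mul, hυ j,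
      ← map_frobIter p hS hS' (algebraMap S S') (N + k) (β i j), hβ i j]
    change φ' (f (b i j)) * _ = g (φ (b i j)) * _
    rw [hcomm]
  · intro j
    apply hbijS.1
    rw [map_sum, map_zero]
    have h3 : ∀ i, frobIter p S hS (N + k) (a i * β i j) = φ (r i ^ (p ^ k) * b i j) := by
      intro i
      rw [map_mul, hβ i j, frobIter_apply, pow_add, pow_mul, hA' i, map_mul, map_pow]
    rw [Finset.sum_congr rfl (fun i _ => h3 i), ← map_sum, hb j, map_zero]

end Groth.Agent.Lib.Helper63.PerfFlat
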