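import Groth.Agent.Lib.Helper63.PerfIntegral
import Groth.Agent.Lib.Helper63.PerfFlat
import Mathlib.AlgebraicGeometry.Morphisms.Flat
import Mathlib.AlgebraicGeometry.Morphisms.QuasiCompact

set_option autoImplicit false
set_option linter.unusedSectionVars false
universe u

open CategoryTheory CategoryTheory.Limits AlgebraicGeometry FrobSch
open Groth.Agent.Lib.Helper63.PerfFlat

namespace Groth.Agent.Lib.Helper63.Perf

variable (p : ℕ) [Fact p.Prime]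

theorem exists_pow_eq_of_isPerfection {P V : Scheme.{u}} [IsCharP P p] [IsAffine V]
    (π : P ⟶ V) (hπ : IsPerfection π p) (s : Γ(P, ⊤)) :
    ∃ (n : ℕ) (r : Γ(V, ⊤)), s ^ (p ^ n) = π.appTop.hom r := by
  have h0 : (p : Γ(P, ⊤)) = 0 := IsCharP.natCast_eq_zero
  let ψ := frobIter p Γ(P, ⊤) h0
  have hψ : ∀ n m x, ψ (n + m) x = (ψ n x) ^ (p ^ m) := by
    intro n m x
    change frobIter p Γ(P, ⊤) h0 (n + m) x = (frobIter p Γ(P, ⊤) h0 n x) ^ (p ^ m)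
    rw [frobIter_apply, frobIter_apply, pow_add, pow_mul]
  have hψ' : ∀ n m x, ψ (n + m) x = (ψ m x) ^ (p ^ n) := by
    intro n m x
    rw [add_comm, hψ]
  let S'' : Subring Γ(P, ⊤) :=
    { carrier := {s | ∃ (n : ℕ) (r : Γ(V, ⊤)), ψ n s = π.appTop.hom r}
      mul_mem' := by
        rintro s t ⟨n, r, hs⟩ ⟨m, r', ht⟩
        refine ⟨n + m, r ^ (p ^ m) * r' ^ (p ^ n), ?_⟩
        rw [map_mul, hψ n m s, hψ' n m t, hs, ht, map_mul, map_pow, map_pow]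
      one_mem' := ⟨0, 1, by rw [map_one, map_one]⟩
      add_mem' := by
        rintro s t ⟨n, r, hs⟩ ⟨m, r', ht⟩
        refine ⟨n + m, r ^ (p ^ m) + r' ^ (p ^ n), ?_⟩
        rw [map_add, hψ n m s, hψ' n m t, hs, ht, map_add, map_pow, map_pow]
      zero_mem' := ⟨0, 0, by rw [map_zero, map_zero]⟩
      neg_mem' := by
        rintro s ⟨n, r, hs⟩
        exact ⟨n, -r, by rw [map_neg, map_neg, hs]⟩ }
  have htop : S'' = ⊤ := by
    apply subring_eq_top_of_isPerfection p π hπ S''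
    · intro a
      exact ⟨0, a, rfl⟩
    · rintro s ⟨n, r, hs⟩
      refine ⟨n + 1, r, ?_⟩
      rw [← hs]
      change frobIter p Γ(P, ⊤) h0 (n + 1) s = frobIter p Γ(P, ⊤) h0 n (s ^ p)
      rw [frobIter_apply, frobIter_apply, ← pow_mul, pow_succ']
  have hs : s ∈ S'' := htop ▸ Subring.mem_top s
  obtain ⟨n, r, hnr⟩ := hs
  refine ⟨n, r, ?_⟩
  rw [← hnr]
  exact (frobIter_apply p Γ(P, ⊤) h0 n s).symm

theorem isNilpotent_of_appTop_eq_zero {P V : Scheme.{u}} [IsCharP P p] [IsCharP V p]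
    [CompactSpace V] (π : P ⟶ V) (hπ : IsPerfection π p) (r : Γ(V, ⊤))
    (hr : π.appTop.hom r = 0) : IsNilpotent r := by
  rw [Scheme.isNilpotent_iff_basicOpen_eq_bot]
  have hsurj : Surjective π := surjective_of_isPerfection p π hπ
  have h1 : π ⁻¹ᵁ V.basicOpen r = ⊥ := by
    rw [Scheme.preimage_basicOpen_top]
    have : π.appTop r = 0 := hr
    rw [this, Scheme.basicOpen_zero]
  rw [eq_bot_iff]
  intro x hx
  obtain ⟨y, rfl⟩ := hsurj.surj x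
  have : y ∈ π ⁻¹ᵁ V.basicOpen r := hx
  rw [h1] at this
  exact this

theorem flat_of_isAffine {X Y XP YP : Scheme.{u}} [IsCharP X p] [IsCharP Y p] [IsCharP XP p]
    [IsCharP YP p] [IsAffine X] [IsAffine Y] (πX : XP ⟶ X) (πY : YP ⟶ Y)
    (hX : IsPerfection πX p) (hY : IsPerfection πY p) (f : X ⟶ Y) (fP : XP ⟶ YP)
    (w : fP ≫ πY = πX ≫ f) [Flat f] : Flat fP := by
  have hXPaff : IsAffine XP := isAffine_of_isPerfection p πX hX
  have hYPaff : IsAffine YP := isAffine_of_isPerfection p πY hY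
  have hXPperf : IsPerfect XP p := hX.1
  have hYPperf : IsPerfect YP p := hY.1
  have hf : f.appTop.hom.Flat := (HasRingHomProperty.iff_of_isAffine (P := @Flat)).1 ‹Flat f›
  rw [HasRingHomProperty.iff_of_isAffine (P := @Flat)]
  refine flat_of_roots p πY.appTop.hom πX.appTop.hom f.appTop.hom fP.appTop.hom ?_
    IsCharP.natCast_eq_zero IsCharP.natCast_eq_zero IsCharP.natCast_eq_zero
    (bijective_pow_of_isPerfect p YP) (bijective_pow_of_isPerfect p XP)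
    (exists_pow_eq_of_isPerfection p πY hY) (exists_pow_eq_of_isPerfection p πX hX)
    (isNilpotent_of_appTop_eq_zero p πX hX) hf
  intro r
  have h := congrArg (fun g => g.appTop.hom r) w
  exact h

theorem isPerfection_morphismRestrict {P V : Scheme.{u}} [IsCharP P p] (π : P ⟶ V)
    (hπ : IsPerfection π p) (U : V.Opens) :
    @IsPerfection _ _ (π ∣_ U) p _ (IsCharP.of_hom (Scheme.Opens.ι _) p) := by
  have : IsCharP ((π ⁻¹ᵁ U : P.Opens) : Scheme.{u}) p := IsCharP.of_hom (Scheme.Opens.ι _) p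
  exact isPerfection_restrict p π hπ U.ι (π ⁻¹ᵁ U).ι
    (by rw [Scheme.Opens.range_ι, Scheme.Opens.range_ι]; rfl) (π ∣_ U) (morphismRestrict_ι π U)

theorem exists_restrict_square {X Y XP YP : Scheme.{u}} [IsCharP XP p] [IsCharP YP p]
    (πX : XP ⟶ X) (πY : YP ⟶ Y) (hX : IsPerfection πX p)
    (f : X ⟶ Y) (fP : XP ⟶ YP) (w : fP ≫ πY = πX ≫ f) (V : Y.Opens) :
    ∃ π' : ((fP ⁻¹ᵁ (πY ⁻¹ᵁ V) : XP.Opens) : Scheme.{u}) ⟶ ((f ⁻¹ᵁ V : X.Opens) : Scheme.{u}),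
      @IsPerfection _ _ π' p _ (IsCharP.of_hom (Scheme.Opens.ι _) p) ∧
      (fP ∣_ (πY ⁻¹ᵁ V)) ≫ (πY ∣_ V) = π' ≫ (f ∣_ V) := by
  let V' : YP.Opens := πY ⁻¹ᵁ V
  let W : X.Opens := f ⁻¹ᵁ V
  let W' : XP.Opens := fP ⁻¹ᵁ V'
  have hc2 : IsCharP (W' : Scheme.{u}) p := IsCharP.of_hom W'.ι p
  have hr : Set.range (W'.ι ≫ πX) ⊆ Set.range W.ι := by
    rintro _ ⟨x, rfl⟩
    rw [Scheme.Opens.range_ι]
    change f ((W'.ι ≫ πX) x) ∈ V
    rw [← Scheme.Hom.comp_apply, Category.assoc, ← w, Scheme.Hom.comp_apply,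
      Scheme.Hom.comp_apply]
    exact x.2
  let π' : (W' : Scheme.{u}) ⟶ W := IsOpenImmersion.lift W.ι (W'.ι ≫ πX) hr
  have hπ'w : π' ≫ W.ι = W'.ι ≫ πX := IsOpenImmersion.lift_fac _ _ _
  have hrange : Set.range W'.ι = πX ⁻¹' Set.range W.ι := by
    rw [Scheme.Opens.range_ι, Scheme.Opens.range_ι]
    ext x
    change πY (fP x) ∈ V ↔ f (πX x) ∈ V
    rw [← Scheme.Hom.comp_apply, ← Scheme.Hom.comp_apply, w]
  refine ⟨π', isPerfection_restrict p πX hX W.ι W'.ι hrange π' hπ'w, ?_⟩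
  rw [← cancel_mono V.ι, Category.assoc, Category.assoc, morphismRestrict_ι,
    morphismRestrict_ι, morphismRestrict_ι_assoc, ← Category.assoc π', hπ'w, Category.assoc, w]

theorem flat_of_isAffine_target {X Y XP YP : Scheme.{u}} [IsCharP X p] [IsCharP Y p]
    [IsCharP XP p] [IsCharP YP p] [IsAffine Y] (πX : XP ⟶ X) (πY : YP ⟶ Y)
    (hX : IsPerfection πX p) (hY : IsPerfection πY p) (f : X ⟶ Y) (fP : XP ⟶ YP)
    (w : fP ≫ πY = πX ≫ f) [Flat f] : Flat fP := by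
  have hsup : (⨆ U : X.affineOpens, πX ⁻¹ᵁ U.1) = ⊤ := by
    rw [← Scheme.Hom.preimage_iSup, iSup_affineOpens_eq_top]
    rfl
  rw [IsZariskiLocalAtSource.iff_of_iSup_eq_top (P := @Flat) _ hsup]
  intro U
  have hc1 : IsCharP ((πX ⁻¹ᵁ U.1 : XP.Opens) : Scheme.{u}) p :=
    IsCharP.of_hom (Scheme.Opens.ι _) p
  have hc2 : IsCharP (U.1 : Scheme.{u}) p := IsCharP.of_hom U.1.ι p
  have haff : IsAffine (U.1 : Scheme.{u}) := U.2
  have hU := isPerfection_morphismRestrict p πX hX U.1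
  have hfl : Flat (U.1.ι ≫ f) := inferInstance
  refine flat_of_isAffine p (πX ∣_ U.1) πY hU hY (U.1.ι ≫ f) ((πX ⁻¹ᵁ U.1).ι ≫ fP) ?_
  rw [Category.assoc, w, ← Category.assoc, ← morphismRestrict_ι, Category.assoc]

theorem flat_of_isPerfection {X Y XP YP : Scheme.{u}} [IsCharP X p] [IsCharP Y p]
    [IsCharP XP p] [IsCharP YP p] (πX : XP ⟶ X) (πY : YP ⟶ Y)
    (hX : IsPerfection πX p) (hY : IsPerfection πY p) (f : X ⟶ Y) (fP : XP ⟶ YP)
    (w : fP ≫ πY = πX ≫ f) [Flat f] : Flat fP := by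
  have hsup : (⨆ V : Y.affineOpens, πY ⁻¹ᵁ V.1) = ⊤ := by
    rw [← Scheme.Hom.preimage_iSup, iSup_affineOpens_eq_top]
    rfl
  rw [IsZariskiLocalAtTarget.iff_of_iSup_eq_top (P := @Flat) _ hsup]
  intro V
  have hc1 : IsCharP ((πY ⁻¹ᵁ V.1 : YP.Opens) : Scheme.{u}) p :=
    IsCharP.of_hom (Scheme.Opens.ι _) p
  have hc2 : IsCharP ((fP ⁻¹ᵁ (πY ⁻¹ᵁ V.1) : XP.Opens) : Scheme.{u}) p :=
    IsCharP.of_hom (Scheme.Opens.ι _) p
  have hc3 : IsCharP (V.1 : Scheme.{u}) p := IsCharP.of_hom V.1.ι p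
  have hc4 : IsCharP ((f ⁻¹ᵁ V.1 : X.Opens) : Scheme.{u}) p :=
    IsCharP.of_hom (Scheme.Opens.ι _) p
  have haff : IsAffine (V.1 : Scheme.{u}) := V.2
  have hV' := isPerfection_morphismRestrict p πY hY V.1
  obtain ⟨π', hπ', hsq⟩ := exists_restrict_square p πX πY hX f fP w V.1
  have hfl : Flat (f ∣_ V.1) := inferInstance
  exact flat_of_isAffine_target p π' (πY ∣_ V.1) hπ' hV' (f ∣_ V.1) (fP ∣_ (πY ⁻¹ᵁ V.1)) hsq

end Groth.Agent.Lib.Helper63.Perf
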