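import Groth.Agent.Lib.Helper63.PerfAffine
import Mathlib.AlgebraicGeometry.Morphisms.Integral
import Mathlib.AlgebraicGeometry.ResidueField
import Mathlib.FieldTheory.IsAlgClosed.AlgebraicClosure
import Mathlib.FieldTheory.Perfect

set_option autoImplicit false
set_option linter.unusedSectionVars false
universe u

open CategoryTheory CategoryTheory.Limits AlgebraicGeometry FrobSch

namespace Groth.Agent.Lib.Helper63.Perf

variable (p : ℕ) [Fact p.Prime]

theorem subring_eq_top_of_isPerfection {P V : Scheme.{u}} [IsCharP P p] [IsAffine V]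
    (π : P ⟶ V) (hπ : IsPerfection π p) (S'' : Subring Γ(P, ⊤))
    (h1 : ∀ a : Γ(V, ⊤), π.appTop.hom a ∈ S'')
    (h2 : ∀ s : Γ(P, ⊤), s ^ p ∈ S'' → s ∈ S'') : S'' = ⊤ := by
  have hPaff : IsAffine P := isAffine_of_isPerfection p π hπ
  have hPperf : IsPerfect P p := hπ.1
  let R'' : CommRingCat.{u} := CommRingCat.of S''
  have h0 : (p : R'') = 0 := by
    apply Subtype.ext
    change ((p : S'') : Γ(P, ⊤)) = 0
    rw [Subring.coe_natCast]
    exact IsCharP.natCast_eq_zero
  have hbij : Function.Bijective (fun r : R'' => r ^ p) := by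
    have hPb := bijective_pow_of_isPerfect p P
    constructor
    · intro a b hab
      apply Subtype.ext
      apply hPb.1
      exact congrArg Subtype.val hab
    · rintro ⟨b, hb⟩
      obtain ⟨a, ha⟩ := hPb.2 b
      have ha' : a ^ p = b := ha
      exact ⟨⟨a, h2 a (ha' ▸ hb)⟩, Subtype.ext ha'⟩
  have := isCharP_Spec_of_eq_zero p R'' h0
  have hQ : IsPerfect (Spec R'') p := isPerfect_Spec p R'' h0 hbij
  let ρ0 : Γ(V, ⊤) ⟶ R'' := CommRingCat.ofHom (π.appTop.hom.codRestrict S'' h1)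
  let incl : R'' ⟶ Γ(P, ⊤) := CommRingCat.ofHom S''.subtype
  have hρ : ρ0 ≫ incl = π.appTop := by
    ext a
    rfl
  let m : Spec R'' ⟶ V := Spec.map ρ0 ≫ V.isoSpec.inv
  obtain ⟨t, ht⟩ := (hπ.2 (Spec R'') hQ).2 m
  have ht : t ≫ π = m := ht
  let j : P ⟶ Spec R'' := P.toSpecΓ ≫ Spec.map incl
  have hjm : j ≫ m = π := by
    change (P.toSpecΓ ≫ Spec.map incl) ≫ Spec.map ρ0 ≫ V.isoSpec.inv = π
    rw [Category.assoc, ← Spec.map_comp_assoc, hρ, ← Scheme.toSpecΓ_naturality_assoc,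
      ← Scheme.isoSpec_hom, Iso.hom_inv_id, Category.comp_id]
  have hjt : j ≫ t = 𝟙 P := by
    apply (hπ.2 P hπ.1).1
    change (j ≫ t) ≫ π = 𝟙 P ≫ π
    rw [Category.assoc, ht, hjm, Category.id_comp]
  have happ : t.appTop ≫ j.appTop = 𝟙 _ := by
    rw [← Scheme.Hom.comp_appTop, hjt, Scheme.Hom.id_appTop]
  have hj : j.appTop = (Scheme.ΓSpecIso R'').hom ≫ incl := by
    change (P.toSpecΓ ≫ Spec.map incl).appTop = _
    rw [Scheme.Hom.comp_appTop, Scheme.toSpecΓ_appTop, Scheme.ΓSpecIso_naturality]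
  rw [eq_top_iff]
  intro x _
  have h := congrArg (fun g => g.hom x) happ
  rw [hj] at h
  have hx : ((Scheme.ΓSpecIso R'').hom.hom (t.appTop.hom x) : Γ(P, ⊤)) = x := h
  rw [← hx]
  exact ((Scheme.ΓSpecIso R'').hom.hom (t.appTop.hom x)).2

theorem isIntegral_appTop_of_isPerfection {P V : Scheme.{u}} [IsCharP P p] [IsAffine V]
    (π : P ⟶ V) (hπ : IsPerfection π p) : π.appTop.hom.IsIntegral := by
  algebraize [π.appTop.hom]
  have htop := subring_eq_top_of_isPerfection p π hπ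
    (integralClosure Γ(V, ⊤) Γ(P, ⊤)).toSubring
    (fun a => (integralClosure Γ(V, ⊤) Γ(P, ⊤)).algebraMap_mem a)
    (fun s hs => IsIntegral.of_pow (Fact.out : p.Prime).pos hs)
  intro s
  have hs : s ∈ (integralClosure Γ(V, ⊤) Γ(P, ⊤)).toSubring := htop ▸ Subring.mem_top s
  exact hs

theorem isIntegralHom_of_isPerfection {P V : Scheme.{u}} [IsCharP P p] (π : P ⟶ V)
    (hπ : IsPerfection π p) : IsIntegralHom π := by
  rw [HasAffineProperty.iff_of_iSup_eq_top (P := @IsIntegralHom) (fun U : V.affineOpens => U)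
    (iSup_affineOpens_eq_top V)]
  intro U
  have hc : IsCharP ((π ⁻¹ᵁ U.1 : P.Opens) : Scheme.{u}) p :=
    IsCharP.of_hom (Scheme.Opens.ι _) p
  have haff : IsAffine (U.1 : Scheme.{u}) := U.2
  have hU : IsPerfection (π ∣_ U.1) p :=
    isPerfection_restrict p π hπ U.1.ι (π ⁻¹ᵁ U.1).ι
      (by rw [Scheme.Opens.range_ι, Scheme.Opens.range_ι]; rfl) (π ∣_ U.1)
      (morphismRestrict_ι π U.1)
  exact ⟨isAffine_of_isPerfection p _ hU, isIntegral_appTop_of_isPerfection p _ hU⟩

theorem surjective_of_isPerfection {P V : Scheme.{u}} [IsCharP P p] [IsCharP V p] (π : P ⟶ V)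
    (hπ : IsPerfection π p) : Surjective π := by
  constructor
  intro x
  let K := AlgebraicClosure (V.residueField x)
  let RK : CommRingCat.{u} := CommRingCat.of K
  let g : Spec RK ⟶ V :=
    Spec.map (CommRingCat.ofHom (algebraMap (V.residueField x) K)) ≫ V.fromSpecResidueField x
  have hc : IsCharP (Spec RK) p := IsCharP.of_hom g p
  have h0 : (p : RK) = 0 := by
    have h := congrArg (Scheme.ΓSpecIso RK).hom.hom hc.natCast_eq_zero
    simpa using h
  have hchar : CharP K p := (CharP.charP_iff_prime_eq_zero Fact.out).2 h0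
  have hbij : Function.Bijective (fun r : RK => r ^ p) :=
    ⟨frobenius_inj K p, fun x => IsAlgClosed.exists_pow_nat_eq x (Fact.out : p.Prime).pos⟩
  have hQ : IsPerfect (Spec RK) p := isPerfect_Spec p RK h0 hbij
  obtain ⟨h, hh⟩ := (hπ.2 (Spec RK) hQ).2 g
  have hh : h ≫ π = g := hh
  obtain ⟨t⟩ : Nonempty (Spec RK) := inferInstance
  refine ⟨h t, ?_⟩
  rw [← Scheme.Hom.comp_apply, hh, Scheme.Hom.comp_apply, Scheme.fromSpecResidueField_apply]

end Groth.Agent.Lib.Helper63.Perf
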