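import Mathlib.RingTheory.AdicCompletion.Exactness

set_option autoImplicit false
universe u

namespace Groth.Agent.Lib.Helper63.ARExact

open AdicCompletion LinearMap Submodule

variable {R : Type u} [CommRing R] (I : Ideal R)
variable {M : Type u} [AddCommGroup M] [Module R M]
variable {N : Type u} [AddCommGroup N] [Module R N]
variable {P : Type u} [AddCommGroup P] [Module R P]

theorem map_injective_of_AR {f : M →ₗ[R] N} (hf : Function.Injective f) {k : ℕ}
    (hAR : ∀ n ≥ k, (I ^ n • ⊤ : Submodule R N) ⊓ range f ≤ I ^ (n - k) • range f) :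
    Function.Injective (map I f) := by
  rw [← LinearMap.ker_eq_bot, LinearMap.ker_eq_bot']
  intro x
  apply AdicCompletion.induction_on I M x (fun a ↦ ?_)
  intro hx
  refine AdicCompletion.mk_zero_of _ _ _ ⟨42, fun n _ ↦ ⟨n + k, by lia, n, by lia, ?_⟩⟩
  rw [← Submodule.comap_map_eq_of_injective hf (I ^ n • ⊤ : Submodule R M),
    Submodule.map_smul'', Submodule.map_top]
  have h := hAR (n + k) (by lia)
  rw [Nat.add_sub_cancel] at h
  exact h ⟨by simpa using congrArg (fun x ↦ x.val (n + k)) hx, ⟨a (n + k), rfl⟩⟩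

section exact

variable {f : M →ₗ[R] N} {g : N →ₗ[R] P}
  (hfg : Function.Exact f g) (hg : Function.Surjective g) {k : ℕ}
  (hAR : ∀ n ≥ k, (I ^ n • ⊤ : Submodule R N) ⊓ range f ≤ I ^ (n - k) • range f)
  (b : AdicCauchySequence I N) (hker : ∀ n : ℕ, g (b n) ∈ (I ^ n • ⊤ : Submodule R P))

include hfg hg hker in
theorem exists_approx (n : ℕ) : ∃ y : M, f y - b n ∈ (I ^ n • ⊤ : Submodule R N) := by
  have h1 : g (b n) ∈ Submodule.map g (I ^ n • ⊤ : Submodule R N) := by
    rw [Submodule.map_smul'', Submodule.map_top, range_eq_top.mpr hg]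
    exact hker n
  obtain ⟨d, hdmem, hd⟩ := h1
  obtain ⟨y, hy⟩ := (hfg (b n - d)).mp (by simp [hd])
  refine ⟨y, ?_⟩
  rw [hy]
  simpa using (Submodule.neg_mem _ hdmem)

include hfg hg hker hAR in
theorem exists_step (n : ℕ) (y : M) (hy : f y - b (k + n) ∈ (I ^ (k + n) • ⊤ : Submodule R N)) :
    ∃ y' : M, f y' - b (k + (n + 1)) ∈ (I ^ (k + (n + 1)) • ⊤ : Submodule R N) ∧
      y' - y ∈ (I ^ n • ⊤ : Submodule R M) := by
  obtain ⟨z, hz⟩ := exists_approx I hfg hg b hker (k + (n + 1))
  have hle : (I ^ (k + (n + 1)) • ⊤ : Submodule R N) ≤ I ^ (k + n) • ⊤ :=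
    Submodule.smul_mono_left (Ideal.pow_le_pow_right (by lia))
  have hcauchy : b (k + (n + 1)) - b (k + n) ∈ (I ^ (k + n) • ⊤ : Submodule R N) := by
    rw [← Submodule.Quotient.eq]
    exact AdicCauchySequence.mk_eq_mk (by lia) _
  have h1 : f (z - y) ∈ (I ^ (k + n) • ⊤ : Submodule R N) := by
    have : f (z - y) = (f z - b (k + (n + 1))) + (b (k + (n + 1)) - b (k + n)) -
        (f y - b (k + n)) := by
      rw [map_sub]; abel
    rw [this]
    exact Submodule.sub_mem _ (Submodule.add_mem _ (hle hz) hcauchy) hy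
  have h2 := hAR (k + n) (by lia) ⟨h1, ⟨z - y, rfl⟩⟩
  rw [Nat.add_sub_cancel_left, ← Submodule.map_top, ← Submodule.map_smul''] at h2
  obtain ⟨w, hw, hfw⟩ := h2
  refine ⟨y + w, ?_, by simpa using hw⟩
  have : f (y + w) = f z := by rw [map_add, hfw, map_sub]; abel
  rw [this]
  exact hz

include hfg hg hker hAR in
theorem exists_seq :
    ∃ y : ℕ → M, (∀ n, f (y n) - b (k + n) ∈ (I ^ (k + n) • ⊤ : Submodule R N)) ∧
      ∀ n, y (n + 1) - y n ∈ (I ^ n • ⊤ : Submodule R M) := by
  classical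
  obtain ⟨y0, hy0⟩ := exists_approx I hfg hg b hker (k + 0)
  let step : (n : ℕ) → {y : M // f y - b (k + n) ∈ (I ^ (k + n) • ⊤ : Submodule R N)} →
      {y : M // f y - b (k + (n + 1)) ∈ (I ^ (k + (n + 1)) • ⊤ : Submodule R N)} :=
    fun n y => ⟨(exists_step I hfg hg hAR b hker n y.1 y.2).choose,
      (exists_step I hfg hg hAR b hker n y.1 y.2).choose_spec.1⟩
  let seq : (n : ℕ) → {y : M // f y - b (k + n) ∈ (I ^ (k + n) • ⊤ : Submodule R N)} :=
    fun n => Nat.rec (motive := fun n =>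
      {y : M // f y - b (k + n) ∈ (I ^ (k + n) • ⊤ : Submodule R N)}) ⟨y0, hy0⟩ step n
  refine ⟨fun n => (seq n).1, fun n => (seq n).2, fun n => ?_⟩
  exact (exists_step I hfg hg hAR b hker n (seq n).1 (seq n).2).choose_spec.2

include hfg hg hAR in
theorem map_exact_of_AR : Function.Exact (map I f) (map I g) := by
  refine LinearMap.exact_of_comp_eq_zero_of_ker_le_range ?_ (fun y ↦ ?_)
  · rw [AdicCompletion.map_comp, hfg.linearMap_comp_eq_zero, AdicCompletion.map_zero]
  · apply AdicCompletion.induction_on I N y (fun b ↦ ?_)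
    intro hz
    have hb (n : ℕ) : g (b n) ∈ (I ^ n • ⊤ : Submodule R P) := by
      simpa using congrArg (fun x ↦ x.val n) hz
    obtain ⟨a, ha1, ha2⟩ := exists_seq I hfg hg hAR b hb
    refine ⟨AdicCompletion.mk I M (AdicCauchySequence.mk I M a ?_), ?_⟩
    · intro n
      refine SModEq.symm ?_
      rw [SModEq.sub_mem]
      exact ha2 n
    · ext n
      suffices h : Submodule.Quotient.mk (p := (I ^ n • ⊤ : Submodule R N)) (f (a n)) =
            Submodule.Quotient.mk (p := (I ^ n • ⊤ : Submodule R N)) (b (k + n)) by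
        simp [h, AdicCauchySequence.mk_eq_mk (show n ≤ k + n by lia)]
      rw [Submodule.Quotient.eq]
      have hle : (I ^ (k + n) • ⊤ : Submodule R N) ≤ (I ^ n • ⊤ : Submodule R N) :=
        Submodule.smul_mono_left (Ideal.pow_le_pow_right (by lia))
      exact hle (ha1 n)

end exact

end Groth.Agent.Lib.Helper63.ARExact
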