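import Mathlib
import Groth.Agent.Lib.Helper6.LocalFlat4
import Groth.Agent.Lib.Helper63.ARExact
import Groth.Agent.Lib.Helper63.ComplRing

set_option autoImplicit false
universe u

namespace Groth.Agent.Lib.Helper63.ComplFlat

open TensorProduct

section basic

variable {B : Type*} [CommRing B] (J : Ideal B)

theorem map_mem_smul_top {X Y : Type*} [AddCommGroup X] [Module B X] [AddCommGroup Y] [Module B Y]
    (φ : X →ₗ[B] Y) (𝔟 : Ideal B) {x : X} (hx : x ∈ (𝔟 • ⊤ : Submodule B X)) :
    φ x ∈ (𝔟 • ⊤ : Submodule B Y) := by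
  have h : (𝔟 • (⊤ : Submodule B X)).map φ ≤ 𝔟 • ⊤ := by
    rw [Submodule.map_smul'']
    exact Submodule.smul_mono le_rfl le_top
  exact h ⟨x, hx, rfl⟩

theorem pi_mem_smul_top {ι : Type*} [Finite ι] {N : Type*} [AddCommGroup N] [Module B N]
    (𝔟 : Ideal B) (v : ι → N) :
    v ∈ (𝔟 • ⊤ : Submodule B (ι → N)) ↔ ∀ i, v i ∈ (𝔟 • ⊤ : Submodule B N) := by
  classical
  have := Fintype.ofFinite ι
  constructor
  · intro h i
    exact map_mem_smul_top (LinearMap.proj i) 𝔟 h
  · intro h
    have hv : v = ∑ i, LinearMap.single B (fun _ => N) i (v i) := by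
      ext j
      simp [Finset.sum_apply, Pi.single_apply]
    rw [hv]
    exact Submodule.sum_mem _ (fun i _ => map_mem_smul_top _ 𝔟 (h i))

theorem isHausdorff_pi {ι : Type*} [Finite ι] (N : Type*) [AddCommGroup N] [Module B N]
    [IsHausdorff J N] : IsHausdorff J (ι → N) := by
  refine ⟨fun x hx => ?_⟩
  ext i
  refine IsHausdorff.haus ‹_› (x i) (fun n => ?_)
  have := hx n
  rw [SModEq.zero] at this ⊢
  exact (pi_mem_smul_top (J ^ n) x).mp this i

theorem isPrecomplete_pi {ι : Type*} [Finite ι] (N : Type*) [AddCommGroup N] [Module B N]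
    [IsPrecomplete J N] : IsPrecomplete J (ι → N) := by
  refine ⟨fun f hf => ?_⟩
  have h1 : ∀ i, ∃ L : N, ∀ n, f n i ≡ L [SMOD (J ^ n • ⊤ : Submodule B N)] := by
    intro i
    refine IsPrecomplete.prec ‹_› (f := fun n => f n i) (fun {m n} hmn => ?_)
    have := hf hmn
    rw [SModEq.sub_mem] at this ⊢
    exact (pi_mem_smul_top (J ^ m) _).mp this i
  choose L hL using h1
  refine ⟨L, fun n => ?_⟩
  rw [SModEq.sub_mem, pi_mem_smul_top]
  intro i
  have := hL i n
  rw [SModEq.sub_mem] at this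
  exact this

theorem isPrecomplete_of_surjective {X Y : Type*} [AddCommGroup X] [Module B X] [AddCommGroup Y]
    [Module B Y] [IsPrecomplete J X] (σ : X →ₗ[B] Y) (hσ : Function.Surjective σ) :
    IsPrecomplete J Y := by
  rw [← AdicCompletion.of_surjective_iff]
  intro y
  obtain ⟨x, rfl⟩ := AdicCompletion.map_surjective J hσ y
  obtain ⟨x0, rfl⟩ := AdicCompletion.of_surjective J X x
  exact ⟨σ x0, by rw [AdicCompletion.map_of]⟩

theorem isHausdorff_of_injective {X Y : Type*} [AddCommGroup X] [Module B X] [AddCommGroup Y]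
    [Module B Y] [IsHausdorff J Y] (σ : X →ₗ[B] Y) (hσ : Function.Injective σ) :
    IsHausdorff J X := by
  refine ⟨fun x hx => ?_⟩
  apply hσ
  rw [map_zero]
  refine IsHausdorff.haus ‹_› (σ x) (fun n => ?_)
  have := hx n
  rw [SModEq.zero] at this ⊢
  exact map_mem_smul_top σ _ this

end basic


section main

variable {B : Type u} [CommRing B] [IsNoetherianRing B] (J : Ideal B)
  (N : Type u) [AddCommGroup N] [Module B N]

omit [IsNoetherianRing B] in
theorem lTensor_injective_of_killed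
    (hflat : ∀ n : ℕ, Module.Flat (B ⧸ J ^ n) ((B ⧸ J ^ n) ⊗[B] N)) (n : ℕ)
    {P Q : Type*} [AddCommGroup P] [Module B P] [AddCommGroup Q] [Module B Q]
    (hP : Module.IsTorsionBySet B P (↑(J ^ n) : Set B))
    (hQ : Module.IsTorsionBySet B Q (↑(J ^ n) : Set B))
    (g : P →ₗ[B] Q) (hg : Function.Injective g) : Function.Injective (g.lTensor N) := by
  have := hflat n
  exact Groth.Agent.Lib.Helper6.LocalFlat.lTensor_injective_of_flat_baseChange (J ^ n) hP hQ g hg

theorem AR_lTensor (hflat : ∀ n : ℕ, Module.Flat (B ⧸ J ^ n) ((B ⧸ J ^ n) ⊗[B] N))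
    {F : Type u} [AddCommGroup F] [Module B F] [Module.Finite B F] (K : Submodule B F) :
    ∃ c : ℕ, ∀ n ≥ c, (J ^ n • ⊤ : Submodule B (N ⊗[B] F)) ⊓
      LinearMap.range (K.subtype.lTensor N) ≤
        J ^ (n - c) • LinearMap.range (K.subtype.lTensor N) := by
  obtain ⟨c, hc⟩ := Ideal.exists_pow_inf_eq_pow_smul J K
  refine ⟨c, fun n hn v hv => ?_⟩
  obtain ⟨hv1, t, rfl⟩ := hv
  let Kn : Submodule B K := Submodule.comap K.subtype (J ^ n • ⊤ : Submodule B F)
  let Fn : Submodule B F := J ^ n • ⊤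
  let g : (K ⧸ Kn) →ₗ[B] (F ⧸ Fn) := Kn.mapQ Fn K.subtype le_rfl
  have hg : Function.Injective g := by
    rw [← LinearMap.ker_eq_bot, Submodule.ker_mapQ]
    change Submodule.map Kn.mkQ Kn = ⊥
    exact Submodule.mkQ_map_self _
  have hP : Module.IsTorsionBySet B (K ⧸ Kn) (↑(J ^ n) : Set B) := by
    intro x j
    obtain ⟨a, rfl⟩ := Submodule.Quotient.mk_surjective _ x
    rw [← Submodule.Quotient.mk_smul, Submodule.Quotient.mk_eq_zero]
    change ((j : B) • a : K).1 ∈ Fn
    exact Submodule.smul_mem_smul j.2 Submodule.mem_top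
  have hQ : Module.IsTorsionBySet B (F ⧸ Fn) (↑(J ^ n) : Set B) := by
    intro x j
    obtain ⟨a, rfl⟩ := Submodule.Quotient.mk_surjective _ x
    rw [← Submodule.Quotient.mk_smul, Submodule.Quotient.mk_eq_zero]
    exact Submodule.smul_mem_smul j.2 Submodule.mem_top
  have hinj := lTensor_injective_of_killed J N hflat n hP hQ g hg
  have h0 : (Fn.mkQ.lTensor N) (K.subtype.lTensor N t) = 0 := by
    have hle : (J ^ n • ⊤ : Submodule B (N ⊗[B] F)) ≤ LinearMap.ker (Fn.mkQ.lTensor N) := by
      rw [Submodule.smul_le]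
      intro j hj z _
      rw [LinearMap.mem_ker, map_smul]
      induction (Fn.mkQ.lTensor N) z using TensorProduct.induction_on with
      | zero => simp
      | add x y hx hy => rw [smul_add, hx, hy, add_zero]
      | tmul x q =>
        rw [TensorProduct.smul_tmul', TensorProduct.smul_tmul,
          show j • q = 0 from @hQ q ⟨j, hj⟩, TensorProduct.tmul_zero]
    exact hle hv1
  have h1 : (Kn.mkQ.lTensor N) t = 0 := by
    apply hinj
    rw [map_zero, ← LinearMap.comp_apply, ← LinearMap.lTensor_comp, Submodule.mapQ_mkQ,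
      LinearMap.lTensor_comp, LinearMap.comp_apply]
    exact h0
  have hKn : ∀ k' : Kn, ((k' : K) : F) ∈ J ^ (n - c) • K := by
    intro k'
    have h2 : ((k' : K) : F) ∈ (J ^ n • ⊤ ⊓ K : Submodule B F) := ⟨k'.2, (k' : K).2⟩
    rw [hc n hn] at h2
    exact Submodule.smul_mono le_rfl inf_le_right h2
  have key : ∀ t' : N ⊗[B] Kn, (K.subtype.lTensor N) ((Kn.subtype.lTensor N) t') ∈
      J ^ (n - c) • LinearMap.range (K.subtype.lTensor N) := by
    intro t'
    induction t' using TensorProduct.induction_on with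
    | zero => simp
    | add x y hx hy =>
      rw [map_add, map_add]
      exact add_mem hx hy
    | tmul x k' =>
      rw [LinearMap.lTensor_tmul, LinearMap.lTensor_tmul]
      have h3 : (J ^ (n - c) • K).map (TensorProduct.mk B N F x) ≤
          J ^ (n - c) • LinearMap.range (K.subtype.lTensor N) := by
        rw [Submodule.map_smul'']
        refine Submodule.smul_mono le_rfl ?_
        rintro _ ⟨κ, hκ, rfl⟩
        exact ⟨x ⊗ₜ ⟨κ, hκ⟩, by simp⟩
      exact h3 ⟨_, hKn k', rfl⟩
  obtain ⟨t', rfl⟩ := (lTensor_exact N (LinearMap.exact_subtype_mkQ Kn)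
    (Submodule.mkQ_surjective _) t).mp h1
  exact key t'

theorem isHausdorff_tensor [IsAdicComplete J N]
    (hflat : ∀ n : ℕ, Module.Flat (B ⧸ J ^ n) ((B ⧸ J ^ n) ⊗[B] N))
    (Q : Type u) [AddCommGroup Q] [Module B Q] [Module.Finite B Q] :
    IsHausdorff J (N ⊗[B] Q) := by
  classical
  obtain ⟨s, π, hπ⟩ := Module.Finite.exists_fin' B Q
  let K : Submodule B (Fin s → B) := LinearMap.ker π
  have hKfg : K.FG := IsNoetherian.noetherian K
  have : Module.Finite B K := Module.Finite.iff_fg.mpr hKfg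
  obtain ⟨r, ρ, hρ⟩ := Module.Finite.exists_fin' B K
  have hpre : IsPrecomplete J (N ⊗[B] K) := by
    have h1 : IsPrecomplete J (Fin r → N) := isPrecomplete_pi J N
    exact isPrecomplete_of_surjective J
      ((ρ.lTensor N).comp (TensorProduct.piScalarRight B B N (Fin r)).symm.toLinearMap)
      ((LinearMap.lTensor_surjective N hρ).comp (LinearEquiv.surjective _))
  have hhaus : IsHausdorff J (N ⊗[B] (Fin s → B)) := by
    have h1 : IsHausdorff J (Fin s → N) := isHausdorff_pi J N
    exact isHausdorff_of_injective J (TensorProduct.piScalarRight B B N (Fin s)).toLinearMap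
      (LinearEquiv.injective _)
  have hfg : Function.Exact (K.subtype.lTensor N) (π.lTensor N) :=
    lTensor_exact N (LinearMap.exact_subtype_ker_map π) hπ
  have hg : Function.Surjective (π.lTensor N) := LinearMap.lTensor_surjective N hπ
  obtain ⟨c, hc⟩ := AR_lTensor J N hflat K
  have hex := ARExact.map_exact_of_AR J hfg hg hc
  refine ⟨fun x hx => ?_⟩
  obtain ⟨y, rfl⟩ := hg x
  have h1 : AdicCompletion.map J (π.lTensor N) (AdicCompletion.of J _ y) = 0 := by
    rw [AdicCompletion.map_of]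
    ext n
    rw [AdicCompletion.of_apply, AdicCompletion.val_zero_apply]
    have := hx n
    rw [SModEq.zero] at this
    exact (Submodule.Quotient.mk_eq_zero _).mpr this
  obtain ⟨z, hz⟩ := (hex _).mp h1
  obtain ⟨z0, rfl⟩ := AdicCompletion.of_surjective J _ z
  rw [AdicCompletion.map_of] at hz
  have h2 : (K.subtype.lTensor N) z0 = y := AdicCompletion.of_injective J _ hz
  rw [← h2]
  exact hfg.apply_apply_eq_zero z0

theorem flat_of_isAdicComplete [IsAdicComplete J N]
    (hflat : ∀ n : ℕ, Module.Flat (B ⧸ J ^ n) ((B ⧸ J ^ n) ⊗[B] N)) : Module.Flat B N := by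
  rw [Module.Flat.iff_lTensor_injective']
  intro 𝔞
  rw [injective_iff_map_eq_zero]
  intro x hx
  have : Module.Finite B 𝔞 := Module.Finite.iff_fg.mpr (IsNoetherian.noetherian 𝔞)
  have hH : IsHausdorff J (N ⊗[B] 𝔞) := isHausdorff_tensor J N hflat 𝔞
  obtain ⟨k, hk⟩ := Groth.Agent.Lib.Helper6.LocalFlat.bq_le_smul J 𝔞
  have key : ∀ n : ℕ, x ∈ (J ^ n • ⊤ : Submodule B (N ⊗[B] 𝔞)) := by
    intro n
    have hP : Module.IsTorsionBySet B (𝔞 ⧸ Groth.Agent.Lib.Helper6.LocalFlat.bq J 𝔞 (n + k))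
        (↑(J ^ (n + k)) : Set B) := by
      intro x j
      obtain ⟨a, rfl⟩ := Submodule.Quotient.mk_surjective _ x
      rw [← Submodule.Quotient.mk_smul, Submodule.Quotient.mk_eq_zero]
      change ((j : B) • a : 𝔞).1 ∈ J ^ (n + k)
      exact Ideal.mul_mem_right _ _ j.2
    have hQ : Module.IsTorsionBySet B (B ⧸ J ^ (n + k)) (↑(J ^ (n + k)) : Set B) := by
      intro x j
      obtain ⟨b, rfl⟩ := Ideal.Quotient.mk_surjective x
      change (j : B) • Ideal.Quotient.mk (J ^ (n + k)) b = 0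
      rw [Algebra.smul_def, Ideal.Quotient.algebraMap_eq, ← map_mul,
        Ideal.Quotient.eq_zero_iff_mem]
      exact Ideal.mul_mem_right _ _ j.2
    have H := lTensor_injective_of_killed J N hflat (n + k) hP hQ _
      (Groth.Agent.Lib.Helper6.LocalFlat.g1_injective J 𝔞 (n + k))
    have h1 : LinearMap.lTensor N (Groth.Agent.Lib.Helper6.LocalFlat.bq J 𝔞 (n + k)).mkQ x = 0 := by
      apply H
      have hcomp : (Groth.Agent.Lib.Helper6.LocalFlat.g1 J 𝔞 (n + k)).comp
          (Groth.Agent.Lib.Helper6.LocalFlat.bq J 𝔞 (n + k)).mkQ =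
          (Submodule.mkQ (J ^ (n + k))).comp 𝔞.subtype := by
        ext a
        rfl
      rw [map_zero, ← LinearMap.comp_apply, ← LinearMap.lTensor_comp, hcomp,
        LinearMap.lTensor_comp, LinearMap.comp_apply, hx, map_zero]
    obtain ⟨y, rfl⟩ := (lTensor_exact N (LinearMap.exact_subtype_mkQ
      (Groth.Agent.Lib.Helper6.LocalFlat.bq J 𝔞 (n + k))) (Submodule.mkQ_surjective _) x).mp h1
    exact Groth.Agent.Lib.Helper6.LocalFlat.range_lTensor_le_smul J
      (Groth.Agent.Lib.Helper6.LocalFlat.bq J 𝔞 (n + k)) n (hk n) y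
  exact IsHausdorff.haus hH x (fun n => by rw [SModEq.zero]; exact key n)

end main

theorem flat_of_surjective_of_equiv {R A A' X Y : Type*} [CommRing R] [CommRing A] [CommRing A']
    [Algebra R A] [Algebra R A']
    [AddCommGroup X] [Module R X] [Module A X] [IsScalarTower R A X]
    [AddCommGroup Y] [Module R Y] [Module A' Y] [IsScalarTower R A' Y]
    (hA : Function.Surjective (algebraMap R A)) (hA' : Function.Surjective (algebraMap R A'))
    (hker : RingHom.ker (algebraMap R A) ≤ RingHom.ker (algebraMap R A'))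
    (e : X ≃ₗ[R] Y) [Module.Flat A X] : Module.Flat A' Y := by
  apply Module.Flat.of_forall_isTrivialRelation
  intro l f y hy
  choose r hr using fun i => hA' (f i)
  have hx : ∑ i, (algebraMap R A (r i)) • e.symm (y i) = 0 := by
    apply e.injective
    rw [map_sum, map_zero, ← hy]
    refine Finset.sum_congr rfl fun i _ => ?_
    rw [algebraMap_smul, map_smul, e.apply_symm_apply, ← hr i, algebraMap_smul]
  obtain ⟨k, a, z, hz1, hz2⟩ := Module.Flat.isTrivialRelation_of_sum_smul_eq_zero hx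
  choose ρ hρ using fun i j => hA (a i j)
  refine ⟨k, fun i j => algebraMap R A' (ρ i j), fun j => e (z j), fun i => ?_, fun j => ?_⟩
  · have := congrArg e (hz1 i)
    rw [e.apply_symm_apply, map_sum] at this
    rw [this]
    refine Finset.sum_congr rfl fun j _ => ?_
    rw [← hρ i j, algebraMap_smul, map_smul, algebraMap_smul]
  · have h1 : ∑ i, r i * ρ i j ∈ RingHom.ker (algebraMap R A) := by
      rw [RingHom.mem_ker, map_sum]
      simp only [map_mul, hρ]
      exact hz2 j
    have h2 := hker h1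
    rw [RingHom.mem_ker, map_sum] at h2
    simpa [map_mul, hr] using h2

section compl

variable (R : Type u) [CommRing R] (I : Ideal R) (hI : I.FG) (M : Type u) [AddCommGroup M]
  [Module R M]

local notation "Bh" => AdicCompletion I R
local notation "Nh" => AdicCompletion I M
local notation "Jh" => Ideal.map (algebraMap R (AdicCompletion I R)) I

theorem restrictScalars_pow_smul_top (n : ℕ) :
    (Jh ^ n • (⊤ : Submodule Bh Nh)).restrictScalars R = I ^ n • (⊤ : Submodule R Nh) := by
  rw [← Ideal.map_pow, Ideal.smul_restrictScalars, Submodule.restrictScalars_top]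

noncomputable def quotEquiv (n : ℕ) :
    ((R ⧸ I ^ n) ⊗[R] M) ≃ₗ[R] ((Bh ⧸ Jh ^ n) ⊗[Bh] Nh) :=
  (TensorProduct.quotTensorEquivQuotSMul M (I ^ n)) ≪≫ₗ
  ((Submodule.quotEquivOfEq _ _ (AdicCompletion.pow_smul_top_eq_ker_eval hI)).trans
    (LinearMap.quotKerEquivOfSurjective (AdicCompletion.eval I M n)
      (AdicCompletion.eval_surjective I M n))).symm ≪≫ₗ
  (Submodule.quotEquivOfEq _ _ (restrictScalars_pow_smul_top R I M n)).symm ≪≫ₗ
  (Submodule.Quotient.restrictScalarsEquiv R (Jh ^ n • (⊤ : Submodule Bh Nh))) ≪≫ₗ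
  ((TensorProduct.quotTensorEquivQuotSMul Nh (Jh ^ n)).restrictScalars R).symm

include hI in
theorem flat_adicCompletion [IsNoetherianRing (AdicCompletion I R)]
    (h : ∀ n : ℕ, 1 ≤ n → Module.Flat (R ⧸ I ^ n) ((R ⧸ I ^ n) ⊗[R] M)) :
    Module.Flat (AdicCompletion I R) (AdicCompletion I M) := by
  have hc : IsAdicComplete Jh Nh :=
    (IsAdicComplete.map_algebraMap_iff (S := Bh) I Nh).mpr (AdicCompletion.isAdicComplete hI)
  apply flat_of_isAdicComplete Jh Nh
  intro n
  rcases Nat.eq_zero_or_pos n with h0 | hn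
  · subst h0
    have h1 : Subsingleton (Bh ⧸ Jh ^ 0) := by
      rw [pow_zero, Ideal.one_eq_top]
      exact Ideal.Quotient.subsingleton_iff.mpr rfl
    have h2 : Subsingleton ((Bh ⧸ Jh ^ 0) ⊗[Bh] Nh) := inferInstance
    infer_instance
  · have := h n hn
    refine flat_of_surjective_of_equiv (R := R) (A := R ⧸ I ^ n) (A' := Bh ⧸ Jh ^ n)
      Ideal.Quotient.mk_surjective ?_ ?_ (quotEquiv R I hI M n)
    · intro x
      obtain ⟨b, rfl⟩ := Ideal.Quotient.mk_surjective x
      obtain ⟨r, hr⟩ := ComplRing.exists_sub_mem I hI b n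
      refine ⟨r, ?_⟩
      rw [IsScalarTower.algebraMap_apply R Bh (Bh ⧸ Jh ^ n), Ideal.Quotient.algebraMap_eq]
      exact ((Ideal.Quotient.mk_eq_mk_iff_sub_mem _ _).mpr hr).symm
    · intro r hr
      rw [RingHom.mem_ker, Ideal.Quotient.algebraMap_eq, Ideal.Quotient.eq_zero_iff_mem] at hr
      rw [RingHom.mem_ker, IsScalarTower.algebraMap_apply R Bh (Bh ⧸ Jh ^ n),
        Ideal.Quotient.algebraMap_eq, Ideal.Quotient.eq_zero_iff_mem, ← Ideal.map_pow]
      exact Ideal.mem_map_of_mem _ hr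

end compl

end Groth.Agent.Lib.Helper63.ComplFlat
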