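import Groth.Agent.Lib.Helper63.RigClosed
import Mathlib.RingTheory.Finiteness.NilpotentKer
import Mathlib.RingTheory.Jacobson.Ring
import Mathlib.RingTheory.Ideal.GoingUp
import Mathlib.RingTheory.AdicCompletion.Functoriality

set_option autoImplicit false
set_option linter.unusedSectionVars false
universe u

namespace Groth.Agent.Lib.Helper63.RigClosed

def IsRig {A : Type u} [CommRing A] (I : Ideal A) (q : PrimeSpectrum A) : Prop :=
  ¬ I ≤ q.asIdeal ∧ ∀ q' : PrimeSpectrum A, q ≤ q' → ¬ I ≤ q'.asIdeal → q' = q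

section R1

variable {A : Type u} [CommRing A] [IsNoetherianRing A] (I : Ideal A) [IsAdicComplete I A]

theorem isMaximal_and_le_radical (q : PrimeSpectrum A) (hq : IsRig I q) (m : Ideal A)
    (hm : m.IsPrime) (hqm : q.asIdeal ≤ m) (hIm : I ≤ m) :
    m.IsMaximal ∧ m ≤ (q.asIdeal ⊔ I).radical := by
  have hqp : q.asIdeal.IsPrime := q.isPrime
  have hsurj : Function.Surjective (Ideal.Quotient.mk q.asIdeal) := Ideal.Quotient.mk_surjective
  have h3 := ((tfae_rig_closed_point A I q).out 0 2).mp hq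
  obtain ⟨-, hmax, -⟩ := h3
  have hker : RingHom.ker (Ideal.Quotient.mk q.asIdeal) ≤ m := by
    rw [Ideal.mk_ker]
    exact hqm
  have hPp : (Ideal.map (Ideal.Quotient.mk q.asIdeal) m).IsPrime :=
    Ideal.map_isPrime_of_surjective hsurj hker
  have hJP : I.map (Ideal.Quotient.mk q.asIdeal) ≤ Ideal.map (Ideal.Quotient.mk q.asIdeal) m :=
    Ideal.map_mono hIm
  obtain ⟨M, hM, hPM⟩ := Ideal.exists_le_maximal _ hPp.ne_top
  have hMrad := hmax M hM
  have hMP : M ≤ Ideal.map (Ideal.Quotient.mk q.asIdeal) m := by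
    rw [hMrad]
    exact (hPp.radical_le_iff).mpr hJP
  have hPM' : Ideal.map (Ideal.Quotient.mk q.asIdeal) m = M := le_antisymm hPM hMP
  have hcm : Ideal.comap (Ideal.Quotient.mk q.asIdeal)
      (Ideal.map (Ideal.Quotient.mk q.asIdeal) m) = m := by
    rw [Ideal.comap_map_of_surjective _ hsurj, ← RingHom.ker_eq_comap_bot, Ideal.mk_ker,
      sup_eq_left.mpr hqm]
  refine ⟨?_, fun x hx => ?_⟩
  · rw [← hcm, hPM']
    exact Ideal.comap_isMaximal_of_surjective _ hsurj
  · have hx' : Ideal.Quotient.mk q.asIdeal x ∈ (I.map (Ideal.Quotient.mk q.asIdeal)).radical := by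
      rw [← hMrad, ← hPM']
      exact Ideal.mem_map_of_mem _ hx
    obtain ⟨k, hk⟩ := hx'
    refine ⟨k, ?_⟩
    rw [← map_pow] at hk
    have : x ^ k ∈ Ideal.comap (Ideal.Quotient.mk q.asIdeal)
        (Ideal.map (Ideal.Quotient.mk q.asIdeal) I) := hk
    rw [Ideal.comap_map_of_surjective _ hsurj, ← RingHom.ker_eq_comap_bot, Ideal.mk_ker] at this
    rwa [sup_comm]

end R1

section Fin

theorem finite_of_finite_quotient {A : Type u} [CommRing A] [IsNoetherianRing A]
    (I : Ideal A) [IsAdicComplete I A] {N Q : Type u} [AddCommGroup N] [Module A N]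
    [AddCommGroup Q] [Module A Q] [IsHausdorff I N] [Module.Finite A Q]
    (π : N →ₗ[A] Q) (hπ : Function.Surjective π)
    (hker : LinearMap.ker π ≤ (I • ⊤ : Submodule A N)) : Module.Finite A N := by
  classical
  obtain ⟨t, ht⟩ := (Module.Finite.fg_top : (⊤ : Submodule A Q).FG)
  let s : Finset N := t.image (Function.surjInv hπ)
  have hmap : Submodule.map π (Submodule.span A (s : Set N)) = ⊤ := by
    rw [Submodule.map_span, ← ht]
    congr 1
    ext y
    simp only [s, Finset.coe_image, Set.mem_image, Finset.mem_coe]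
    constructor
    · rintro ⟨x, ⟨y', hy', rfl⟩, rfl⟩
      rwa [Function.surjInv_eq hπ]
    · intro hy
      exact ⟨Function.surjInv hπ y, ⟨y, hy, rfl⟩, Function.surjInv_eq hπ y⟩
  have hsup : Submodule.span A (s : Set N) ⊔ LinearMap.ker π = ⊤ := by
    rw [← Submodule.comap_map_eq, hmap, Submodule.comap_top]
  have hs : Submodule.span A (s : Set N) ⊔ (I • ⊤ : Submodule A N) = ⊤ := by
    refine top_le_iff.mp ?_
    calc (⊤ : Submodule A N) = Submodule.span A (s : Set N) ⊔ LinearMap.ker π := hsup.symm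
      _ ≤ Submodule.span A (s : Set N) ⊔ (I • ⊤ : Submodule A N) := sup_le_sup_left hker _
  let f : (s → A) →ₗ[A] N := Fintype.linearCombination A (fun x : s => (x : N))
  have hrange : LinearMap.range f = Submodule.span A (s : Set N) := by
    rw [Fintype.range_linearCombination]
    congr 1
    ext x
    simp
  have hcomp : Function.Surjective ((Submodule.mkQ (I • ⊤ : Submodule A N)) ∘ₗ f) := by
    rw [← LinearMap.range_eq_top, LinearMap.range_comp, hrange, Submodule.map_mkQ_eq_top, sup_comm]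
    exact hs
  have hprec : IsAdicComplete I (s → A) := Groth.Agent.S3866.result A I (s → A)
  have hsurj : Function.Surjective f := surjective_of_mkQ_comp_surjective (I := I) hcomp
  exact Module.Finite.of_surjective f hsurj

end Fin

section TFAE2

variable (A : Type u) [CommRing A] [IsNoetherianRing A] (I : Ideal A) [IsAdicComplete I A]
  (B : Type u) [CommRing B] [Algebra A B] [IsNoetherianRing B]
  [IsAdicComplete (I.map (algebraMap A B)) B]

theorem le_of_isMaximal (m : Ideal B) (hm : m.IsMaximal) : I.map (algebraMap A B) ≤ m :=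
  (IsAdicComplete.le_jacobson_bot _).trans (sInf_le ⟨bot_le, hm⟩)

theorem finite_quotient_of_finite_residue (q : PrimeSpectrum B)
    (hq : IsRig (I.map (algebraMap A B)) q)
    (h1 : ∀ m : Ideal B, m.IsMaximal → q.asIdeal ≤ m → Module.Finite A (B ⧸ m)) :
    Module.Finite A (B ⧸ q.asIdeal) := by
  have hqp : q.asIdeal.IsPrime := q.isPrime
  obtain ⟨m, hm, hqm⟩ := Ideal.exists_le_maximal q.asIdeal hqp.ne_top
  have hIm := le_of_isMaximal A I B m hm
  obtain ⟨-, hmrad⟩ := isMaximal_and_le_radical (I.map (algebraMap A B)) q hq m hm.isPrime hqm hIm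
  have hfin_m : Module.Finite A (B ⧸ m) := h1 m hm hqm
  have hK : q.asIdeal ⊔ I.map (algebraMap A B) ≤ m := sup_le hqm hIm
  have hfinK : Module.Finite A (B ⧸ (q.asIdeal ⊔ I.map (algebraMap A B))) := by
    refine Module.finite_of_surjective_of_ker_le_nilradical (Ideal.Quotient.factorₐ A hK)
      (Ideal.Quotient.factor_surjective hK) ?_ (IsNoetherian.noetherian _)
    intro y hy
    obtain ⟨x, rfl⟩ := Ideal.Quotient.mk_surjective y
    have hxm : x ∈ m := by
      have : Ideal.Quotient.mk m x = 0 := hy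
      exact Ideal.Quotient.eq_zero_iff_mem.mp this
    obtain ⟨k, hk⟩ := hmrad hxm
    refine ⟨k, ?_⟩
    rw [← map_pow]
    exact Ideal.Quotient.eq_zero_iff_mem.mpr hk
  have hH : IsHausdorff I (B ⧸ q.asIdeal) := by
    have h1 : IsAdicComplete (I.map (algebraMap A B)) (B ⧸ q.asIdeal) :=
      Groth.Agent.S3866.result B (I.map (algebraMap A B)) (B ⧸ q.asIdeal)
    exact (IsHausdorff.map_algebraMap_iff (R := A) (S := B) (I := I)
      (M := B ⧸ q.asIdeal)).mp h1.toIsHausdorff
  have hle : q.asIdeal ≤ q.asIdeal ⊔ I.map (algebraMap A B) := le_sup_left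
  refine finite_of_finite_quotient I (Ideal.Quotient.factorₐ A hle).toLinearMap
    (Ideal.Quotient.factor_surjective hle) ?_
  intro y hy
  obtain ⟨x, rfl⟩ := Ideal.Quotient.mk_surjective y
  have hx : x ∈ q.asIdeal ⊔ I.map (algebraMap A B) := by
    have : Ideal.Quotient.mk (q.asIdeal ⊔ I.map (algebraMap A B)) x = 0 := hy
    exact Ideal.Quotient.eq_zero_iff_mem.mp this
  obtain ⟨u, hu, v, hv, rfl⟩ := Submodule.mem_sup.mp hx
  rw [map_add, Ideal.Quotient.eq_zero_iff_mem.mpr hu, zero_add]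
  rw [Ideal.smul_top_eq_map]
  change Ideal.Quotient.mk q.asIdeal v ∈ Ideal.map (algebraMap A (B ⧸ q.asIdeal)) I
  rw [IsScalarTower.algebraMap_eq A B (B ⧸ q.asIdeal), ← Ideal.map_map]
  exact Ideal.mem_map_of_mem _ hv

theorem isRig_comap_of_finite (q : PrimeSpectrum B)
    (hq : IsRig (I.map (algebraMap A B)) q) (h3 : Module.Finite A (B ⧸ q.asIdeal)) :
    IsRig I (PrimeSpectrum.comap (algebraMap A B) q) := by
  have hqp : q.asIdeal.IsPrime := q.isPrime
  refine ⟨fun hle => hq.1 (Ideal.map_le_iff_le_comap.mpr hle), fun p' hpp' hIp' => ?_⟩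
  have hp'p : p'.asIdeal.IsPrime := p'.isPrime
  have hint : Algebra.IsIntegral A (B ⧸ q.asIdeal) := Algebra.IsIntegral.of_finite A _
  have hcomap : (⊥ : Ideal (B ⧸ q.asIdeal)).comap (algebraMap A (B ⧸ q.asIdeal)) ≤ p'.asIdeal := by
    intro a ha
    apply hpp'
    change algebraMap A B a ∈ q.asIdeal
    rw [Ideal.mem_comap, Ideal.mem_bot, IsScalarTower.algebraMap_apply A B (B ⧸ q.asIdeal)] at ha
    exact Ideal.Quotient.eq_zero_iff_mem.mp ha
  obtain ⟨Q', -, hQ'p, hQ'⟩ := Ideal.exists_ideal_over_prime_of_isIntegral p'.asIdeal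
    (⊥ : Ideal (B ⧸ q.asIdeal)) hcomap
  have hq'le : q.asIdeal ≤ Ideal.comap (Ideal.Quotient.mk q.asIdeal) Q' := by
    intro x hx
    rw [Ideal.mem_comap, Ideal.Quotient.eq_zero_iff_mem.mpr hx]
    exact Q'.zero_mem
  have hq'comap : Ideal.comap (algebraMap A B) (Ideal.comap (Ideal.Quotient.mk q.asIdeal) Q') =
      p'.asIdeal := by
    rw [Ideal.comap_comap, ← hQ']
    rfl
  have hnot : ¬ I.map (algebraMap A B) ≤ Ideal.comap (Ideal.Quotient.mk q.asIdeal) Q' := by
    intro hle
    apply hIp'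
    rw [← hq'comap]
    exact Ideal.map_le_iff_le_comap.mp hle
  have heq := hq.2 ⟨Ideal.comap (Ideal.Quotient.mk q.asIdeal) Q', inferInstance⟩ hq'le hnot
  have heq' : Ideal.comap (Ideal.Quotient.mk q.asIdeal) Q' = q.asIdeal :=
    congrArg PrimeSpectrum.asIdeal heq
  apply PrimeSpectrum.ext
  rw [← hq'comap, heq']
  rfl

theorem finite_residue_of_isJacobsonRing
    (hft : Algebra.FiniteType A (B ⧸ (I.map (algebraMap A B))))
    (m : Ideal B) (hm : m.IsMaximal) [IsJacobsonRing (A ⧸ m.comap (algebraMap A B))] :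
    Module.Finite A (B ⧸ m) := by
  have hIm := le_of_isMaximal A I B m hm
  have hftm : Algebra.FiniteType A (B ⧸ m) :=
    Algebra.FiniteType.of_surjective (Ideal.Quotient.factorₐ A hIm)
      (Ideal.Quotient.factor_surjective hIm)
  let _ : Field (B ⧸ m) := Ideal.Quotient.field m
  have hftk : Algebra.FiniteType (A ⧸ m.comap (algebraMap A B)) (B ⧸ m) :=
    Algebra.FiniteType.of_restrictScalars_finiteType A _ _
  have hfink : Module.Finite (A ⧸ m.comap (algebraMap A B)) (B ⧸ m) :=
    finite_of_finite_type_of_isJacobsonRing _ _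
  exact Module.Finite.trans (A ⧸ m.comap (algebraMap A B)) (B ⧸ m)

theorem finite_residue_of_isRig_comap
    (hft : Algebra.FiniteType A (B ⧸ (I.map (algebraMap A B)))) (q : PrimeSpectrum B)
    (h2 : IsRig I (PrimeSpectrum.comap (algebraMap A B) q))
    (m : Ideal B) (hm : m.IsMaximal) (hqm : q.asIdeal ≤ m) : Module.Finite A (B ⧸ m) := by
  have hIm := le_of_isMaximal A I B m hm
  have hmAp : (m.comap (algebraMap A B)).IsPrime := Ideal.comap_isPrime _ _
  have hpm : (PrimeSpectrum.comap (algebraMap A B) q).asIdeal ≤ m.comap (algebraMap A B) :=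
    Ideal.comap_mono hqm
  have hImA : I ≤ m.comap (algebraMap A B) := Ideal.map_le_iff_le_comap.mp hIm
  obtain ⟨hmAmax, -⟩ := isMaximal_and_le_radical I _ h2 (m.comap (algebraMap A B)) hmAp hpm hImA
  let _ : Field (A ⧸ m.comap (algebraMap A B)) := Ideal.Quotient.field _
  exact finite_residue_of_isJacobsonRing A I B hft m hm

theorem tfae_rig_closed_comap
    (hft : Algebra.FiniteType A (B ⧸ (I.map (algebraMap A B)))) (q : PrimeSpectrum B)
    (hq : (¬ (I.map (algebraMap A B)) ≤ q.asIdeal ∧ ∀ y : PrimeSpectrum B, q ≤ y →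
      ¬ (I.map (algebraMap A B)) ≤ y.asIdeal → y = q)) :
    List.TFAE [∀ m : Ideal B, m.IsMaximal → q.asIdeal ≤ m → Module.Finite A (B ⧸ m),
      (¬ I ≤ (PrimeSpectrum.comap (algebraMap A B) q).asIdeal ∧ ∀ y : PrimeSpectrum A,
        (PrimeSpectrum.comap (algebraMap A B) q) ≤ y → ¬ I ≤ y.asIdeal →
          y = (PrimeSpectrum.comap (algebraMap A B) q)),
      Module.Finite A (B ⧸ q.asIdeal)] := by
  tfae_have 1 → 3 := fun h1 => finite_quotient_of_finite_residue A I B q hq h1
  tfae_have 3 → 2 := fun h3 => isRig_comap_of_finite A I B q hq h3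
  tfae_have 2 → 1 := fun h2 m hm hqm => finite_residue_of_isRig_comap A I B hft q h2 m hm hqm
  tfae_finish

theorem isRig_comap_of_isJacobsonRing
    (hft : Algebra.FiniteType A (B ⧸ (I.map (algebraMap A B)))) (q : PrimeSpectrum B)
    (hq : IsRig (I.map (algebraMap A B)) q) (hJ : IsJacobsonRing (A ⧸ I)) :
    IsRig I (PrimeSpectrum.comap (algebraMap A B) q) := by
  refine ((tfae_rig_closed_comap A I B hft q hq).out 0 1).mp (fun m hm _ => ?_)
  have hIm := le_of_isMaximal A I B m hm
  have hImA : I ≤ m.comap (algebraMap A B) := Ideal.map_le_iff_le_comap.mp hIm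
  have : IsJacobsonRing (A ⧸ m.comap (algebraMap A B)) :=
    isJacobsonRing_of_surjective ⟨Ideal.Quotient.factor hImA, Ideal.Quotient.factor_surjective hImA⟩
  exact finite_residue_of_isJacobsonRing A I B hft m hm

theorem exists_isRig_over_iff
    (_hft : Algebra.FiniteType A (B ⧸ (I.map (algebraMap A B)))) [Module.Flat A B]
    (p : PrimeSpectrum A) (hp : IsRig I p) :
    (∃ Q : PrimeSpectrum B, (I.map (algebraMap A B)) ≤ Q.asIdeal ∧
        p.asIdeal ≤ (PrimeSpectrum.comap (algebraMap A B) Q).asIdeal ∧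
        (PrimeSpectrum.comap (algebraMap A B) Q).asIdeal.IsMaximal) ↔
      (∃ q : PrimeSpectrum B, IsRig (I.map (algebraMap A B)) q ∧
        PrimeSpectrum.comap (algebraMap A B) q = p) := by
  constructor
  · rintro ⟨Q, -, hpQ, -⟩
    have hpp : p.asIdeal.IsPrime := p.isPrime
    have hQp : Q.asIdeal.IsPrime := Q.isPrime
    have hQu : (Q.asIdeal.under A).IsPrime := Ideal.comap_isPrime _ _
    obtain ⟨q₀, -, hq₀p, hq₀over⟩ :=
      Ideal.exists_ideal_le_liesOver_of_le (p := p.asIdeal) (q := Q.asIdeal.under A) Q.asIdeal hpQ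
    have hq₀c : q₀.comap (algebraMap A B) = p.asIdeal := (hq₀over.over).symm
    have hq₀I : ¬ I.map (algebraMap A B) ≤ q₀ := by
      intro hle
      apply hp.1
      rw [← hq₀c]
      exact Ideal.map_le_iff_le_comap.mp hle
    let T : Set (Ideal B) := {y | y.IsPrime ∧ q₀ ≤ y ∧ ¬ I.map (algebraMap A B) ≤ y}
    have hTne : T.Nonempty := ⟨q₀, hq₀p, le_rfl, hq₀I⟩
    obtain ⟨q, hqT, hqmax⟩ := (wellFounded_gt (α := Ideal B)).has_min T hTne
    refine ⟨⟨q, hqT.1⟩, ⟨hqT.2.2, fun y hqy hy => ?_⟩, ?_⟩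
    · have hyT : y.asIdeal ∈ T := ⟨y.isPrime, hqT.2.1.trans hqy, hy⟩
      have hnot := hqmax y.asIdeal hyT
      have hle : q ≤ y.asIdeal := hqy
      have : y.asIdeal = q := by
        by_contra hne
        exact hnot (lt_of_le_of_ne hle (fun h => hne h.symm))
      exact PrimeSpectrum.ext this
    · have hle : p ≤ PrimeSpectrum.comap (algebraMap A B) ⟨q, hqT.1⟩ := by
        change p.asIdeal ≤ q.comap (algebraMap A B)
        rw [← hq₀c]
        exact Ideal.comap_mono hqT.2.1
      have hnot : ¬ I ≤ (PrimeSpectrum.comap (algebraMap A B) ⟨q, hqT.1⟩).asIdeal := by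
        intro hle'
        exact hqT.2.2 (Ideal.map_le_iff_le_comap.mpr hle')
      exact hp.2 _ hle hnot
  · rintro ⟨q, hq, rfl⟩
    have hqp : q.asIdeal.IsPrime := q.isPrime
    obtain ⟨m, hm, hqm⟩ := Ideal.exists_le_maximal q.asIdeal hqp.ne_top
    have hIm := le_of_isMaximal A I B m hm
    have hmAp : (m.comap (algebraMap A B)).IsPrime := Ideal.comap_isPrime _ _
    have hpm : (PrimeSpectrum.comap (algebraMap A B) q).asIdeal ≤ m.comap (algebraMap A B) :=
      Ideal.comap_mono hqm
    have hImA : I ≤ m.comap (algebraMap A B) := Ideal.map_le_iff_le_comap.mp hIm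
    obtain ⟨hmAmax, -⟩ := isMaximal_and_le_radical I _ hp (m.comap (algebraMap A B)) hmAp hpm hImA
    exact ⟨⟨m, hm.isPrime⟩, hIm, hpm, hmAmax⟩

end TFAE2

end Groth.Agent.Lib.Helper63.RigClosed
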