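import Mathlib
import Groth.Agent.Lib.Helper76.ArtLimit

set_option autoImplicit false
universe u

namespace Groth.Agent.Lib.Helper63.Chevalley

open IsLocalRing

theorem mem_of_forall_mem_sup_pow {R : Type*} [CommRing R] [IsNoetherianRing R] (I P : Ideal R)
    (hI : I ≤ Ideal.jacobson ⊥) (x : R) (h : ∀ n, x ∈ P ⊔ I ^ n) : x ∈ P := by
  have hH : IsHausdorff I (R ⧸ P) := IsHausdorff.of_le_jacobson _ _ hI
  have h0 : Ideal.Quotient.mk P x = 0 := by
    apply hH.haus
    intro n
    rw [SModEq.zero]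
    obtain ⟨y, hy, z, hz, hyz⟩ := Submodule.mem_sup.mp (h n)
    have h1 : Ideal.Quotient.mk P x = Ideal.Quotient.mk P z := by
      rw [← hyz, map_add, Ideal.Quotient.eq_zero_iff_mem.mpr hy, zero_add]
    rw [h1]
    have h2 : z ∈ I ^ n • (⊤ : Submodule R R) := by
      rw [smul_eq_mul, Ideal.mul_top]
      exact hz
    have h3 := Submodule.mem_map_of_mem (f := P.mkQ) h2
    rw [Submodule.map_smul'', Submodule.map_top, Submodule.range_mkQ] at h3
    exact h3
  exact Ideal.Quotient.eq_zero_iff_mem.mp h0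

theorem chevalley {S : Type*} [CommRing S] [IsLocalRing S] [IsNoetherianRing S]
    [IsAdicComplete (maximalIdeal S) S] (I : ℕ → Ideal S) (hanti : Antitone I)
    (hbot : ∀ x, (∀ n, x ∈ I n) → x = 0) (j : ℕ) :
    ∃ N, I N ≤ maximalIdeal S ^ j := by
  have hanti' : Antitone (fun n => I n ⊔ maximalIdeal S ^ n) := by
    intro a b hab
    exact sup_le_sup (hanti hab) (Ideal.pow_le_pow_right hab)
  obtain ⟨N, hN⟩ := Groth.Agent.Lib.Helper76.chevalley (fun n => I n ⊔ maximalIdeal S ^ n) hanti'
    (fun n => ⟨n, le_sup_right⟩) (by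
      intro x hx
      apply hbot
      intro n
      apply mem_of_forall_mem_sup_pow (maximalIdeal S) (I n) (maximalIdeal_le_jacobson ⊥)
      intro k
      have h1 := hx (max n k)
      exact sup_le_sup (hanti (le_max_left n k)) (Ideal.pow_le_pow_right (le_max_right n k)) h1) j
  exact ⟨N, le_sup_left.trans hN⟩

end Groth.Agent.Lib.Helper63.Chevalley
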