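import Groth.Agent.Lib.Helper85.Matlis
import Groth.Agent.Lib.Helper85.HullExist
import Groth.Agent.Lib.Helper85.HullIndec
import Groth.Agent.Lib.Helper85.MatlisEnd
import Mathlib.RingTheory.LocalRing.Length
import Mathlib.RingTheory.Flat.Equalizer
import Mathlib.RingTheory.TensorProduct.Quotient
import Mathlib.RingTheory.TensorProduct.Pi

set_option autoImplicit false
set_option linter.unusedSectionVars false
universe u
namespace Groth.Agent.Lib.Helper63.MatlisBC

open InjHull IsLocalRing TensorProduct
open Groth.Agent.Lib.Helper85.Matlis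

section Gen

variable {R : Type u} [CommRing R] (J : Ideal R) (M : Type u) [AddCommGroup M] [Module R M]

theorem one_mem_tors (φ : (R ⧸ J) →ₗ[R] M) :
    φ 1 ∈ Submodule.torsionBySet R M (J : Set R) := by
  rw [Submodule.mem_torsionBySet_iff]
  rintro ⟨j, hj⟩
  change j • φ 1 = 0
  rw [← map_smul]
  have : j • (1 : R ⧸ J) = 0 := by
    change Ideal.Quotient.mk J (j * 1) = 0
    rw [mul_one, Ideal.Quotient.eq_zero_iff_mem]
    exact hj
  rw [this, map_zero]

noncomputable def evOne : ((R ⧸ J) →ₗ[R] M) →ₗ[R] Submodule.torsionBySet R M (J : Set R) where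
  toFun φ := ⟨φ 1, one_mem_tors J M φ⟩
  map_add' _ _ := rfl
  map_smul' _ _ := rfl

theorem evOne_bijective : Function.Bijective (evOne J M) := by
  constructor
  · intro φ ψ h
    have h1 : φ 1 = ψ 1 := congrArg Subtype.val h
    apply LinearMap.ext
    intro c
    obtain ⟨r, rfl⟩ := Ideal.Quotient.mk_surjective c
    have : Ideal.Quotient.mk J r = r • (1 : R ⧸ J) := by
      change _ = Ideal.Quotient.mk J (r * 1)
      rw [mul_one]
    rw [this, map_smul, map_smul, h1]
  · intro e
    have hle : J ≤ LinearMap.ker (LinearMap.toSpanSingleton R M (e : M)) := by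
      intro j hj
      rw [LinearMap.mem_ker, LinearMap.toSpanSingleton_apply]
      exact (Submodule.mem_torsionBySet_iff _ _).mp e.2 ⟨j, hj⟩
    refine ⟨Submodule.liftQ J (LinearMap.toSpanSingleton R M (e : M)) hle, ?_⟩
    apply Subtype.ext
    change Submodule.liftQ J (LinearMap.toSpanSingleton R M (e : M)) hle (Submodule.Quotient.mk 1) = _
    rw [Submodule.liftQ_apply, LinearMap.toSpanSingleton_apply, one_smul]

theorem length_tors :
    Module.length R (Submodule.torsionBySet R M (J : Set R)) =
      Module.length R ((R ⧸ J) →ₗ[R] M) :=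
  ((LinearEquiv.ofBijective (evOne J M) (evOne_bijective J M)).length_eq).symm

end Gen

section Tors

variable {A : Type u} [CommRing A] {B : Type u} [CommRing B] [Algebra A B]
  {E : Type u} [AddCommGroup E] [Module A E]

theorem map_smul_tmul_eq_zero (I : Ideal A) (e : E) (he : ∀ a ∈ I, a • e = 0) (b : B)
    (c : B) (hc : c ∈ I.map (algebraMap A B)) : c • (b ⊗ₜ[A] e) = 0 := by
  rw [Ideal.map] at hc
  induction hc using Submodule.span_induction with
  | mem c hc =>
    obtain ⟨a, ha, rfl⟩ := hc
    rw [TensorProduct.smul_tmul', smul_eq_mul, ← Algebra.smul_def, TensorProduct.smul_tmul,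
      he a ha, tmul_zero]
  | zero => rw [zero_smul]
  | add c d _ _ hc hd => rw [add_smul, hc, hd, add_zero]
  | smul r c _ hc => rw [smul_eq_mul, mul_smul, hc, smul_zero]

variable [IsLocalRing A] [IsLocalRing B]

theorem isPowerTorsion_tensor
    (hm : (maximalIdeal A).map (algebraMap A B) = maximalIdeal B)
    (hE : LocCoh.IsPowerTorsion (maximalIdeal A) E) :
    LocCoh.IsPowerTorsion (maximalIdeal B) (B ⊗[A] E) := by
  intro x
  induction x using TensorProduct.induction_on with
  | zero => exact ⟨0, fun a _ => smul_zero a⟩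
  | tmul b e =>
    obtain ⟨n, hn⟩ := hE e
    refine ⟨n, fun c hc => ?_⟩
    rw [← hm, ← Ideal.map_pow] at hc
    exact map_smul_tmul_eq_zero _ e hn b c hc
  | add x y hx hy =>
    obtain ⟨n, hn⟩ := hx
    obtain ⟨m, hm'⟩ := hy
    refine ⟨max n m, fun c hc => ?_⟩
    rw [smul_add, hn c (Ideal.pow_le_pow_right (le_max_left n m) hc),
      hm' c (Ideal.pow_le_pow_right (le_max_right n m) hc), add_zero]

end Tors

section Socle

variable {A : Type u} [CommRing A] {B : Type u} [CommRing B] [Algebra A B]
  {E : Type u} [AddCommGroup E] [Module A E]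

theorem piRight_lTensor_apply {r : ℕ} (a : Fin r → A) (x : B ⊗[A] E) (i : Fin r) :
    TensorProduct.piRight A B B (fun _ : Fin r => E)
      (TensorProduct.AlgebraTensorModule.lTensor B B
        (LinearMap.pi fun i => LinearMap.lsmul A E (a i)) x) i = algebraMap A B (a i) • x := by
  induction x using TensorProduct.induction_on with
  | zero => simp
  | tmul b e =>
    rw [TensorProduct.AlgebraTensorModule.lTensor_tmul, TensorProduct.piRight_apply,
      TensorProduct.piRightHom_tmul]
    rw [TensorProduct.smul_tmul', smul_eq_mul, ← Algebra.smul_def, TensorProduct.smul_tmul]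
    rfl
  | add x y hx hy =>
    rw [map_add, map_add, Pi.add_apply, hx, hy, smul_add]

variable [IsLocalRing A] [IsLocalRing B] [IsNoetherianRing A] [Module.Flat A B]

theorem socle_tensor (hm : (maximalIdeal A).map (algebraMap A B) = maximalIdeal B)
    (f : ResidueField A →ₗ[A] E) (hf : IsEssentialInj f) (x : B ⊗[A] E)
    (hx : ∀ c ∈ maximalIdeal B, c • x = 0) : ∃ b : B, x = b • ((1 : B) ⊗ₜ[A] f 1) := by
  obtain ⟨r, a, ha⟩ := Submodule.fg_iff_exists_fin_generating_family.mp
    ((isNoetherianRing_iff_ideal_fg A).mp inferInstance (maximalIdeal A))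
  let u : E →ₗ[A] (Fin r → E) := LinearMap.pi fun i => LinearMap.lsmul A E (a i)
  have hker : LinearMap.ker u = LinearMap.range f := by
    rw [← socle_eq_range hf]
    ext e
    rw [LinearMap.mem_ker, Submodule.mem_torsionBySet_iff]
    constructor
    · intro h
      rintro ⟨c, hc⟩
      change c • e = 0
      have hc' : c ∈ Submodule.span A (Set.range a) := by rw [ha]; exact hc
      clear hc
      induction hc' using Submodule.span_induction with
      | mem c hc1 =>
        obtain ⟨i, rfl⟩ := hc1
        exact congrFun h i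
      | zero => rw [zero_smul]
      | add c d _ _ hc1 hd1 => rw [add_smul, hc1, hd1, add_zero]
      | smul s c _ hc1 => rw [smul_eq_mul, mul_smul, hc1, smul_zero]
    · intro h
      funext i
      have hai : a i ∈ maximalIdeal A := by
        rw [← ha]; exact Submodule.subset_span ⟨i, rfl⟩
      exact h ⟨a i, hai⟩
  have hxk : x ∈ LinearMap.ker (TensorProduct.AlgebraTensorModule.lTensor B B u) := by
    rw [LinearMap.mem_ker]
    apply (TensorProduct.piRight A B B (fun _ : Fin r => E)).injective
    rw [map_zero]
    funext i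
    rw [piRight_lTensor_apply a x i, Pi.zero_apply]
    apply hx
    rw [← hm]
    apply Ideal.mem_map_of_mem
    rw [← ha]; exact Submodule.subset_span ⟨i, rfl⟩
  rw [Module.Flat.ker_lTensor_eq] at hxk
  obtain ⟨y, rfl⟩ := hxk
  clear hx
  induction y using TensorProduct.induction_on with
  | zero => exact ⟨0, by rw [map_zero, zero_smul]⟩
  | tmul b e =>
    obtain ⟨e, he⟩ := e
    rw [hker] at he
    obtain ⟨c, rfl⟩ := he
    obtain ⟨a', rfl⟩ := residue_eq_smul_one c
    refine ⟨a' • b, ?_⟩
    rw [TensorProduct.AlgebraTensorModule.lTensor_tmul]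
    change b ⊗ₜ[A] f (a' • 1) = _
    rw [map_smul, ← TensorProduct.smul_tmul, TensorProduct.smul_tmul', smul_eq_mul, mul_one]
  | add y z hy hz =>
    obtain ⟨b, hb⟩ := hy
    obtain ⟨c, hc⟩ := hz
    exact ⟨b + c, by rw [map_add, hb, hc, add_smul]⟩

end Socle

section Main

variable {A : Type u} [CommRing A] [IsLocalRing A] [IsNoetherianRing A]
  {B : Type u} [CommRing B] [IsLocalRing B] [IsNoetherianRing B] [Algebra A B]
  [IsLocalHom (algebraMap A B)] [Module.Flat A B]
  {E : Type u} [AddCommGroup E] [Module A E]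

omit [IsNoetherianRing A] [IsNoetherianRing B] in
theorem one_tmul_ne_zero (f : ResidueField A →ₗ[A] E) (hf : Function.Injective f) :
    (1 : B) ⊗ₜ[A] f 1 ≠ 0 := by
  have : Module.FaithfullyFlat A B := Module.FaithfullyFlat.of_flat_of_isLocalHom
  have hinj : Function.Injective (f.lTensor B) :=
    Module.Flat.lTensor_preserves_injective_linearMap f hf
  have hnt : Nontrivial (B ⊗[A] ResidueField A) := inferInstance
  intro h
  have h1 : f.lTensor B ((1 : B) ⊗ₜ[A] (1 : ResidueField A)) = 0 := by
    rw [LinearMap.lTensor_tmul]; exact h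
  have h2 : (1 : B) ⊗ₜ[A] (1 : ResidueField A) = 0 := hinj (h1.trans (map_zero _).symm)
  have h3 : (1 : B ⊗[A] ResidueField A) = 0 := by
    rw [Algebra.TensorProduct.one_def]; exact h2
  exact one_ne_zero h3

theorem exists_essential (hm : (maximalIdeal A).map (algebraMap A B) = maximalIdeal B)
    (f : ResidueField A →ₗ[A] E) (hf : IsEssentialInj f) :
    ∃ g : ResidueField B →ₗ[B] B ⊗[A] E, IsEssentialInj g := by
  set s : B ⊗[A] E := (1 : B) ⊗ₜ[A] f 1 with hs
  have hkill : ∀ c ∈ maximalIdeal B, c • s = 0 := by
    intro c hc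
    rw [← hm] at hc
    refine map_smul_tmul_eq_zero (maximalIdeal A) (f 1) ?_ 1 c hc
    intro a ha
    rw [← map_smul, mem_maximalIdeal_smul_residue a ha, map_zero]
  have hle : maximalIdeal B ≤ LinearMap.ker (LinearMap.toSpanSingleton B (B ⊗[A] E) s) := by
    intro c hc
    rw [LinearMap.mem_ker, LinearMap.toSpanSingleton_apply]
    exact hkill c hc
  let g : ResidueField B →ₗ[B] B ⊗[A] E :=
    Submodule.liftQ (maximalIdeal B) (LinearMap.toSpanSingleton B (B ⊗[A] E) s) hle
  have hg1 : ∀ b : B, g (b • (1 : ResidueField B)) = b • s := by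
    intro b
    rw [map_smul]
    congr 1
    change Submodule.liftQ (maximalIdeal B) (LinearMap.toSpanSingleton B (B ⊗[A] E) s) hle
      (Submodule.Quotient.mk 1) = _
    rw [Submodule.liftQ_apply, LinearMap.toSpanSingleton_apply, one_smul]
  have hs0 : s ≠ 0 := one_tmul_ne_zero f hf.injective
  have hT : LocCoh.IsPowerTorsion (maximalIdeal B) (B ⊗[A] E) :=
    isPowerTorsion_tensor hm (isPowerTorsion hf)
  refine ⟨g, ?_, ?_⟩
  · rcases LinearMap.injective_or_eq_zero g with h | h
    · exact h
    · exfalso
      apply hs0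
      have := hg1 1
      rw [one_smul, one_smul, h, LinearMap.zero_apply] at this
      exact this.symm
  · intro N hN
    obtain ⟨x, hxN, hx0⟩ := (Submodule.ne_bot_iff N).mp hN
    obtain ⟨a, hax, haS⟩ := exists_smul_mem_socle hT x hx0
    obtain ⟨b, hb⟩ := socle_tensor hm f hf (a • x) (by
      intro c hc
      exact (Submodule.mem_torsionBySet_iff _ _).mp haS ⟨c, hc⟩)
    intro hbot
    apply hax
    have hmem : a • x ∈ N ⊓ LinearMap.range g := by
      refine ⟨N.smul_mem a hxN, ?_⟩
      rw [hb, ← hg1 b]
      exact LinearMap.mem_range_self g _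
    rw [hbot, Submodule.mem_bot] at hmem
    exact hmem

end Main

section Main2

variable {A : Type u} [CommRing A] [IsLocalRing A] [IsNoetherianRing A]
  {B : Type u} [CommRing B] [IsLocalRing B] [IsNoetherianRing B] [Algebra A B]
  [IsLocalHom (algebraMap A B)] [Module.Flat A B]
  {E : Type u} [AddCommGroup E] [Module A E]

theorem length_quot_map_eq_one (hm : (maximalIdeal A).map (algebraMap A B) = maximalIdeal B) :
    Module.length B (B ⧸ (maximalIdeal A).map (algebraMap A B)) = 1 := by
  rw [hm]
  have : IsSimpleModule B (B ⧸ maximalIdeal B) := simpleResidue (R := B)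
  exact Module.length_eq_one B _

theorem length_tensor (hm : (maximalIdeal A).map (algebraMap A B) = maximalIdeal B)
    (M : Type u) [AddCommGroup M] [Module A M] :
    Module.length B (B ⊗[A] M) = Module.length A M := by
  rw [IsLocalRing.length_baseChange, length_quot_map_eq_one hm, mul_one]

theorem length_tors_hull (f : ResidueField A →ₗ[A] E) (hf : IsInjectiveHull f) (n : ℕ) :
    Module.length A (Submodule.torsionBySet A E ((maximalIdeal A ^ n : Ideal A) : Set A)) =
      Module.length A (A ⧸ maximalIdeal A ^ n) := by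
  rw [length_tors, length_hom hf _ (isFiniteLength_quot_pow n)]

theorem length_quot_pow_map (hm : (maximalIdeal A).map (algebraMap A B) = maximalIdeal B) (n : ℕ) :
    Module.length B (B ⧸ maximalIdeal B ^ n) = Module.length A (A ⧸ maximalIdeal A ^ n) := by
  have e := (Algebra.TensorProduct.quotIdealMapEquivTensorQuot B (maximalIdeal A ^ n)).toLinearEquiv
  rw [Ideal.map_pow, hm] at e
  rw [e.length_eq, length_tensor hm]

theorem main (hm : (maximalIdeal A).map (algebraMap A B) = maximalIdeal B)
    (f : ResidueField A →ₗ[A] E) (hf : IsInjectiveHull f) :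
    ∃ g : ResidueField B →ₗ[B] B ⊗[A] E, IsInjectiveHull g := by
  obtain ⟨g, hg⟩ := exists_essential hm f hf.toIsEssentialInj
  obtain ⟨EB, _, _, h, hh⟩ := Groth.Agent.Lib.Helper85.Hull.exists_injectiveHull (R := B)
    (ResidueField B)
  have hEBinj := hh.isInjective
  obtain ⟨φ, hφ⟩ := Module.Injective.extension_property B EB _ _ g hg.injective h
  have hφinj : Function.Injective φ := by
    rw [← LinearMap.ker_eq_bot]
    by_contra hne
    apply hg.essential _ hne
    rw [eq_bot_iff]
    rintro x ⟨hxk, c, rfl⟩
    rw [Submodule.mem_bot]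
    have h1 : h c = 0 := by
      rw [← hφ]; exact hxk
    rw [hh.injective (h1.trans (map_zero h).symm), map_zero]
  have hφsurj : Function.Surjective φ := by
    intro y
    obtain ⟨n, hn⟩ := isPowerTorsion hh.toIsEssentialInj y
    let En := Submodule.torsionBySet A E ((maximalIdeal A ^ n : Ideal A) : Set A)
    let Fn := Submodule.torsionBySet B EB ((maximalIdeal B ^ n : Ideal B) : Set B)
    have hyF : y ∈ Fn := by
      rw [Submodule.mem_torsionBySet_iff]
      rintro ⟨c, hc⟩
      exact hn c hc
    let ι : B ⊗[A] En →ₗ[B] B ⊗[A] E := LinearMap.baseChange B En.subtype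
    have hι : Function.Injective ι := by
      have := Module.Flat.lTensor_preserves_injective_linearMap (M := B) En.subtype
        (Submodule.subtype_injective _)
      rwa [← LinearMap.baseChange_eq_ltensor (A := B)] at this
    have hmem : ∀ z, φ (ι z) ∈ Fn := by
      intro z
      induction z using TensorProduct.induction_on with
      | zero => rw [map_zero, map_zero]; exact zero_mem _
      | tmul b e =>
        rw [Submodule.mem_torsionBySet_iff]
        rintro ⟨c, hc⟩
        change c • φ (ι (b ⊗ₜ[A] e)) = 0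
        rw [← map_smul, LinearMap.baseChange_tmul]
        have hc' : c ∈ (maximalIdeal A ^ n).map (algebraMap A B) := by
          rw [Ideal.map_pow, hm]; exact hc
        rw [map_smul_tmul_eq_zero (maximalIdeal A ^ n) (En.subtype e) ?_ b c hc', map_zero]
        intro a ha
        exact (Submodule.mem_torsionBySet_iff _ _).mp e.2 ⟨a, ha⟩
      | add z w hz hw => rw [map_add, map_add]; exact add_mem hz hw
    let ψ : B ⊗[A] En →ₗ[B] Fn := LinearMap.codRestrict Fn (φ ∘ₗ ι) hmem
    have hψ : Function.Injective ψ := by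
      intro z w hzw
      apply hι
      apply hφinj
      exact congrArg Subtype.val hzw
    have hlenF : Module.length B Fn = Module.length A (A ⧸ maximalIdeal A ^ n) := by
      rw [length_tors, length_hom hh _ (isFiniteLength_quot_pow n), length_quot_pow_map hm]
    have hlenT : Module.length B (B ⊗[A] En) = Module.length A (A ⧸ maximalIdeal A ^ n) := by
      rw [length_tensor hm, length_tors_hull f hf]
    have hfin : Module.length A (A ⧸ maximalIdeal A ^ n) ≠ ⊤ :=
      Module.length_ne_top_iff.mpr (isFiniteLength_quot_pow n)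
    have hFfin : IsFiniteLength B Fn := by
      rw [← Module.length_ne_top_iff, hlenF]; exact hfin
    obtain ⟨_, _⟩ := isFiniteLength_iff_isNoetherian_isArtinian.mp hFfin
    have hrange : LinearMap.range ψ = ⊤ := by
      by_contra hne
      have h1 := Submodule.length_lt hne
      rw [← (LinearEquiv.ofInjective ψ hψ).length_eq, hlenT, hlenF] at h1
      exact lt_irrefl _ h1
    obtain ⟨z, hz⟩ := LinearMap.range_eq_top.mp hrange ⟨y, hyF⟩
    exact ⟨ι z, congrArg Subtype.val hz⟩
  let e : (B ⊗[A] E) ≃ₗ[B] EB := LinearEquiv.ofBijective φ ⟨hφinj, hφsurj⟩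
  have hinj : Module.Injective B (B ⊗[A] E) :=
    Groth.Agent.Lib.Helper85.Hull.injective_of_linearEquiv e.symm
  exact ⟨g, ⟨hg, hinj⟩⟩

end Main2

end Groth.Agent.Lib.Helper63.MatlisBC
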