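import Mathlib
import Groth.Agent.Lib.Helper58.NagataFP
import Groth.Agent.Lib.Helper99.FlatFPB

set_option autoImplicit false
universe u

namespace Groth.Agent.Lib.Helper63.PruferFP

open TensorProduct

theorem finitePresentation_of_torsionFree
    (R : Type u) [CommRing R] [IsDomain R]
    (hR : ∀ (p : Ideal R) [p.IsPrime], ValuationRing (Localization.AtPrime p))
    (P : Type u) [CommRing P] [Algebra R P] [Algebra.FinitePresentation R P]
    (M : Type u) [AddCommGroup M] [Module P M] [Module R M] [IsScalarTower R P M]
    [Module.Finite P M]
    (htf : ∀ a : R, a ≠ 0 → ∀ m : M, a • m = 0 → m = 0) :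
    Module.FinitePresentation P M := by
  classical
  have hflat : Module.Flat R M := by
    rw [Module.Flat.flat_iff_torsion_eq_bot_of_valuationRing_localization_isMaximal
      (fun p _ => hR p)]
    rw [eq_bot_iff]
    rintro m ⟨⟨r, hr⟩, h⟩
    exact htf r (nonZeroDivisors.ne_zero hr) m h
  let s : Finset (PrimeSpectrum R) := {⟨⊥, Ideal.isPrime_bot⟩}
  have hs : Function.Injective fun r : R => fun p : s =>
      algebraMap R (Localization.AtPrime p.1.asIdeal) r := by
    intro a b hab
    have h0 := congrFun hab ⟨⟨⊥, Ideal.isPrime_bot⟩, by simp [s]⟩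
    refine IsLocalization.injective (M := (⊥ : Ideal R).primeCompl)
      (Localization.AtPrime (⊥ : Ideal R)) ?_ h0
    intro x hx
    exact mem_nonZeroDivisors_of_ne_zero (fun h => hx (by simp [h]))
  refine Groth.Agent.Lib.Helper99.FlatFP.finitePresentation_of_flat s hs ?_
  intro p hp
  have hV : ValuationRing (Localization.AtPrime p) := hR p
  have hft : Algebra.FiniteType (Localization.AtPrime p)
      (Localization (Algebra.algebraMapSubmonoid P p.primeCompl)) := by
    rw [← RingHom.finiteType_algebraMap]
    have : IsLocalization (Submonoid.map (algebraMap R P) p.primeCompl)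
        (Localization (Algebra.algebraMapSubmonoid P p.primeCompl)) :=
      inferInstanceAs (IsLocalization (Algebra.algebraMapSubmonoid P p.primeCompl) _)
    exact RingHom.finiteType_localizationPreserves (algebraMap R P) p.primeCompl
      (Localization.AtPrime p) (Localization (Algebra.algebraMapSubmonoid P p.primeCompl))
      (RingHom.finiteType_algebraMap.mpr inferInstance)
  let _ : Module (Localization.AtPrime p)
      (LocalizedModule (Algebra.algebraMapSubmonoid P p.primeCompl) M) :=
    Module.compHom _ (algebraMap (Localization.AtPrime p)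
      (Localization (Algebra.algebraMapSubmonoid P p.primeCompl)))
  have : IsScalarTower (Localization.AtPrime p)
      (Localization (Algebra.algebraMapSubmonoid P p.primeCompl))
      (LocalizedModule (Algebra.algebraMapSubmonoid P p.primeCompl) M) :=
    IsScalarTower.of_algebraMap_smul fun _ _ => rfl
  refine Groth.Agent.Lib.Helper58.NagataFP.finitePresentation_of_finiteType
    (Localization.AtPrime p) (Localization (Algebra.algebraMapSubmonoid P p.primeCompl))
    (LocalizedModule (Algebra.algebraMapSubmonoid P p.primeCompl) M) ?_
  intro a ha m hm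
  obtain ⟨⟨r, t⟩, hrt⟩ := IsLocalization.mk'_surjective p.primeCompl a
  have hr0 : r ≠ 0 := by
    rintro rfl
    apply ha
    rw [← hrt]
    simp
  have h1 : algebraMap R (Localization.AtPrime p) (t : R) * a =
      algebraMap R (Localization.AtPrime p) r := by
    rw [← hrt, mul_comm]
    exact IsLocalization.mk'_spec _ _ _
  have h2 : algebraMap P (Localization (Algebra.algebraMapSubmonoid P p.primeCompl))
      (algebraMap R P r) • m = 0 := by
    have h3 : algebraMap (Localization.AtPrime p)
        (Localization (Algebra.algebraMapSubmonoid P p.primeCompl))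
        (algebraMap R (Localization.AtPrime p) r) • m = 0 := by
      rw [← h1, map_mul, mul_smul]
      have : algebraMap (Localization.AtPrime p)
        (Localization (Algebra.algebraMapSubmonoid P p.primeCompl)) a • m = a • m := rfl
      rw [this, hm, smul_zero]
    rwa [← IsScalarTower.algebraMap_apply, IsScalarTower.algebraMap_apply R P] at h3
  rw [algebraMap_smul] at h2
  obtain ⟨⟨x, u⟩, rfl⟩ := IsLocalizedModule.mk'_surjective
    (Algebra.algebraMapSubmonoid P p.primeCompl)
    (LocalizedModule.mkLinearMap (Algebra.algebraMapSubmonoid P p.primeCompl) M) m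
  simp only [Function.uncurry_apply_pair] at h2 ⊢
  rw [← IsLocalizedModule.mk'_smul, IsLocalizedModule.mk'_eq_zero'] at h2
  obtain ⟨⟨_, v, hv, rfl⟩, hvx⟩ := h2
  have hx : x = 0 := by
    apply htf (v * r) (mul_ne_zero (fun h => hv (by simp [h])) hr0)
    rw [mul_smul, ← algebraMap_smul P v, ← algebraMap_smul P r]
    exact hvx
  rw [hx, IsLocalizedModule.mk'_zero]

end Groth.Agent.Lib.Helper63.PruferFP
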