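import Mathlib

set_option autoImplicit false
universe u

namespace Groth.Agent.Lib.Helper63.SemilocalComplete

theorem smodEq_iff {R : Type*} [CommRing R] (I : Ideal R) (x y : R) :
    x ≡ y [SMOD (I • ⊤ : Submodule R R)] ↔ x - y ∈ I := by
  rw [SModEq.sub_mem, smul_eq_mul, Ideal.mul_top]

theorem isPrecomplete_of_jacobson {R : Type*} [CommRing R] [Finite (MaximalSpectrum R)]
    [IsPrecomplete (Ideal.jacobson (⊥ : Ideal R)) R] (M : Ideal R) [hM : M.IsMaximal] :
    IsPrecomplete M R := by
  classical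
  have := Fintype.ofFinite (MaximalSpectrum R)
  let M0 : MaximalSpectrum R := ⟨M, hM⟩
  let Q : Ideal R := ⨅ N ∈ (Finset.univ.erase M0 : Finset (MaximalSpectrum R)), N.asIdeal
  have hcop : IsCoprime M Q := by
    apply Ideal.isCoprime_biInf
    intro N hN
    rw [Ideal.isCoprime_iff_sup_eq]
    apply Ideal.IsMaximal.coprime_of_ne hM N.isMaximal
    intro h
    apply (Finset.mem_erase.mp hN).1
    ext1
    exact h.symm
  have hMQ : M * Q ≤ Ideal.jacobson ⊥ := by
    intro x hx
    rw [Ideal.jacobson, Ideal.mem_sInf]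
    rintro N ⟨-, hN⟩
    by_cases h : N = M
    · rw [h]
      exact Ideal.mul_le_left hx
    · have h1 : (⟨N, hN⟩ : MaximalSpectrum R) ∈ (Finset.univ.erase M0 : Finset (MaximalSpectrum R)) := by
        rw [Finset.mem_erase]
        refine ⟨?_, Finset.mem_univ _⟩
        intro h2
        apply h
        exact congrArg MaximalSpectrum.asIdeal h2
      have h2 : Q ≤ N := by
        intro y hy
        have := (Ideal.mem_iInf.mp hy) ⟨N, hN⟩
        exact (Ideal.mem_iInf.mp this) h1
      exact h2 (Ideal.mul_le_right hx)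
  have hinf : ∀ n : ℕ, M ^ n ⊓ Q ^ n ≤ (Ideal.jacobson (⊥ : Ideal R)) ^ n := by
    intro n
    rw [← Ideal.mul_eq_inf_of_isCoprime (hcop.pow), ← mul_pow]
    exact Ideal.pow_right_mono hMQ n
  have hv : ∀ n : ℕ, ∃ v : R, v ∈ Q ^ n ∧ 1 - v ∈ M ^ n := by
    intro n
    obtain ⟨i, hi, j, hj, hij⟩ := Ideal.isCoprime_iff_exists.mp (hcop.pow (m := n) (n := n))
    refine ⟨j, hj, ?_⟩
    rw [← hij]
    simpa using hi
  choose v hvQ hvM using hv
  constructor
  intro f hf
  have hf' : ∀ {m n : ℕ}, m ≤ n → f m - f n ∈ M ^ m := by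
    intro m n hmn
    exact (smodEq_iff _ _ _).mp (hf hmn)
  obtain ⟨L, hL⟩ := IsPrecomplete.prec' (I := Ideal.jacobson (⊥ : Ideal R)) (M := R)
    (fun n => v n * f n) (by
      intro m n hmn
      rw [smodEq_iff]
      apply hinf m
      have e : v m * f m - v n * f n = v m * (f m - f n) - ((1 - v m) - (1 - v n)) * f n := by ring
      constructor
      · change v m * f m - v n * f n ∈ M ^ m
        rw [e]
        refine Ideal.sub_mem _ (Ideal.mul_mem_left _ _ (hf' hmn)) (Ideal.mul_mem_right _ _ ?_)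
        exact Ideal.sub_mem _ (hvM m) (Ideal.pow_le_pow_right hmn (hvM n))
      · change v m * f m - v n * f n ∈ Q ^ m
        exact Ideal.sub_mem _ (Ideal.mul_mem_right _ _ (hvQ m))
          (Ideal.mul_mem_right _ _ (Ideal.pow_le_pow_right hmn (hvQ n))))
  refine ⟨L, fun n => ?_⟩
  rw [smodEq_iff]
  have h1 := (smodEq_iff _ _ _).mp (hL n)
  have h2 : (Ideal.jacobson (⊥ : Ideal R)) ^ n ≤ M ^ n := by
    apply Ideal.pow_right_mono
    exact sInf_le ⟨bot_le, hM⟩
  have e : f n - L = (1 - v n) * f n + (v n * f n - L) := by ring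
  rw [e]
  exact Ideal.add_mem _ (Ideal.mul_mem_right _ _ (hvM n)) (h2 h1)

theorem mem_pow_of_algebraMap_mem {R : Type*} [CommRing R] (M : Ideal R) [hM : M.IsMaximal]
    (n : ℕ) (r : R)
    (h : algebraMap R (Localization.AtPrime M) r ∈ (M ^ n).map (algebraMap R (Localization.AtPrime M))) :
    r ∈ M ^ n := by
  rw [IsLocalization.mem_map_algebraMap_iff M.primeCompl] at h
  obtain ⟨⟨a, s⟩, h⟩ := h
  rw [← map_mul] at h
  obtain ⟨c, hc⟩ := (IsLocalization.eq_iff_exists M.primeCompl _).mp h
  have hu : (c : R) * s ∉ M := fun h' => (hM.isPrime.mem_or_mem h').elim c.2 s.2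
  obtain ⟨y, i, hi, hy⟩ := Ideal.IsMaximal.exists_inv_pow M hu n
  have e : r = y * (c * (a : R)) + i * r := by
    calc r = (y * (c * s) + i) * r := by rw [hy, one_mul]
      _ = y * (c * (r * s)) + i * r := by ring
      _ = y * (c * (a : R)) + i * r := by rw [hc]
  rw [e]
  exact Ideal.add_mem _ (Ideal.mul_mem_left _ _ (Ideal.mul_mem_left _ _ a.2))
    (Ideal.mul_mem_right _ _ hi)

theorem exists_sub_mem_map {R : Type*} [CommRing R] (M : Ideal R) [hM : M.IsMaximal]
    (n : ℕ) (x : Localization.AtPrime M) :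
    ∃ r : R, x - algebraMap R (Localization.AtPrime M) r ∈
      (M ^ n).map (algebraMap R (Localization.AtPrime M)) := by
  obtain ⟨a, s, rfl⟩ := IsLocalization.exists_mk'_eq M.primeCompl x
  obtain ⟨y, i, hi, hy⟩ := Ideal.IsMaximal.exists_inv_pow M s.2 n
  refine ⟨a * y, ?_⟩
  have e : IsLocalization.mk' (Localization.AtPrime M) a s -
      algebraMap R (Localization.AtPrime M) (a * y) =
      IsLocalization.mk' (Localization.AtPrime M) a s * algebraMap R (Localization.AtPrime M) i := by
    have h1 : IsLocalization.mk' (Localization.AtPrime M) a s *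
        algebraMap R (Localization.AtPrime M) s = algebraMap R (Localization.AtPrime M) a :=
      IsLocalization.mk'_spec _ _ _
    have h2 : algebraMap R (Localization.AtPrime M) i = 1 -
        algebraMap R (Localization.AtPrime M) y * algebraMap R (Localization.AtPrime M) s := by
      rw [← map_mul, ← map_one (algebraMap R (Localization.AtPrime M)), ← map_sub]
      congr 1
      rw [← hy]
      ring
    rw [h2, map_mul, ← h1]
    ring
  rw [e]
  exact Ideal.mul_mem_left _ _ (Ideal.mem_map_of_mem _ hi)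

theorem mem_pow_of_algebraMap_mem' {R : Type*} [CommRing R] (M : Ideal R) [hM : M.IsMaximal]
    (L : Type*) [CommRing L] [Algebra R L] [IsLocalization.AtPrime L M]
    (n : ℕ) (r : R)
    (h : algebraMap R L r ∈ (M ^ n).map (algebraMap R L)) :
    r ∈ M ^ n := by
  rw [IsLocalization.mem_map_algebraMap_iff M.primeCompl] at h
  obtain ⟨⟨a, s⟩, h⟩ := h
  rw [← map_mul] at h
  obtain ⟨c, hc⟩ := (IsLocalization.eq_iff_exists M.primeCompl _).mp h
  have hu : (c : R) * s ∉ M := fun h' => (hM.isPrime.mem_or_mem h').elim c.2 s.2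
  obtain ⟨y, i, hi, hy⟩ := Ideal.IsMaximal.exists_inv_pow M hu n
  have e : r = y * (c * (a : R)) + i * r := by
    calc r = (y * (c * s) + i) * r := by rw [hy, one_mul]
      _ = y * (c * (r * s)) + i * r := by ring
      _ = y * (c * (a : R)) + i * r := by rw [hc]
  rw [e]
  exact Ideal.add_mem _ (Ideal.mul_mem_left _ _ (Ideal.mul_mem_left _ _ a.2))
    (Ideal.mul_mem_right _ _ hi)

theorem exists_sub_mem_map' {R : Type*} [CommRing R] (M : Ideal R) [hM : M.IsMaximal]
    (L : Type*) [CommRing L] [Algebra R L] [IsLocalization.AtPrime L M]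
    (n : ℕ) (x : L) :
    ∃ r : R, x - algebraMap R L r ∈ (M ^ n).map (algebraMap R L) := by
  obtain ⟨a, s, rfl⟩ := IsLocalization.exists_mk'_eq M.primeCompl x
  obtain ⟨y, i, hi, hy⟩ := Ideal.IsMaximal.exists_inv_pow M s.2 n
  refine ⟨a * y, ?_⟩
  have e : IsLocalization.mk' L a s - algebraMap R L (a * y) =
      IsLocalization.mk' L a s * algebraMap R L i := by
    have h1 : IsLocalization.mk' L a s * algebraMap R L s = algebraMap R L a :=
      IsLocalization.mk'_spec _ _ _
    have h2 : algebraMap R L i = 1 - algebraMap R L y * algebraMap R L s := by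
      rw [← map_mul, ← map_one (algebraMap R L), ← map_sub]
      congr 1
      rw [← hy]
      ring
    rw [h2, map_mul, ← h1]
    ring
  rw [e]
  exact Ideal.mul_mem_left _ _ (Ideal.mem_map_of_mem _ hi)

theorem isPrecomplete_localization {R : Type*} [CommRing R] (M : Ideal R) [hM : M.IsMaximal]
    [IsPrecomplete M R] :
    IsPrecomplete (IsLocalRing.maximalIdeal (Localization.AtPrime M)) (Localization.AtPrime M) := by
  have hmax : ∀ n : ℕ, (IsLocalRing.maximalIdeal (Localization.AtPrime M)) ^ n =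
      (M ^ n).map (algebraMap R (Localization.AtPrime M)) := by
    intro n
    rw [Ideal.map_pow, Localization.AtPrime.map_eq_maximalIdeal]
  constructor
  intro f hf
  have hf' : ∀ {m n : ℕ}, m ≤ n → f m - f n ∈ (M ^ m).map (algebraMap R (Localization.AtPrime M)) := by
    intro m n hmn
    rw [← hmax]
    exact (smodEq_iff _ _ _).mp (hf hmn)
  choose r hr using fun n => exists_sub_mem_map M n (f n)
  obtain ⟨L, hL⟩ := IsPrecomplete.prec' (I := M) (M := R) r (by
    intro m n hmn
    rw [smodEq_iff]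
    apply mem_pow_of_algebraMap_mem M m
    have e : algebraMap R (Localization.AtPrime M) (r m - r n) =
        (f m - f n) - (f m - algebraMap R (Localization.AtPrime M) (r m)) +
          (f n - algebraMap R (Localization.AtPrime M) (r n)) := by
      rw [map_sub]
      ring
    rw [e]
    refine Ideal.add_mem _ (Ideal.sub_mem _ (hf' hmn) (hr m)) ?_
    exact Ideal.map_mono (Ideal.pow_le_pow_right hmn) (hr n))
  refine ⟨algebraMap R (Localization.AtPrime M) L, fun n => ?_⟩
  rw [smodEq_iff, hmax]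
  have e : f n - algebraMap R (Localization.AtPrime M) L =
      (f n - algebraMap R (Localization.AtPrime M) (r n)) +
        algebraMap R (Localization.AtPrime M) (r n - L) := by
    rw [map_sub]
    ring
  rw [e]
  exact Ideal.add_mem _ (hr n) (Ideal.mem_map_of_mem _ ((smodEq_iff _ _ _).mp (hL n)))

theorem isPrecomplete_jacobson_of_artinian {R : Type*} [CommRing R] (J : Ideal R)
    (hJ : J ≤ Ideal.jacobson ⊥) [IsArtinianRing (R ⧸ J)] [IsPrecomplete J R] :
    IsPrecomplete (Ideal.jacobson (⊥ : Ideal R)) R := by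
  have hsurj := Ideal.Quotient.mk_surjective (I := J)
  have hjac : (Ideal.jacobson (⊥ : Ideal R)).map (Ideal.Quotient.mk J) ≤ Ideal.jacobson ⊥ := by
    refine le_sInf ?_
    rintro M ⟨-, hM⟩
    rw [Ideal.map_le_iff_le_comap]
    have hcm : (M.comap (Ideal.Quotient.mk J)).IsMaximal :=
      Ideal.comap_isMaximal_of_surjective _ hsurj
    exact sInf_le ⟨bot_le, hcm⟩
  obtain ⟨c, hc⟩ := IsArtinianRing.isNilpotent_jacobson_bot (R := R ⧸ J)
  have hpow : (Ideal.jacobson (⊥ : Ideal R)) ^ c ≤ J := by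
    have h1 : ((Ideal.jacobson (⊥ : Ideal R)) ^ c).map (Ideal.Quotient.mk J) = ⊥ := by
      rw [Ideal.map_pow, eq_bot_iff]
      have h2 := Ideal.pow_right_mono hjac c
      rw [hc] at h2
      exact h2
    rw [Ideal.map_eq_bot_iff_le_ker, Ideal.mk_ker] at h1
    exact h1
  constructor
  intro f hf
  have hf' : ∀ {m n : ℕ}, m ≤ n → f m - f n ∈ (Ideal.jacobson (⊥ : Ideal R)) ^ m := by
    intro m n hmn
    exact (smodEq_iff _ _ _).mp (hf hmn)
  obtain ⟨L, hL⟩ := IsPrecomplete.prec' (I := J) (M := R) (fun n => f ((c + 1) * n)) (by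
    intro m n hmn
    rw [smodEq_iff]
    have h1 : f ((c + 1) * m) - f ((c + 1) * n) ∈ (Ideal.jacobson (⊥ : Ideal R)) ^ ((c + 1) * m) :=
      hf' (Nat.mul_le_mul_left _ hmn)
    rw [pow_mul] at h1
    exact Ideal.pow_right_mono ((Ideal.pow_le_pow_right (Nat.le_succ c)).trans hpow) m h1)
  refine ⟨L, fun n => ?_⟩
  rw [smodEq_iff]
  have h1 : f n - f ((c + 1) * n) ∈ (Ideal.jacobson (⊥ : Ideal R)) ^ n := hf' (by nlinarith)
  have h2 : f ((c + 1) * n) - L ∈ (Ideal.jacobson (⊥ : Ideal R)) ^ n :=
    Ideal.pow_right_mono hJ n ((smodEq_iff _ _ _).mp (hL n))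
  have h4 : f n - L = (f n - f ((c + 1) * n)) + (f ((c + 1) * n) - L) := by ring
  rw [h4]
  exact Ideal.add_mem _ h1 h2

theorem isAdicComplete_localization {R : Type*} [CommRing R] [IsNoetherianRing R]
    [Finite (MaximalSpectrum R)]
    [IsPrecomplete (Ideal.jacobson (⊥ : Ideal R)) R] (M : Ideal R) [hM : M.IsMaximal] :
    IsAdicComplete (IsLocalRing.maximalIdeal (Localization.AtPrime M)) (Localization.AtPrime M) := by
  have := isPrecomplete_of_jacobson M
  have := isPrecomplete_localization M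
  have : IsNoetherianRing (Localization.AtPrime M) :=
    IsLocalization.isNoetherianRing M.primeCompl _ inferInstance
  exact { }

end Groth.Agent.Lib.Helper63.SemilocalComplete
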