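import Mathlib
import Groth.Prelude.Def_EGA4c
import Groth.Agent.Lib.Helper63.CTensor2
import Groth.Agent.Lib.Helper63.SemilocalComplete
import Groth.Agent.Lib.Helper67.FlatDim

set_option autoImplicit false
universe u
open TensorProduct

namespace Groth.Agent.Lib.Helper63.CTensor

attribute [local instance] Algebra.TensorProduct.rightAlgebra

section main3

variable (k A B : Type u) [Field k] [CommRing A] [CommRing B] [Algebra k A] [Algebra k B]
    [IsLocalRing A] [IsLocalRing B] [Module.Finite k (IsLocalRing.ResidueField A)]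
    [IsNoetherianRing A] [IsNoetherianRing B]

omit [Module.Finite k (IsLocalRing.ResidueField A)] in
theorem isAdicComplete_r : IsAdicComplete ((EGA4.cTensorIdeal k A B).map
    (algebraMap (A ⊗[k] B) (EGA4.CTensor k A B))) (EGA4.CTensor k A B) :=
  (IsAdicComplete.map_algebraMap_iff (S := EGA4.CTensor k A B) _ _).mpr
    (AdicCompletion.isAdicComplete (fg_r k A B))

omit [Module.Finite k (IsLocalRing.ResidueField A)] in
theorem isAdicComplete_mapA : IsAdicComplete ((IsLocalRing.maximalIdeal A).map
    (algebraMap A (EGA4.CTensor k A B))) (EGA4.CTensor k A B) := by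
  have h2 := isAdicComplete_r k A B
  exact Groth.Agent.Lib.Helper61.CompleteLE.isAdicComplete_of_le _ _ (map_mA_le k A B)
    (Ideal.FG.map (IsNoetherian.noetherian _) _)

theorem artinian_quot_r : IsArtinianRing (EGA4.CTensor k A B ⧸ (EGA4.cTensorIdeal k A B).map
    (algebraMap (A ⊗[k] B) (EGA4.CTensor k A B))) := by
  have hA := artinian_D k A B
  let eD : ((A ⊗[k] B) ⧸ EGA4.cTensorIdeal k A B) ≃+*
      ((A ⧸ IsLocalRing.maximalIdeal A) ⊗[k] (B ⧸ IsLocalRing.maximalIdeal B)) :=
    (Ideal.quotEquivOfEq (ker_phi k A B).symm).trans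
      (RingHom.quotientKerEquivOfSurjective (f := (phi k A B).toRingHom) (phi_surjective k A B))
  have hker : RingHom.ker (AdicCompletion.evalOneₐ (EGA4.cTensorIdeal k A B)).toRingHom =
      (EGA4.cTensorIdeal k A B).map (algebraMap (A ⊗[k] B) (EGA4.CTensor k A B)) :=
    AdicCompletion.ker_evalOneₐ_eq_map _ (fg_r k A B)
  let e : (EGA4.CTensor k A B ⧸ (EGA4.cTensorIdeal k A B).map
      (algebraMap (A ⊗[k] B) (EGA4.CTensor k A B))) ≃+*
      ((A ⊗[k] B) ⧸ EGA4.cTensorIdeal k A B) :=
    (Ideal.quotEquivOfEq hker.symm).trans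
      (RingHom.quotientKerEquivOfSurjective
        (f := (AdicCompletion.evalOneₐ (EGA4.cTensorIdeal k A B)).toRingHom)
        (AdicCompletion.evalOneₐ_surjective _))
  exact (e.trans eD).symm.isArtinianRing

theorem isPrecomplete_jacobson :
    IsPrecomplete (Ideal.jacobson (⊥ : Ideal (EGA4.CTensor k A B))) (EGA4.CTensor k A B) := by
  have := artinian_quot_r k A B
  have := (isAdicComplete_r k A B).toIsPrecomplete
  exact Groth.Agent.Lib.Helper63.SemilocalComplete.isPrecomplete_jacobson_of_artinian _
    (Groth.Agent.Lib.Helper63.ComplRing.map_le_jacobson _ (fg_r k A B))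

theorem isAdicComplete_loc (M : Ideal (EGA4.CTensor k A B)) [M.IsMaximal] :
    IsAdicComplete (IsLocalRing.maximalIdeal (Localization.AtPrime M)) (Localization.AtPrime M) := by
  have := noeth_C k A B
  have := finite_maxSpec k A B
  have := isPrecomplete_jacobson k A B
  exact Groth.Agent.Lib.Helper63.SemilocalComplete.isAdicComplete_localization M

omit [Module.Finite k (IsLocalRing.ResidueField A)] in
theorem map_mA_le_maximal (M : Ideal (EGA4.CTensor k A B)) [hM : M.IsMaximal] :
    (IsLocalRing.maximalIdeal A).map (algebraMap A (EGA4.CTensor k A B)) ≤ M :=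
  (map_mA_le_jacobson k A B).trans (sInf_le ⟨bot_le, hM⟩)

omit [Module.Finite k (IsLocalRing.ResidueField A)] in
theorem map_mA_loc_le (M : Ideal (EGA4.CTensor k A B)) [hM : M.IsMaximal] :
    (IsLocalRing.maximalIdeal A).map (algebraMap A (Localization.AtPrime M)) ≤
      IsLocalRing.maximalIdeal (Localization.AtPrime M) := by
  rw [Ideal.map_le_iff_le_comap]
  intro a ha
  rw [Ideal.mem_comap, IsScalarTower.algebraMap_apply A (EGA4.CTensor k A B) (Localization.AtPrime M),
    ← Localization.AtPrime.map_eq_maximalIdeal]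
  exact Ideal.mem_map_of_mem _ (map_mA_le_maximal k A B M (Ideal.mem_map_of_mem _ ha))

omit [Module.Finite k (IsLocalRing.ResidueField A)] in
theorem isLocalHom_loc (M : Ideal (EGA4.CTensor k A B)) [hM : M.IsMaximal] :
    IsLocalHom (algebraMap A (Localization.AtPrime M)) := by
  constructor
  intro a ha
  by_contra hna
  have h1 : a ∈ IsLocalRing.maximalIdeal A := hna
  have h3 := map_mA_loc_le k A B M (Ideal.mem_map_of_mem _ h1)
  exact h3 ha

variable [IsAdicComplete (IsLocalRing.maximalIdeal B) B]

theorem flat_loc (M : Ideal (EGA4.CTensor k A B)) [hM : M.IsMaximal] :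
    Module.Flat A (Localization.AtPrime M) := by
  have := flat_A k A B
  have : Module.Flat (EGA4.CTensor k A B) (Localization.AtPrime M) :=
    IsLocalization.flat _ M.primeCompl
  exact Module.Flat.trans A (EGA4.CTensor k A B) (Localization.AtPrime M)

theorem faithfullyFlat_loc (M : Ideal (EGA4.CTensor k A B)) [hM : M.IsMaximal] :
    Module.FaithfullyFlat A (Localization.AtPrime M) := by
  have := flat_loc k A B M
  have := isLocalHom_loc k A B M
  exact Module.FaithfullyFlat.of_flat_of_isLocalHom

theorem fibre_dim [IsArtinianRing B] (M : Ideal (EGA4.CTensor k A B)) [hM : M.IsMaximal] :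
    ringKrullDim (Localization.AtPrime M ⧸
      (IsLocalRing.maximalIdeal A).map (algebraMap A (Localization.AtPrime M))) = 0 := by
  have hnt : Nontrivial (Localization.AtPrime M ⧸
      (IsLocalRing.maximalIdeal A).map (algebraMap A (Localization.AtPrime M))) := by
    rw [Ideal.Quotient.nontrivial_iff]
    intro h
    have h1 := map_mA_loc_le k A B M
    rw [h] at h1
    exact (IsLocalRing.maximalIdeal.isMaximal _).ne_top (top_le_iff.mp h1)
  rw [← ringKrullDimZero_iff_ringKrullDim_eq_zero,
    Ideal.krullDimLE_zero_quotient_iff_forall_minimalPrimes_isMaximal]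
  intro P hP
  have hPp : P.IsPrime := hP.1.1
  have hPle : (IsLocalRing.maximalIdeal A).map (algebraMap A (Localization.AtPrime M)) ≤ P := hP.1.2
  have hp1 : (IsLocalRing.maximalIdeal A).map (algebraMap A (EGA4.CTensor k A B)) ≤
      P.comap (algebraMap (EGA4.CTensor k A B) (Localization.AtPrime M)) := by
    rw [Ideal.map_le_iff_le_comap]
    intro a ha
    rw [Ideal.mem_comap, Ideal.mem_comap, ← IsScalarTower.algebraMap_apply]
    exact hPle (Ideal.mem_map_of_mem _ ha)
  have hker : RingHom.ker (PsiN k A B 1) ≤
      P.comap (algebraMap (EGA4.CTensor k A B) (Localization.AtPrime M)) := by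
    rw [ker_PsiN, pow_one]
    exact hp1
  have hpp : (P.comap (algebraMap (EGA4.CTensor k A B) (Localization.AtPrime M))).IsPrime :=
    Ideal.comap_isPrime _ _
  have hqp : ((P.comap (algebraMap (EGA4.CTensor k A B) (Localization.AtPrime M))).map
      (PsiN k A B 1)).IsPrime :=
    Ideal.map_isPrime_of_surjective (PsiN_surjective k A B 1) hker
  have hfinA : Module.Finite k (A ⧸ (IsLocalRing.maximalIdeal A) ^ 1) := finite_quot_pow k A 1
  have hfin : Module.Finite B ((A ⧸ (IsLocalRing.maximalIdeal A) ^ 1) ⊗[k] B) :=
    finite_right k _ B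
  have hart : IsArtinianRing ((A ⧸ (IsLocalRing.maximalIdeal A) ^ 1) ⊗[k] B) :=
    IsArtinianRing.of_finite B _
  have hqm := IsArtinianRing.isMaximal_of_isPrime
    ((P.comap (algebraMap (EGA4.CTensor k A B) (Localization.AtPrime M))).map (PsiN k A B 1))
  have hpm : (P.comap (algebraMap (EGA4.CTensor k A B) (Localization.AtPrime M))).IsMaximal := by
    have h1 := Ideal.comap_isMaximal_of_surjective (PsiN k A B 1) (PsiN_surjective k A B 1)
      (K := (P.comap (algebraMap (EGA4.CTensor k A B) (Localization.AtPrime M))).map (PsiN k A B 1))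
    have hker' : Ideal.comap (PsiN k A B 1) ⊥ ≤
        P.comap (algebraMap (EGA4.CTensor k A B) (Localization.AtPrime M)) := hker
    rw [Ideal.comap_map_of_surjective _ (PsiN_surjective k A B 1), sup_eq_left.mpr hker'] at h1
    exact h1
  have hpM : P.comap (algebraMap (EGA4.CTensor k A B) (Localization.AtPrime M)) ≤ M := by
    have h1 : P ≤ IsLocalRing.maximalIdeal (Localization.AtPrime M) :=
      IsLocalRing.le_maximalIdeal hPp.ne_top
    have h2 := Ideal.comap_mono (f := algebraMap (EGA4.CTensor k A B) (Localization.AtPrime M)) h1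
    have h3 : (IsLocalRing.maximalIdeal (Localization.AtPrime M)).comap
        (algebraMap (EGA4.CTensor k A B) (Localization.AtPrime M)) = M :=
      Localization.AtPrime.under_maximalIdeal
    rw [h3] at h2
    exact h2
  have hpeq := hpm.eq_of_le hM.ne_top hpM
  have hPeq : P = IsLocalRing.maximalIdeal (Localization.AtPrime M) := by
    have hmc : (P.comap (algebraMap (EGA4.CTensor k A B) (Localization.AtPrime M))).map
        (algebraMap (EGA4.CTensor k A B) (Localization.AtPrime M)) = P :=
      IsLocalization.map_under M.primeCompl (Localization.AtPrime M) P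
    rw [← hmc, hpeq, Localization.AtPrime.map_eq_maximalIdeal]
  rw [hPeq]
  exact IsLocalRing.maximalIdeal.isMaximal _

theorem dim_loc [IsArtinianRing B] (M : Ideal (EGA4.CTensor k A B)) [hM : M.IsMaximal] :
    ringKrullDim (Localization.AtPrime M) = ringKrullDim A := by
  have hN := noeth_C k A B
  have : IsNoetherianRing (Localization.AtPrime M) :=
    IsLocalization.isNoetherianRing M.primeCompl _ hN
  have := isLocalHom_loc k A B M
  have := flat_loc k A B M
  have hfib := fibre_dim k A B M
  have h := Groth.Agent.Lib.Helper67.FlatDim.supportDim_tensor_eq_add_quotient (R := A)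
    (S := Localization.AtPrime M) (Localization.AtPrime M) A
  have hJ : (IsLocalRing.maximalIdeal A).map (algebraMap A (Localization.AtPrime M)) •
      (⊤ : Submodule (Localization.AtPrime M) (Localization.AtPrime M)) =
      (IsLocalRing.maximalIdeal A).map (algebraMap A (Localization.AtPrime M)) := by
    rw [smul_eq_mul, Ideal.mul_top]
  rw [Module.supportDim_eq_of_equiv
      (TensorProduct.AlgebraTensorModule.rid A (Localization.AtPrime M) (Localization.AtPrime M)),
    Module.supportDim_self_eq_ringKrullDim, Module.supportDim_self_eq_ringKrullDim,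
    Module.supportDim_eq_of_equiv (Submodule.quotEquivOfEq _ _ hJ),
    Module.supportDim_quotient_eq_ringKrullDim, hfib, add_zero] at h
  exact h

theorem finite_residue (M : Ideal (EGA4.CTensor k A B)) [hM : M.IsMaximal] :
    (((Ideal.Quotient.mk M).comp (algebraMap (A ⊗[k] B) (EGA4.CTensor k A B))).comp
      (Algebra.TensorProduct.includeRight : B →ₐ[k] A ⊗[k] B).toRingHom).Finite := by
  have h := finite_quot k A B M
  exact RingHom.finite_algebraMap.mpr h

theorem main_S5993 :
    IsNoetherianRing (EGA4.CTensor k A B) ∧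
      Finite (MaximalSpectrum (EGA4.CTensor k A B)) ∧
      IsAdicComplete ((IsLocalRing.maximalIdeal A).map (algebraMap A (EGA4.CTensor k A B)))
        (EGA4.CTensor k A B) ∧
      ∀ M : MaximalSpectrum (EGA4.CTensor k A B),
        IsAdicComplete (IsLocalRing.maximalIdeal (Localization.AtPrime M.asIdeal))
            (Localization.AtPrime M.asIdeal) ∧
          Module.FaithfullyFlat A (Localization.AtPrime M.asIdeal) ∧
          (IsArtinianRing B → ringKrullDim (Localization.AtPrime M.asIdeal) = ringKrullDim A) ∧
          (((Ideal.Quotient.mk M.asIdeal).comp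
            (algebraMap (A ⊗[k] B) (EGA4.CTensor k A B))).comp
              (Algebra.TensorProduct.includeRight : B →ₐ[k] A ⊗[k] B).toRingHom).Finite := by
  refine ⟨noeth_C k A B, finite_maxSpec k A B, isAdicComplete_mapA k A B, fun M => ?_⟩
  have := M.isMaximal
  exact ⟨isAdicComplete_loc k A B M.asIdeal, faithfullyFlat_loc k A B M.asIdeal,
    fun _ => dim_loc k A B M.asIdeal, finite_residue k A B M.asIdeal⟩

end main3

end Groth.Agent.Lib.Helper63.CTensor
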