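import Groth.Agent.Lib.Helper26.AffineVanishing

set_option autoImplicit false
universe u

open CategoryTheory TopologicalSpace Opposite CategoryTheory.Limits AlgebraicGeometry

namespace Groth.Agent.Lib.Helper63.CohDimCover

open Groth.Agent.Lib.Helper26.MVTop Groth.Agent.Lib.Helper26.AffineVanishing

variable {X : Scheme.{u}}

def lsup (L : List X.Opens) : X.Opens := L.foldr (· ⊔ ·) ⊥

theorem lsup_nil : lsup ([] : List X.Opens) = ⊥ := rfl

theorem lsup_cons (V : X.Opens) (L : List X.Opens) : lsup (V :: L) = V ⊔ lsup L := rfl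

theorem le_lsup_of_mem {L : List X.Opens} {V : X.Opens} (h : V ∈ L) : V ≤ lsup L := by
  induction L with
  | nil => exact absurd h (by simp)
  | cons W L ih =>
    rw [lsup_cons]
    rcases List.mem_cons.1 h with rfl | h
    · exact le_sup_left
    · exact (ih h).trans le_sup_right

theorem inf_lsup (V : X.Opens) (L : List X.Opens) :
    V ⊓ lsup L = lsup (L.map (fun W => V ⊓ W)) := by
  induction L with
  | nil => simp [lsup_nil]
  | cons W L ih =>
    rw [lsup_cons, List.map_cons, lsup_cons, inf_sup_left, ih]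

theorem subsingleton_HU_lsup (M : X.Modules) [M.IsQuasicoherent] (𝒜 : Set X.Opens)
    (hA : ∀ U ∈ 𝒜, IsAffineOpen U) (hinf : ∀ U ∈ 𝒜, ∀ V ∈ 𝒜, U ⊓ V ∈ 𝒜) :
    ∀ (k : ℕ) (L : List X.Opens), L.length = k + 1 → (∀ U ∈ L, U ∈ 𝒜) → ∀ q : ℕ, k + 1 ≤ q →
      Subsingleton (CohTop.HU (Coh.toAb M) q (lsup L)) := by
  intro k
  induction k with
  | zero =>
    intro L hL hmem q hq
    obtain ⟨V, rfl⟩ := List.length_eq_one_iff.1 hL
    obtain ⟨n, rfl⟩ := Nat.exists_eq_succ_of_ne_zero (by omega : q ≠ 0)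
    have h1 : lsup [V] = V := by rw [lsup_cons, lsup_nil, sup_bot_eq]
    rw [h1]
    exact subsingleton_HU_succ M n (hA V (hmem V (by simp)))
  | succ k ih =>
    intro L hL hmem q hq
    obtain ⟨n, rfl⟩ := Nat.exists_eq_succ_of_ne_zero (by omega : q ≠ 0)
    match L, hL, hmem with
    | [], hL, _ => simp at hL
    | V :: L', hL, hmem =>
      have hL' : L'.length = k + 1 := by simpa using hL
      have hVA : V ∈ 𝒜 := hmem V (by simp)
      have hmem' : ∀ U ∈ L', U ∈ 𝒜 := fun U hU => hmem U (List.mem_cons_of_mem _ hU)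
      rw [lsup_cons]
      have i1 : Subsingleton (CohTop.HU (Coh.toAb M) n (V ⊓ lsup L')) := by
        rw [inf_lsup]
        refine ih (L'.map (fun W => V ⊓ W)) (by simpa using hL') ?_ n (by omega)
        intro U hU
        obtain ⟨W, hW, rfl⟩ := List.mem_map.1 hU
        exact hinf V hVA W (hmem' W hW)
      have i2 : Subsingleton (CohTop.HU (Coh.toAb M) (n + 1) V) :=
        subsingleton_HU_succ M n (hA V hVA)
      have i3 : Subsingleton (CohTop.HU (Coh.toAb M) (n + 1) (lsup L')) :=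
        ih L' hL' hmem' (n + 1) (by omega)
      have key : ∀ α : CohTop.HU (Coh.toAb M) (n + 1) (V ⊔ lsup L'), α = 0 := fun α =>
        eq_zero_of_sup (Coh.toAb M) V (lsup L') n
          (fun β => exists_sub_of_subsingleton (Coh.toAb M) V (lsup L') n β) α
          (Subsingleton.elim _ _) (Subsingleton.elim _ _)
      exact ⟨fun a b => (key a).trans (key b).symm⟩

theorem subsingleton_HH_of_list (M : X.Modules) [M.IsQuasicoherent] (𝒜 : Set X.Opens)
    (hA : ∀ U ∈ 𝒜, IsAffineOpen U) (hinf : ∀ U ∈ 𝒜, ∀ V ∈ 𝒜, U ⊓ V ∈ 𝒜)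
    (L : List X.Opens) (hL : ∀ U ∈ L, U ∈ 𝒜) (hcov : ⊤ ≤ lsup L) (hne : L ≠ [])
    (q : ℕ) (hq : L.length ≤ q) : Subsingleton (Coh.HH X M q) := by
  obtain ⟨k, hk⟩ := Nat.exists_eq_succ_of_ne_zero
    (fun h => hne (List.length_eq_zero_iff.1 h) : L.length ≠ 0)
  have h1 := subsingleton_HU_lsup M 𝒜 hA hinf k L hk hL q (by omega)
  have h2 : lsup L = ⊤ := top_le_iff.1 hcov
  rw [h2] at h1
  exact subsingleton_H_of_subsingleton_HU_top (Coh.toAb M) q

end Groth.Agent.Lib.Helper63.CohDimCover
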