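import Groth.Agent.Lib.Helper63.CohDimCover
import Groth.Agent.Lib.Helper93.PnCoh3

set_option autoImplicit false
universe u

open CategoryTheory TopologicalSpace Opposite CategoryTheory.Limits AlgebraicGeometry

namespace Groth.Agent.Lib.Helper63.CohDimProj

open Groth.Agent.Lib.Helper63.CohDimCover Groth.Agent.Lib.Helper93.PnCoh

theorem subsingleton_HH_of_affineHom_projSpace (n : ℕ) (R : Type u) [CommRing R]
    (X : Scheme.{u}) (ι : X ⟶ CohB1.ProjSpace n R) [IsAffineHom ι]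
    (F : X.Modules) [F.IsQuasicoherent] (q : ℕ) (hq : n + 1 ≤ q) :
    Subsingleton (Coh.HH X F q) := by
  classical
  let W : Idx.{u} n → (CohB1.ProjSpace n R).Opens := fun i => U n R i
  let 𝒜 : Set X.Opens := {V | ∃ s : Finset (Idx.{u} n), s.Nonempty ∧ V = ι ⁻¹ᵁ (⨅ i ∈ s, W i)}
  have hA : ∀ V ∈ 𝒜, IsAffineOpen V := by
    rintro V ⟨s, hs, rfl⟩
    have h0 : IsAffineOpen (⨅ i ∈ s, W i : (CohB1.ProjSpace n R).Opens) :=
      isAffineOpen_biInf_U n R s hs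
    exact h0.preimage ι
  have hinf : ∀ V ∈ 𝒜, ∀ V' ∈ 𝒜, V ⊓ V' ∈ 𝒜 := by
    rintro V ⟨s, hs, rfl⟩ V' ⟨t, ht, rfl⟩
    refine ⟨s ∪ t, hs.mono Finset.subset_union_left, ?_⟩
    rw [Finset.iInf_union]
    rfl
  let L : List X.Opens := (Finset.univ : Finset (Idx.{u} n)).toList.map (fun i => ι ⁻¹ᵁ W i)
  have hL : ∀ V ∈ L, V ∈ 𝒜 := by
    intro V hV
    obtain ⟨i, -, rfl⟩ := List.mem_map.1 hV
    exact ⟨{i}, Finset.singleton_nonempty i, by simp⟩
  have hcov : ⊤ ≤ lsup L := by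
    intro x _
    have h1 : ι x ∈ (⨆ i, W i : (CohB1.ProjSpace n R).Opens) := by
      have h2 : (⨆ i, W i : (CohB1.ProjSpace n R).Opens) = ⊤ := iSup_U n R
      rw [h2]; trivial
    obtain ⟨i, hi⟩ := Opens.mem_iSup.1 h1
    have h3 : ι ⁻¹ᵁ W i ≤ lsup L :=
      le_lsup_of_mem (List.mem_map.2 ⟨i, Finset.mem_toList.2 (Finset.mem_univ i), rfl⟩)
    exact h3 hi
  have hlen : L.length = n + 1 := by
    simp [L]
  have hne : L ≠ [] := by
    intro h
    rw [h] at hlen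
    simp at hlen
  exact subsingleton_HH_of_list F 𝒜 hA hinf L hL hcov hne q (by omega)

end Groth.Agent.Lib.Helper63.CohDimProj
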