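import Mathlib
import Groth.Agent.S6918

set_option autoImplicit false
universe u
open TensorProduct

namespace Groth.Agent.Lib.Helper63.ColimFlat

theorem isLocalizedModule_comp_atPrime {B D : Type u} [CommRing B] [CommRing D] [Algebra B D]
    (W : Submonoid B) [IsLocalization W D] {N L : Type u} [AddCommGroup N] [Module B N]
    [AddCommGroup L] [Module D L] [Module B L] [IsScalarTower B D L]
    (φ : N →ₗ[B] L) [IsLocalizedModule W φ] (q : Ideal D) [q.IsPrime] :
    IsLocalizedModule (q.comap (algebraMap B D)).primeCompl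
      (((LocalizedModule.mkLinearMap q.primeCompl L).restrictScalars B) ∘ₗ φ) := by
  have h1 : IsLocalization.AtPrime (Localization.AtPrime q) (q.comap (algebraMap B D)) :=
    IsLocalization.isLocalization_isLocalization_atPrime_isLocalization W
      (Localization.AtPrime q) q
  have hb1 : IsBaseChange D φ := (isLocalizedModule_iff_isBaseChange W D φ).1 inferInstance
  have hb2 : IsBaseChange (Localization.AtPrime q) (LocalizedModule.mkLinearMap q.primeCompl L) :=
    (isLocalizedModule_iff_isBaseChange q.primeCompl (Localization.AtPrime q) _).1 inferInstance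
  have hb3 := IsBaseChange.comp hb1 hb2
  exact (isLocalizedModule_iff_isBaseChange (q.comap (algebraMap B D)).primeCompl
    (Localization.AtPrime q) _).2 hb3

theorem flat_localized_iff {C B D : Type u} [CommRing C] [CommRing B] [CommRing D] [Algebra B D]
    [Algebra C B] [Algebra C D] [IsScalarTower C B D]
    (W : Submonoid B) [IsLocalization W D] {N L : Type u} [AddCommGroup N] [Module B N]
    [Module C N] [IsScalarTower C B N]
    [AddCommGroup L] [Module D L] [Module B L] [IsScalarTower B D L] [Module C L]
    [IsScalarTower C D L] [IsScalarTower C B L]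
    (φ : N →ₗ[B] L) [IsLocalizedModule W φ] (q : Ideal D) [q.IsPrime] :
    Module.Flat C (LocalizedModule q.primeCompl L) ↔
      Module.Flat C (LocalizedModule (q.comap (algebraMap B D)).primeCompl N) := by
  have := isLocalizedModule_comp_atPrime W φ q
  let e := IsLocalizedModule.iso (q.comap (algebraMap B D)).primeCompl
    (((LocalizedModule.mkLinearMap q.primeCompl L).restrictScalars B) ∘ₗ φ)
  exact (Module.Flat.equiv_iff (e.restrictScalars C)).symm

theorem flat_tensor_localized_iff {C C' B B' : Type u} [CommRing C] [CommRing C'] [CommRing B]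
    [CommRing B'] [Algebra C C'] [Algebra C B] [Algebra C B'] [Algebra C' B'] [Algebra B B']
    [IsScalarTower C C' B'] [IsScalarTower C B B'] [Algebra.IsPushout C C' B B']
    (W : Submonoid B) {N Y N' Y' : Type u} [AddCommGroup N] [Module B N]
    [AddCommGroup Y] [Module B Y] [Module C Y] [IsScalarTower C B Y]
    (lam : N →ₗ[B] Y) [IsLocalizedModule W lam]
    [AddCommGroup N'] [Module B' N'] [Module B N'] [IsScalarTower B B' N']
    (φ : N →ₗ[B] N') (hφ : IsBaseChange B' φ)
    [AddCommGroup Y'] [Module B' Y'] [Module C' Y'] [IsScalarTower C' B' Y']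
    (lam' : N' →ₗ[B'] Y') [IsLocalizedModule (Algebra.algebraMapSubmonoid B' W) lam'] :
    Module.Flat C' Y' ↔ Module.Flat C' (C' ⊗[C] Y) := by
  let f₁ : N' →ₗ[B'] B' ⊗[B] Y := (lam.baseChange B') ∘ₗ hφ.equiv.symm.toLinearMap
  have i1 : IsLocalizedModule (Algebra.algebraMapSubmonoid B' W) (lam.baseChange B') :=
    Groth.Agent.S6918.isLocalizedModule_baseChange W lam
  have i2 : IsLocalizedModule (Algebra.algebraMapSubmonoid B' W) f₁ := inferInstance
  let e₁ : B' ⊗[B] Y ≃ₗ[B'] Y' :=
    IsLocalizedModule.linearEquiv (Algebra.algebraMapSubmonoid B' W) f₁ lam'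
  let e₂ : B' ⊗[B] Y ≃ₗ[C'] C' ⊗[C] Y := Algebra.IsPushout.cancelBaseChange C C' B B' Y
  rw [← Module.Flat.equiv_iff (e₁.restrictScalars C'), Module.Flat.equiv_iff e₂]

theorem flat_atPrime_of_flat_away {C B : Type u} [CommRing C] [CommRing B] [Algebra C B]
    {N Y : Type u} [AddCommGroup N] [Module B N] [Module C N] [IsScalarTower C B N]
    [AddCommGroup Y] [Module B Y] [Module C Y] [IsScalarTower C B Y]
    (c : B) (lam : N →ₗ[B] Y) [IsLocalizedModule (Submonoid.powers c) lam]
    (hY : Module.Flat C Y) (p : Ideal B) [p.IsPrime] (hc : c ∉ p) :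
    Module.Flat C (LocalizedModule p.primeCompl N) := by
  have hle : Submonoid.powers c ≤ p.primeCompl := by
    rintro _ ⟨n, rfl⟩
    exact fun h => hc (Ideal.IsPrime.mem_of_pow_mem inferInstance n h)
  let ψ := IsLocalizedModule.liftOfLE (Submonoid.powers c) p.primeCompl hle lam
    (LocalizedModule.mkLinearMap p.primeCompl N)
  have i3 : IsLocalizedModule p.primeCompl ψ := inferInstance
  exact Groth.Agent.S6918.flat_of_isLocalizedModule p.primeCompl ψ

theorem flat_away_of_forall_prime {C B : Type u} [CommRing C] [CommRing B] [Algebra C B]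
    {N : Type u} [AddCommGroup N] [Module B N] [Module C N] [IsScalarTower C B N]
    (c : B)
    (h : ∀ (p : Ideal B) [p.IsPrime], c ∉ p → Module.Flat C (LocalizedModule p.primeCompl N)) :
    Module.Flat C (LocalizedModule (Submonoid.powers c) N) := by
  refine Module.flat_of_isLocalized_maximal (Localization.Away c)
    (LocalizedModule (Submonoid.powers c) N)
    (fun P _ => LocalizedModule P.primeCompl (LocalizedModule (Submonoid.powers c) N))
    (fun P _ => LocalizedModule.mkLinearMap P.primeCompl _) (fun P hP => ?_)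
  rw [flat_localized_iff (C := C) (Submonoid.powers c)
    (LocalizedModule.mkLinearMap (Submonoid.powers c) N) P]
  refine h _ (fun hcP => ?_)
  have hu : IsUnit (algebraMap B (Localization.Away c) c) :=
    IsLocalization.map_units (Localization.Away c) (⟨c, Submonoid.mem_powers c⟩ : Submonoid.powers c)
  exact hP.ne_top (Ideal.eq_top_of_isUnit_mem _ hcP hu)

end Groth.Agent.Lib.Helper63.ColimFlat
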