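import Mathlib
import Groth.Agent.Lib.Helper55.FL.ColimDescent
import Groth.Agent.Lib.Helper63.ColimFlat1

set_option autoImplicit false
universe u
open TensorProduct

namespace Groth.Agent.Lib.Helper63.ColimFlat

section sub

variable {ι : Type u} [Preorder ι] (G : ι → Type u) [∀ i, CommRing (G i)]
  (g : ∀ i j, i ≤ j → G i →+* G j)
  (R' : Type u) [CommRing R'] [∀ i, Algebra (G i) R']

theorem isDirectedColimitRing_ge (hcolim : FlatCA.IsDirectedColimitRing G g R') (i₀ : ι) :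
    FlatCA.IsDirectedColimitRing (fun j : {j : ι // i₀ ≤ j} => G j.1)
      (fun a b h => g a.1 b.1 h) R' := by
  obtain ⟨hdir, hne, hid, hcomp, hcompat, hsurj, hker⟩ := hcolim
  refine ⟨⟨fun a b => ?_⟩, ⟨⟨i₀, le_rfl⟩⟩, fun a => hid a.1, fun a b c hab hbc => hcomp _ _ _ hab hbc,
    fun a b h => hcompat _ _ h, fun x => ?_, fun a x hx => ?_⟩
  · obtain ⟨k, hak, hbk⟩ := hdir.directed a.1 b.1
    exact ⟨⟨k, a.2.trans hak⟩, hak, hbk⟩
  · obtain ⟨i, y, hy⟩ := hsurj x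
    obtain ⟨k, hik, h0k⟩ := hdir.directed i i₀
    refine ⟨⟨k, h0k⟩, g i k hik y, ?_⟩
    rw [← hy]
    exact RingHom.congr_fun (hcompat i k hik) y
  · obtain ⟨k, hk, hx0⟩ := hker a.1 x hx
    exact ⟨⟨k, a.2.trans hk⟩, hk, hx0⟩

theorem exists_stage_flat (hcolim : FlatCA.IsDirectedColimitRing G g R') (i : ι)
    {B₀ : Type u} [CommRing B₀] [Algebra (G i) B₀] [Algebra.FinitePresentation (G i) B₀]
    (M₀ : Type u) [AddCommGroup M₀] [Module B₀ M₀] [Module (G i) M₀] [IsScalarTower (G i) B₀ M₀]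
    [Module.FinitePresentation B₀ M₀]
    (hfl : Module.Flat R' (R' ⊗[G i] M₀)) :
    ∃ (j : ι) (h : i ≤ j), letI : Algebra (G i) (G j) := (g i j h).toAlgebra
      Module.Flat (G j) (G j ⊗[G i] M₀) := by
  obtain ⟨hdir, hne, hid, hcomp, hcompat, hsurj, hker⟩ := id hcolim
  let alg : ∀ j : {j : ι // i ≤ j}, Algebra (G i) (G j.1) := fun j => (g i j.1 j.2).toAlgebra
  have tow : ∀ j : {j : ι // i ≤ j}, IsScalarTower (G i) (G j.1) R' := fun j =>
    IsScalarTower.of_algebraMap_eq fun x => (RingHom.congr_fun (hcompat i j.1 j.2) x).symm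
  have hgA : ∀ (a b : {j : ι // i ≤ j}) (h : a ≤ b),
      (g a.1 b.1 h).comp (algebraMap (G i) (G a.1)) = algebraMap (G i) (G b.1) :=
    fun a b h => hcomp i a.1 b.1 a.2 h
  obtain ⟨j, hj⟩ := (Groth.Agent.Lib.Helper55.FL.flat_colim_iff
    (A₀ := G i) (fun j : {j : ι // i ≤ j} => G j.1) (fun a b h => g a.1 b.1 h) hgA R'
    (isDirectedColimitRing_ge G g R' hcolim i) (B₀ := B₀) M₀).1 hfl
  exact ⟨j.1, j.2, hj⟩

end sub

end Groth.Agent.Lib.Helper63.ColimFlat
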