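import Mathlib
import Groth.Agent.Lib.Helper63.ColimFlat2
import Groth.Agent.Lib.Helper55.FL.ModOpen

set_option autoImplicit false
set_option linter.unusedSectionVars false
universe u
open TensorProduct

namespace Groth.Agent.Lib.Helper63.ColimFlat

attribute [local instance] Algebra.TensorProduct.rightAlgebra

section bc

variable {R S₀ : Type u} [CommRing R] [CommRing S₀] [Algebra R S₀]
  (M₀ : Type u) [AddCommGroup M₀] [Module S₀ M₀]
  {C C' : Type u} [CommRing C] [CommRing C'] [Algebra R C] [Algebra R C'] [Algebra C C']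
  [IsScalarTower R C C']

theorem flat_model_iff (θ : C →ₐ[R] C') (hθ : ∀ x, θ x = algebraMap C C' x) (x : C ⊗[R] S₀) :
    Module.Flat C' (LocalizedModule
        (Submonoid.powers (Algebra.TensorProduct.map θ (AlgHom.id R S₀) x))
        ((C' ⊗[R] S₀) ⊗[S₀] M₀)) ↔
      Module.Flat C' (C' ⊗[C] LocalizedModule (Submonoid.powers x) ((C ⊗[R] S₀) ⊗[S₀] M₀)) := by
  let ρ : C ⊗[R] S₀ →ₐ[R] C' ⊗[R] S₀ := Algebra.TensorProduct.map θ (AlgHom.id R S₀)
  let algBB' : Algebra (C ⊗[R] S₀) (C' ⊗[R] S₀) := ρ.toRingHom.toAlgebra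
  have t1 : IsScalarTower C C' (C' ⊗[R] S₀) := inferInstance
  have t2 : IsScalarTower C (C ⊗[R] S₀) (C' ⊗[R] S₀) := IsScalarTower.of_algebraMap_eq fun c => by
    show algebraMap C (C' ⊗[R] S₀) c = ρ (algebraMap C (C ⊗[R] S₀) c)
    simp [ρ, Algebra.TensorProduct.algebraMap_apply, hθ]
  have t3 : IsScalarTower S₀ (C ⊗[R] S₀) (C' ⊗[R] S₀) := IsScalarTower.of_algebraMap_eq fun s => by
    show algebraMap S₀ (C' ⊗[R] S₀) s = ρ (algebraMap S₀ (C ⊗[R] S₀) s)
    simp [ρ, Algebra.TensorProduct.right_algebraMap_apply]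
  have t4 : IsScalarTower R (C ⊗[R] S₀) (C' ⊗[R] S₀) := IsScalarTower.of_algebraMap_eq fun r => by
    show algebraMap R (C' ⊗[R] S₀) r = ρ (algebraMap R (C ⊗[R] S₀) r)
    rw [AlgHom.commutes]
  have hpo : Algebra.IsPushout C C' (C ⊗[R] S₀) (C' ⊗[R] S₀) :=
    (Algebra.IsPushout.comp_iff (R := R) (S := C) (T := C') (R' := S₀) (S' := C ⊗[R] S₀)
      (T' := C' ⊗[R] S₀)).1 inferInstance
  let φ : (C ⊗[R] S₀) ⊗[S₀] M₀ →ₗ[C ⊗[R] S₀] (C' ⊗[R] S₀) ⊗[S₀] M₀ :=
    (TensorProduct.isBaseChange S₀ M₀ (C ⊗[R] S₀)).lift (TensorProduct.mk S₀ (C' ⊗[R] S₀) M₀ 1)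
  have hφ : IsBaseChange (C' ⊗[R] S₀) φ := by
    refine IsBaseChange.of_comp (TensorProduct.isBaseChange S₀ M₀ (C ⊗[R] S₀)) ?_
    rw [IsBaseChange.lift_comp]
    exact TensorProduct.isBaseChange S₀ M₀ (C' ⊗[R] S₀)
  have hloc : IsLocalizedModule (Algebra.algebraMapSubmonoid (C' ⊗[R] S₀) (Submonoid.powers x))
      (LocalizedModule.mkLinearMap (Submonoid.powers (ρ x)) ((C' ⊗[R] S₀) ⊗[S₀] M₀)) := by
    rw [Algebra.algebraMapSubmonoid_powers]
    exact inferInstanceAs (IsLocalizedModule (Submonoid.powers (ρ x))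
      (LocalizedModule.mkLinearMap (Submonoid.powers (ρ x)) ((C' ⊗[R] S₀) ⊗[S₀] M₀)))
  exact flat_tensor_localized_iff (C := C) (C' := C') (N := (C ⊗[R] S₀) ⊗[S₀] M₀)
    (Y := LocalizedModule (Submonoid.powers x) ((C ⊗[R] S₀) ⊗[S₀] M₀))
    (N' := (C' ⊗[R] S₀) ⊗[S₀] M₀)
    (Y' := LocalizedModule (Submonoid.powers (ρ x)) ((C' ⊗[R] S₀) ⊗[S₀] M₀))
    (Submonoid.powers x)
    (LocalizedModule.mkLinearMap (Submonoid.powers x) ((C ⊗[R] S₀) ⊗[S₀] M₀)) φ hφ
    (LocalizedModule.mkLinearMap (Submonoid.powers (ρ x)) ((C' ⊗[R] S₀) ⊗[S₀] M₀))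

end bc

section sys

variable {R : Type u} (S₀ : Type u) [CommRing R] [CommRing S₀] [Algebra R S₀]
  {ι : Type u} [Preorder ι] (G : ι → Type u) [∀ i, CommRing (G i)] [∀ i, Algebra R (G i)]
  (g : ∀ i j, i ≤ j → G i →+* G j)
  (hgR : ∀ i j (h : i ≤ j), (g i j h).comp (algebraMap R (G i)) = algebraMap R (G j))
  (R' : Type u) [CommRing R'] [Algebra R R'] [∀ i, Algebra (G i) R']
  [∀ i, IsScalarTower R (G i) R']

def thetaHom (i j : ι) (h : i ≤ j) : G i →ₐ[R] G j :=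
  { g i j h with commutes' := fun r => RingHom.congr_fun (hgR i j h) r }

@[simp]
theorem thetaHom_apply (i j : ι) (h : i ≤ j) (x : G i) : thetaHom G g hgR i j h x = g i j h x := rfl

noncomputable def rho (i j : ι) (h : i ≤ j) : G i ⊗[R] S₀ →ₐ[R] G j ⊗[R] S₀ :=
  Algebra.TensorProduct.map (thetaHom G g hgR i j h) (AlgHom.id R S₀)

noncomputable def rho' (i : ι) : G i ⊗[R] S₀ →ₐ[R] R' ⊗[R] S₀ :=
  Algebra.TensorProduct.map (IsScalarTower.toAlgHom R (G i) R') (AlgHom.id R S₀)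

variable (hcolim : FlatCA.IsDirectedColimitRing G g R')

include hcolim in
theorem rho'_rho (i j : ι) (h : i ≤ j) (y : G i ⊗[R] S₀) :
    rho' S₀ G R' j (rho S₀ G g hgR i j h y) = rho' S₀ G R' i y := by
  obtain ⟨hdir, hne, hid, hcomp, hcompat, hsurj, hker⟩ := hcolim
  induction y using TensorProduct.induction_on with
  | zero => simp
  | tmul a s =>
    simp only [rho, rho', Algebra.TensorProduct.map_tmul, thetaHom_apply, AlgHom.coe_id, id_eq,
      IsScalarTower.coe_toAlgHom']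
    rw [← RingHom.congr_fun (hcompat i j h) a]
    rfl
  | add x y hx hy => rw [map_add, map_add, map_add, hx, hy]

omit [∀ (i : ι), IsScalarTower R (G i) R'] in
include hcolim in
theorem rho_rho (i j k : ι) (h : i ≤ j) (h' : j ≤ k) (y : G i ⊗[R] S₀) :
    rho S₀ G g hgR j k h' (rho S₀ G g hgR i j h y) = rho S₀ G g hgR i k (h.trans h') y := by
  obtain ⟨hdir, hne, hid, hcomp, hcompat, hsurj, hker⟩ := hcolim
  induction y using TensorProduct.induction_on with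
  | zero => simp
  | tmul a s =>
    simp only [rho, Algebra.TensorProduct.map_tmul, thetaHom_apply, AlgHom.coe_id, id_eq]
    rw [← RingHom.congr_fun (hcomp i j k h h') a]
    rfl
  | add x y hx hy => rw [map_add, map_add, map_add, hx, hy]

include hgR hcolim in
theorem exists_rho'_eq (z : R' ⊗[R] S₀) : ∃ i, ∃ y : G i ⊗[R] S₀, rho' S₀ G R' i y = z := by
  have hc := hcolim
  obtain ⟨hdir, hne, hid, hcomp, hcompat, hsurj, hker⟩ := hcolim
  induction z using TensorProduct.induction_on with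
  | zero => exact ⟨hne.some, 0, map_zero _⟩
  | tmul a s =>
    obtain ⟨i, x, hx⟩ := hsurj a
    refine ⟨i, x ⊗ₜ s, ?_⟩
    simp [rho', hx]
  | add x y hx hy =>
    obtain ⟨i, a, ha⟩ := hx
    obtain ⟨j, b, hb⟩ := hy
    obtain ⟨k, hik, hjk⟩ := hdir.directed i j
    refine ⟨k, rho S₀ G g hgR i k hik a + rho S₀ G g hgR j k hjk b, ?_⟩
    rw [map_add, rho'_rho S₀ G g hgR R' hc, rho'_rho S₀ G g hgR R' hc, ha, hb]

section ideals

variable (Il : ∀ i, Ideal (G i)) (J₀ : Ideal S₀)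

def idealA (i : ι) : Ideal (G i ⊗[R] S₀) :=
  (Il i).map (algebraMap (G i) (G i ⊗[R] S₀)) ⊔ J₀.map (algebraMap S₀ (G i ⊗[R] S₀))

def idealA' : Ideal (R' ⊗[R] S₀) :=
  (⨆ i, (Il i).map (algebraMap (G i) R')).map (algebraMap R' (R' ⊗[R] S₀)) ⊔
    J₀.map (algebraMap S₀ (R' ⊗[R] S₀))

theorem rho_algebraMap (i j : ι) (h : i ≤ j) (a : G i) :
    rho S₀ G g hgR i j h (algebraMap (G i) (G i ⊗[R] S₀) a) =
      algebraMap (G j) (G j ⊗[R] S₀) (g i j h a) := by
  simp [rho, Algebra.TensorProduct.algebraMap_apply]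

theorem rho_algebraMap_right (i j : ι) (h : i ≤ j) (s : S₀) :
    rho S₀ G g hgR i j h (algebraMap S₀ (G i ⊗[R] S₀) s) = algebraMap S₀ (G j ⊗[R] S₀) s := by
  simp [rho, Algebra.TensorProduct.right_algebraMap_apply]

theorem rho'_algebraMap (i : ι) (a : G i) :
    rho' S₀ G R' i (algebraMap (G i) (G i ⊗[R] S₀) a) =
      algebraMap R' (R' ⊗[R] S₀) (algebraMap (G i) R' a) := by
  simp [rho', Algebra.TensorProduct.algebraMap_apply]

theorem rho'_algebraMap_right (i : ι) (s : S₀) :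
    rho' S₀ G R' i (algebraMap S₀ (G i ⊗[R] S₀) s) = algebraMap S₀ (R' ⊗[R] S₀) s := by
  simp [rho', Algebra.TensorProduct.right_algebraMap_apply]

theorem map_idealA_le (hIl : ∀ i j (h : i ≤ j), (Il i).map (g i j h) ≤ Il j) (i j : ι) (h : i ≤ j) :
    (idealA S₀ G Il J₀ i).map (rho S₀ G g hgR i j h) ≤ idealA S₀ G Il J₀ j := by
  rw [idealA, Ideal.map_sup]
  refine sup_le_sup ?_ ?_
  · rw [Ideal.map_le_iff_le_comap, Ideal.map_le_iff_le_comap]
    intro a ha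
    rw [Ideal.mem_comap, Ideal.mem_comap, rho_algebraMap]
    exact Ideal.mem_map_of_mem _ (hIl i j h (Ideal.mem_map_of_mem _ ha))
  · rw [Ideal.map_le_iff_le_comap, Ideal.map_le_iff_le_comap]
    intro s hs
    rw [Ideal.mem_comap, Ideal.mem_comap, rho_algebraMap_right]
    exact Ideal.mem_map_of_mem _ hs

include hgR hcolim in
theorem exists_lift_mem (hIl : ∀ i j (h : i ≤ j), (Il i).map (g i j h) ≤ Il j)
    {z : R' ⊗[R] S₀} (hz : z ∈ idealA' S₀ G R' Il J₀) :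
    ∃ i, ∃ y ∈ idealA S₀ G Il J₀ i, rho' S₀ G R' i y = z := by
  have hc := hcolim
  obtain ⟨hdir, hne, hid, hcomp, hcompat, hsurj, hker⟩ := hcolim
  let Sg : Ideal (R' ⊗[R] S₀) :=
    { carrier := {z | ∃ i, ∃ y ∈ idealA S₀ G Il J₀ i, rho' S₀ G R' i y = z}
      zero_mem' := ⟨hne.some, 0, Ideal.zero_mem _, map_zero _⟩
      add_mem' := by
        rintro _ _ ⟨i, a, ha, rfl⟩ ⟨j, b, hb, rfl⟩
        obtain ⟨k, hik, hjk⟩ := hdir.directed i j
        refine ⟨k, rho S₀ G g hgR i k hik a + rho S₀ G g hgR j k hjk b, ?_, ?_⟩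
        · exact Ideal.add_mem _
            (map_idealA_le S₀ G g hgR Il J₀ hIl i k hik (Ideal.mem_map_of_mem _ ha))
            (map_idealA_le S₀ G g hgR Il J₀ hIl j k hjk (Ideal.mem_map_of_mem _ hb))
        · rw [map_add, rho'_rho S₀ G g hgR R' hc, rho'_rho S₀ G g hgR R' hc]
      smul_mem' := by
        rintro w _ ⟨i, a, ha, rfl⟩
        obtain ⟨j, b, rfl⟩ := exists_rho'_eq S₀ G g hgR R' hc w
        obtain ⟨k, hik, hjk⟩ := hdir.directed i j
        refine ⟨k, rho S₀ G g hgR j k hjk b * rho S₀ G g hgR i k hik a, ?_, ?_⟩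
        · exact Ideal.mul_mem_left _ _
            (map_idealA_le S₀ G g hgR Il J₀ hIl i k hik (Ideal.mem_map_of_mem _ ha))
        · rw [map_mul, rho'_rho S₀ G g hgR R' hc, rho'_rho S₀ G g hgR R' hc, smul_eq_mul] }
  have hle : idealA' S₀ G R' Il J₀ ≤ Sg := by
    rw [idealA']
    refine sup_le ?_ ?_
    · rw [Ideal.map_le_iff_le_comap]
      refine iSup_le fun i => ?_
      rw [Ideal.map_le_iff_le_comap]
      intro a ha
      refine ⟨i, algebraMap (G i) (G i ⊗[R] S₀) a, Ideal.mem_sup_left (Ideal.mem_map_of_mem _ ha), ?_⟩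
      exact rho'_algebraMap S₀ G R' i a
    · rw [Ideal.map_le_iff_le_comap]
      intro s hs
      refine ⟨hne.some, algebraMap S₀ (G hne.some ⊗[R] S₀) s,
        Ideal.mem_sup_right (Ideal.mem_map_of_mem _ hs), ?_⟩
      exact rho'_algebraMap_right S₀ G R' _ s
  exact hle hz

include hgR hcolim in
theorem exists_stage [Algebra.FinitePresentation R S₀] (M₀ : Type u) [AddCommGroup M₀]
    [Module S₀ M₀] [Module.FinitePresentation S₀ M₀] (T : Submonoid S₀)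
    (hIl : ∀ i j (h : i ≤ j), (Il i).map (g i j h) ≤ Il j)
    (hR' : ∀ (p' : Ideal (R' ⊗[R] S₀)) [p'.IsPrime],
      (∀ t ∈ T, algebraMap S₀ (R' ⊗[R] S₀) t ∉ p') → idealA' S₀ G R' Il J₀ ≤ p' →
        Module.Flat R' (LocalizedModule p'.primeCompl ((R' ⊗[R] S₀) ⊗[S₀] M₀))) :
    ∃ j, ∀ (p : Ideal (G j ⊗[R] S₀)) [p.IsPrime],
      (∀ t ∈ T, algebraMap S₀ (G j ⊗[R] S₀) t ∉ p) → idealA S₀ G Il J₀ j ≤ p →
        Module.Flat (G j) (LocalizedModule p.primeCompl ((G j ⊗[R] S₀) ⊗[S₀] M₀)) := by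
  have hopen := Groth.Agent.Lib.Helper55.FL.isOpen_flat_localizedModule_of_fp
    (R := R') (S := R' ⊗[R] S₀) (M := (R' ⊗[R] S₀) ⊗[S₀] M₀)
  obtain ⟨𝔠, h𝔠⟩ := (PrimeSpectrum.isClosed_iff_zeroLocus_ideal _).1 hopen.isClosed_compl
  let Tm : Submonoid (R' ⊗[R] S₀) := T.map (algebraMap S₀ (R' ⊗[R] S₀))
  have hnd : ¬ Disjoint ((𝔠 ⊔ idealA' S₀ G R' Il J₀ : Ideal (R' ⊗[R] S₀)) : Set (R' ⊗[R] S₀))
      (Tm : Set (R' ⊗[R] S₀)) := by
    intro hd
    obtain ⟨p', hp', hle, hdis⟩ := Ideal.exists_le_prime_disjoint _ Tm hd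
    have hflat := hR' p' (fun t ht hmem => Set.disjoint_left.1 hdis hmem ⟨t, ht, rfl⟩)
      (le_sup_right.trans hle)
    have hmem : (⟨p', hp'⟩ : PrimeSpectrum (R' ⊗[R] S₀)) ∈
        PrimeSpectrum.zeroLocus (𝔠 : Set (R' ⊗[R] S₀)) := fun x hx => hle (Ideal.mem_sup_left hx)
    rw [← h𝔠] at hmem
    exact hmem hflat
  obtain ⟨z, hz, hzT⟩ := Set.not_disjoint_iff.1 hnd
  obtain ⟨t, ht, rfl⟩ := hzT
  obtain ⟨c, hc, a, ha, hca⟩ := Submodule.mem_sup.1 hz
  have hflatc : Module.Flat R' (LocalizedModule (Submonoid.powers c)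
      ((R' ⊗[R] S₀) ⊗[S₀] M₀)) := by
    refine flat_away_of_forall_prime c (fun p' hp' hcp => ?_)
    have hnm : (⟨p', hp'⟩ : PrimeSpectrum (R' ⊗[R] S₀)) ∉
        PrimeSpectrum.zeroLocus (𝔠 : Set (R' ⊗[R] S₀)) := fun hm => hcp (hm hc)
    rw [← h𝔠] at hnm
    exact not_not.1 hnm
  obtain ⟨i, y, hy, hya⟩ := exists_lift_mem S₀ G g hgR R' hcolim Il J₀ hIl ha
  let ci : G i ⊗[R] S₀ := algebraMap S₀ (G i ⊗[R] S₀) t - y
  have hci : rho' S₀ G R' i ci = c := by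
    rw [map_sub, rho'_algebraMap_right, hya, ← hca]
    exact add_sub_cancel_right c a
  have hflatc' : Module.Flat R' (LocalizedModule (Submonoid.powers (rho' S₀ G R' i ci))
      ((R' ⊗[R] S₀) ⊗[S₀] M₀)) := by
    rw [hci]
    exact hflatc
  have h7 := (flat_model_iff M₀ (IsScalarTower.toAlgHom R (G i) R') (fun _ => rfl) ci).1 hflatc'
  have fp1 : Algebra.FinitePresentation (G i ⊗[R] S₀) (Localization (Submonoid.powers ci)) :=
    IsLocalization.Away.finitePresentation ci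
  have fp2 : Algebra.FinitePresentation (G i) (Localization (Submonoid.powers ci)) :=
    Algebra.FinitePresentation.trans (G i) (G i ⊗[R] S₀) (Localization (Submonoid.powers ci))
  obtain ⟨j, hij, hfj⟩ := exists_stage_flat G g R' hcolim i
    (B₀ := Localization (Submonoid.powers ci))
    (LocalizedModule (Submonoid.powers ci) ((G i ⊗[R] S₀) ⊗[S₀] M₀)) h7
  refine ⟨j, fun p hp hT hle => ?_⟩
  let alg : Algebra (G i) (G j) := (g i j hij).toAlgebra
  have tow : IsScalarTower R (G i) (G j) :=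
    IsScalarTower.of_algebraMap_eq fun r => (RingHom.congr_fun (hgR i j hij) r).symm
  have h9 := (flat_model_iff M₀ (thetaHom G g hgR i j hij) (fun _ => rfl) ci).2 hfj
  have hcj : rho S₀ G g hgR i j hij ci ∉ p := by
    intro hmem
    have h1 : rho S₀ G g hgR i j hij y ∈ p :=
      hle (map_idealA_le S₀ G g hgR Il J₀ hIl i j hij (Ideal.mem_map_of_mem _ hy))
    have h2 : rho S₀ G g hgR i j hij ci = algebraMap S₀ (G j ⊗[R] S₀) t -
        rho S₀ G g hgR i j hij y := by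
      rw [map_sub, rho_algebraMap_right]
    rw [h2] at hmem
    exact hT t ht (by simpa using Ideal.add_mem _ hmem h1)
  exact flat_atPrime_of_flat_away (N := (G j ⊗[R] S₀) ⊗[S₀] M₀)
    (Y := LocalizedModule (Submonoid.powers (rho S₀ G g hgR i j hij ci))
      ((G j ⊗[R] S₀) ⊗[S₀] M₀)) (rho S₀ G g hgR i j hij ci)
    (LocalizedModule.mkLinearMap (Submonoid.powers (rho S₀ G g hgR i j hij ci))
      ((G j ⊗[R] S₀) ⊗[S₀] M₀)) h9 p hcj

end ideals

end sys

end Groth.Agent.Lib.Helper63.ColimFlat
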