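import Mathlib
import Groth.Prelude.Def_FlatCA
import Groth.Agent.Lib.Helper63.ColimFlat1

set_option autoImplicit false
set_option linter.unusedSectionVars false
universe u
open TensorProduct

namespace Groth.Agent.Lib.Helper63.ColimFlat

attribute [local instance] Algebra.TensorProduct.rightAlgebra

theorem flat_localizedModule_congr {C B : Type u} [CommRing C] [CommRing B] [Algebra C B]
    {N : Type u} [AddCommGroup N] [Module B N] [Module C N] [IsScalarTower C B N]
    {I J : Ideal B} [I.IsPrime] [J.IsPrime] (h : I = J)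
    (hI : Module.Flat C (LocalizedModule I.primeCompl N)) :
    Module.Flat C (LocalizedModule J.primeCompl N) := by
  subst h
  exact hI

section stage

variable {R S₀ S : Type u} [CommRing R] [CommRing S₀] [CommRing S] [Algebra R S₀] [Algebra R S]
  [Algebra S₀ S] [IsScalarTower R S₀ S] (T : Submonoid S₀) [IsLocalization T S]
  {M₀ M : Type u} [AddCommGroup M₀] [Module S₀ M₀] [AddCommGroup M] [Module S M] [Module S₀ M]
  [IsScalarTower S₀ S M] (f₀ : M₀ →ₗ[S₀] M) [IsLocalizedModule T f₀] (J : Ideal S)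
  {C SC MC : Type u} [CommRing C] [Algebra R C] [CommRing SC] [Algebra S SC] [Algebra C SC]
  [Algebra R SC] [IsScalarTower R S SC] [IsScalarTower R C SC] [Algebra.IsPushout R S C SC]
  [AddCommGroup MC] [Module SC MC] [Module C MC] [IsScalarTower C SC MC] [Module S MC]
  [IsScalarTower S SC MC] (fC : M →ₗ[S] MC) (hfC : IsBaseChange SC fC) (IC : Ideal C)

include f₀ hfC in
theorem stage_iff :
    (∀ (q : Ideal SC) [q.IsPrime],
      IC.map (algebraMap C SC) ⊔ J.map (algebraMap S SC) ≤ q → FlatCA.FlatAt C q MC) ↔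
    (∀ (p : Ideal (C ⊗[R] S₀)) [p.IsPrime], (∀ t ∈ T, algebraMap S₀ (C ⊗[R] S₀) t ∉ p) →
      IC.map (algebraMap C (C ⊗[R] S₀)) ⊔
        (J.comap (algebraMap S₀ S)).map (algebraMap S₀ (C ⊗[R] S₀)) ≤ p →
      Module.Flat C (LocalizedModule p.primeCompl ((C ⊗[R] S₀) ⊗[S₀] M₀))) := by
  let algS₀SC : Algebra S₀ SC := ((algebraMap S SC).comp (algebraMap S₀ S)).toAlgebra
  have t1 : IsScalarTower S₀ S SC := IsScalarTower.of_algebraMap_eq fun _ => rfl
  have t2 : IsScalarTower R S₀ SC := IsScalarTower.of_algebraMap_eq fun r => by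
    show algebraMap R SC r = algebraMap S SC (algebraMap S₀ S (algebraMap R S₀ r))
    rw [← IsScalarTower.algebraMap_apply R S₀ S, ← IsScalarTower.algebraMap_apply R S SC]
  let ψ : C ⊗[R] S₀ →ₐ[R] SC :=
    Algebra.TensorProduct.productMap (IsScalarTower.toAlgHom R C SC) (IsScalarTower.toAlgHom R S₀ SC)
  let algBSC : Algebra (C ⊗[R] S₀) SC := ψ.toRingHom.toAlgebra
  have t3 : IsScalarTower C (C ⊗[R] S₀) SC := IsScalarTower.of_algebraMap_eq fun c => by
    show algebraMap C SC c = ψ (algebraMap C (C ⊗[R] S₀) c)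
    simp [ψ, Algebra.TensorProduct.algebraMap_apply]
  have t4 : IsScalarTower S₀ (C ⊗[R] S₀) SC := IsScalarTower.of_algebraMap_eq fun s => by
    show algebraMap S₀ SC s = ψ (algebraMap S₀ (C ⊗[R] S₀) s)
    simp [ψ, Algebra.TensorProduct.right_algebraMap_apply]
  have t5 : IsScalarTower R (C ⊗[R] S₀) SC := IsScalarTower.of_algebraMap_eq fun r => by
    show algebraMap R SC r = ψ (algebraMap R (C ⊗[R] S₀) r)
    rw [AlgHom.commutes]
  have hpo : Algebra.IsPushout S₀ S (C ⊗[R] S₀) SC :=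
    (Algebra.IsPushout.comp_iff (R := R) (S := S₀) (T := S) (R' := C) (S' := C ⊗[R] S₀)
      (T' := SC)).1 inferInstance
  have hloc : IsLocalization (Algebra.algebraMapSubmonoid (C ⊗[R] S₀) T) SC :=
    (Algebra.isLocalization_iff_isPushout T S).2 hpo.symm
  let modS₀MC : Module S₀ MC := Module.compHom MC (algebraMap S₀ S)
  have t6 : IsScalarTower S₀ S MC := IsScalarTower.of_algebraMap_smul fun _ _ => rfl
  let modBMC : Module (C ⊗[R] S₀) MC := Module.compHom MC (algebraMap (C ⊗[R] S₀) SC)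
  have t7 : IsScalarTower (C ⊗[R] S₀) SC MC := IsScalarTower.of_algebraMap_smul fun _ _ => rfl
  have t8 : IsScalarTower S₀ (C ⊗[R] S₀) MC := IsScalarTower.of_algebraMap_smul fun s m => by
    show algebraMap (C ⊗[R] S₀) SC (algebraMap S₀ (C ⊗[R] S₀) s) • m = algebraMap S₀ S s • m
    rw [← IsScalarTower.algebraMap_apply S₀ (C ⊗[R] S₀) SC, IsScalarTower.algebraMap_apply S₀ S SC,
      algebraMap_smul]
  have t9 : IsScalarTower C (C ⊗[R] S₀) MC := IsScalarTower.of_algebraMap_smul fun c m => by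
    show algebraMap (C ⊗[R] S₀) SC (algebraMap C (C ⊗[R] S₀) c) • m = c • m
    rw [← IsScalarTower.algebraMap_apply C (C ⊗[R] S₀) SC, algebraMap_smul]
  have t10 : IsScalarTower S₀ SC MC := IsScalarTower.of_algebraMap_smul fun s m => by
    show algebraMap S₀ SC s • m = algebraMap S₀ S s • m
    rw [IsScalarTower.algebraMap_apply S₀ S SC, algebraMap_smul]
  have hf₀ : IsBaseChange S f₀ := (isLocalizedModule_iff_isBaseChange T S f₀).1 inferInstance
  have hcomp : IsBaseChange SC ((fC.restrictScalars S₀) ∘ₗ f₀) := IsBaseChange.comp hf₀ hfC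
  let φC : (C ⊗[R] S₀) ⊗[S₀] M₀ →ₗ[C ⊗[R] S₀] MC :=
    (TensorProduct.isBaseChange S₀ M₀ (C ⊗[R] S₀)).lift ((fC.restrictScalars S₀) ∘ₗ f₀)
  have hφ : IsBaseChange SC φC := by
    refine IsBaseChange.of_comp (TensorProduct.isBaseChange S₀ M₀ (C ⊗[R] S₀)) ?_
    rw [IsBaseChange.lift_comp]
    exact hcomp
  have hlocφ : IsLocalizedModule (Algebra.algebraMapSubmonoid (C ⊗[R] S₀) T) φC :=
    (isLocalizedModule_iff_isBaseChange _ SC φC).2 hφ
  have hJ : (J.comap (algebraMap S₀ S)).map (algebraMap S₀ S) = J := IsLocalization.map_comap T S J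
  constructor
  · intro hq p hp hT hle
    have hdis : Disjoint ((Algebra.algebraMapSubmonoid (C ⊗[R] S₀) T : Submonoid (C ⊗[R] S₀)) :
        Set (C ⊗[R] S₀)) (p : Set (C ⊗[R] S₀)) := by
      rw [Set.disjoint_left]
      rintro _ ⟨t, ht, rfl⟩ hmem
      exact hT t ht hmem
    have hqp : (p.map (algebraMap (C ⊗[R] S₀) SC)).IsPrime :=
      IsLocalization.isPrime_of_isPrime_disjoint (Algebra.algebraMapSubmonoid (C ⊗[R] S₀) T) SC p
        hp hdis
    have hcm : (p.map (algebraMap (C ⊗[R] S₀) SC)).comap (algebraMap (C ⊗[R] S₀) SC) = p :=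
      IsLocalization.comap_map_of_isPrime_disjoint (Algebra.algebraMapSubmonoid (C ⊗[R] S₀) T) SC
        hp hdis
    have hle' : IC.map (algebraMap C SC) ⊔ J.map (algebraMap S SC) ≤
        p.map (algebraMap (C ⊗[R] S₀) SC) := by
      refine sup_le ?_ ?_
      · rw [IsScalarTower.algebraMap_eq C (C ⊗[R] S₀) SC, ← Ideal.map_map]
        exact Ideal.map_mono (le_sup_left.trans hle)
      · rw [← hJ, Ideal.map_map, ← IsScalarTower.algebraMap_eq,
          IsScalarTower.algebraMap_eq S₀ (C ⊗[R] S₀) SC, ← Ideal.map_map]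
        exact Ideal.map_mono (le_sup_right.trans hle)
    have h1 : Module.Flat C (LocalizedModule (p.map (algebraMap (C ⊗[R] S₀) SC)).primeCompl MC) :=
      hq (p.map (algebraMap (C ⊗[R] S₀) SC)) hle'
    have h2 := (flat_localized_iff (C := C) (Algebra.algebraMapSubmonoid (C ⊗[R] S₀) T) φC
      (p.map (algebraMap (C ⊗[R] S₀) SC))).1 h1
    exact flat_localizedModule_congr hcm h2
  · intro hp q hq hle
    have hT : ∀ t ∈ T, algebraMap S₀ (C ⊗[R] S₀) t ∉ q.comap (algebraMap (C ⊗[R] S₀) SC) := by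
      intro t ht hmem
      have hu : IsUnit (algebraMap (C ⊗[R] S₀) SC (algebraMap S₀ (C ⊗[R] S₀) t)) :=
        IsLocalization.map_units SC
          (⟨algebraMap S₀ (C ⊗[R] S₀) t, ⟨t, ht, rfl⟩⟩ : Algebra.algebraMapSubmonoid (C ⊗[R] S₀) T)
      exact hq.ne_top (Ideal.eq_top_of_isUnit_mem _ hmem hu)
    have hle' : IC.map (algebraMap C (C ⊗[R] S₀)) ⊔
        (J.comap (algebraMap S₀ S)).map (algebraMap S₀ (C ⊗[R] S₀)) ≤
        q.comap (algebraMap (C ⊗[R] S₀) SC) := by
      refine sup_le ?_ ?_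
      · rw [Ideal.map_le_iff_le_comap, Ideal.comap_comap, ← IsScalarTower.algebraMap_eq,
          ← Ideal.map_le_iff_le_comap]
        exact le_sup_left.trans hle
      · rw [Ideal.map_le_iff_le_comap, Ideal.comap_comap, ← IsScalarTower.algebraMap_eq,
          IsScalarTower.algebraMap_eq S₀ S SC, ← Ideal.comap_comap]
        exact Ideal.comap_mono (Ideal.map_le_iff_le_comap.1 (le_sup_right.trans hle))
    have h1 := hp (q.comap (algebraMap (C ⊗[R] S₀) SC)) hT hle'
    exact (flat_localized_iff (C := C) (Algebra.algebraMapSubmonoid (C ⊗[R] S₀) T) φC q).2 h1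

end stage

end Groth.Agent.Lib.Helper63.ColimFlat
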