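import Mathlib
import Groth.Agent.Lib.Helper6.LocalFlat4

set_option autoImplicit false
universe u

namespace Groth.Agent.Lib.Helper63.FlatRel

open TensorProduct Groth.Agent.Lib.Helper6.LocalFlat

variable {R : Type u} [CommRing R] (N : Type u) [AddCommGroup N] [Module R N]

def TF (J : Ideal R) : Prop :=
  ∀ (P Q : Type u) [AddCommGroup P] [Module R P] [AddCommGroup Q] [Module R Q],
    Module.IsTorsionBySet R P (↑J : Set R) → Module.IsTorsionBySet R Q (↑J : Set R) →
    ∀ g : P →ₗ[R] Q, Function.Injective g → Function.Injective (g.lTensor N)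

theorem TF_of_flat (J : Ideal R) [Module.Flat (R ⧸ J) ((R ⧸ J) ⊗[R] N)] : TF N J :=
  fun _ _ _ _ _ _ hP hQ g hg => lTensor_injective_of_flat_baseChange J hP hQ g hg

theorem TF_mono {J J' : Ideal R} (h : J ≤ J') (hT : TF N J) : TF N J' :=
  fun P Q _ _ _ _ hP hQ g hg =>
    hT P Q (fun x a => @hP x ⟨a.1, h a.2⟩) (fun x a => @hQ x ⟨a.1, h a.2⟩) g hg

theorem isTorsionBySet_quotient (J : Ideal R) :
    Module.IsTorsionBySet R (R ⧸ J) (↑J : Set R) := by
  intro x j
  obtain ⟨b, rfl⟩ := Ideal.Quotient.mk_surjective x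
  change (j : R) • Ideal.Quotient.mk J b = 0
  rw [Algebra.smul_def, Ideal.Quotient.algebraMap_eq, ← map_mul, Ideal.Quotient.eq_zero_iff_mem]
  exact Ideal.mul_mem_right _ _ j.2

theorem isTorsionBySet_submodule {F : Type*} [AddCommGroup F] [Module R F] {s : Set R}
    (hF : Module.IsTorsionBySet R F s) (A' : Submodule R F) : Module.IsTorsionBySet R A' s := by
  intro x a
  apply Subtype.ext
  rw [Submodule.coe_smul, Submodule.coe_zero]
  exact @hF x.1 a

theorem flat_of_sub_inj (J : Ideal R)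
    (h : ∀ A' : Submodule R (R ⧸ J), Function.Injective (A'.subtype.lTensor N)) :
    Module.Flat (R ⧸ J) ((R ⧸ J) ⊗[R] N) := by
  rw [Module.Flat.iff_rTensor_injective']
  intro 𝔞
  have key := cancel_natural_left (M := N) J 𝔞.subtype
  have hinj : Function.Injective ((𝔞.subtype.restrictScalars R).rTensor N) := by
    rw [← LinearMap.lTensor_inj_iff_rTensor_inj]
    exact h (𝔞.restrictScalars R)
  intro x y hxy
  apply (AlgebraTensorModule.cancelBaseChange R (R ⧸ J) (R ⧸ J) 𝔞 N).injective
  apply hinj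
  rw [key, key, hxy]

section crit

variable [IsNoetherianRing R] {S : Type u} [CommRing S] [IsNoetherianRing S] [Algebra R S]
  [Module S N] [IsScalarTower R S N] [Module.Finite S N]
  (m : Ideal R) (hm : m.map (algebraMap R S) ≤ Ideal.jacobson ⊥)

include hm in
theorem sub_inj_of_forall_TF (J : Ideal R) (hT : ∀ n : ℕ, 1 ≤ n → TF N (J ⊔ m ^ n))
    {F : Type u} [AddCommGroup F] [Module R F] [Module.Finite R F]
    (hF : Module.IsTorsionBySet R F (↑J : Set R)) (A' : Submodule R F) :
    Function.Injective (A'.subtype.lTensor N) := by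
  rw [injective_iff_map_eq_zero]
  intro x hx
  obtain ⟨k, hk⟩ := Ideal.exists_pow_inf_eq_pow_smul m A'
  have key : ∀ n : ℕ, x ∈ (m ^ n • ⊤ : Submodule R (N ⊗[R] A')) := by
    intro n
    rcases Nat.eq_zero_or_pos n with h0 | hn
    · subst h0
      rw [pow_zero, Ideal.one_eq_top, Submodule.top_smul]
      trivial
    let Fn : Submodule R F := m ^ (n + k) • ⊤
    let Bn : Submodule R A' := Submodule.comap A'.subtype Fn
    let g : (A' ⧸ Bn) →ₗ[R] (F ⧸ Fn) := Bn.mapQ Fn A'.subtype le_rfl
    have hg : Function.Injective g := by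
      rw [← LinearMap.ker_eq_bot, Submodule.ker_mapQ]
      change Submodule.map Bn.mkQ Bn = ⊥
      exact Submodule.mkQ_map_self _
    have hQ : Module.IsTorsionBySet R (F ⧸ Fn) (↑(J ⊔ m ^ (n + k)) : Set R) := by
      intro x a
      obtain ⟨y, rfl⟩ := Submodule.Quotient.mk_surjective _ x
      obtain ⟨j, hj, μ, hμ, hjμ⟩ := Submodule.mem_sup.mp a.2
      rw [← Submodule.Quotient.mk_smul, Submodule.Quotient.mk_eq_zero, ← hjμ, add_smul,
        show j • y = 0 from @hF y ⟨j, hj⟩, zero_add]
      exact Submodule.smul_mem_smul hμ Submodule.mem_top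
    have hP : Module.IsTorsionBySet R (A' ⧸ Bn) (↑(J ⊔ m ^ (n + k)) : Set R) := by
      intro x a
      obtain ⟨y, rfl⟩ := Submodule.Quotient.mk_surjective _ x
      obtain ⟨j, hj, μ, hμ, hjμ⟩ := Submodule.mem_sup.mp a.2
      rw [← Submodule.Quotient.mk_smul, Submodule.Quotient.mk_eq_zero]
      change (((a : R) • y : A') : F) ∈ Fn
      rw [Submodule.coe_smul, ← hjμ, add_smul, show j • (y : F) = 0 from @hF y.1 ⟨j, hj⟩, zero_add]
      exact Submodule.smul_mem_smul hμ Submodule.mem_top
    have hinj := hT (n + k) (by lia) _ _ hP hQ g hg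
    have h1 : LinearMap.lTensor N Bn.mkQ x = 0 := by
      apply hinj
      have hcomp : g.comp Bn.mkQ = Fn.mkQ.comp A'.subtype := by
        ext a
        rfl
      rw [map_zero, ← LinearMap.comp_apply, ← LinearMap.lTensor_comp, hcomp,
        LinearMap.lTensor_comp, LinearMap.comp_apply, hx, map_zero]
    obtain ⟨y, rfl⟩ := (lTensor_exact N (LinearMap.exact_subtype_mkQ Bn)
      (Submodule.mkQ_surjective _) x).mp h1
    refine range_lTensor_le_smul m Bn n ?_ y
    intro b hb
    have h2 : ((b : A') : F) ∈ (m ^ (n + k) • ⊤ ⊓ A' : Submodule R F) := ⟨hb, b.2⟩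
    rw [hk (n + k) (Nat.le_add_left k n), Nat.add_sub_cancel] at h2
    have h3 : ((b : A') : F) ∈ (m ^ n • A' : Submodule R F) :=
      Submodule.smul_mono le_rfl inf_le_right h2
    have h4 : (m ^ n • (⊤ : Submodule R A')).map A'.subtype = m ^ n • A' := by
      rw [Submodule.map_smul'', Submodule.map_subtype_top]
    rw [← h4] at h3
    obtain ⟨b', hb'1, hb'2⟩ := h3
    have : b' = b := Subtype.ext hb'2
    rw [← this]
    exact hb'1
  have : Module.Finite R A' := Module.Finite.iff_fg.mpr (IsNoetherian.noetherian A')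
  have : Module.Finite S (N ⊗[R] A') := finite_tensor_of_finite R S N A'
  have hmem : x ∈ (⨅ n : ℕ, (m.map (algebraMap R S)) ^ n • ⊤ : Submodule S (N ⊗[R] A')) := by
    rw [Submodule.mem_iInf]
    intro n
    exact smul_top_le_map_smul_top (S := S) m n x (key n)
  rw [Ideal.iInf_pow_smul_eq_bot_of_le_jacobson _ hm] at hmem
  exact (Submodule.mem_bot S).mp hmem

include hm in
theorem flat_quot_iff_forall (J : Ideal R) :
    Module.Flat (R ⧸ J) ((R ⧸ J) ⊗[R] N) ↔
      ∀ n : ℕ, 1 ≤ n → Module.Flat (R ⧸ (J ⊔ m ^ n)) ((R ⧸ (J ⊔ m ^ n)) ⊗[R] N) := by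
  constructor
  · intro h n _
    have hT : TF N (J ⊔ m ^ n) := TF_mono N le_sup_left (TF_of_flat N J)
    refine flat_of_sub_inj N _ (fun A' => ?_)
    exact hT _ _ (isTorsionBySet_submodule (isTorsionBySet_quotient _) A')
      (isTorsionBySet_quotient _) A'.subtype A'.injective_subtype
  · intro h
    refine flat_of_sub_inj N _ (fun A' => ?_)
    refine sub_inj_of_forall_TF N m hm J (fun n hn => ?_) (isTorsionBySet_quotient J) A'
    have := h n hn
    exact TF_of_flat N _

end crit

end Groth.Agent.Lib.Helper63.FlatRel
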