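import Mathlib

set_option autoImplicit false
open TensorProduct

namespace Groth.Agent.Lib.Helper63.FlatNilp

theorem subsingleton_of_smul_top_eq_top {B : Type*} [CommRing B] (I : Ideal B)
    (hI : IsNilpotent I) {K : Type*} [AddCommGroup K] [Module B K]
    (h : I • (⊤ : Submodule B K) = ⊤) : Subsingleton K := by
  obtain ⟨n, hn⟩ := hI
  have hpow : ∀ m : ℕ, I ^ m • (⊤ : Submodule B K) = ⊤ := by
    intro m
    induction m with
    | zero => simp
    | succ m ih => rw [pow_succ, Submodule.mul_smul, h, ih]
  have h1 := hpow n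
  rw [hn, Ideal.zero_eq_bot, Submodule.bot_smul] at h1
  exact (Submodule.subsingleton_iff B).mp (subsingleton_of_bot_eq_top h1)

theorem eq_top_of_sup_smul_top {B : Type*} [CommRing B] (I : Ideal B) (hI : IsNilpotent I)
    {M : Type*} [AddCommGroup M] [Module B M] (N : Submodule B M)
    (h : N ⊔ I • (⊤ : Submodule B M) = ⊤) : N = ⊤ := by
  have hq : Subsingleton (M ⧸ N) := by
    refine subsingleton_of_smul_top_eq_top I hI ?_
    have e1 : Submodule.map N.mkQ (I • ⊤) = I • (⊤ : Submodule B (M ⧸ N)) := by
      rw [Submodule.map_smul'', Submodule.map_top, Submodule.range_mkQ]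
    have e2 : Submodule.map N.mkQ (N ⊔ I • ⊤) = ⊤ := by
      rw [h, Submodule.map_top, Submodule.range_mkQ]
    rw [Submodule.map_sup, Submodule.mkQ_map_self, bot_sup_eq] at e2
    rw [← e1, e2]
  exact Submodule.Quotient.subsingleton_iff.mp hq

theorem injective_of_flat_of_lTensor_injective {B : Type*} [CommRing B] (I : Ideal B)
    (hI : IsNilpotent I) {F N : Type*} [AddCommGroup F] [Module B F] [AddCommGroup N]
    [Module B N] [Module.Flat B N] (π : F →ₗ[B] N) (hπ : Function.Surjective π)
    (hinj : Function.Injective (π.lTensor (B ⧸ I))) : Function.Injective π := by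
  let K := LinearMap.ker π
  have hex : Function.Exact K.subtype π := LinearMap.exact_subtype_ker_map π
  have h1 := LinearMap.lTensor_injective_of_exact_of_flat π hπ K.subtype K.injective_subtype hex
    (B ⧸ I)
  have h2 : (π.lTensor (B ⧸ I)).comp (K.subtype.lTensor (B ⧸ I)) = 0 := by
    rw [← LinearMap.lTensor_comp]
    have : π.comp K.subtype = 0 := by
      ext x
      exact x.2
    rw [this, LinearMap.lTensor_zero]
  have h3 : ∀ z, (K.subtype.lTensor (B ⧸ I)) z = 0 := fun z =>
    hinj (by rw [map_zero]; exact LinearMap.congr_fun h2 z)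
  have hsub : Subsingleton ((B ⧸ I) ⊗[B] K) := ⟨fun a b => h1 (by rw [h3 a, h3 b])⟩
  have hq : Subsingleton (K ⧸ (I • (⊤ : Submodule B K))) :=
    (TensorProduct.quotTensorEquivQuotSMul K I).symm.injective.subsingleton
  have htop : I • (⊤ : Submodule B K) = ⊤ := Submodule.Quotient.subsingleton_iff.mp hq
  have := subsingleton_of_smul_top_eq_top I hI htop
  rw [← LinearMap.ker_eq_bot]
  exact Submodule.eq_bot_of_subsingleton

end Groth.Agent.Lib.Helper63.FlatNilp
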