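import Mathlib
import Groth.Agent.S6926

set_option autoImplicit false
universe u
open TensorProduct

namespace Groth.Agent.Lib.Helper63.ColimFlat

attribute [local instance] Algebra.TensorProduct.rightAlgebra

theorem le_ker_of_stage {R S C : Type u} [CommRing R] [IsLocalRing R]
    [IsNoetherianRing R] [IsAdicComplete (IsLocalRing.maximalIdeal R) R] [CommRing S]
    [IsNoetherianRing S] [CommRing C] [IsLocalRing C] [IsNoetherianRing C]
    [Algebra R S] [Algebra R C] [IsLocalHom (algebraMap R C)]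
    {M : Type u} [AddCommGroup M] [Module S M] [Module R M] [IsScalarTower R S M]
    [Module.Finite S M] (I : Ideal R) (hIm : I ≤ IsLocalRing.maximalIdeal R)
    (hI : (∀ (q : Ideal S) [q.IsPrime], q.comap (algebraMap R S) = IsLocalRing.maximalIdeal R →
        Module.Flat (R ⧸ I) ((R ⧸ I) ⊗[R] LocalizedModule q.primeCompl M)))
    (hmin : ∀ J : Ideal R, (∀ (q : Ideal S) [q.IsPrime],
      q.comap (algebraMap R S) = IsLocalRing.maximalIdeal R →
        Module.Flat (R ⧸ J) ((R ⧸ J) ⊗[R] LocalizedModule q.primeCompl M)) → I ≤ J)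
    (J : Ideal S) (hJ : J = ⊥)
    (hA : ∀ (Si Mi : Type u) [CommRing Si] [Algebra S Si] [Algebra C Si] [Algebra R Si]
      [IsScalarTower R S Si] [IsScalarTower R C Si] [Algebra.IsPushout R S C Si]
      [AddCommGroup Mi] [Module Si Mi] [Module C Mi] [IsScalarTower C Si Mi] [Module S Mi]
      [IsScalarTower S Si Mi] (fi : M →ₗ[S] Mi), IsBaseChange Si fi →
      ∀ (q : Ideal Si) [q.IsPrime],
        (IsLocalRing.maximalIdeal C).map (algebraMap C Si) ⊔ J.map (algebraMap S Si) ≤ q →
          FlatCA.FlatAt C q Mi) :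
    I ≤ RingHom.ker (algebraMap R C) := by
  subst hJ
  have key := hA (C ⊗[R] S) ((C ⊗[R] S) ⊗[S] M) (TensorProduct.mk S (C ⊗[R] S) M 1)
    (TensorProduct.isBaseChange S M (C ⊗[R] S))
  refine (Groth.Agent.S6926.result (R' := C) (S' := C ⊗[R] S) (M' := (C ⊗[R] S) ⊗[S] M)
    (TensorProduct.mk S (C ⊗[R] S) M 1) (TensorProduct.isBaseChange S M (C ⊗[R] S)) I hIm hI
    hmin).1 (fun q' _ hq' => key q' ?_)
  rw [Ideal.map_bot, sup_bot_eq, Ideal.map_le_iff_le_comap, hq']

end Groth.Agent.Lib.Helper63.ColimFlat
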