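import Mathlib.Topology.Algebra.InfiniteSum.Nonarchimedean
import Mathlib.Topology.Algebra.GroupCompletion
import Mathlib.Topology.Algebra.UniformMulAction
import Mathlib.Topology.Algebra.Module.Basic
import Mathlib.Topology.Algebra.OpenSubgroup
import Mathlib.RingTheory.Ideal.Operations
import Mathlib.RingTheory.Finiteness.Ideal

set_option autoImplicit false
universe u v

namespace Groth.Agent.Lib.Helper63.ComplAdicMod

open Topology Filter

section Approx

set_option linter.unusedSectionVars false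

variable {R : Type u} [CommRing R] {Mh : Type v} [AddCommGroup Mh] [Module R Mh]
  [UniformSpace Mh] [IsUniformAddGroup Mh] [ContinuousConstSMul R Mh]

theorem nonarch (N : ℕ → Submodule R Mh) (hNo : ∀ k, IsOpen (N k : Set Mh))
    (hNbasis : ∀ U ∈ 𝓝 (0 : Mh), ∃ k, (N k : Set Mh) ⊆ U) : NonarchimedeanAddGroup Mh where
  is_nonarchimedean U hU := by
    obtain ⟨k, hk⟩ := hNbasis U hU
    exact ⟨⟨(N k).toAddSubgroup, hNo k⟩, hk⟩

theorem tendsto_zero_of_mem (N : ℕ → Submodule R Mh) (hNanti : Antitone N)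
    (hNbasis : ∀ U ∈ 𝓝 (0 : Mh), ∃ k, (N k : Set Mh) ⊆ U) (d : ℕ → Mh) (n : ℕ)
    (hd : ∀ k, d k ∈ N (n + k)) : Tendsto d atTop (𝓝 0) := by
  rw [tendsto_atTop']
  intro U hU
  obtain ⟨m, hm⟩ := hNbasis U hU
  refine ⟨m, fun k hk => hm ?_⟩
  exact hNanti (show m ≤ n + k by omega) (hd k)

theorem approx_main [T2Space Mh] [CompleteSpace Mh]
    (N : ℕ → Submodule R Mh) (hNo : ∀ k, IsOpen (N k : Set Mh)) (hNanti : Antitone N)
    (hNbasis : ∀ U ∈ 𝓝 (0 : Mh), ∃ k, (N k : Set Mh) ⊆ U)
    {s : ℕ} (g : Fin s → R) (n : ℕ)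
    (hstep : ∀ k : ℕ, ∀ x ∈ N (n + k), ∃ c : Fin s → Mh, (∀ j, c j ∈ N k) ∧
      x - ∑ j, g j • c j ∈ N (n + k + 1))
    (x : Mh) (hx : x ∈ N n) : ∃ a : Fin s → Mh, (∀ j, a j ∈ N 0) ∧ x = ∑ j, g j • a j := by
  have hna : NonarchimedeanAddGroup Mh := nonarch N hNo hNbasis
  choose! pick hpick_mem hpick_sub using hstep
  let r : ℕ → Mh := fun k => Nat.rec x (fun k rk => rk - ∑ j, g j • pick k rk j) k
  have hr0 : r 0 = x := rfl
  have hrs : ∀ k, r (k + 1) = r k - ∑ j, g j • pick k (r k) j := fun k => rfl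
  have hrmem : ∀ k, r k ∈ N (n + k) := by
    intro k
    induction k with
    | zero => exact hx
    | succ k ih =>
      rw [hrs]
      exact hpick_sub k (r k) ih
  let d : ℕ → Fin s → Mh := fun k => pick k (r k)
  have hdmem : ∀ k j, d k j ∈ N k := fun k j => hpick_mem k (r k) (hrmem k) j
  let S : ℕ → Fin s → Mh := fun K j => ∑ k ∈ Finset.range K, d k j
  have hSsucc : ∀ K j, S (K + 1) j - S K j = d K j := by
    intro K j
    simp only [S, Finset.sum_range_succ, add_sub_cancel_left]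
  have hSmem : ∀ K j, S K j ∈ N 0 := by
    intro K j
    exact (N 0).sum_mem (fun k _ => hNanti (Nat.zero_le k) (hdmem k j))
  have hxS : ∀ K, x - ∑ j, g j • S K j = r K := by
    intro K
    induction K with
    | zero => simp [S, hr0]
    | succ K ih =>
      have h1 : ∀ j, S (K + 1) j = S K j + d K j := fun j => by rw [← hSsucc K j]; abel
      have h2 : ∑ j, g j • S (K + 1) j = ∑ j, g j • S K j + ∑ j, g j • d K j := by
        simp only [h1, smul_add, Finset.sum_add_distrib]
      have h3 : ∑ j, g j • pick K (r K) j = ∑ j, g j • d K j := rfl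
      rw [hrs, h2, h3, ← ih]
      abel
  have hlim : ∀ j, ∃ a, Tendsto (fun K => S K j) atTop (𝓝 a) := by
    intro j
    apply cauchySeq_tendsto_of_complete
    apply NonarchimedeanAddGroup.cauchySeq_of_tendsto_sub_nhds_zero
    have : Tendsto (fun k => d k j) atTop (𝓝 0) :=
      tendsto_zero_of_mem N hNanti hNbasis (fun k => d k j) 0
        (fun k => by rw [zero_add]; exact hdmem k j)
    simpa only [hSsucc] using this
  choose a ha using hlim
  have hcl : ∀ k, IsClosed (N k : Set Mh) :=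
    fun k => AddSubgroup.isClosed_of_isOpen (N k).toAddSubgroup (hNo k)
  refine ⟨a, fun j => ?_, ?_⟩
  · exact (hcl 0).mem_of_tendsto (ha j) (Filter.Eventually.of_forall (fun K => hSmem K j))
  · have h1 : Tendsto (fun K => x - ∑ j, g j • S K j) atTop (𝓝 (x - ∑ j, g j • a j)) :=
      tendsto_const_nhds.sub (tendsto_finsetSum _ (fun j _ => (ha j).const_smul (g j)))
    have h2 : Tendsto (fun K => x - ∑ j, g j • S K j) atTop (𝓝 0) := by
      simp only [hxS]
      exact tendsto_zero_of_mem N hNanti hNbasis r n hrmem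
    exact sub_eq_zero.1 (tendsto_nhds_unique h1 h2)

end Approx

section Compl

set_option linter.unusedSectionVars false

open UniformSpace

variable {R : Type u} [CommRing R] {M : Type v} [AddCommGroup M] [Module R M] [UniformSpace M]
  [IsUniformAddGroup M] [UniformContinuousConstSMul R M]

noncomputable def coeL : M →ₗ[R] Completion M where
  toFun x := (x : Completion M)
  map_add' := Completion.coe_add
  map_smul' c x := Completion.coe_smul c x

theorem coeL_apply (x : M) : (coeL (R := R) x : Completion M) = (x : Completion M) := rfl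

variable (I : Ideal R) (M' : Submodule R M)

noncomputable def Nn (n : ℕ) : Submodule R (Completion M) :=
  (Submodule.map (coeL (R := R)) (I ^ n • M')).topologicalClosure

theorem coe_Nn (n : ℕ) : (Nn I M' n : Set (Completion M)) =
    closure ((fun x : M => (x : Completion M)) '' ((I ^ n • M' : Submodule R M) : Set M)) := by
  rw [Nn, Submodule.topologicalClosure_coe, Submodule.map_coe]
  rfl

theorem coe_mem_Nn (n : ℕ) (y : M) (hy : y ∈ I ^ n • M') : (y : Completion M) ∈ Nn I M' n := by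
  rw [← SetLike.mem_coe, coe_Nn]
  exact subset_closure ⟨y, hy, rfl⟩

theorem Nn_antitone : Antitone (Nn I M') := by
  intro a b hab
  apply Submodule.topologicalClosure_mono
  apply Submodule.map_mono
  exact Submodule.smul_mono_left (Ideal.pow_le_pow_right hab)

theorem isOpen_Nn (n : ℕ) (hopen : IsOpen ((I ^ n • M' : Submodule R M) : Set M)) :
    IsOpen (Nn I M' n : Set (Completion M)) := by
  have h : (Nn I M' n : Set (Completion M)) ∈ 𝓝 (0 : Completion M) := by
    rw [coe_Nn]
    have := Completion.isDenseInducing_coe.closure_image_mem_nhds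
      (hopen.mem_nhds (I ^ n • M' : Submodule R M).zero_mem)
    rwa [Completion.coe_zero] at this
  exact AddSubgroup.isOpen_of_mem_nhds (Nn I M' n).toAddSubgroup h

theorem Nn_basis (hbasis : ∀ U ∈ 𝓝 (0 : M), ∃ n : ℕ, ((I ^ n • M' : Submodule R M) : Set M) ⊆ U)
    (U : Set (Completion M)) (hU : U ∈ 𝓝 (0 : Completion M)) :
    ∃ n, (Nn I M' n : Set (Completion M)) ⊆ U := by
  obtain ⟨V, hV, hVc, hVU⟩ := exists_mem_nhds_isClosed_subset hU
  have hpre : (fun a : M => (a : Completion M)) ⁻¹' V ∈ 𝓝 (0 : M) := by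
    refine (Completion.continuous_coe M).continuousAt.preimage_mem_nhds ?_
    rwa [Completion.coe_zero]
  obtain ⟨n, hn⟩ := hbasis _ hpre
  refine ⟨n, subset_trans ?_ hVU⟩
  rw [coe_Nn]
  refine closure_minimal ?_ hVc
  rintro _ ⟨a, ha, rfl⟩
  exact hn ha

theorem exists_sub_mem_of_mem_closure (T : Set (Completion M)) (m : ℕ)
    (hopen : IsOpen ((I ^ m • M' : Submodule R M) : Set M))
    (x : Completion M) (hx : x ∈ closure T) : ∃ y ∈ T, x - y ∈ Nn I M' m := by
  have hnhd : (fun y => x - y) ⁻¹' (Nn I M' m : Set (Completion M)) ∈ 𝓝 x := by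
    have hc : Continuous (fun y : Completion M => x - y) := continuous_const.sub continuous_id
    refine hc.continuousAt.preimage_mem_nhds ?_
    simp only [sub_self]
    exact (isOpen_Nn I M' m hopen).mem_nhds (Nn I M' m).zero_mem
  obtain ⟨y, hyN, hyT⟩ := mem_closure_iff_nhds.1 hx _ hnhd
  exact ⟨y, hyT, hyN⟩

theorem exists_sub_mem (n m : ℕ) (hopen : IsOpen ((I ^ m • M' : Submodule R M) : Set M))
    (x : Completion M) (hx : x ∈ Nn I M' n) :
    ∃ y ∈ I ^ n • M', x - (y : Completion M) ∈ Nn I M' m := by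
  have hx' : x ∈ closure ((fun x : M => (x : Completion M)) ''
      ((I ^ n • M' : Submodule R M) : Set M)) := by
    rw [← coe_Nn]
    exact hx
  obtain ⟨_, ⟨y, hy, rfl⟩, h⟩ := exists_sub_mem_of_mem_closure I M' _ m hopen x hx'
  exact ⟨y, hy, h⟩

theorem exists_sub_mem_dense (m : ℕ) (hopen : IsOpen ((I ^ m • M' : Submodule R M) : Set M))
    (x : Completion M) : ∃ y : M, x - (y : Completion M) ∈ Nn I M' m := by
  obtain ⟨_, ⟨y, rfl⟩, h⟩ := exists_sub_mem_of_mem_closure I M' _ m hopen x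
    (Completion.denseRange_coe x)
  exact ⟨y, h⟩

theorem mem_of_coe_mem_Nn (n : ℕ) (hopen : IsOpen ((I ^ n • M' : Submodule R M) : Set M))
    (y : M) (hy : (y : Completion M) ∈ Nn I M' n) : y ∈ I ^ n • M' := by
  have hcl : IsClosed ((I ^ n • M' : Submodule R M) : Set M) :=
    AddSubgroup.isClosed_of_isOpen (I ^ n • M' : Submodule R M).toAddSubgroup hopen
  have h1 : y ∈ closure ((I ^ n • M' : Submodule R M) : Set M) := by
    rw [Completion.isDenseInducing_coe.isInducing.closure_eq_preimage_closure_image]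
    rw [← SetLike.mem_coe, coe_Nn] at hy
    exact hy
  rwa [hcl.closure_eq] at h1

end Compl

section Key

set_option linter.unusedSectionVars false

open UniformSpace

theorem exists_sum_of_mem_smul {R : Type u} [CommRing R] {X : Type v} [AddCommGroup X]
    [Module R X] {s : ℕ} (g : Fin s → R) (Q : Submodule R X) (y : X)
    (hy : y ∈ Ideal.span (Set.range g) • Q) :
    ∃ c : Fin s → X, (∀ j, c j ∈ Q) ∧ y = ∑ j, g j • c j := by
  refine Submodule.smul_induction_on hy ?_ ?_
  · intro r hr m hm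
    obtain ⟨a, rfl⟩ := Ideal.mem_span_range_iff_exists_fun.1 hr
    refine ⟨fun j => a j • m, fun j => Q.smul_mem _ hm, ?_⟩
    rw [Finset.sum_smul]
    refine Finset.sum_congr rfl (fun j _ => ?_)
    rw [mul_comm, mul_smul]
  · rintro x y ⟨c, hc, rfl⟩ ⟨c', hc', rfl⟩
    refine ⟨fun j => c j + c' j, fun j => Q.add_mem (hc j) (hc' j), ?_⟩
    simp only [smul_add, Finset.sum_add_distrib]

variable {R : Type u} [CommRing R] {M : Type v} [AddCommGroup M] [Module R M] [UniformSpace M]
  [IsUniformAddGroup M] [UniformContinuousConstSMul R M]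
variable (I : Ideal R) (M' : Submodule R M)

theorem coe_sum_smul {s : ℕ} (g : Fin s → R) (c : Fin s → M) :
    ∑ j, g j • ((c j : M) : Completion M) = ((∑ j, g j • c j : M) : Completion M) := by
  rw [← coeL_apply (R := R), map_sum]
  refine Finset.sum_congr rfl (fun j _ => ?_)
  rw [map_smul, coeL_apply]

theorem Nn_le_smul (hfg : I.FG)
    (hopen : ∀ n : ℕ, IsOpen ((I ^ n • M' : Submodule R M) : Set M))
    (hbasis : ∀ U ∈ 𝓝 (0 : M), ∃ n : ℕ, ((I ^ n • M' : Submodule R M) : Set M) ⊆ U) (n : ℕ) :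
    Nn I M' n ≤ I ^ n • Nn I M' 0 := by
  obtain ⟨s, g, hg⟩ := Submodule.fg_iff_exists_fin_generating_family.1 (hfg.pow (n := n))
  have hg' : Ideal.span (Set.range g) = I ^ n := hg
  intro x hx
  have hstep : ∀ k : ℕ, ∀ x ∈ Nn I M' (n + k), ∃ c : Fin s → Completion M,
      (∀ j, c j ∈ Nn I M' k) ∧ x - ∑ j, g j • c j ∈ Nn I M' (n + k + 1) := by
    intro k x hx
    obtain ⟨y, hy, hxy⟩ := exists_sub_mem I M' (n + k) (n + k + 1) (hopen _) x hx
    have hy' : y ∈ Ideal.span (Set.range g) • (I ^ k • M') := by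
      rw [hg', ← Submodule.mul_smul, ← pow_add]
      exact hy
    obtain ⟨c, hc, rfl⟩ := exists_sum_of_mem_smul g _ y hy'
    refine ⟨fun j => (c j : Completion M), fun j => coe_mem_Nn I M' k (c j) (hc j), ?_⟩
    rw [coe_sum_smul]
    exact hxy
  obtain ⟨a, ha, rfl⟩ := approx_main (Nn I M') (fun k => isOpen_Nn I M' k (hopen k))
    (Nn_antitone I M') (Nn_basis I M' hbasis) g n hstep x hx
  refine Submodule.sum_mem _ (fun j _ => Submodule.smul_mem_smul ?_ (ha j))
  rw [← hg']
  exact Ideal.subset_span ⟨j, rfl⟩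

theorem smul_Nn_le (n : ℕ) : I ^ n • Nn I M' 0 ≤ Nn I M' n := by
  rw [Submodule.smul_le]
  intro r hr z hz
  rw [← SetLike.mem_coe, coe_Nn] at hz ⊢
  have hc : Continuous (fun z : Completion M => r • z) := continuous_const_smul r
  refine map_mem_closure hc hz ?_
  rintro _ ⟨y, hy, rfl⟩
  refine ⟨r • y, ?_, Completion.coe_smul r y⟩
  have hy' : y ∈ M' := by
    have h := hy
    rw [SetLike.mem_coe, pow_zero, Ideal.one_eq_top, Submodule.top_smul] at h
    exact h
  exact Submodule.smul_mem_smul hr hy'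

theorem smul_Nn_eq (hfg : I.FG)
    (hopen : ∀ n : ℕ, IsOpen ((I ^ n • M' : Submodule R M) : Set M))
    (hbasis : ∀ U ∈ 𝓝 (0 : M), ∃ n : ℕ, ((I ^ n • M' : Submodule R M) : Set M) ⊆ U) (n : ℕ) :
    I ^ n • Nn I M' 0 = Nn I M' n :=
  le_antisymm (smul_Nn_le I M' n) (Nn_le_smul I M' hfg hopen hbasis n)

end Key

end Groth.Agent.Lib.Helper63.ComplAdicMod
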