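import Groth.Agent.Lib.Helper63.Taut
import Mathlib.Topology.Algebra.UniformRing

set_option autoImplicit false
universe u

namespace Groth.Agent.Lib.Helper63.ComplTaut

open Topology UniformSpace Groth.Agent.Lib.Helper70.LinTopLib

variable {A : Type u} [CommRing A] [UniformSpace A] [IsUniformAddGroup A] [IsTopologicalRing A]

theorem mul_mem_closure_image (I : Ideal A) (b t : Completion A)
    (ht : t ∈ closure ((fun a : A => (a : Completion A)) '' (I : Set A))) :
    b * t ∈ closure ((fun a : A => (a : Completion A)) '' (I : Set A)) := by
  have h1 : ∀ a' : A, ∀ t' ∈ closure ((fun a : A => (a : Completion A)) '' (I : Set A)),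
      (a' : Completion A) * t' ∈ closure ((fun a : A => (a : Completion A)) '' (I : Set A)) := by
    intro a' t' ht'
    have hc : Continuous (fun z : Completion A => (a' : Completion A) * z) :=
      continuous_const.mul continuous_id
    refine map_mem_closure hc ht' ?_
    intro z hz
    obtain ⟨i, hi, rfl⟩ := hz
    exact ⟨a' * i, I.mul_mem_left a' hi, Completion.coe_mul a' i⟩
  have hc : Continuous (fun z : Completion A => z * t) := continuous_id.mul continuous_const
  have hd : b ∈ closure (Set.range (fun a : A => (a : Completion A))) :=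
    Completion.denseRange_coe b
  have := map_mem_closure hc hd (t := closure ((fun a : A => (a : Completion A)) '' (I : Set A)))
    (by rintro _ ⟨a', rfl⟩; exact h1 a' t ht)
  rwa [closure_closure] at this

theorem closure_map_coe_eq (I : Ideal A) :
    closure ((I.map (Completion.coeRingHom : A →+* Completion A) : Ideal (Completion A)) :
      Set (Completion A)) = closure ((fun a : A => (a : Completion A)) '' (I : Set A)) := by
  apply subset_antisymm
  · refine closure_minimal ?_ isClosed_closure
    intro x hx
    refine Submodule.span_induction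
      (p := fun x _ => x ∈ closure ((fun a : A => (a : Completion A)) '' (I : Set A)))
      ?_ ?_ ?_ ?_ hx
    · rintro _ ⟨a, ha, rfl⟩
      exact subset_closure ⟨a, ha, rfl⟩
    · exact subset_closure ⟨0, I.zero_mem, rfl⟩
    · intro x y _ _ hx hy
      exact map_mem_closure₂ continuous_add hx hy (by
        rintro _ ⟨a, ha, rfl⟩ _ ⟨b, hb, rfl⟩
        exact ⟨a + b, I.add_mem ha hb, Completion.coe_add a b⟩)
    · intro b x _ hx
      exact mul_mem_closure_image I b x hx
  · apply closure_mono
    rintro _ ⟨a, ha, rfl⟩
    exact Ideal.mem_map_of_mem _ ha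

theorem closure_map_coe_mem_nhds (I : Ideal A) (hI : IsOpen (I : Set A)) :
    closure ((I.map (Completion.coeRingHom : A →+* Completion A) : Ideal (Completion A)) :
      Set (Completion A)) ∈ 𝓝 (0 : Completion A) := by
  rw [closure_map_coe_eq]
  have := Completion.isDenseInducing_coe.closure_image_mem_nhds (hI.mem_nhds I.zero_mem)
  rwa [Completion.coe_zero] at this

theorem isOpen_closure_map_coe (I : Ideal A) (hI : IsOpen (I : Set A)) :
    IsOpen (closure ((I.map (Completion.coeRingHom : A →+* Completion A) :
      Ideal (Completion A)) : Set (Completion A))) := by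
  have h := closure_map_coe_mem_nhds I hI
  rw [← Ideal.coe_closure] at h ⊢
  exact AddSubgroup.isOpen_of_mem_nhds
    (Submodule.toAddSubgroup (I.map (Completion.coeRingHom : A →+* Completion A)).closure) h

theorem exists_closure_map_coe_subset [IsLinearTopology A A] (U : Set (Completion A))
    (hU : U ∈ 𝓝 (0 : Completion A)) :
    ∃ I : Ideal A, IsOpen (I : Set A) ∧
      closure ((I.map (Completion.coeRingHom : A →+* Completion A) : Ideal (Completion A)) :
        Set (Completion A)) ⊆ U := by
  obtain ⟨V, hV, hVc, hVU⟩ := exists_mem_nhds_isClosed_subset hU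
  have hpre : (fun a : A => (a : Completion A)) ⁻¹' V ∈ 𝓝 (0 : A) := by
    refine (Completion.continuous_coe A).continuousAt.preimage_mem_nhds ?_
    rwa [Completion.coe_zero]
  obtain ⟨I, hI, hIV⟩ := exists_open_ideal_subset hpre
  refine ⟨I, hI, subset_trans ?_ hVU⟩
  rw [closure_map_coe_eq]
  refine closure_minimal ?_ hVc
  rintro _ ⟨a, ha, rfl⟩
  exact hIV ha

theorem isLinearTopology_completion [IsLinearTopology A A] :
    IsLinearTopology (Completion A) (Completion A) := by
  refine IsLinearTopology.mk_of_hasBasis (Completion A)
    (ι := {I : Ideal A // IsOpen (I : Set A)}) (S := Ideal (Completion A))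
    (p := fun _ => True)
    (s := fun I => (I.1.map (Completion.coeRingHom : A →+* Completion A)).closure) ?_
  constructor
  intro U
  constructor
  · intro hU
    obtain ⟨I, hI, hIU⟩ := exists_closure_map_coe_subset U hU
    refine ⟨⟨I, hI⟩, trivial, ?_⟩
    rw [Ideal.coe_closure]
    exact hIU
  · rintro ⟨⟨I, hI⟩, -, hIU⟩
    rw [Ideal.coe_closure] at hIU
    exact Filter.mem_of_superset (closure_map_coe_mem_nhds I hI) hIU

theorem isTaut_coe [IsLinearTopology A A] :
    LinTop.IsTaut (Completion.coeRingHom : A →+* Completion A) :=
  ⟨Completion.continuous_coeRingHom, isOpen_closure_map_coe, exists_closure_map_coe_subset⟩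

end Groth.Agent.Lib.Helper63.ComplTaut
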