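import Mathlib
import Groth.Prelude.Def_EGA4b
import Groth.Agent.Lib.Helper63.ComplRing
import Groth.Agent.Lib.Helper63.SemilocalComplete
import Groth.Agent.Lib.Helper58.AdicFunct

set_option autoImplicit false
universe u
open TensorProduct

namespace Groth.Agent.Lib.Helper63.CplTensor

variable (A B : Type u) [CommRing A] [CommRing B] [IsLocalRing A]
  [IsLocalRing B] [Algebra A B] [IsLocalHom (algebraMap A B)]

theorem pow_le_comap (n : ℕ) : (IsLocalRing.maximalIdeal A) ^ n ≤
    ((IsLocalRing.maximalIdeal B) ^ n).comap (Algebra.ofId A B) := by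
  have hloc : IsLocalHom (algebraMap A B) := inferInstance
  have h : IsLocalRing.maximalIdeal A ≤ (IsLocalRing.maximalIdeal B).comap (algebraMap A B) :=
    ((IsLocalRing.local_hom_TFAE (algebraMap A B)).out 0 3).mp hloc
  exact (Ideal.pow_right_mono h n).trans (Ideal.le_comap_pow _ n)

noncomputable def rho (n : ℕ) :
    B ⊗[A] AdicCompletion (IsLocalRing.maximalIdeal A) A →ₐ[A] B ⧸ (IsLocalRing.maximalIdeal B) ^ n :=
  Algebra.TensorProduct.lift (Ideal.Quotient.mkₐ A ((IsLocalRing.maximalIdeal B) ^ n))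
    ((Ideal.quotientMapₐ ((IsLocalRing.maximalIdeal B) ^ n) (Algebra.ofId A B)
      (pow_le_comap A B n)).comp (AdicCompletion.evalₐ (IsLocalRing.maximalIdeal A) n))
    (fun _ _ => Commute.all _ _)

theorem rho_algebraMap (n : ℕ) (b : B) :
    rho A B n (algebraMap B (B ⊗[A] AdicCompletion (IsLocalRing.maximalIdeal A) A) b) =
      Ideal.Quotient.mk _ b := by
  rw [Algebra.TensorProduct.algebraMap_apply, rho, Algebra.TensorProduct.lift_tmul, map_one,
    mul_one]
  rfl

theorem mem_pow_of_map_mem (n : ℕ) (b : B)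
    (h : algebraMap B (B ⊗[A] AdicCompletion (IsLocalRing.maximalIdeal A) A) b ∈
      ((IsLocalRing.maximalIdeal B) ^ n).map
        (algebraMap B (B ⊗[A] AdicCompletion (IsLocalRing.maximalIdeal A) A))) :
    b ∈ (IsLocalRing.maximalIdeal B) ^ n := by
  have h1 := Ideal.mem_map_of_mem (rho A B n) h
  have h2 : (((IsLocalRing.maximalIdeal B) ^ n).map
      (algebraMap B (B ⊗[A] AdicCompletion (IsLocalRing.maximalIdeal A) A))).map (rho A B n) ≤ ⊥ := by
    rw [Ideal.map_le_iff_le_comap, Ideal.map_le_iff_le_comap]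
    intro c hc
    rw [Ideal.mem_comap, Ideal.mem_comap, rho_algebraMap, Ideal.mem_bot,
      Ideal.Quotient.eq_zero_iff_mem]
    exact hc
  have h3 := h2 h1
  rw [Ideal.mem_bot, rho_algebraMap, Ideal.Quotient.eq_zero_iff_mem] at h3
  exact h3

variable [IsNoetherianRing A]

theorem exists_sub_mem (n : ℕ) (r : B ⊗[A] AdicCompletion (IsLocalRing.maximalIdeal A) A) :
    ∃ b : B, r - algebraMap B (B ⊗[A] AdicCompletion (IsLocalRing.maximalIdeal A) A) b ∈
      ((IsLocalRing.maximalIdeal B) ^ n).map
        (algebraMap B (B ⊗[A] AdicCompletion (IsLocalRing.maximalIdeal A) A)) := by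
  induction r using TensorProduct.induction_on with
  | zero => exact ⟨0, by simp⟩
  | tmul b₀ x =>
    obtain ⟨a, ha⟩ := Groth.Agent.Lib.Helper63.ComplRing.exists_sub_mem
      (IsLocalRing.maximalIdeal A) (IsNoetherian.noetherian _) x n
    refine ⟨a • b₀, ?_⟩
    have e : b₀ ⊗ₜ[A] x - algebraMap B (B ⊗[A] AdicCompletion (IsLocalRing.maximalIdeal A) A) (a • b₀) =
        algebraMap B (B ⊗[A] AdicCompletion (IsLocalRing.maximalIdeal A) A) b₀ *
          (Algebra.TensorProduct.includeRight : AdicCompletion (IsLocalRing.maximalIdeal A) A →ₐ[A]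
            B ⊗[A] AdicCompletion (IsLocalRing.maximalIdeal A) A)
            (x - algebraMap A (AdicCompletion (IsLocalRing.maximalIdeal A) A) a) := by
      rw [Algebra.TensorProduct.algebraMap_apply, Algebra.TensorProduct.algebraMap_apply,
        Algebra.TensorProduct.includeRight_apply, Algebra.TensorProduct.tmul_mul_tmul,
        Algebra.algebraMap_self, RingHom.id_apply, RingHom.id_apply, mul_one, one_mul,
        TensorProduct.tmul_sub, Algebra.algebraMap_eq_smul_one, TensorProduct.tmul_smul,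
        TensorProduct.smul_tmul']
    rw [e]
    apply Ideal.mul_mem_left
    have hle : ((IsLocalRing.maximalIdeal A).map
        (algebraMap A (AdicCompletion (IsLocalRing.maximalIdeal A) A))) ^ n ≤
        (((IsLocalRing.maximalIdeal B) ^ n).map
          (algebraMap B (B ⊗[A] AdicCompletion (IsLocalRing.maximalIdeal A) A))).comap
          (Algebra.TensorProduct.includeRight : AdicCompletion (IsLocalRing.maximalIdeal A) A →ₐ[A]
            B ⊗[A] AdicCompletion (IsLocalRing.maximalIdeal A) A) := by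
      rw [← Ideal.map_pow, Ideal.map_le_iff_le_comap]
      intro c hc
      rw [Ideal.mem_comap, Ideal.mem_comap]
      have h1 : (Algebra.TensorProduct.includeRight : AdicCompletion (IsLocalRing.maximalIdeal A) A →ₐ[A]
            B ⊗[A] AdicCompletion (IsLocalRing.maximalIdeal A) A)
            (algebraMap A (AdicCompletion (IsLocalRing.maximalIdeal A) A) c) =
          algebraMap B (B ⊗[A] AdicCompletion (IsLocalRing.maximalIdeal A) A) (algebraMap A B c) := by
        rw [Algebra.TensorProduct.algebraMap_apply, Algebra.TensorProduct.includeRight_apply,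
          Algebra.algebraMap_self, RingHom.id_apply, Algebra.algebraMap_eq_smul_one,
          Algebra.algebraMap_eq_smul_one, TensorProduct.tmul_smul, TensorProduct.smul_tmul']
      rw [h1]
      exact Ideal.mem_map_of_mem _ (pow_le_comap A B n hc)
    exact hle ha
  | add x y hx hy =>
    obtain ⟨b1, h1⟩ := hx
    obtain ⟨b2, h2⟩ := hy
    refine ⟨b1 + b2, ?_⟩
    have e : x + y - algebraMap B (B ⊗[A] AdicCompletion (IsLocalRing.maximalIdeal A) A) (b1 + b2) =
        (x - algebraMap B (B ⊗[A] AdicCompletion (IsLocalRing.maximalIdeal A) A) b1) +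
        (y - algebraMap B (B ⊗[A] AdicCompletion (IsLocalRing.maximalIdeal A) A) b2) := by
      rw [map_add]
      ring
    rw [e]
    exact Ideal.add_mem _ h1 h2

variable (n' : Ideal (B ⊗[A] AdicCompletion (IsLocalRing.maximalIdeal A) A)) [hp : n'.IsPrime]
  (h1 : n'.comap (algebraMap B (B ⊗[A] AdicCompletion (IsLocalRing.maximalIdeal A) A)) =
    IsLocalRing.maximalIdeal B)

omit hp in
include h1 in
theorem eq_map : n' = (IsLocalRing.maximalIdeal B).map
    (algebraMap B (B ⊗[A] AdicCompletion (IsLocalRing.maximalIdeal A) A)) := by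
  have hle : (IsLocalRing.maximalIdeal B).map
      (algebraMap B (B ⊗[A] AdicCompletion (IsLocalRing.maximalIdeal A) A)) ≤ n' :=
    Ideal.map_le_iff_le_comap.mpr h1.ge
  refine le_antisymm ?_ hle
  intro r hr
  obtain ⟨b, hb⟩ := exists_sub_mem A B 1 r
  rw [pow_one] at hb
  have h2 : algebraMap B (B ⊗[A] AdicCompletion (IsLocalRing.maximalIdeal A) A) b ∈ n' := by
    have := Ideal.sub_mem _ hr (hle hb)
    rwa [sub_sub_cancel] at this
  have h3 : b ∈ IsLocalRing.maximalIdeal B := by
    rw [← h1]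
    exact h2
  have := Ideal.add_mem _ hb (Ideal.mem_map_of_mem _ h3)
  rwa [sub_add_cancel] at this

include h1 in
theorem isMaximal : n'.IsMaximal := by
  rw [Ideal.isMaximal_iff]
  refine ⟨fun h => hp.ne_top ((Ideal.eq_top_iff_one _).mpr h), fun J x hJ hx hxJ => ?_⟩
  have hle : (IsLocalRing.maximalIdeal B).map
      (algebraMap B (B ⊗[A] AdicCompletion (IsLocalRing.maximalIdeal A) A)) ≤ n' :=
    Ideal.map_le_iff_le_comap.mpr h1.ge
  obtain ⟨b, hb⟩ := exists_sub_mem A B 1 x
  rw [pow_one] at hb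
  have h2 : algebraMap B (B ⊗[A] AdicCompletion (IsLocalRing.maximalIdeal A) A) b ∈ J := by
    have := Ideal.sub_mem _ hxJ (hJ (hle hb))
    rwa [sub_sub_cancel] at this
  have h3 : b ∉ IsLocalRing.maximalIdeal B := by
    intro h3
    apply hx
    have := Ideal.add_mem _ (hle hb) (hle (Ideal.mem_map_of_mem _ h3))
    rwa [sub_add_cancel] at this
  have h4 : IsUnit b := by
    by_contra h4
    exact h3 h4
  have h5 := h4.map (algebraMap B (B ⊗[A] AdicCompletion (IsLocalRing.maximalIdeal A) A))
  exact (Ideal.eq_top_iff_one _).mp (Ideal.eq_top_of_isUnit_mem _ h2 h5)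

include h1 in
theorem main_aux (L : Type u) [CommRing L] [IsLocalRing L]
    [Algebra (B ⊗[A] AdicCompletion (IsLocalRing.maximalIdeal A) A) L]
    [IsLocalization.AtPrime L n'] : Nonempty (EGA4.Cpl B ≃+* EGA4.Cpl L) := by
  have hmax := isMaximal A B n' h1
  have heq := eq_map A B n' h1
  have hJ : ∀ n : ℕ, (IsLocalRing.maximalIdeal L) ^ n =
      (n' ^ n).map (algebraMap (B ⊗[A] AdicCompletion (IsLocalRing.maximalIdeal A) A) L) := by
    intro n
    rw [Ideal.map_pow, IsLocalization.AtPrime.map_eq_maximalIdeal n' L]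
  have hpow : ∀ n : ℕ, n' ^ n = ((IsLocalRing.maximalIdeal B) ^ n).map
      (algebraMap B (B ⊗[A] AdicCompletion (IsLocalRing.maximalIdeal A) A)) := by
    intro n
    rw [Ideal.map_pow, ← heq]
  let σ : B →+* L :=
    (algebraMap (B ⊗[A] AdicCompletion (IsLocalRing.maximalIdeal A) A) L).comp
      (algebraMap B (B ⊗[A] AdicCompletion (IsLocalRing.maximalIdeal A) A))
  have hσ : ∀ b, σ b = algebraMap (B ⊗[A] AdicCompletion (IsLocalRing.maximalIdeal A) A) L
      (algebraMap B (B ⊗[A] AdicCompletion (IsLocalRing.maximalIdeal A) A) b) := fun b => rfl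
  have h : IsLocalRing.maximalIdeal B ≤ (IsLocalRing.maximalIdeal L).comap σ := by
    intro b hb
    rw [Ideal.mem_comap, hσ, ← IsLocalization.AtPrime.map_eq_maximalIdeal n' L]
    apply Ideal.mem_map_of_mem
    rw [heq]
    exact Ideal.mem_map_of_mem _ hb
  refine ⟨RingEquiv.ofBijective _ (Groth.Agent.Lib.Helper58.AdicFunct.adicMap_bijective
    (IsLocalRing.maximalIdeal B) (IsLocalRing.maximalIdeal L) σ h ?_)⟩
  intro n
  constructor
  · rw [injective_iff_map_eq_zero]
    intro q hq
    obtain ⟨b, rfl⟩ := Ideal.Quotient.mk_surjective q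
    rw [Ideal.quotientMap_mk, Ideal.Quotient.eq_zero_iff_mem, hJ, hσ] at hq
    have h2 := Groth.Agent.Lib.Helper63.SemilocalComplete.mem_pow_of_algebraMap_mem' n' L n _ hq
    rw [hpow] at h2
    rw [Ideal.Quotient.eq_zero_iff_mem]
    exact mem_pow_of_map_mem A B n b h2
  · intro y
    obtain ⟨x, rfl⟩ := Ideal.Quotient.mk_surjective y
    obtain ⟨r, hr⟩ := Groth.Agent.Lib.Helper63.SemilocalComplete.exists_sub_mem_map' n' L n x
    obtain ⟨b, hb⟩ := exists_sub_mem A B n r
    refine ⟨Ideal.Quotient.mk _ b, ?_⟩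
    rw [Ideal.quotientMap_mk, eq_comm, Ideal.Quotient.mk_eq_mk_iff_sub_mem, hJ, hσ]
    have e : x - algebraMap (B ⊗[A] AdicCompletion (IsLocalRing.maximalIdeal A) A) L
        (algebraMap B (B ⊗[A] AdicCompletion (IsLocalRing.maximalIdeal A) A) b) =
        (x - algebraMap (B ⊗[A] AdicCompletion (IsLocalRing.maximalIdeal A) A) L r) +
        algebraMap (B ⊗[A] AdicCompletion (IsLocalRing.maximalIdeal A) A) L
          (r - algebraMap B (B ⊗[A] AdicCompletion (IsLocalRing.maximalIdeal A) A) b) := by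
      rw [map_sub]
      ring
    rw [e]
    refine Ideal.add_mem _ hr (Ideal.mem_map_of_mem _ ?_)
    rw [hpow]
    exact hb

include h1 in
theorem main : Nonempty (EGA4.Cpl B ≃+* EGA4.Cpl (Localization.AtPrime n')) :=
  main_aux A B n' h1 (Localization.AtPrime n')

end Groth.Agent.Lib.Helper63.CplTensor
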