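import Mathlib.AlgebraicGeometry.Morphisms.Proper
import Mathlib.AlgebraicGeometry.Morphisms.QuasiSeparated
import Mathlib.AlgebraicGeometry.Morphisms.Separated
import Mathlib.AlgebraicGeometry.Morphisms.Immersion

set_option autoImplicit false
universe u

open CategoryTheory CategoryTheory.Limits AlgebraicGeometry MorphismProperty

namespace Groth.Agent.Lib.Helper63.DescendSurj

variable {W X Y : Scheme.{u}}

theorem quasiCompact_of_comp_surjective (h : W ⟶ X) (f : X ⟶ Y) [Surjective h]
    [QuasiCompact (h ≫ f)] : QuasiCompact f := by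
  constructor
  intro U hU hUc
  have h1 : IsCompact ((h ≫ f) ⁻¹' U) := QuasiCompact.isCompact_preimage U hU hUc
  have h2 : f ⁻¹' U = h '' ((h ≫ f) ⁻¹' U) := by
    ext x
    constructor
    · intro hx
      obtain ⟨w, rfl⟩ := Surjective.surj (f := h) x
      exact ⟨w, by simpa using hx, rfl⟩
    · rintro ⟨w, hw, rfl⟩
      simpa using hw
  rw [h2]
  exact h1.image h.continuous

theorem diagonal_comp_map (h : W ⟶ X) (f : X ⟶ Y) :
    pullback.diagonal (h ≫ f) ≫
      pullback.map (h ≫ f) (h ≫ f) f f h h (𝟙 Y) (by rw [Category.comp_id])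
        (by rw [Category.comp_id]) = h ≫ pullback.diagonal f := by
  apply pullback.hom_ext
  · simp only [Category.assoc, pullback.map]
    rw [pullback.lift_fst, pullback.diagonal_fst_assoc, pullback.diagonal_fst, Category.comp_id]
  · simp only [Category.assoc, pullback.map]
    rw [pullback.lift_snd, pullback.diagonal_snd_assoc, pullback.diagonal_snd, Category.comp_id]

theorem quasiSeparated_of_comp_surjective (h : W ⟶ X) (f : X ⟶ Y) [Surjective h]
    [QuasiCompact h] [QuasiSeparated (h ≫ f)] : QuasiSeparated f := by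
  constructor
  have hm : QuasiCompact (pullback.map (h ≫ f) (h ≫ f) f f h h (𝟙 Y)
      (by rw [Category.comp_id]) (by rw [Category.comp_id])) :=
    MorphismProperty.pullbackMap (P := @QuasiCompact) ‹QuasiCompact h› ‹QuasiCompact h› rfl rfl
  have : QuasiCompact (h ≫ pullback.diagonal f) := by
    rw [← diagonal_comp_map]
    infer_instance
  exact quasiCompact_of_comp_surjective h (pullback.diagonal f)

theorem isSeparated_of_comp_surjective (h : W ⟶ X) (f : X ⟶ Y) [Surjective h]
    [UniversallyClosed h] [IsSeparated (h ≫ f)] : IsSeparated f := by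
  constructor
  have hm : UniversallyClosed (pullback.map (h ≫ f) (h ≫ f) f f h h (𝟙 Y)
      (by rw [Category.comp_id]) (by rw [Category.comp_id])) :=
    MorphismProperty.pullbackMap (P := @UniversallyClosed) ‹UniversallyClosed h›
      ‹UniversallyClosed h› rfl rfl
  apply IsClosedImmersion.of_isPreimmersion
  have h1 : Set.range (pullback.diagonal f) = Set.range (h ≫ pullback.diagonal f) := by
    ext x
    constructor
    · rintro ⟨y, rfl⟩
      obtain ⟨w, rfl⟩ := Surjective.surj (f := h) y
      exact ⟨w, by simp⟩
    · rintro ⟨w, rfl⟩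
      exact ⟨h w, by simp⟩
  rw [h1, ← diagonal_comp_map, Scheme.Hom.comp_base, TopCat.coe_comp, Set.range_comp]
  exact (Scheme.Hom.isClosedMap _) _ (pullback.diagonal (h ≫ f)).isClosedEmbedding.isClosed_range

end Groth.Agent.Lib.Helper63.DescendSurj
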