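import Groth.Prelude.Def_W4c61motalbdualityCompl
import Mathlib.CategoryTheory.CofilteredSystem
import Mathlib.Topology.Compactness.Compact
import Mathlib.Topology.Order

set_option autoImplicit false
universe u v

namespace Groth.Agent.Lib.Helper63.FIComplLim

open W4c61motalbduality CategoryTheory

section

variable {G : Type u} [AddCommGroup G] [TopologicalSpace G]

def infFI (U V : OpenFI G) : OpenFI G where
  toAddSubgroup := U.toAddSubgroup ⊓ V.toAddSubgroup
  isOpen' := U.isOpen'.inter V.isOpen'
  finiteIndex' := by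
    have := U.finiteIndex'
    have := V.finiteIndex'
    infer_instance

def topFI : OpenFI G where
  toAddSubgroup := ⊤
  isOpen' := by
    rw [AddSubgroup.coe_top]
    exact isOpen_univ
  finiteIndex' := inferInstance

instance : Nonempty (OpenFI G) := ⟨topFI⟩

theorem finite_quot (U : OpenFI G) : Finite (G ⧸ U.toAddSubgroup) := by
  have := U.finiteIndex'
  infer_instance

@[instance_reducible]
def preorderFI : Preorder (OpenFI G) where
  le U V := V.toAddSubgroup ≤ U.toAddSubgroup
  le_refl _ := le_rfl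
  le_trans _ _ _ h1 h2 := h2.trans h1

theorem exists_compl_mem (S : ∀ U : OpenFI G, Set (G ⧸ U.toAddSubgroup))
    (hne : ∀ U, (S U).Nonempty)
    (hcompat : ∀ (U V : OpenFI G) (h : U.toAddSubgroup ≤ V.toAddSubgroup), ∀ t ∈ S U,
      QuotientAddGroup.map U.toAddSubgroup V.toAddSubgroup (AddMonoidHom.id G) h t ∈ S V) :
    ∃ x : FICompl G, ∀ U, x.1 U ∈ S U := by
  let _ : Preorder (OpenFI G) := preorderFI
  have hdir : IsDirectedOrder (OpenFI G) :=
    ⟨fun U V => ⟨infFI U V, (inf_le_left : U.toAddSubgroup ⊓ V.toAddSubgroup ≤ _),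
      (inf_le_right : U.toAddSubgroup ⊓ V.toAddSubgroup ≤ _)⟩⟩
  let F : (OpenFI G)ᵒᵖ ⥤ Type u :=
    { obj := fun U => S U.unop
      map := fun {U V} f => TypeCat.ofHom fun t =>
        ⟨QuotientAddGroup.map U.unop.toAddSubgroup V.unop.toAddSubgroup (AddMonoidHom.id G)
          (leOfHom f.unop) t.1, hcompat _ _ _ t.1 t.2⟩
      map_id := by
        intro U
        ext t
        obtain ⟨t, ht⟩ := t
        obtain ⟨a, rfl⟩ := QuotientAddGroup.mk_surjective t
        rfl
      map_comp := by
        intro U V W f g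
        ext t
        obtain ⟨t, ht⟩ := t
        obtain ⟨a, rfl⟩ := QuotientAddGroup.mk_surjective t
        rfl }
  have hfin : ∀ j : (OpenFI G)ᵒᵖ, Finite (F.obj j) := fun j => by
    have := finite_quot j.unop
    exact Subtype.finite
  have hnon : ∀ j : (OpenFI G)ᵒᵖ, Nonempty (F.obj j) := fun j => (hne j.unop).to_subtype
  obtain ⟨s, hs⟩ := nonempty_sections_of_finite_inverse_system F
  refine ⟨⟨fun U => (s (Opposite.op U)).1, ?_⟩, fun U => (s (Opposite.op U)).2⟩
  intro U V h
  have h1 : V ≤ U := h
  have h2 := hs (homOfLE h1).op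
  exact congrArg Subtype.val h2

theorem exists_mem_iInter_of_directed {ι : Type*} [Nonempty ι] {α : Type*} [Finite α]
    (R : ι → Set α) (hne : ∀ i, (R i).Nonempty) (hdir : ∀ i j, ∃ k, R k ⊆ R i ∩ R j) :
    (⋂ i, R i).Nonempty := by
  let _ : TopologicalSpace α := ⊥
  have hd : DiscreteTopology α := ⟨rfl⟩
  apply IsCompact.nonempty_iInter_of_directed_nonempty_isCompact_isClosed R
  · intro i j
    obtain ⟨k, hk⟩ := hdir i j
    exact ⟨k, fun x hx => (hk hx).1, fun x hx => (hk hx).2⟩
  · exact hne
  · exact fun i => (Set.toFinite (R i)).isCompact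
  · exact fun i => isClosed_discrete _

end

end Groth.Agent.Lib.Helper63.FIComplLim
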