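import Groth.Agent.S0544
import Mathlib.RingTheory.AdicCompletion.Exactness
import Mathlib.RingTheory.Ideal.Operations

set_option autoImplicit false
universe u

namespace Groth.Agent.Lib.Helper63.FiltApprox

theorem isPrecomplete_of_surjective {R : Type*} [CommRing R] (I : Ideal R) {N M : Type*}
    [AddCommGroup N] [Module R N] [AddCommGroup M] [Module R M] (f : N →ₗ[R] M)
    (hf : Function.Surjective f) [IsPrecomplete I N] : IsPrecomplete I M := by
  rw [← AdicCompletion.of_surjective_iff]
  intro y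
  obtain ⟨z, hz⟩ := AdicCompletion.map_surjective I hf y
  obtain ⟨x, hx⟩ := AdicCompletion.of_surjective I N z
  exact ⟨f x, by rw [← AdicCompletion.map_of, hx, hz]⟩

theorem isPrecomplete_of_finite {R : Type u} [CommRing R] (I : Ideal R) [IsPrecomplete I R]
    (M : Type*) [AddCommGroup M] [Module R M] [Module.Finite R M] : IsPrecomplete I M := by
  classical
  obtain ⟨n, f, hf⟩ := Module.Finite.exists_fin' R M
  have := Groth.Agent.S0544.isPrecomplete_pi I (ι := Fin n)
  exact isPrecomplete_of_surjective I f hf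

variable {A : Type u} [CommRing A] (I : Ideal A) {L : Type*} [AddCommGroup L] [Module A L]

def SubPrec (N : Submodule A L) : Prop :=
  ∀ s : ℕ → L, (∀ j, s j ∈ N) → (∀ j, s (j + 1) - s j ∈ I ^ j • N) →
    ∃ t ∈ N, ∀ j, t - s j ∈ I ^ j • N

theorem subPrec_of_fg [IsPrecomplete I A] (N : Submodule A L) (hfg : N.FG) : SubPrec I N := by
  intro s hs hdiff
  have hfin : Module.Finite A N := Module.Finite.iff_fg.mpr hfg
  have hpre : IsPrecomplete I N := isPrecomplete_of_finite I N
  obtain ⟨t, ht⟩ := hpre.prec (f := fun j => (⟨s j, hs j⟩ : N)) (by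
    apply (AdicCompletion.isAdicCauchy_iff I N _).mpr
    intro n
    rw [SModEq.sub_mem, Submodule.mem_smul_top_iff]
    have : ((⟨s n, hs n⟩ - ⟨s (n + 1), hs (n + 1)⟩ : N) : L) = -(s (n + 1) - s n) := by
      simp
    rw [this]
    exact Submodule.neg_mem _ (hdiff n))
  refine ⟨t.1, t.2, fun j => ?_⟩
  have h := ht j
  rw [SModEq.sub_mem, Submodule.mem_smul_top_iff] at h
  have : t.1 - s j = -((⟨s j, hs j⟩ - t : N) : L) := by simp
  rw [this]
  exact Submodule.neg_mem _ h

theorem le_pow_smul (G : ℕ → Submodule A L) (N : Submodule A L) (hprec : SubPrec I N)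
    (hanti : ∀ k, G (k + 1) ≤ G k) (hstep : ∀ k, G k ≤ I ^ k • N ⊔ G (k + 1))
    (hJN : ∀ k, I ^ k • N ≤ G k) (hsep : ⨅ k, G k = ⊥) (k : ℕ) : G k ≤ I ^ k • N := by
  intro x hx
  have hanti' : ∀ {a b : ℕ}, a ≤ b → G b ≤ G a := by
    intro a b hab
    induction b, hab using Nat.le_induction with
    | base => exact le_rfl
    | succ b _ ih => exact (hanti b).trans ih
  have step : ∀ j (s : L), x - s ∈ G (k + j) →
      ∃ s' : L, s' - s ∈ I ^ (k + j) • N ∧ x - s' ∈ G (k + (j + 1)) := by
    intro j s hs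
    obtain ⟨y, hy, z, hz, hyz⟩ := Submodule.mem_sup.mp (hstep (k + j) hs)
    refine ⟨s + y, by simpa using hy, ?_⟩
    have : x - (s + y) = z := by
      have h1 : x = s + (y + z) := by rw [hyz]; abel
      rw [h1]; abel
    rw [this]
    exact hz
  let S : ∀ j, {s : L // x - s ∈ G (k + j)} := fun j =>
    Nat.rec ⟨0, by simpa using hx⟩
      (fun j s => ⟨(step j s.1 s.2).choose, (step j s.1 s.2).choose_spec.2⟩) j
  have hS : ∀ j, (S (j + 1)).1 - (S j).1 ∈ I ^ (k + j) • N :=
    fun j => (step j (S j).1 (S j).2).choose_spec.1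
  have hSk : ∀ j, (S j).1 ∈ I ^ k • N := by
    intro j
    induction j with
    | zero => exact Submodule.zero_mem _
    | succ j ih =>
      have h1 : (S (j + 1)).1 - (S j).1 ∈ I ^ k • N :=
        Submodule.smul_mono_left (Ideal.pow_le_pow_right (Nat.le_add_right k j)) (hS j)
      have : (S (j + 1)).1 = ((S (j + 1)).1 - (S j).1) + (S j).1 := by abel
      rw [this]
      exact Submodule.add_mem _ h1 ih
  have hSN : ∀ j, (S j).1 ∈ N := fun j => Submodule.smul_le_right (hSk j)
  obtain ⟨t, htN, ht⟩ := hprec (fun j => (S j).1) hSN (fun j =>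
    Submodule.smul_mono_left (Ideal.pow_le_pow_right (Nat.le_add_left j k)) (hS j))
  have hxt : x - t ∈ ⨅ k, G k := by
    rw [Submodule.mem_iInf]
    intro i
    have h1 : x - (S i).1 ∈ G i := hanti' (Nat.le_add_left i k) (S i).2
    have h2 : t - (S i).1 ∈ G i := hJN i (ht i)
    have : x - t = (x - (S i).1) - (t - (S i).1) := by abel
    rw [this]
    exact Submodule.sub_mem _ h1 h2
  rw [hsep, Submodule.mem_bot, sub_eq_zero] at hxt
  rw [hxt]
  have : t = (t - (S k).1) + (S k).1 := by abel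
  rw [this]
  exact Submodule.add_mem _ (ht k) (hSk k)

end Groth.Agent.Lib.Helper63.FiltApprox
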