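import Groth.Agent.Lib.Helper75.Fitting12
import Groth.Agent.Lib.Helper75.Fitting8
import Groth.Prelude.Def_FlatCA
import Mathlib

set_option autoImplicit false
universe u v

namespace Groth.Agent.Lib.Helper63.FitSplit

open Groth.Agent.Lib.Helper75.Fitting

theorem fittingZero_eq (R : Type u) [CommRing R] (M : Type u) [AddCommGroup M] [Module R M] :
    FlatCA.fittingZero R M = Fitt.ideal R M 0 := by
  unfold FlatCA.fittingZero Fitt.ideal
  congr 1
  ext d
  constructor
  · rintro ⟨n, x, a, hx, ha, rfl⟩
    exact ⟨n, x, a, hx, fun i _ => ha i, rfl⟩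
  · rintro ⟨n, x, a, hx, ha, rfl⟩
    exact ⟨n, x, a, hx, fun i => ha i (by simp), rfl⟩

theorem fitt_zero_quot_prod {R : Type u} [CommRing R] (I : Ideal R) (N : Type v) [AddCommGroup N]
    [Module R N] [Module.Finite R N] :
    Fitt.ideal R ((R ⧸ I) × N) 0 = I * Fitt.ideal R N 0 := by
  classical
  obtain ⟨m, y, hy⟩ := Module.Finite.exists_fin (R := R) (M := N)
  let z : Fin (m + 1) → (R ⧸ I) × N :=
    Fin.cons ((1 : R ⧸ I), (0 : N)) (fun j => ((0 : R ⧸ I), y j))
  have hz : Submodule.span R (Set.range z) = ⊤ := by
    rw [eq_top_iff]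
    rintro ⟨q, w⟩ -
    have hw : w ∈ Submodule.span R (Set.range y) := by rw [hy]; trivial
    have h1 : ((0 : R ⧸ I), w) ∈ Submodule.span R (Set.range z) := by
      have hle : Submodule.map (LinearMap.inr R (R ⧸ I) N) (Submodule.span R (Set.range y)) ≤
          Submodule.span R (Set.range z) := by
        rw [Submodule.map_span]
        apply Submodule.span_mono
        rintro _ ⟨_, ⟨j, rfl⟩, rfl⟩
        exact ⟨j.succ, by simp [z]⟩
      exact hle ⟨w, hw, rfl⟩
    have h2 : (q, (0 : N)) ∈ Submodule.span R (Set.range z) := by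
      obtain ⟨r, rfl⟩ := Ideal.Quotient.mk_surjective q
      have : (Ideal.Quotient.mk I r, (0 : N)) = r • z 0 := by
        simp [z, Algebra.smul_def]
      rw [this]
      exact Submodule.smul_mem _ _ (Submodule.subset_span ⟨0, rfl⟩)
    have : (q, w) = (q, 0) + (0, w) := by simp
    rw [this]
    exact Submodule.add_mem _ h2 h1
  rw [fitt_eq_G z hz 0, fitt_eq_G y hy 0]
  simp only [Fintype.card_fin, Nat.sub_zero]
  apply le_antisymm
  · rw [G_le_iff]
    intro a S hS hrel
    have hSu : S = Finset.univ :=
      Finset.eq_univ_of_card S (le_antisymm (by simpa using Finset.card_le_univ S) (by simpa using hS))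
    have hrel' : ∀ i, a i 0 ∈ I ∧ IsRel y (fun j => a i j.succ) := by
      intro i
      have h := hrel i (hSu ▸ Finset.mem_univ i)
      unfold IsRel at h
      rw [Fin.sum_univ_succ] at h
      simp only [z, Fin.cons_zero, Fin.cons_succ] at h
      have h1 := congrArg Prod.fst h
      have h2 := congrArg Prod.snd h
      simp only [Prod.fst_add, Prod.snd_add, Prod.fst_sum, Prod.snd_sum, Prod.smul_fst,
        Prod.smul_snd, smul_zero, Finset.sum_const_zero, add_zero, zero_add, Prod.fst_zero,
        Prod.snd_zero] at h1 h2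
      refine ⟨?_, h2⟩
      rw [← Ideal.Quotient.eq_zero_iff_mem]
      simpa [Algebra.smul_def] using h1
    rw [Matrix.det_succ_column_zero]
    apply Ideal.sum_mem
    intro i _
    have hdet : (a.submatrix i.succAbove Fin.succ).det ∈ G R y m := by
      apply det_mem_G y _ Finset.univ (by simp)
      intro k _
      exact (hrel' (i.succAbove k)).2
    rw [mul_assoc]
    exact Ideal.mul_mem_left _ _ (Ideal.mul_mem_mul (hrel' i).1 hdet)
  · rw [Ideal.mul_le]
    intro j hj d hd
    unfold G at hd
    induction hd using Submodule.span_induction with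
    | mem d hd =>
      obtain ⟨b, S, hS, hrel, rfl⟩ := hd
      have hSu : S = Finset.univ :=
        Finset.eq_univ_of_card S
          (le_antisymm (by simpa using Finset.card_le_univ S) (by simpa using hS))
      let a : Matrix (Fin (m + 1)) (Fin (m + 1)) R :=
        Matrix.of (Fin.cons (Fin.cons j 0) (fun i => Fin.cons 0 (b i)))
      have hdet : a.det = j * b.det := by
        rw [Matrix.det_succ_row_zero, Fin.sum_univ_succ]
        have hsub : a.submatrix Fin.succ (Fin.succAbove 0) = b := by
          ext i k
          simp [a]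
        rw [hsub]
        simp [a]
      rw [← hdet]
      apply det_mem_G z a Finset.univ (by simp)
      intro i _
      unfold IsRel
      rw [Fin.sum_univ_succ]
      refine Fin.cases ?_ (fun i' => ?_) i
      · simp [a, z, Algebra.smul_def, Ideal.Quotient.eq_zero_iff_mem.mpr hj]
      · have hr := hrel i' (hSu ▸ Finset.mem_univ i')
        unfold IsRel at hr
        simp only [a, z, Matrix.of_apply, Fin.cons_succ, Fin.cons_zero, zero_smul, zero_add]
        ext
        · simp [Prod.fst_sum]
        · simpa [Prod.snd_sum] using hr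
    | zero => simp
    | add x y _ _ hx hy => rw [mul_add]; exact Ideal.add_mem _ hx hy
    | smul c x _ hx => rw [smul_eq_mul, mul_left_comm]; exact Ideal.mul_mem_left _ _ hx

end Groth.Agent.Lib.Helper63.FitSplit
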