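import Mathlib

set_option autoImplicit false
universe u

namespace Groth.Agent.Lib.Helper63.FitSplit

open TensorProduct

section
variable (A : Type u) {C : Type u} (B : Type u) [CommRing A] [CommRing C] [CommRing B]
  [Algebra A C] [Algebra A B] [Algebra C B] [IsScalarTower A C B]

noncomputable def mu : B ⊗[A] C →ₐ[B] B :=
  Algebra.TensorProduct.lift (Algebra.ofId B B) (IsScalarTower.toAlgHom A C B)
    (fun _ _ => Commute.all _ _)

theorem mu_tmul (b : B) (c : C) : mu A B (b ⊗ₜ[A] c) = b * algebraMap C B c := by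
  simp [mu]

theorem mu_surjective : Function.Surjective (mu A (C := C) B) := fun b =>
  ⟨b ⊗ₜ 1, by simp [mu_tmul]⟩

noncomputable def psi : B ⊗[A] C →ₐ[B] B ⊗[A] B :=
  Algebra.TensorProduct.map (AlgHom.id B B) (IsScalarTower.toAlgHom A C B)

theorem lmul_psi (x : B ⊗[A] C) : Algebra.TensorProduct.lmul' A (psi A B x) = mu A B x := by
  induction x using TensorProduct.induction_on with
  | zero => simp
  | tmul b c => simp [psi, mu]
  | add x y hx hy => simp [hx, hy]

theorem elem_mul_eq_zero [Algebra.FormallyUnramified A B] [Algebra.EssFiniteType A B]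
    (x : B ⊗[A] B) (hx : Algebra.TensorProduct.lmul' A x = 0) :
    Algebra.FormallyUnramified.elem A B * x = 0 := by
  have hx' : x ∈ KaehlerDifferential.ideal A B := hx
  rw [← KaehlerDifferential.span_range_eq_ideal] at hx'
  clear hx
  induction hx' using Submodule.span_induction with
  | mem y hy =>
    obtain ⟨s, rfl⟩ := hy
    rw [mul_comm]
    exact Algebra.FormallyUnramified.one_tmul_sub_tmul_one_mul_elem s
  | zero => simp
  | add y z _ _ hy hz => rw [mul_add, hy, hz, add_zero]
  | smul c y _ hy => rw [smul_eq_mul, mul_left_comm, hy, mul_zero]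

theorem exists_sep_idem (h : C) [IsLocalization.Away h B] [Algebra.FormallyUnramified A B]
    [Algebra.EssFiniteType A B] [Algebra.FinitePresentation A C] :
    ∃ e : B ⊗[A] C, mu A B e = 1 ∧ ∀ k, mu A B k = 0 → e * k = 0 := by
  classical
  let g : B ⊗[A] C := 1 ⊗ₜ h
  let _ : Algebra (B ⊗[A] C) (B ⊗[A] B) := (psi A B).toRingHom.toAlgebra
  have hpsi : ∀ x, algebraMap (B ⊗[A] C) (B ⊗[A] B) x = psi A B x := fun _ => rfl
  have htower : IsScalarTower B (B ⊗[A] C) (B ⊗[A] B) :=
    IsScalarTower.of_algebraMap_eq' (by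
      ext b
      simp [RingHom.algebraMap_toAlgebra, psi])
  have hloc : IsLocalization (Submonoid.powers g) (B ⊗[A] B) := by
    have h1 := IsLocalization.tensorProduct_tensorProduct_right A B (Submonoid.powers h) B (by
      ext c
      simp [RingHom.algebraMap_toAlgebra, psi])
    have h2 : (Submonoid.powers h).map
        (Algebra.TensorProduct.includeRight (R := A) (A := B) (B := C)) = Submonoid.powers g := by
      rw [Submonoid.map_powers]
      rfl
    rwa [h2] at h1
  have hKfg : (RingHom.ker (mu A (C := C) B).toRingHom).FG :=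
    Algebra.FinitePresentation.ker_fG_of_surjective (mu A B) (mu_surjective A B)
  obtain ⟨s, hs⟩ := hKfg
  obtain ⟨⟨τ, ⟨_, n, rfl⟩⟩, hτ⟩ := IsLocalization.surj (Submonoid.powers g)
    (Algebra.FormallyUnramified.elem A B)
  simp only at hτ
  have hmuK : ∀ k ∈ s, mu A B k = 0 := by
    intro k hk
    have : k ∈ RingHom.ker (mu A (C := C) B).toRingHom := hs ▸ Ideal.subset_span hk
    exact this
  have hex : ∀ k, mu A B k = 0 → ∃ m : ℕ, g ^ m * (τ * k) = 0 := by
    intro k hk
    have h0 : algebraMap (B ⊗[A] C) (B ⊗[A] B) (τ * k) = 0 := by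
      rw [map_mul, ← hτ, mul_right_comm, hpsi k, elem_mul_eq_zero A B (psi A B k)
        (by rw [lmul_psi, hk]), zero_mul]
    obtain ⟨⟨_, m, rfl⟩, hm⟩ := (IsLocalization.map_eq_zero_iff (Submonoid.powers g) _ _).mp h0
    exact ⟨m, hm⟩
  have hN : ∀ s' : Finset (B ⊗[A] C), (∀ k ∈ s', mu A B k = 0) →
      ∃ N : ℕ, ∀ k ∈ s', g ^ N * (τ * k) = 0 := by
    intro s'
    induction s' using Finset.induction_on with
    | empty => exact fun _ => ⟨0, by simp⟩
    | insert a s' _ ih =>
      intro hs'
      obtain ⟨N, hN⟩ := ih (fun k hk => hs' k (Finset.mem_insert_of_mem hk))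
      obtain ⟨m, hm⟩ := hex a (hs' a (Finset.mem_insert_self _ _))
      refine ⟨N + m, fun k hk => ?_⟩
      rcases Finset.mem_insert.mp hk with rfl | hk
      · rw [pow_add, mul_assoc, hm, mul_zero]
      · rw [pow_add, mul_right_comm, hN k hk, zero_mul]
  obtain ⟨N, hN⟩ := hN s hmuK
  have hall' : ∀ k ∈ Ideal.span (s : Set (B ⊗[A] C)), g ^ N * τ * k = 0 := by
    intro k hk'
    induction hk' using Submodule.span_induction with
    | mem y hy => rw [mul_assoc]; exact hN y hy
    | zero => simp
    | add y z _ _ hy hz => rw [mul_add, hy, hz, add_zero]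
    | smul c y _ hy => rw [smul_eq_mul, mul_left_comm, hy, mul_zero]
  have hall : ∀ k, mu A B k = 0 → g ^ N * τ * k = 0 := by
    intro k hk
    apply hall'
    rw [hs]
    exact hk
  have hu : IsUnit (algebraMap C B h) := IsLocalization.Away.algebraMap_isUnit h
  have hmug : mu A B g = algebraMap C B h := by simp [g, mu_tmul]
  have hmut : mu A B τ = algebraMap C B h ^ n := by
    rw [← lmul_psi, ← hpsi, ← hτ, map_mul, Algebra.FormallyUnramified.lmul_elem, one_mul,
      hpsi, lmul_psi, map_pow, hmug]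
  obtain ⟨w, hw⟩ := (hu.pow (N + n)).exists_left_inv
  refine ⟨(w ⊗ₜ 1) * (g ^ N * τ), ?_, fun k hk => ?_⟩
  · rw [map_mul, map_mul, map_pow, hmug, hmut, ← pow_add, mu_tmul, map_one, mul_one, hw]
  · rw [mul_assoc, hall k hk, mul_zero]

end

end Groth.Agent.Lib.Helper63.FitSplit
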