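import Groth.Agent.Lib.Helper63.FitSplit1
import Groth.Agent.Lib.Helper63.FitSplit2
import Groth.Agent.Lib.Helper75.Fitting10
import Groth.Agent.Lib.Helper75.Fitting7

set_option autoImplicit false
universe u

namespace Groth.Agent.Lib.Helper63.FitSplit

open TensorProduct Groth.Agent.Lib.Helper75.Fitting

section
variable (A : Type u) {C : Type u} (B : Type u) [CommRing A] [CommRing C] [CommRing B]
  [Algebra A C] [Algebra A B] [Algebra C B] [IsScalarTower A C B] (J : Ideal C)

noncomputable def phi : B ⊗[A] C →ₐ[B] B ⊗[A] (C ⧸ J) :=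
  Algebra.TensorProduct.map (AlgHom.id B B) (Ideal.Quotient.mkₐ A J)

theorem phi_surjective : Function.Surjective (phi A B J) :=
  Algebra.TensorProduct.map_surjective _ _ Function.surjective_id
    (Ideal.Quotient.mkₐ_surjective A J)

noncomputable def mubar : B ⊗[A] (C ⧸ J) →ₐ[B] B ⧸ J.map (algebraMap C B) :=
  Algebra.TensorProduct.lift (Algebra.ofId B (B ⧸ J.map (algebraMap C B)))
    (Ideal.quotientMapₐ (J.map (algebraMap C B)) (IsScalarTower.toAlgHom A C B)
      (Ideal.le_comap_map))
    (fun _ _ => Commute.all _ _)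

theorem mubar_phi (x : B ⊗[A] C) :
    mubar A B J (phi A B J x) = Ideal.Quotient.mk (J.map (algebraMap C B)) (mu A B x) := by
  induction x using TensorProduct.induction_on with
  | zero => simp
  | tmul b c =>
    simp [phi, mubar, mu] <;> rfl
  | add x y hx hy => simp [hx, hy]

theorem exists_ker_phi (z : B) (hz : z ∈ J.map (algebraMap C B)) :
    ∃ y : B ⊗[A] C, phi A B J y = 0 ∧ mu A B y = z := by
  have hle : J.map (algebraMap C B) ≤
      (RingHom.ker (phi A B J).toRingHom).map (mu A (C := C) B).toRingHom := by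
    rw [Ideal.map_le_iff_le_comap]
    intro j hj
    rw [Ideal.mem_comap]
    have h1 : (1 : B) ⊗ₜ[A] j ∈ RingHom.ker (phi A B J).toRingHom := by
      rw [RingHom.mem_ker]
      change phi A B J (1 ⊗ₜ j) = 0
      simp [phi, Ideal.Quotient.eq_zero_iff_mem.mpr hj]
    have h2 := Ideal.mem_map_of_mem (mu A (C := C) B).toRingHom h1
    have h3 : (mu A (C := C) B).toRingHom (1 ⊗ₜ j) = algebraMap C B j := by
      change mu A B (1 ⊗ₜ j) = _
      simp [mu_tmul]
    rwa [h3] at h2
  obtain ⟨y, hy, hyz⟩ := (Ideal.mem_map_iff_of_surjective (mu A (C := C) B).toRingHom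
    (mu_surjective A B)).mp (hle hz)
  exact ⟨y, hy, hyz⟩

variable {A B} in
theorem exists_split (e : B ⊗[A] C) (he1 : mu A B e = 1) (he2 : ∀ k, mu A B k = 0 → e * k = 0) :
    ∃ E : (B ⊗[A] (C ⧸ J)) →ₗ[B] (B ⊗[A] (C ⧸ J)), IsIdempotentElem E ∧
      Nonempty (LinearMap.range E ≃ₗ[B] B ⧸ J.map (algebraMap C B)) := by
  have hee : e * e = e := by
    have := he2 (e - 1) (by rw [map_sub, he1, map_one, sub_self])
    rw [mul_sub, mul_one, sub_eq_zero] at this
    exact this
  let ε := phi A B J e
  have hεε : ε * ε = ε := by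
    change phi A B J e * phi A B J e = phi A B J e
    rw [← map_mul, hee]
  let E : (B ⊗[A] (C ⧸ J)) →ₗ[B] (B ⊗[A] (C ⧸ J)) := LinearMap.mulLeft B ε
  have hE : IsIdempotentElem E := by
    apply LinearMap.ext
    intro x
    change ε * (ε * x) = ε * x
    rw [← mul_assoc, hεε]
  refine ⟨E, hE, ⟨?_⟩⟩
  let r : LinearMap.range E →ₗ[B] B ⧸ J.map (algebraMap C B) :=
    (mubar A B J).toLinearMap.comp (LinearMap.range E).subtype
  refine LinearEquiv.ofBijective r ⟨?_, ?_⟩
  · rw [injective_iff_map_eq_zero]
    rintro ⟨x, x', rfl⟩ hx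
    apply Subtype.ext
    change ε * x' = 0
    change mubar A B J (ε * x') = 0 at hx
    obtain ⟨xt, rfl⟩ := phi_surjective A B J x'
    change mubar A B J (phi A B J e * phi A B J xt) = 0 at hx
    rw [← map_mul, mubar_phi, Ideal.Quotient.eq_zero_iff_mem] at hx
    obtain ⟨y, hy0, hy⟩ := exists_ker_phi A B J _ hx
    have h0 := he2 (e * xt - y) (by rw [map_sub, hy, sub_self])
    rw [mul_sub, ← mul_assoc, hee, sub_eq_zero] at h0
    change phi A B J e * phi A B J xt = 0
    rw [← map_mul, h0, map_mul, hy0, mul_zero]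
  · intro q
    obtain ⟨b, rfl⟩ := Ideal.Quotient.mk_surjective q
    refine ⟨⟨ε * phi A B J (b ⊗ₜ 1), ⟨phi A B J (b ⊗ₜ 1), rfl⟩⟩, ?_⟩
    change mubar A B J (phi A B J e * phi A B J (b ⊗ₜ 1)) = _
    rw [← map_mul, mubar_phi, map_mul, he1, one_mul, mu_tmul, map_one, mul_one]

end

theorem main {A C : Type u} (B : Type u) [CommRing A] [CommRing C] [CommRing B]
    [Algebra A C] [Algebra A B] [Algebra C B] [IsScalarTower A C B]
    [Module.Finite A C] [Module.FinitePresentation A C]
    (h : C) [IsLocalization.Away h B] [Algebra.FormallyUnramified A B]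
    [Algebra.EssFiniteType A B] (J : Ideal C) :
    ∃ J' : Ideal B,
      (FlatCA.fittingZero A (C ⧸ J)).map (algebraMap A B) = J.map (algebraMap C B) * J' ∧
      (J.FG → (FlatCA.fittingZero A (C ⧸ J)).FG ∧ J'.FG) := by
  obtain ⟨e, he1, he2⟩ := exists_sep_idem A B h
  obtain ⟨E, hE, ⟨r⟩⟩ := exists_split J e he1 he2
  have hcompl : IsCompl (LinearMap.range E) (LinearMap.ker E) :=
    LinearMap.IsIdempotentElem.isCompl hE
  let q : (B ⊗[A] (C ⧸ J)) →ₗ[B] LinearMap.ker E :=
    (LinearMap.id - E).codRestrict (LinearMap.ker E) (fun x => by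
      rw [LinearMap.mem_ker, LinearMap.sub_apply, map_sub, LinearMap.id_apply]
      have : E (E x) = E x := LinearMap.congr_fun hE.eq x
      rw [this, sub_self])
  have hq : Function.Surjective q := by
    rintro ⟨x, hx⟩
    refine ⟨x, Subtype.ext ?_⟩
    change x - E x = x
    rw [LinearMap.mem_ker.mp hx, sub_zero]
  have hfin : Module.Finite B (LinearMap.ker E) := Module.Finite.of_surjective q hq
  refine ⟨Fitt.ideal B (LinearMap.ker E) 0, ?_, fun hJ => ⟨?_, ?_⟩⟩
  · rw [fittingZero_eq, ← fitt_baseChange (R' := B) (M := C ⧸ J) 0]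
    have eq1 : (B ⊗[A] (C ⧸ J)) ≃ₗ[B] (B ⧸ J.map (algebraMap C B)) × LinearMap.ker E :=
      (Submodule.prodEquivOfIsCompl _ _ hcompl).symm.trans
        (LinearEquiv.prodCongr r (LinearEquiv.refl B _))
    rw [fitt_congr (M' := (B ⧸ J.map (algebraMap C B)) × LinearMap.ker E) eq1 0,
      fitt_zero_quot_prod]
  all_goals
    have hJfg : (J.restrictScalars A).FG := by
      have : Module.Finite C J := Module.Finite.iff_fg.mpr hJ
      have : Module.Finite A J := Module.Finite.trans C J
      exact Module.Finite.iff_fg.mp this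
    have hfp : Module.FinitePresentation A (C ⧸ J) :=
      Module.finitePresentation_of_surjective (Ideal.Quotient.mkₐ A J).toLinearMap
        (Ideal.Quotient.mkₐ_surjective A J) (by
          have hk : LinearMap.ker (Ideal.Quotient.mkₐ A J).toLinearMap = J.restrictScalars A := by
            ext x
            simp [Ideal.Quotient.eq_zero_iff_mem]
          rw [hk]
          exact hJfg)
  · rw [fittingZero_eq]
    exact fitt_fg 0
  · have hfpB : Module.FinitePresentation B (LinearMap.ker E) := by
      refine Module.finitePresentation_of_surjective (R := B) (M := B ⊗[A] (C ⧸ J))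
        (N := LinearMap.ker E) q hq ?_
      have hker : LinearMap.ker q = LinearMap.range E := by
        ext x
        rw [LinearMap.mem_ker, LinearMap.IsIdempotentElem.mem_range_iff hE]
        constructor
        · intro hx
          have := congrArg Subtype.val hx
          change x - E x = 0 at this
          rw [sub_eq_zero] at this
          exact this.symm
        · intro hx
          apply Subtype.ext
          change x - E x = 0
          rw [hx, sub_self]
      rw [hker, LinearMap.range_eq_map]
      exact Submodule.FG.map _ Module.Finite.fg_top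
    exact fitt_fg 0

end Groth.Agent.Lib.Helper63.FitSplit
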