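import Groth.Agent.Lib.Helper63.FitSplit3

set_option autoImplicit false
universe u

namespace Groth.Agent.Lib.Helper63.FitSplit

open Groth.Agent.Lib.Helper75.Fitting

theorem exists_fg_map_eq {C : Type u} (Bh : Type u) [CommRing C] [CommRing Bh] [Algebra C Bh]
    (h : C) [IsLocalization.Away h Bh] (Jh : Ideal Bh) (hJ : Jh.FG) :
    ∃ JC : Ideal C, JC.FG ∧ JC.map (algebraMap C Bh) = Jh := by
  classical
  obtain ⟨s, rfl⟩ := hJ
  have hex : ∀ x : Bh, ∃ c : C, ∃ n : ℕ, x * algebraMap C Bh h ^ n = algebraMap C Bh c := by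
    intro x
    obtain ⟨⟨c, ⟨_, n, rfl⟩⟩, hc⟩ := IsLocalization.surj (Submonoid.powers h) x
    exact ⟨c, n, by simpa using hc⟩
  choose c n hc using hex
  have hu : IsUnit (algebraMap C Bh h) := IsLocalization.Away.algebraMap_isUnit h
  refine ⟨Ideal.span ((s.image c : Finset C) : Set C), ⟨s.image c, rfl⟩, ?_⟩
  rw [Ideal.map_span]
  apply le_antisymm
  · rw [Ideal.span_le]
    rintro _ ⟨_, hy, rfl⟩
    rw [Finset.coe_image] at hy
    obtain ⟨x, hx, rfl⟩ := hy
    rw [← hc x]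
    exact Ideal.mul_mem_right _ _ (Ideal.subset_span hx)
  · rw [Ideal.span_le]
    intro x hx
    obtain ⟨w, hw⟩ := (hu.pow (n x)).exists_right_inv
    have : x = algebraMap C Bh (c x) * w := by
      rw [← hc x, mul_assoc, hw, mul_one]
    rw [SetLike.mem_coe, this]
    apply Ideal.mul_mem_right
    apply Ideal.subset_span
    exact ⟨c x, by rw [Finset.coe_image]; exact ⟨x, hx, rfl⟩, rfl⟩

theorem main2 {A C : Type u} (Bh : Type u) [CommRing A] [CommRing C] [CommRing Bh]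
    [Algebra A C] [Algebra A Bh] [Algebra C Bh] [IsScalarTower A C Bh]
    [Module.Finite A C] [Module.FinitePresentation A C]
    (h : C) [IsLocalization.Away h Bh] [Algebra.FormallyUnramified A Bh]
    [Algebra.EssFiniteType A Bh] (a : A) (Jh : Ideal Bh) (hJ : Jh.FG)
    (ha : algebraMap A Bh a ∈ Jh.radical) :
    ∃ (I : Ideal A) (J'' : Ideal Bh), I.FG ∧ a ∈ I.radical ∧ J''.FG ∧
      I.map (algebraMap A Bh) = Jh * J'' := by
  obtain ⟨m, hm⟩ := ha
  obtain ⟨JC1, hJC1, hmap1⟩ := exists_fg_map_eq Bh h Jh hJ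
  let JC : Ideal C := JC1 ⊔ Ideal.span {algebraMap A C a ^ m}
  have hJCfg : JC.FG := Submodule.FG.sup hJC1 ⟨{algebraMap A C a ^ m}, by simp⟩
  have hJCmap : JC.map (algebraMap C Bh) = Jh := by
    rw [Ideal.map_sup, hmap1, Ideal.map_span, Set.image_singleton, map_pow,
      ← IsScalarTower.algebraMap_apply, sup_eq_left, Ideal.span_le, Set.singleton_subset_iff]
    exact hm
  obtain ⟨J'', hJ'', hfg⟩ := main (A := A) Bh h JC
  obtain ⟨hIfg, hJ''fg⟩ := hfg hJCfg
  refine ⟨FlatCA.fittingZero A (C ⧸ JC), J'', hIfg, ?_, hJ''fg, by rw [hJ'', hJCmap]⟩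
  rw [fittingZero_eq]
  obtain ⟨n, x, hx⟩ := Module.Finite.exists_fin (R := A) (M := C ⧸ JC)
  refine ⟨m * n, ?_⟩
  rw [pow_mul]
  apply pow_mem_fitt_zero x hx
  rw [Module.mem_annihilator]
  intro y
  obtain ⟨y, rfl⟩ := Ideal.Quotient.mk_surjective y
  have h1 : (a ^ m) • (Ideal.Quotient.mk JC y) = Ideal.Quotient.mk JC (algebraMap A C (a ^ m) * y) := by
    rw [Algebra.smul_def, map_mul]
    rfl
  change (a ^ m) • (Ideal.Quotient.mk JC y) = 0
  rw [h1, Ideal.Quotient.eq_zero_iff_mem, map_pow]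
  exact Ideal.mul_mem_right _ _ (Ideal.mem_sup_right (Ideal.subset_span rfl))

end Groth.Agent.Lib.Helper63.FitSplit
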