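import Groth.Agent.Lib.Helper63.FitSplit4

set_option autoImplicit false
universe u

namespace Groth.Agent.Lib.Helper63.FitSplit

open Polynomial

theorem main3 {A B : Type u} [CommRing A] [CommRing B] [Algebra A B] [Algebra.Etale A B]
    (a : A) (J : Ideal B) (hJ : J.FG) (hJa : algebraMap A B a ∈ J.radical)
    (q : Ideal B) [q.IsPrime] :
    ∃ (I : Ideal A) (g : B) (J' : Ideal (Localization.Away g)), I.FG ∧ a ∈ I.radical ∧ g ∉ q ∧
      J'.FG ∧ I.map (algebraMap A (Localization.Away g)) =
        J.map (algebraMap B (Localization.Away g)) * J' := by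
  have hq : Algebra.IsEtaleAt A q := by
    have : Algebra.FormallyEtale B (Localization.AtPrime q) :=
      Algebra.FormallyEtale.of_isLocalization q.primeCompl
    exact Algebra.FormallyEtale.comp A B (Localization.AtPrime q)
  obtain ⟨f, hfq, hstd⟩ := Algebra.IsEtaleAt.exists_isStandardEtale (R := A) q
  let P : StandardEtalePresentation A (Localization.Away f) :=
    hstd.nonempty_standardEtalePresentation.some
  let h : AdjoinRoot P.f := AdjoinRoot.mk P.f P.g
  let ε : Localization.Away f ≃ₐ[A] Localization.Away h :=
    P.equivRing.trans P.P.equivAwayAdjoinRoot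
  have hfree : Module.Free A (AdjoinRoot P.f) := P.monic_f.free_adjoinRoot
  have hfin : Module.Finite A (AdjoinRoot P.f) := P.monic_f.finite_adjoinRoot
  have hfp : Module.FinitePresentation A (AdjoinRoot P.f) :=
    Module.finitePresentation_of_projective A _
  have hetB : Algebra.Etale A (Localization.Away f) := inferInstance
  have het : Algebra.Etale A (Localization.Away h) := Algebra.Etale.of_equiv ε
  let φ : Localization.Away f →+* Localization.Away h := ε.toAlgHom.toRingHom
  let ψ : Localization.Away h →+* Localization.Away f := ε.symm.toAlgHom.toRingHom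
  have hψφ : ψ.comp φ = RingHom.id _ := by
    ext x
    simp [φ, ψ]
  have hψalg : ψ.comp (algebraMap A (Localization.Away h)) = algebraMap A (Localization.Away f) := by
    ext x
    simp [ψ]
  let Jf : Ideal (Localization.Away f) := J.map (algebraMap B (Localization.Away f))
  have hJf : Jf.FG := hJ.map _
  have hrad : algebraMap A (Localization.Away h) a ∈ (Jf.map φ).radical := by
    obtain ⟨m, hm⟩ := hJa
    refine ⟨m, ?_⟩
    have h1 : algebraMap A (Localization.Away h) a =
        φ (algebraMap B (Localization.Away f) (algebraMap A B a)) := by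
      rw [← IsScalarTower.algebraMap_apply]
      simp [φ]
    rw [h1, ← map_pow, ← map_pow]
    exact Ideal.mem_map_of_mem _ (Ideal.mem_map_of_mem _ hm)
  obtain ⟨I, J'', hI, haI, hJ'', heq⟩ :=
    main2 (A := A) (Localization.Away h) h a (Jf.map φ) (hJf.map _) hrad
  refine ⟨I, f, J''.map ψ, hI, haI, hfq, hJ''.map _, ?_⟩
  have h2 := congrArg (Ideal.map ψ) heq
  rw [Ideal.map_map, hψalg, Ideal.map_mul, Ideal.map_map, hψφ, Ideal.map_id] at h2
  exact h2

end Groth.Agent.Lib.Helper63.FitSplit
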