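import Mathlib
import Groth.Agent.S4853
import Groth.Agent.Lib.Helper63.FlatRel
import Groth.Agent.Lib.Helper15.CompleteNoeth

set_option autoImplicit false
universe u

namespace Groth.Agent.Lib.Helper63.FlattenLocal

open TensorProduct



theorem exists_level_ideal (R : Type u) [CommRing R] [IsLocalRing R] (N : Type u) [AddCommGroup N]
    [Module R N] (n : ℕ) (hn : 1 ≤ n) :
    ∃ I : Ideal R, (IsLocalRing.maximalIdeal R) ^ n ≤ I ∧ ∀ J : Ideal R,
      (IsLocalRing.maximalIdeal R) ^ n ≤ J →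
        (Module.Flat (R ⧸ J) ((R ⧸ J) ⊗[R] N) ↔ I ≤ J) := by
  set m := IsLocalRing.maximalIdeal R with hm
  let A := R ⧸ m ^ n
  let X := A ⊗[R] N
  let JA : Ideal A := m.map (Ideal.Quotient.mk (m ^ n))
  have hnil : IsNilpotent JA := by
    refine ⟨n, ?_⟩
    change JA ^ n = ⊥
    rw [← Ideal.map_pow, Ideal.map_quotient_self]
  have hmax : JA.IsMaximal := by
    rcases Ideal.map_eq_top_or_isMaximal_of_surjective (Ideal.Quotient.mk (m ^ n))
      Ideal.Quotient.mk_surjective (IsLocalRing.maximalIdeal.isMaximal R) with h | h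
    · exfalso
      have h1 : (m.map (Ideal.Quotient.mk (m ^ n))).comap (Ideal.Quotient.mk (m ^ n)) = ⊤ := by
        rw [h, Ideal.comap_top]
      rw [Ideal.comap_map_of_surjective _ Ideal.Quotient.mk_surjective, ← RingHom.ker_eq_comap_bot,
        Ideal.mk_ker, sup_eq_left.mpr (Ideal.pow_le_self (by lia))] at h1
      exact (IsLocalRing.maximalIdeal.isMaximal R).ne_top h1
    · exact h
  let fld : Field (A ⧸ JA) := Ideal.Quotient.field JA
  have hfree : Module.Free (A ⧸ JA) ((A ⧸ JA) ⊗[A] X) := inferInstance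
  obtain ⟨R₀, -, -, hA'⟩ := Groth.Agent.S4853.result X JA hnil hfree
  refine ⟨R₀.comap (Ideal.Quotient.mk (m ^ n)), ?_, ?_⟩
  · intro x hx
    rw [Ideal.mem_comap, Ideal.Quotient.eq_zero_iff_mem.mpr hx]
    exact Ideal.zero_mem _
  · intro J hJ
    let alg : Algebra A (R ⧸ J) := (Ideal.Quotient.factor hJ).toAlgebra
    have tower : IsScalarTower R A (R ⧸ J) := IsScalarTower.of_algebraMap_eq (fun r => rfl)
    have h2 := (hA' (R ⧸ J)).2
    let e := AlgebraTensorModule.cancelBaseChange R A (R ⧸ J) (R ⧸ J) N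
    have h3 : Module.Flat (R ⧸ J) ((R ⧸ J) ⊗[R] N) ↔ Module.Flat (R ⧸ J) ((R ⧸ J) ⊗[A] X) :=
      ⟨fun h => Module.Flat.of_linearEquiv e, fun h => Module.Flat.of_linearEquiv e.symm⟩
    rw [h3, h2]
    change R₀.map (Ideal.Quotient.factor hJ) = ⊥ ↔ _
    rw [Ideal.map_eq_bot_iff_le_ker, Ideal.Quotient.factor_ker]
    constructor
    · intro h
      have := Ideal.comap_mono (f := Ideal.Quotient.mk (m ^ n)) h
      rwa [Ideal.comap_map_of_surjective _ Ideal.Quotient.mk_surjective,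
        ← RingHom.ker_eq_comap_bot, Ideal.mk_ker, sup_eq_left.mpr hJ] at this
    · intro h
      have := Ideal.map_mono (f := Ideal.Quotient.mk (m ^ n)) h
      rwa [Ideal.map_comap_of_surjective _ Ideal.Quotient.mk_surjective] at this




theorem exists_seq_of_step {α : Type*} (p : ℕ → α → Prop) (r : ℕ → α → α → Prop) (x0 : α)
    (h0 : p 0 x0) (hstep : ∀ j y, p j y → ∃ y', p (j + 1) y' ∧ r j y y') :
    ∃ f : ℕ → α, f 0 = x0 ∧ (∀ j, p j (f j)) ∧ ∀ j, r j (f j) (f (j + 1)) := by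
  classical
  let step : (j : ℕ) → {y : α // p j y} → {y : α // p (j + 1) y} :=
    fun j y => ⟨(hstep j y.1 y.2).choose, (hstep j y.1 y.2).choose_spec.1⟩
  let g : (j : ℕ) → {y : α // p j y} :=
    fun j => Nat.rec (motive := fun j => {y : α // p j y}) ⟨x0, h0⟩ step j
  refine ⟨fun j => (g j).1, rfl, fun j => (g j).2, fun j => ?_⟩
  exact (hstep j (g j).1 (g j).2).choose_spec.2

theorem mem_of_forall_mem_sup {R : Type u} [CommRing R] [IsLocalRing R] [IsNoetherianRing R]
    (K : Ideal R) (x : R) (h : ∀ j : ℕ, x ∈ K ⊔ (IsLocalRing.maximalIdeal R) ^ j) : x ∈ K := by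
  have hH : IsHausdorff (IsLocalRing.maximalIdeal R) (R ⧸ K) := inferInstance
  rw [← Ideal.Quotient.eq_zero_iff_mem]
  refine hH.haus _ (fun j => ?_)
  rw [SModEq.zero]
  obtain ⟨k, hk, μ, hμ, hkμ⟩ := Submodule.mem_sup.mp (h j)
  have h1 : Ideal.Quotient.mk K x = μ • (1 : R ⧸ K) := by
    rw [← hkμ, map_add, Ideal.Quotient.eq_zero_iff_mem.mpr hk, zero_add, Algebra.smul_def,
      mul_one, Ideal.Quotient.algebraMap_eq]
  rw [h1]
  exact Submodule.smul_mem_smul hμ Submodule.mem_top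

theorem sub_mem_of_succ {R : Type u} [CommRing R] (m : Ideal R) (f : ℕ → R) (c : ℕ)
    (h : ∀ j, f (j + 1) - f j ∈ m ^ (c + j)) (a b : ℕ) (hab : a ≤ b) :
    f b - f a ∈ m ^ (c + a) := by
  induction b, hab using Nat.le_induction with
  | base => simp
  | succ b hab ih =>
    have : f (b + 1) - f a = (f (b + 1) - f b) + (f b - f a) := by ring
    rw [this]
    exact add_mem (Ideal.pow_le_pow_right (by lia) (h b)) ih

theorem le_iInf_sup {R : Type u} [CommRing R] [IsLocalRing R] [IsNoetherianRing R]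
    [IsAdicComplete (IsLocalRing.maximalIdeal R) R]
    (K : ℕ → Ideal R) (hanti : ∀ n, K (n + 1) ≤ K n)
    (hstep : ∀ n, K n ≤ K (n + 1) ⊔ (IsLocalRing.maximalIdeal R) ^ (n + 1)) (n : ℕ) :
    K n ≤ (⨅ i, K i) ⊔ (IsLocalRing.maximalIdeal R) ^ (n + 1) := by
  set m := IsLocalRing.maximalIdeal R with hm
  have hK : Antitone K := antitone_nat_of_succ_le hanti
  intro x hx
  obtain ⟨f, hf0, hfK, hfr⟩ := exists_seq_of_step (fun j y => y ∈ K (n + j))
    (fun j y y' => y' - y ∈ m ^ (n + 1 + j)) x hx (by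
      intro j y hy
      obtain ⟨y', hy', e, he, hye⟩ := Submodule.mem_sup.mp (hstep (n + j) hy)
      refine ⟨y', hy', ?_⟩
      have : y' - y = -e := by rw [← hye]; ring
      rw [this, show n + 1 + j = n + j + 1 by ring]
      exact neg_mem he)
  have hsub := sub_mem_of_succ m f (n + 1) hfr
  obtain ⟨L, hL⟩ := Groth.Agent.Lib.Helper15.CompleteNoeth.exists_limit m f (fun a b hab =>
    Ideal.pow_le_pow_right (by lia) (hsub a b hab))
  have hLI : L ∈ ⨅ i, K i := by
    rw [Ideal.mem_iInf]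
    intro i
    refine mem_of_forall_mem_sup (K i) L (fun j => ?_)
    have h1 : f (max i j) ∈ K i := hK (by lia) (hfK (max i j))
    have h2 : f (max i j) - L ∈ m ^ j := Ideal.pow_le_pow_right (le_max_right i j) (hL _)
    have : L = f (max i j) + -(f (max i j) - L) := by ring
    rw [this]
    exact Submodule.add_mem_sup h1 (neg_mem h2)
  have hxL : x - L ∈ m ^ (n + 1) := by
    have h1 : f (n + 1) - f 0 ∈ m ^ (n + 1 + 0) := hsub 0 (n + 1) (by lia)
    have h2 : f (n + 1) - L ∈ m ^ (n + 1) := hL (n + 1)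
    have : x - L = -(f (n + 1) - f 0) + (f (n + 1) - L) := by rw [hf0]; ring
    rw [this]
    exact add_mem (neg_mem h1) h2
  have : x = L + (x - L) := by ring
  rw [this]
  exact Submodule.add_mem_sup hLI hxL




section mainsec

variable (R S : Type u) [CommRing R] [IsLocalRing R] [IsNoetherianRing R]
  [CommRing S] [Algebra R S] [IsNoetherianRing S]
  (M : Type u) [AddCommGroup M] [Module S M] [Module R M] [IsScalarTower R S M] [Module.Finite S M]

def PP (J : Ideal R) : Prop :=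
  ∀ (q : Ideal S) [q.IsPrime], q.comap (algebraMap R S) = IsLocalRing.maximalIdeal R →
    Module.Flat (R ⧸ J) ((R ⧸ J) ⊗[R] LocalizedModule q.primeCompl M)

omit [IsNoetherianRing R] [IsNoetherianRing S] in
theorem map_le_jacobson (q : Ideal S) [q.IsPrime]
    (hq : q.comap (algebraMap R S) = IsLocalRing.maximalIdeal R) :
    (IsLocalRing.maximalIdeal R).map (algebraMap R (Localization.AtPrime q)) ≤
      Ideal.jacobson ⊥ := by
  rw [IsLocalRing.jacobson_eq_maximalIdeal ⊥ bot_ne_top,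
    IsScalarTower.algebraMap_eq R S (Localization.AtPrime q), ← Ideal.map_map,
    ← Localization.AtPrime.map_eq_maximalIdeal]
  exact Ideal.map_mono (Ideal.map_le_iff_le_comap.mpr (le_of_eq hq.symm))

theorem PP_iff_forall (J : Ideal R) :
    PP R S M J ↔ ∀ n : ℕ, 1 ≤ n → PP R S M (J ⊔ (IsLocalRing.maximalIdeal R) ^ n) := by
  constructor
  · intro h n hn q _ hq
    exact (Groth.Agent.Lib.Helper63.FlatRel.flat_quot_iff_forall
      (LocalizedModule q.primeCompl M) (S := Localization.AtPrime q)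
      (IsLocalRing.maximalIdeal R) (map_le_jacobson R S q hq) J).mp (h q hq) n hn
  · intro h q _ hq
    exact (Groth.Agent.Lib.Helper63.FlatRel.flat_quot_iff_forall
      (LocalizedModule q.primeCompl M) (S := Localization.AtPrime q)
      (IsLocalRing.maximalIdeal R) (map_le_jacobson R S q hq) J).mpr (fun n hn => h n hn q hq)

omit [IsNoetherianRing R] [IsNoetherianRing S] [Module.Finite S M] in
theorem exists_level (n : ℕ) (hn : 1 ≤ n) :
    ∃ In : Ideal R, (IsLocalRing.maximalIdeal R) ^ n ≤ In ∧ ∀ J : Ideal R,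
      (IsLocalRing.maximalIdeal R) ^ n ≤ J → (PP R S M J ↔ In ≤ J) := by
  set m := IsLocalRing.maximalIdeal R with hm
  let In : Ideal R := sInf {J | m ^ n ≤ J ∧ PP R S M J}
  have hmIn : m ^ n ≤ In := le_sInf (fun J hJ => hJ.1)
  have hq : ∀ (q : Ideal S) [q.IsPrime], q.comap (algebraMap R S) = m → ∀ J : Ideal R,
      In ≤ J → Module.Flat (R ⧸ J) ((R ⧸ J) ⊗[R] LocalizedModule q.primeCompl M) := by
    intro q _ hq J hJ
    obtain ⟨Iq, hIq1, hIq2⟩ := exists_level_ideal R (LocalizedModule q.primeCompl M) n hn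
    rw [hIq2 J (hmIn.trans hJ)]
    refine le_trans (le_sInf (fun J' hJ' => ?_)) hJ
    exact (hIq2 J' hJ'.1).mp (hJ'.2 q hq)
  refine ⟨In, hmIn, fun J hJ => ⟨fun h => sInf_le ⟨hJ, h⟩, fun h q _ hq' => hq q hq' J h⟩⟩

variable [IsAdicComplete (IsLocalRing.maximalIdeal R) R]

theorem main : ∃ I : Ideal R, I ≤ IsLocalRing.maximalIdeal R ∧ PP R S M I ∧
    ∀ J : Ideal R, PP R S M J → I ≤ J := by
  set m := IsLocalRing.maximalIdeal R with hm
  choose K hK1 hK2 using (fun n : ℕ => exists_level R S M (n + 1) (by lia))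
  have key2 : ∀ J : Ideal R, PP R S M J ↔ ∀ n, K n ≤ J ⊔ m ^ (n + 1) := by
    intro J
    rw [PP_iff_forall]
    constructor
    · intro h n
      exact (hK2 n _ le_sup_right).mp (h (n + 1) (by lia))
    · intro h n hn
      obtain ⟨k, rfl⟩ : ∃ k, n = k + 1 := ⟨n - 1, by lia⟩
      exact (hK2 k _ le_sup_right).mpr (h k)
  have hPK : ∀ n, PP R S M (K n) := fun n => (hK2 n (K n) (hK1 n)).mpr le_rfl
  have hanti : ∀ n, K (n + 1) ≤ K n := fun n =>
    (hK2 (n + 1) (K n) ((Ideal.pow_le_pow_right (by lia)).trans (hK1 n))).mp (hPK n)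
  have hstep : ∀ n, K n ≤ K (n + 1) ⊔ m ^ (n + 1) := by
    intro n
    refine (hK2 n _ le_sup_right).mp ?_
    refine (hK2 (n + 1) _ ?_).mpr le_sup_left
    exact (Ideal.pow_le_pow_right (by lia)).trans le_sup_right
  have hcomp := le_iInf_sup K hanti hstep
  refine ⟨⨅ i, K i, ?_, (key2 _).mpr hcomp, fun J hJ => ?_⟩
  · refine (iInf_le K 0).trans ?_
    refine (hK2 0 m (by rw [zero_add, pow_one])).mp ?_
    intro q _ hq
    let fld : Field (R ⧸ m) := Ideal.Quotient.field m
    infer_instance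
  · intro x hx
    refine mem_of_forall_mem_sup J x (fun j => ?_)
    rcases j with _ | j
    · simp
    · exact (key2 J).mp hJ j ((iInf_le K j) hx)

end mainsec


end Groth.Agent.Lib.Helper63.FlattenLocal
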