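import Mathlib

set_option autoImplicit false
universe u

namespace Groth.Agent.Lib.Helper63.GaussVal

open IsLocalRing

section content

variable {V : Type*} [CommRing V] [IsDomain V] [ValuationRing V] {σ : Type*}

lemma exists_dvd_all (s : Finset V) (hs : s.Nonempty) : ∃ c ∈ s, ∀ x ∈ s, c ∣ x := by
  classical
  induction hs using Finset.Nonempty.cons_induction with
  | singleton a => exact ⟨a, by simp, by simp⟩
  | cons a s ha hs ih =>
    obtain ⟨c, hc, hdiv⟩ := ih
    rcases ValuationRing.dvd_total a c with h | h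
    · refine ⟨a, by simp, fun x hx => ?_⟩
      rcases Finset.mem_cons.mp hx with rfl | hx
      · exact dvd_rfl
      · exact h.trans (hdiv x hx)
    · refine ⟨c, by simp [hc], fun x hx => ?_⟩
      rcases Finset.mem_cons.mp hx with rfl | hx
      · exact h
      · exact hdiv x hx

variable (V σ) in
noncomputable abbrev mP : Ideal (MvPolynomial σ V) :=
  (maximalIdeal V).map (MvPolynomial.C : V →+* MvPolynomial σ V)

instance isPrime_mP : (mP V σ).IsPrime := by
  have h : mP V σ = RingHom.ker (MvPolynomial.map (Ideal.Quotient.mk (maximalIdeal V)) :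
      MvPolynomial σ V →+* MvPolynomial σ (V ⧸ maximalIdeal V)) := by
    rw [MvPolynomial.ker_map, Ideal.mk_ker]
  rw [h]
  exact RingHom.ker_isPrime _

lemma exists_eq_C_mul (h : MvPolynomial σ V) (hh : h ≠ 0) :
    ∃ (c : V) (h0 : MvPolynomial σ V), h = MvPolynomial.C c * h0 ∧ h0 ∉ mP V σ := by
  classical
  have hsupp : h.support.Nonempty := MvPolynomial.support_nonempty.mpr hh
  obtain ⟨c, hc, hdiv⟩ := exists_dvd_all (h.support.image (fun d => h.coeff d)) (hsupp.image _)
  obtain ⟨d0, hd0, rfl⟩ := Finset.mem_image.mp hc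
  have hc0 : h.coeff d0 ≠ 0 := MvPolynomial.mem_support_iff.mp hd0
  have hdiv' : ∀ d, h.coeff d0 ∣ h.coeff d := by
    intro d
    by_cases hd : d ∈ h.support
    · exact hdiv _ (Finset.mem_image_of_mem _ hd)
    · rw [MvPolynomial.notMem_support_iff.mp hd]; exact dvd_zero _
  choose q hq using hdiv'
  refine ⟨h.coeff d0, ∑ d ∈ h.support, MvPolynomial.monomial d (q d), ?_, ?_⟩
  · rw [Finset.mul_sum]
    conv_lhs => rw [h.as_sum]
    refine Finset.sum_congr rfl fun d _ => ?_
    rw [MvPolynomial.C_mul_monomial, ← hq d]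
  · rw [MvPolynomial.mem_map_C_iff]
    intro hall
    have h1 := hall d0
    rw [MvPolynomial.coeff_sum] at h1
    simp only [MvPolynomial.coeff_monomial] at h1
    rw [Finset.sum_ite_eq' h.support d0 q, if_pos hd0] at h1
    have h2 : q d0 = 1 := by
      have := hq d0
      have h3 : h.coeff d0 * q d0 = h.coeff d0 * 1 := by rw [← this, mul_one]
      exact mul_left_cancel₀ hc0 h3
    rw [h2] at h1
    exact (Ideal.ne_top_iff_one _).mp (IsLocalRing.maximalIdeal.isMaximal V).ne_top h1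

end content

section gauss

variable (V : Type*) [CommRing V] [IsDomain V] [ValuationRing V] (σ : Type*)

abbrev B0 : Type _ := Localization.AtPrime (mP V σ)

lemma gauss_decomp (x : B0 V σ) :
    ∃ (c : V) (u : (B0 V σ)ˣ), x = u * algebraMap V (B0 V σ) c := by
  obtain ⟨⟨h, s⟩, rfl⟩ := IsLocalization.mk'_surjective (mP V σ).primeCompl x
  by_cases hh : h = 0
  · refine ⟨0, 1, ?_⟩
    simp [hh]
  obtain ⟨c, h0, hc, hh0⟩ := exists_eq_C_mul h hh
  have hu0 : IsUnit (algebraMap (MvPolynomial σ V) (B0 V σ) h0) :=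
    IsLocalization.map_units (B0 V σ) (⟨h0, hh0⟩ : (mP V σ).primeCompl)
  have hus : IsUnit (algebraMap (MvPolynomial σ V) (B0 V σ) s) :=
    IsLocalization.map_units (B0 V σ) s
  refine ⟨c, hu0.unit * hus.unit⁻¹, ?_⟩
  rw [IsLocalization.mk'_eq_iff_eq_mul]
  simp only [Units.val_mul, IsUnit.unit_spec]
  rw [hc, map_mul, IsScalarTower.algebraMap_apply V (MvPolynomial σ V) (B0 V σ),
    MvPolynomial.algebraMap_eq]
  have : ((hus.unit⁻¹ : (B0 V σ)ˣ) : B0 V σ) * algebraMap (MvPolynomial σ V) (B0 V σ) s = 1 :=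
    IsUnit.val_inv_mul hus
  calc algebraMap (MvPolynomial σ V) (B0 V σ) (MvPolynomial.C c) *
        algebraMap (MvPolynomial σ V) (B0 V σ) h0
      = algebraMap (MvPolynomial σ V) (B0 V σ) h0 *
          (((hus.unit⁻¹ : (B0 V σ)ˣ) : B0 V σ) * algebraMap (MvPolynomial σ V) (B0 V σ) s) *
          algebraMap (MvPolynomial σ V) (B0 V σ) (MvPolynomial.C c) := by rw [this]; ring
    _ = _ := by ring

instance : IsDomain (B0 V σ) :=
  IsLocalization.isDomain_of_atPrime (B0 V σ) (mP V σ)

lemma algebraMap_injective : Function.Injective (algebraMap V (B0 V σ)) := by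
  rw [IsScalarTower.algebraMap_eq V (MvPolynomial σ V) (B0 V σ), RingHom.coe_comp]
  refine Function.Injective.comp ?_ (MvPolynomial.C_injective σ V)
  exact IsLocalization.injective (M := (mP V σ).primeCompl) (B0 V σ)
    (mP V σ).primeCompl_le_nonZeroDivisors

instance : ValuationRing (B0 V σ) := by
  rw [ValuationRing.iff_dvd_total]
  constructor
  intro x y
  obtain ⟨c, u, rfl⟩ := gauss_decomp V σ x
  obtain ⟨c', u', rfl⟩ := gauss_decomp V σ y
  rcases ValuationRing.dvd_total c c' with ⟨d, rfl⟩ | ⟨d, rfl⟩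
  · left
    refine ⟨u' * u⁻¹ * algebraMap V (B0 V σ) d, ?_⟩
    rw [map_mul]
    have : (u : B0 V σ) * ((u⁻¹ : (B0 V σ)ˣ) : B0 V σ) = 1 := Units.mul_inv u
    calc (u' : B0 V σ) * (algebraMap V (B0 V σ) c * algebraMap V (B0 V σ) d)
        = ((u : B0 V σ) * ((u⁻¹ : (B0 V σ)ˣ) : B0 V σ)) * u' *
            (algebraMap V (B0 V σ) c * algebraMap V (B0 V σ) d) := by rw [this]; ring
      _ = _ := by ring
  · right
    refine ⟨u * u'⁻¹ * algebraMap V (B0 V σ) d, ?_⟩
    rw [map_mul]
    have : (u' : B0 V σ) * ((u'⁻¹ : (B0 V σ)ˣ) : B0 V σ) = 1 := Units.mul_inv u'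
    calc (u : B0 V σ) * (algebraMap V (B0 V σ) c' * algebraMap V (B0 V σ) d)
        = ((u' : B0 V σ) * ((u'⁻¹ : (B0 V σ)ˣ) : B0 V σ)) * u *
            (algebraMap V (B0 V σ) c' * algebraMap V (B0 V σ) d) := by rw [this]; ring
      _ = _ := by ring

lemma isLocalHom_algebraMap : IsLocalHom (algebraMap V (B0 V σ)) := by
  constructor
  intro v hv
  by_contra hnu
  have hvm : v ∈ maximalIdeal V := hnu
  have h1 : MvPolynomial.C v ∈ mP V σ := Ideal.mem_map_of_mem _ hvm
  have h2 : algebraMap (MvPolynomial σ V) (B0 V σ) (MvPolynomial.C v) ∈ maximalIdeal (B0 V σ) :=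
    (IsLocalization.AtPrime.to_map_mem_maximal_iff (B0 V σ) (mP V σ) _).mpr h1
  rw [IsScalarTower.algebraMap_apply V (MvPolynomial σ V) (B0 V σ),
    MvPolynomial.algebraMap_eq] at hv
  exact h2 hv

end gauss

end Groth.Agent.Lib.Helper63.GaussVal
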