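import Groth.Agent.Lib.Helper63.GaussVal
import Groth.Agent.S1963

set_option autoImplicit false
set_option linter.unusedSectionVars false
universe u

namespace Groth.Agent.Lib.Helper63.GaussVal

open IsLocalRing

section

variable (V : Type u) [CommRing V] [IsDomain V] [ValuationRing V] (n : ℕ)
    (E : Type u) [CommRing E] [IsDomain E] [Algebra (MvPolynomial (Fin n) V) E]
    [Algebra.Etale (MvPolynomial (Fin n) V) E] [Algebra V E]
    [IsScalarTower V (MvPolynomial (Fin n) V) E]

local notation "PP" => MvPolynomial (Fin n) V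
local notation "MM" => Algebra.algebraMapSubmonoid E (Ideal.primeCompl (mP V (Fin n)))
local notation "BB" => Localization (Algebra.algebraMapSubmonoid E (Ideal.primeCompl (mP V (Fin n))))
local notation "B₀" => B0 V (Fin n)

lemma isLoc : IsLocalization (Submonoid.map (algebraMap PP E) (Ideal.primeCompl (mP V (Fin n)))) BB :=
  inferInstanceAs (IsLocalization MM _)

lemma etale_BB : Algebra.Etale B₀ BB := by
  have hloc := isLoc V n E
  have hfe : Algebra.FormallyEtale B₀ BB :=
    Algebra.FormallyEtale.localization_map (R := PP) (S := E) (Ideal.primeCompl (mP V (Fin n)))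
  have hfp : Algebra.FinitePresentation B₀ BB := by
    rw [← RingHom.finitePresentation_algebraMap]
    exact RingHom.finitePresentation_localizationPreserves
      (algebraMap PP E) (Ideal.primeCompl (mP V (Fin n))) B₀ BB
      (RingHom.finitePresentation_algebraMap.mpr inferInstance)
  exact ⟨hfe, hfp⟩


lemma disj (Q : Ideal E) [Q.IsPrime] (hQ : Q.comap (algebraMap PP E) = mP V (Fin n)) : Disjoint (MM : Set E) (Q : Set E) := by
  rw [Set.disjoint_left]
  rintro _ ⟨t, ht, rfl⟩ hmem
  have : t ∈ Q.comap (algebraMap PP E) := hmem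
  rw [hQ] at this
  exact ht this

lemma isPrime_map (Q : Ideal E) [Q.IsPrime] (hQ : Q.comap (algebraMap PP E) = mP V (Fin n)) : (Q.map (algebraMap E BB)).IsPrime :=
  IsLocalization.isPrime_of_isPrime_disjoint MM BB Q inferInstance (disj V n E Q hQ)

lemma comap_map (Q : Ideal E) [Q.IsPrime] (hQ : Q.comap (algebraMap PP E) = mP V (Fin n)) : (Q.map (algebraMap E BB)).comap (algebraMap E BB) = Q :=
  IsLocalization.under_map_of_isPrime_disjoint MM BB inferInstance (disj V n E Q hQ)

lemma comap_B0 (Q : Ideal E) [Q.IsPrime] (hQ : Q.comap (algebraMap PP E) = mP V (Fin n)) : (Q.map (algebraMap E BB)).comap (algebraMap B₀ BB) = maximalIdeal B₀ := by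
  have hpr := isPrime_map V n E Q hQ
  have hle : maximalIdeal B₀ ≤ (Q.map (algebraMap E BB)).comap (algebraMap B₀ BB) := by
    rw [← Localization.AtPrime.map_eq_maximalIdeal, Ideal.map_le_iff_le_comap, Ideal.comap_comap,
      ← IsScalarTower.algebraMap_eq, IsScalarTower.algebraMap_eq PP E BB, ← Ideal.comap_comap,
      comap_map V n E Q hQ, hQ]
  exact ((IsLocalRing.maximalIdeal.isMaximal B₀).eq_of_le (Ideal.comap_ne_top _ hpr.ne_top) hle).symm

lemma atPrime_congr {R T : Type*} [CommRing R] [CommRing T] [Algebra R T] {I J : Ideal R}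
    [I.IsPrime] [J.IsPrime] (h : I = J) (H : IsLocalization.AtPrime T I) :
    IsLocalization.AtPrime T J := by
  subst h
  exact H

theorem main (Q : Ideal E) [Q.IsPrime] (hQ : Q.comap (algebraMap PP E) = mP V (Fin n))
    (W : Type u) [CommRing W] [Algebra E W] [IsLocalization.AtPrime W Q] [Algebra V W]
    [IsScalarTower V E W] :
    (∀ x y : W, x ∣ y ∨ y ∣ x) ∧ Function.Injective (algebraMap V W) ∧
      IsLocalHom (algebraMap V W) ∧
      ∀ x : W, x ≠ 0 → ∃ (v : V) (w : Wˣ), x = algebraMap V W v * w := by
  classical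
  have het := etale_BB V n E
  have hpr := isPrime_map V n E Q hQ
  obtain ⟨hdomT, hvalT, hinjT, hlocT, hdecT⟩ :=
    Groth.Agent.S1963.result B₀ BB (Q.map (algebraMap E BB)) (comap_B0 V n E Q hQ)
  have hvalT' := hvalT hdomT
  have hT0 : IsLocalization.AtPrime (Localization.AtPrime (Q.map (algebraMap E BB)))
      ((Q.map (algebraMap E BB)).comap (algebraMap E BB)) :=
    IsLocalization.isLocalization_atPrime_localization_atPrime MM (Q.map (algebraMap E BB))
  have hT : IsLocalization.AtPrime (Localization.AtPrime (Q.map (algebraMap E BB))) Q :=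
    atPrime_congr (comap_map V n E Q hQ) hT0
  let e : W ≃ₐ[E] Localization.AtPrime (Q.map (algebraMap E BB)) :=
    IsLocalization.algEquiv Q.primeCompl W _
  have hcompat : ∀ v : V, e (algebraMap V W v) =
      algebraMap B₀ (Localization.AtPrime (Q.map (algebraMap E BB))) (algebraMap V B₀ v) := by
    intro v
    rw [IsScalarTower.algebraMap_apply V E W, AlgEquiv.commutes,
      IsScalarTower.algebraMap_apply V PP E,
      IsScalarTower.algebraMap_apply E BB (Localization.AtPrime (Q.map (algebraMap E BB))),
      ← IsScalarTower.algebraMap_apply PP E BB, IsScalarTower.algebraMap_apply PP B₀ BB,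
      ← IsScalarTower.algebraMap_apply B₀ BB (Localization.AtPrime (Q.map (algebraMap E BB))),
      ← IsScalarTower.algebraMap_apply V PP B₀]
  refine ⟨?_, ?_, ?_, ?_⟩
  · intro x y
    rcases ValuationRing.dvd_total (e x) (e y) with ⟨c, hc⟩ | ⟨c, hc⟩
    · left
      refine ⟨e.symm c, ?_⟩
      apply e.injective
      rw [map_mul, AlgEquiv.apply_symm_apply, hc]
    · right
      refine ⟨e.symm c, ?_⟩
      apply e.injective
      rw [map_mul, AlgEquiv.apply_symm_apply, hc]
  · intro a b hab
    have h1 := congrArg e hab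
    rw [hcompat, hcompat] at h1
    exact algebraMap_injective V (Fin n) (hinjT h1)
  · constructor
    intro v hv
    have h1 : IsUnit (e (algebraMap V W v)) := hv.map e
    rw [hcompat] at h1
    have h2 := hlocT.map_nonunit _ h1
    exact (isLocalHom_algebraMap V (Fin n)).map_nonunit _ h2
  · intro x hx
    have hex : e x ≠ 0 := fun h => hx (e.injective (by rw [h, map_zero]))
    obtain ⟨a, u, hau⟩ := hdecT (e x) hex
    obtain ⟨c, u0, hc⟩ := gauss_decomp V (Fin n) a
    let w' : (Localization.AtPrime (Q.map (algebraMap E BB)))ˣ :=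
      u * Units.map (algebraMap B₀ (Localization.AtPrime (Q.map (algebraMap E BB)))).toMonoidHom u0
    refine ⟨c, Units.map e.symm.toRingEquiv.toRingHom.toMonoidHom w', ?_⟩
    apply e.injective
    rw [map_mul, hcompat, hau, hc, map_mul]
    simp only [Units.coe_map, w', Units.val_mul]
    simp
    ring

end

end Groth.Agent.Lib.Helper63.GaussVal
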