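import Mathlib

set_option autoImplicit false
universe u

namespace Groth.Agent.Lib.Helper63.GrFlat

open MvPolynomial

section poly

variable {σ : Type} (w : σ → ℕ) {R : Type u} [CommRing R]

theorem whc_mul_of_homog {c : MvPolynomial σ R} {j : ℕ} (hcj : IsWeightedHomogeneous w c j)
    (p : MvPolynomial σ R) (m : ℕ) :
    weightedHomogeneousComponent w m (c * p) =
      if j ≤ m then c * weightedHomogeneousComponent w (m - j) p else 0 := by
  classical
  ext d
  rw [coeff_weightedHomogeneousComponent, coeff_mul]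
  have key : ∀ x ∈ Finset.HasAntidiagonal.antidiagonal d, Finsupp.weight w d = m →
      coeff x.1 c * coeff x.2 p =
        if j ≤ m then coeff x.1 c *
          (if Finsupp.weight w x.2 = m - j then coeff x.2 p else 0) else 0 := by
    intro x hx hd
    rw [Finset.HasAntidiagonal.mem_antidiagonal] at hx
    by_cases h0 : coeff x.1 c = 0
    · rw [h0]
      split_ifs <;> simp
    · have hw1 : Finsupp.weight w x.1 = j := hcj h0
      have hw : Finsupp.weight w x.1 + Finsupp.weight w x.2 = m := by
        rw [← map_add, hx, hd]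
      have hjm : j ≤ m := by omega
      rw [if_pos hjm, if_pos (by omega)]
  have key2 : ∀ x ∈ Finset.HasAntidiagonal.antidiagonal d, Finsupp.weight w d ≠ m →
      (if j ≤ m then coeff x.1 c *
          (if Finsupp.weight w x.2 = m - j then coeff x.2 p else 0) else 0) = 0 := by
    intro x hx hd
    rw [Finset.HasAntidiagonal.mem_antidiagonal] at hx
    split_ifs with h1 h2
    · by_cases h0 : coeff x.1 c = 0
      · rw [h0, zero_mul]
      · exfalso
        have hw1 : Finsupp.weight w x.1 = j := hcj h0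
        apply hd
        rw [← hx, map_add, hw1, h2]
        omega
    · rw [mul_zero]
    · rfl
  split_ifs with hd hjm hjm
  · rw [coeff_mul]
    refine Finset.sum_congr rfl fun x hx => ?_
    rw [key x hx hd, if_pos hjm, coeff_weightedHomogeneousComponent]
  · rw [coeff_zero]
    refine Finset.sum_eq_zero fun x hx => ?_
    rw [key x hx hd, if_neg hjm]
  · rw [coeff_mul]
    symm
    refine Finset.sum_eq_zero fun x hx => ?_
    have := key2 x hx hd
    rw [if_pos hjm] at this
    rw [coeff_weightedHomogeneousComponent]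
    exact this
  · rw [coeff_zero]

theorem whc_X_mul (i : σ) (p : MvPolynomial σ R) (m : ℕ) :
    weightedHomogeneousComponent w m (X i * p) =
      if w i ≤ m then X i * weightedHomogeneousComponent w (m - w i) p else 0 :=
  whc_mul_of_homog w (isWeightedHomogeneous_X R w i) p m

theorem exists_bound_whc (p : MvPolynomial σ R) :
    ∃ N : ℕ, ∀ N', N ≤ N' → (∀ k, N' ≤ k → weightedHomogeneousComponent w k p = 0) ∧
      ∑ k ∈ Finset.range N', weightedHomogeneousComponent w k p = p := by
  classical
  refine ⟨weightedTotalDegree w p + 1, fun N' hN' => ⟨fun k hk => ?_, ?_⟩⟩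
  · exact weightedHomogeneousComponent_eq_zero k p (by omega)
  · ext d
    rw [coeff_sum]
    simp only [coeff_weightedHomogeneousComponent]
    by_cases h0 : coeff d p = 0
    · rw [h0]
      exact Finset.sum_eq_zero fun k _ => by split_ifs <;> rfl
    · have hd : d ∈ p.support := mem_support_iff.2 h0
      have hle := le_weightedTotalDegree w hd
      rw [Finset.sum_eq_single (Finsupp.weight w d)]
      · rw [if_pos rfl]
      · intro k _ hk
        rw [if_neg (Ne.symm hk)]
      · intro hnot
        exfalso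
        apply hnot
        rw [Finset.mem_range]
        omega

theorem map_whc {R' : Type u} [CommRing R'] (φ : R →+* R') (k : ℕ) (p : MvPolynomial σ R) :
    MvPolynomial.map φ (weightedHomogeneousComponent w k p) =
      weightedHomogeneousComponent w k (MvPolynomial.map φ p) := by
  classical
  ext d
  rw [coeff_map, coeff_weightedHomogeneousComponent, coeff_weightedHomogeneousComponent, coeff_map]
  split_ifs
  · rfl
  · rw [map_zero]

end poly

section modl

variable {σ : Type} (w : σ → ℕ) {R : Type u} [CommRing R] (n : ℕ)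

noncomputable def hc (k : ℕ) :
    (Fin n → MvPolynomial σ R) →ₗ[R] (Fin n → MvPolynomial σ R) :=
  (weightedHomogeneousComponent w k).compLeft (Fin n)

theorem hc_apply (k : ℕ) (H : Fin n → MvPolynomial σ R) (i : Fin n) :
    hc w n k H i = weightedHomogeneousComponent w k (H i) := rfl

theorem hc_hc (j k : ℕ) (H : Fin n → MvPolynomial σ R) :
    hc w n k (hc w n j H) = if k = j then hc w n j H else 0 := by
  classical
  funext i
  rw [hc_apply, hc_apply,
    weightedHomogeneousComponent_of_mem (weightedHomogeneousComponent_mem w (H i) j)]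
  split_ifs
  · rfl
  · rfl

theorem hc_hc_same (j : ℕ) (H : Fin n → MvPolynomial σ R) :
    hc w n j (hc w n j H) = hc w n j H := by
  rw [hc_hc, if_pos rfl]

theorem hc_hc_ne {j k : ℕ} (h : k ≠ j) (H : Fin n → MvPolynomial σ R) :
    hc w n k (hc w n j H) = 0 := by
  rw [hc_hc, if_neg h]

theorem hc_smul_homog {c : MvPolynomial σ R} {j : ℕ} (hcj : IsWeightedHomogeneous w c j)
    (H : Fin n → MvPolynomial σ R) (m : ℕ) :
    hc w n m (c • H) = if j ≤ m then c • hc w n (m - j) H else 0 := by
  funext i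
  rw [hc_apply, Pi.smul_apply, smul_eq_mul, whc_mul_of_homog w hcj]
  split_ifs
  · rfl
  · rfl

theorem hc_X_smul (i : σ) (H : Fin n → MvPolynomial σ R) (m : ℕ) :
    hc w n m ((X i : MvPolynomial σ R) • H) =
      if w i ≤ m then (X i : MvPolynomial σ R) • hc w n (m - w i) H else 0 :=
  hc_smul_homog w n (isWeightedHomogeneous_X R w i) H m

theorem hc_C_smul (r : R) (H : Fin n → MvPolynomial σ R) (m : ℕ) :
    hc w n m ((C r : MvPolynomial σ R) • H) = (C r : MvPolynomial σ R) • hc w n m H := by
  have h1 : ∀ G : Fin n → MvPolynomial σ R, (C r : MvPolynomial σ R) • G = r • G := by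
    intro G
    funext i
    rw [Pi.smul_apply, Pi.smul_apply, smul_eq_mul, C_mul']
  rw [h1, h1, map_smul]

theorem exists_bound_hc (H : Fin n → MvPolynomial σ R) :
    ∃ N : ℕ, (∀ k, N ≤ k → hc w n k H = 0) ∧ ∑ k ∈ Finset.range N, hc w n k H = H := by
  classical
  choose N hN using fun i => exists_bound_whc w (H i)
  refine ⟨Finset.univ.sup N, fun k hk => ?_, ?_⟩
  · funext i
    exact ((hN i) (Finset.univ.sup N) (Finset.le_sup (Finset.mem_univ i))).1 k hk
  · funext i
    rw [Finset.sum_apply]
    exact ((hN i) (Finset.univ.sup N) (Finset.le_sup (Finset.mem_univ i))).2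

def ofX (S : Submodule R (Fin n → MvPolynomial σ R))
    (hX : ∀ i : σ, ∀ H ∈ S, (X i : MvPolynomial σ R) • H ∈ S) :
    Submodule (MvPolynomial σ R) (Fin n → MvPolynomial σ R) where
  carrier := S
  add_mem' := S.add_mem
  zero_mem' := S.zero_mem
  smul_mem' := by
    intro c
    induction c using MvPolynomial.induction_on with
    | C a =>
      intro H hH
      have : (C a : MvPolynomial σ R) • H = a • H := by
        funext i
        rw [Pi.smul_apply, Pi.smul_apply, smul_eq_mul, C_mul']
      rw [this]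
      exact S.smul_mem a hH
    | add p q hp hq =>
      intro H hH
      rw [add_smul]
      exact S.add_mem (hp hH) (hq hH)
    | mul_X p i hp =>
      intro H hH
      rw [mul_smul]
      exact hp (hX i H hH)

theorem mem_ofX {S : Submodule R (Fin n → MvPolynomial σ R)}
    {hX : ∀ i : σ, ∀ H ∈ S, (X i : MvPolynomial σ R) • H ∈ S} {H : Fin n → MvPolynomial σ R} :
    H ∈ ofX n S hX ↔ H ∈ S := Iff.rfl

noncomputable def WfR (k : ℕ) : Submodule R (Fin n → MvPolynomial σ R) :=
  ⨅ j : Fin k, LinearMap.ker (hc (R := R) w n j)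

theorem mem_WfR {k : ℕ} {H : Fin n → MvPolynomial σ R} :
    H ∈ WfR w n k ↔ ∀ j < k, hc w n j H = 0 := by
  simp only [WfR, Submodule.mem_iInf, LinearMap.mem_ker]
  constructor
  · intro h j hj
    exact h ⟨j, hj⟩
  · intro h j
    exact h j j.2

theorem X_smul_mem_WfR {k : ℕ} (i : σ) {H : Fin n → MvPolynomial σ R} (hH : H ∈ WfR w n k) :
    (X i : MvPolynomial σ R) • H ∈ WfR w n (k + w i) := by
  rw [mem_WfR] at hH ⊢
  intro j hj
  rw [hc_X_smul]
  split_ifs with h
  · rw [hH (j - w i) (by omega), smul_zero]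
  · rfl

theorem WfR_anti {k l : ℕ} (h : k ≤ l) : WfR (R := R) w n l ≤ WfR w n k := by
  intro H hH
  rw [mem_WfR] at hH ⊢
  exact fun j hj => hH j (by omega)

noncomputable def Wf (k : ℕ) : Submodule (MvPolynomial σ R) (Fin n → MvPolynomial σ R) :=
  ofX n (WfR w n k) (fun i _ hH => WfR_anti w n (Nat.le_add_right k (w i)) (X_smul_mem_WfR w n i hH))

theorem mem_Wf {k : ℕ} {H : Fin n → MvPolynomial σ R} :
    H ∈ Wf w n k ↔ ∀ j < k, hc w n j H = 0 := mem_WfR w n

theorem Wf_anti {k l : ℕ} (h : k ≤ l) : Wf (R := R) w n l ≤ Wf w n k := WfR_anti w n h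

theorem Wf_zero : Wf (R := R) w n 0 = ⊤ := by
  rw [eq_top_iff]
  intro H _
  rw [mem_Wf]
  intro j hj
  omega

theorem hc_mem_Wf (k : ℕ) (H : Fin n → MvPolynomial σ R) : hc w n k H ∈ Wf w n k := by
  rw [mem_Wf]
  intro j hj
  exact hc_hc_ne w n (by omega) H

theorem sub_hc_mem_Wf {k : ℕ} {H : Fin n → MvPolynomial σ R} (hH : H ∈ Wf w n k) :
    H - hc w n k H ∈ Wf w n (k + 1) := by
  rw [mem_Wf] at hH ⊢
  intro j hj
  rw [map_sub]
  rcases Nat.lt_or_ge j k with h | h
  · rw [hH j h, hc_hc_ne w n (by omega) H, sub_zero]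
  · have : j = k := by omega
    subst this
    rw [hc_hc_same, sub_self]

theorem X_smul_mem_Wf {k : ℕ} (i : σ) {H : Fin n → MvPolynomial σ R} (hH : H ∈ Wf w n k) :
    (X i : MvPolynomial σ R) • H ∈ Wf w n (k + w i) := X_smul_mem_WfR w n i hH

theorem hc_mem_Wf_of_mem {k : ℕ} {H : Fin n → MvPolynomial σ R} (hH : H ∈ Wf w n k) (j : ℕ) :
    hc w n j H ∈ Wf w n k := by
  rw [mem_Wf] at hH ⊢
  intro i hi
  rw [hc_hc]
  split_ifs with h
  · subst h
    exact hH i hi
  · rfl

variable (K : Submodule (MvPolynomial σ R) (Fin n → MvPolynomial σ R))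

noncomputable def inKR : Submodule R (Fin n → MvPolynomial σ R) :=
  ⨅ k : ℕ, Submodule.comap (hc w n k) ((K ⊔ Wf w n (k + 1)).restrictScalars R)

theorem mem_inKR {H : Fin n → MvPolynomial σ R} :
    H ∈ inKR w n K ↔ ∀ k, hc w n k H ∈ K ⊔ Wf w n (k + 1) := by
  simp only [inKR, Submodule.mem_iInf, Submodule.mem_comap, Submodule.restrictScalars_mem]

theorem X_smul_mem_inKR (i : σ) {H : Fin n → MvPolynomial σ R} (hH : H ∈ inKR w n K) :
    (X i : MvPolynomial σ R) • H ∈ inKR w n K := by
  rw [mem_inKR] at hH ⊢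
  intro k
  rw [hc_X_smul]
  split_ifs with h
  · obtain ⟨a, ha, b, hb, hab⟩ := Submodule.mem_sup.1 (hH (k - w i))
    rw [← hab, smul_add]
    refine Submodule.add_mem _ (Submodule.mem_sup_left (K.smul_mem _ ha))
      (Submodule.mem_sup_right ?_)
    have := X_smul_mem_Wf w n i hb
    have e : k - w i + 1 + w i = k + 1 := by omega
    rwa [e] at this
  · exact Submodule.zero_mem _

noncomputable def inK : Submodule (MvPolynomial σ R) (Fin n → MvPolynomial σ R) :=
  ofX n (inKR w n K) (fun i _ hH => X_smul_mem_inKR w n K i hH)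

theorem mem_inK {H : Fin n → MvPolynomial σ R} :
    H ∈ inK w n K ↔ ∀ k, hc w n k H ∈ K ⊔ Wf w n (k + 1) := mem_inKR w n K

theorem hc_mem_inK {H : Fin n → MvPolynomial σ R} (hH : H ∈ inK w n K) (j : ℕ) :
    hc w n j H ∈ inK w n K := by
  rw [mem_inK] at hH ⊢
  intro k
  rw [hc_hc]
  split_ifs with h
  · subst h
    exact hH k
  · exact Submodule.zero_mem _

theorem hc_mem_inK_iff {H : Fin n → MvPolynomial σ R} (j : ℕ) :
    hc w n j H ∈ inK w n K ↔ hc w n j H ∈ K ⊔ Wf w n (j + 1) := by
  constructor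
  · intro h
    have := (mem_inK w n K).1 h j
    rwa [hc_hc_same] at this
  · intro h
    rw [mem_inK]
    intro k
    rw [hc_hc]
    split_ifs with hk
    · subst hk
      exact h
    · exact Submodule.zero_mem _

theorem inK_mono {K K' : Submodule (MvPolynomial σ R) (Fin n → MvPolynomial σ R)} (h : K ≤ K') :
    inK w n K ≤ inK w n K' := by
  intro H hH
  rw [mem_inK] at hH ⊢
  exact fun k => sup_le_sup_right h _ (hH k)

theorem mem_inK_of_forall_hc {H : Fin n → MvPolynomial σ R}
    (h : ∀ j, hc w n j H ∈ inK w n K) : H ∈ inK w n K := by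
  obtain ⟨N, -, hsum⟩ := exists_bound_hc w n H
  rw [← hsum]
  exact Submodule.sum_mem _ fun k _ => h k

end modl

end Groth.Agent.Lib.Helper63.GrFlat
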