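import Groth.Agent.Lib.Helper63.GrFlat3

set_option autoImplicit false
universe u

namespace Groth.Agent.Lib.Helper63.GrFlat

open TensorProduct

section krull

variable {A B M : Type u} [CommRing A] [CommRing B] [Algebra A B] [IsNoetherianRing B]
  [AddCommGroup M] [Module A M] [Module B M] [IsScalarTower A B M] [Module.Finite B M]

theorem finite_tensor_ideal (𝔞 : Ideal A) (h𝔞 : 𝔞.FG) : Module.Finite B (M ⊗[A] 𝔞) := by
  have : Module.Finite A 𝔞 := Module.Finite.iff_fg.2 h𝔞
  obtain ⟨r, f, hf⟩ := Module.Finite.exists_fin' A 𝔞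
  have h1 : Module.Finite B (M ⊗[A] (Fin r → A)) :=
    Module.Finite.equiv (TensorProduct.piScalarRight A B M (Fin r)).symm
  exact Module.Finite.of_surjective (AlgebraTensorModule.lTensor B M f)
    (LinearMap.lTensor_surjective M hf)

theorem range_rTensor_le (J : Ideal B) (k : ℕ) (𝔞 : Ideal A)
    (y : ↥(J ^ k • (⊤ : Submodule B M)) ⊗[A] 𝔞) :
    ((J ^ k • (⊤ : Submodule B M)).subtype.restrictScalars A).rTensor 𝔞 y ∈
      J ^ k • (⊤ : Submodule B (M ⊗[A] 𝔞)) := by
  induction y using TensorProduct.induction_on with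
  | zero => rw [map_zero]; exact Submodule.zero_mem _
  | tmul m a =>
    rw [LinearMap.rTensor_tmul]
    obtain ⟨m, hm⟩ := m
    show m ⊗ₜ[A] a ∈ J ^ k • (⊤ : Submodule B (M ⊗[A] 𝔞))
    induction hm using Submodule.smul_induction_on' with
    | smul b hb x _ =>
      rw [← TensorProduct.smul_tmul']
      exact Submodule.smul_mem_smul hb Submodule.mem_top
    | add x _ y _ hx hy =>
      rw [TensorProduct.add_tmul]
      exact Submodule.add_mem _ hx hy
  | add x y hx hy =>
    rw [map_add]
    exact Submodule.add_mem _ hx hy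

theorem exists_one_sub_smul_eq_zero (J : Ideal B)
    (hH : ∀ k : ℕ, Module.Flat A (M ⧸ (J ^ k • (⊤ : Submodule B M))))
    (𝔞 : Ideal A) (h𝔞 : 𝔞.FG) (t : M ⊗[A] 𝔞) (ht : 𝔞.subtype.lTensor M t = 0) :
    ∃ r ∈ J, (1 - r) • t = 0 := by
  have hfin : Module.Finite B (M ⊗[A] 𝔞) := finite_tensor_ideal 𝔞 h𝔞
  have hmem : t ∈ (⨅ i : ℕ, J ^ i • ⊤ : Submodule B (M ⊗[A] 𝔞)) := by
    rw [Submodule.mem_iInf]
    intro k
    let N : Submodule B M := J ^ k • (⊤ : Submodule B M)
    have hflat : Module.Flat A (M ⧸ N) := hH k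
    have h1 : 𝔞.subtype.lTensor (M ⧸ N) ((N.mkQ.restrictScalars A).rTensor 𝔞 t) = 0 := by
      rw [← LinearMap.comp_apply, LinearMap.lTensor_comp_rTensor, ← LinearMap.rTensor_comp_lTensor,
        LinearMap.comp_apply, ht, map_zero]
    have h2 : (N.mkQ.restrictScalars A).rTensor 𝔞 t = 0 := by
      apply Module.Flat.lTensor_preserves_injective_linearMap (M := M ⧸ N) 𝔞.subtype
        Subtype.val_injective
      rw [h1, map_zero]
    have hex : Function.Exact (N.subtype.restrictScalars A) (N.mkQ.restrictScalars A) :=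
      LinearMap.exact_subtype_mkQ N
    have hsurj : Function.Surjective (N.mkQ.restrictScalars A) := Submodule.mkQ_surjective N
    obtain ⟨y, rfl⟩ := (rTensor_exact 𝔞 hex hsurj t).1 h2
    exact range_rTensor_le J k 𝔞 y
  obtain ⟨r, hr⟩ := (Ideal.mem_iInf_smul_pow_eq_bot_iff J t).1 hmem
  exact ⟨r, r.2, by rw [sub_smul, one_smul, hr, sub_self]⟩

theorem flat_localized_of_noeth (J : Ideal B)
    (hH : ∀ k : ℕ, Module.Flat A (M ⧸ (J ^ k • (⊤ : Submodule B M))))
    (q : Ideal B) [q.IsPrime] (hq : J ≤ q) :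
    Module.Flat A (LocalizedModule q.primeCompl M) := by
  rw [Module.Flat.iff_lTensor_injective]
  intro 𝔞 h𝔞
  let S := q.primeCompl
  let f := LocalizedModule.mkLinearMap S M
  let F₁ := AlgebraTensorModule.rTensor A 𝔞 f
  let F₂ := AlgebraTensorModule.rTensor A A f
  have hF₁ : IsLocalizedModule S F₁ := inferInstance
  have hF₂ : IsLocalizedModule S F₂ := inferInstance
  have hnat : ∀ t : M ⊗[A] 𝔞, F₂ (𝔞.subtype.lTensor M t) =
      𝔞.subtype.lTensor (LocalizedModule S M) (F₁ t) := by
    intro t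
    induction t using TensorProduct.induction_on with
    | zero => simp
    | tmul m a => rfl
    | add x y hx hy => rw [map_add, map_add, hx, hy, map_add, map_add]
  have hlin : ∀ (b : B) (t : M ⊗[A] 𝔞), 𝔞.subtype.lTensor M (b • t) =
      b • 𝔞.subtype.lTensor M t := by
    intro b t
    induction t using TensorProduct.induction_on with
    | zero => simp
    | tmul m a => rfl
    | add x y hx hy => rw [smul_add, map_add, hx, hy, map_add, smul_add]
  rw [injective_iff_map_eq_zero]
  intro x hx
  obtain ⟨⟨t, s⟩, hs⟩ := IsLocalizedModule.surj S F₁ x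
  have hs' : s • x = F₁ t := hs
  have h1 : F₂ (𝔞.subtype.lTensor M t) = 0 := by
    rw [hnat, ← hs']
    have : 𝔞.subtype.lTensor (LocalizedModule S M) (s • x) =
        s • 𝔞.subtype.lTensor (LocalizedModule S M) x := by
      have := (AlgebraTensorModule.lTensor B (LocalizedModule S M) 𝔞.subtype).map_smul (s : B) x
      exact this
    rw [this, hx, smul_zero]
  obtain ⟨s', hs'0⟩ := IsLocalizedModule.exists_of_eq (S := S) (f := F₂)
    (h1.trans (map_zero F₂).symm)
  rw [smul_zero] at hs'0
  have h2 : 𝔞.subtype.lTensor M ((s' : B) • t) = 0 := by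
    rw [hlin]
    exact hs'0
  obtain ⟨r, hr, hr0⟩ := exists_one_sub_smul_eq_zero J hH 𝔞 h𝔞 _ h2
  have hu : (1 - r) ∈ S := by
    intro hmem
    have : (1 : B) ∈ q := by
      have := Ideal.add_mem _ hmem (hq hr)
      rwa [sub_add_cancel] at this
    exact (Ideal.IsPrime.ne_top inferInstance) ((Ideal.eq_top_iff_one q).2 this)
  have h3 : ((1 - r) * s') • F₁ t = 0 := by
    rw [← map_smul, mul_smul, hr0, map_zero]
  have hunit := IsLocalizedModule.map_units F₁ (⟨(1 - r) * s', S.mul_mem hu s'.2⟩ : S)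
  have h4 : F₁ t = 0 := by
    have hinj := ((Module.End.isUnit_iff _).1 hunit).1
    apply hinj
    rw [map_zero]
    exact h3
  have hunit2 := IsLocalizedModule.map_units F₁ s
  have hinj2 := ((Module.End.isUnit_iff _).1 hunit2).1
  apply hinj2
  rw [map_zero]
  show (s : B) • x = 0
  have : (s : B) • x = s • x := rfl
  rw [this, hs', h4]

end krull

section bcloc

variable {R' A B' B M' M : Type u} [CommRing R'] [CommRing A] [Algebra R' A] [CommRing B']
  [Algebra R' B'] [CommRing B] [Algebra A B] [Algebra B' B] [Algebra R' B] [IsScalarTower R' A B]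
  [IsScalarTower R' B' B] [Algebra.IsPushout R' A B' B]
  [AddCommGroup M'] [Module B' M'] [Module R' M'] [IsScalarTower R' B' M']
  [AddCommGroup M] [Module B M] [Module A M] [IsScalarTower A B M] [Module B' M]
  [IsScalarTower B' B M]

theorem flat_localized_baseChange (β : M' →ₗ[B'] M) (hβ : IsBaseChange B β)
    (q : Ideal B) [q.IsPrime]
    (h : Module.Flat R' (LocalizedModule (q.comap (algebraMap B' B)).primeCompl M')) :
    Module.Flat A (LocalizedModule q.primeCompl M) := by
  let S' := (q.comap (algebraMap B' B)).primeCompl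
  let N' := LocalizedModule S' M'
  let mk' := LocalizedModule.mkLinearMap S' M'
  let P := B ⊗[B'] N'
  have hPflat : Module.Flat A P :=
    Module.Flat.of_linearEquiv (Algebra.IsPushout.cancelBaseChange R' A B' B N')
  let g₀ : B ⊗[B'] M' →ₗ[B'] B ⊗[B'] N' :=
    (TensorProduct.comm B' N' B).toLinearMap ∘ₗ (AlgebraTensorModule.rTensor B' B mk') ∘ₗ
      (TensorProduct.comm B' M' B).symm.toLinearMap
  have hg₀ : IsLocalizedModule S' g₀ := inferInstance
  let f₁ : M →ₗ[B] P := (mk'.baseChange B) ∘ₗ hβ.equiv.symm.toLinearMap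
  have hf₁eq : f₁.restrictScalars B' =
      g₀ ∘ₗ (hβ.equiv.symm.restrictScalars B').toLinearMap := by
    apply LinearMap.ext
    intro m
    show (mk'.baseChange B) (hβ.equiv.symm m) = g₀ (hβ.equiv.symm m)
    generalize hβ.equiv.symm m = z
    induction z using TensorProduct.induction_on with
    | zero => simp
    | tmul b m' => rfl
    | add x y hx hy => rw [map_add, map_add, hx, hy]
  have hf₁' : IsLocalizedModule S' (f₁.restrictScalars B') := by
    rw [hf₁eq]
    infer_instance
  have hf₁ : IsLocalizedModule (Algebra.algebraMapSubmonoid B S') f₁ :=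
    IsLocalizedModule.of_restrictScalars S' f₁
  have hle : Algebra.algebraMapSubmonoid B S' ≤ q.primeCompl := by
    rintro _ ⟨b, hb, rfl⟩
    exact hb
  let g := IsLocalizedModule.liftOfLE (Algebra.algebraMapSubmonoid B S') q.primeCompl hle f₁
    (LocalizedModule.mkLinearMap q.primeCompl M)
  have hg : IsLocalizedModule q.primeCompl g := inferInstance
  exact flat_of_isLocalizedModule q.primeCompl g hPflat

end bcloc

end Groth.Agent.Lib.Helper63.GrFlat
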