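import Groth.Agent.Lib.Helper63.GrFlat9
import Groth.Agent.Lib.Helper63.GrFlat10

set_option autoImplicit false
universe u

namespace Groth.Agent.Lib.Helper63.GrFlat

open MvPolynomial TensorProduct

attribute [local instance] MvPolynomial.algebraMvPolynomial

section bridge

variable {σ : Type} (w : σ → ℕ) (hw : ∀ i, w i ≤ 1) {R : Type u} [CommRing R] (n : ℕ)

noncomputable def Jw : Ideal (MvPolynomial σ R) :=
  Ideal.span ((X : σ → MvPolynomial σ R) '' {i | w i = 1})

include hw in
theorem monomial_mem_Jw_pow (d : σ →₀ ℕ) :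
    ∀ c : R, monomial d c ∈ Jw (R := R) w ^ (Finsupp.weight w d) := by
  classical
  induction d using Finsupp.induction_linear with
  | zero =>
    intro c
    rw [map_zero, pow_zero, Ideal.one_eq_top]
    exact Submodule.mem_top
  | add f g hf hg =>
    intro c
    have e : monomial (f + g) c = monomial f c * monomial g (1 : R) := by
      rw [monomial_mul, mul_one]
    rw [e, map_add, pow_add]
    exact Ideal.mul_mem_mul (hf c) (hg 1)
  | single i e =>
    intro c
    have e1 : monomial (Finsupp.single i e) c = C c * X i ^ e := by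
      rw [X_pow_eq_monomial, C_mul_monomial, mul_one]
    rw [e1, Finsupp.weight_single]
    apply Ideal.mul_mem_left
    by_cases hi : w i = 1
    · rw [hi, smul_eq_mul, mul_one]
      have hX : (X i : MvPolynomial σ R) ∈ Jw (R := R) w :=
        Ideal.subset_span (Set.mem_image_of_mem _ hi)
      exact Ideal.pow_mem_pow hX e
    · have h0 : w i = 0 := by
        have := hw i
        omega
      rw [h0, smul_zero, pow_zero, Ideal.one_eq_top]
      exact Submodule.mem_top

theorem Jw_smul_Wf_le (k : ℕ) :
    Jw (R := R) w • (Wf w n k : Submodule (MvPolynomial σ R) (Fin n → MvPolynomial σ R)) ≤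
      Wf w n (k + 1) := by
  rw [Submodule.smul_le]
  intro r hr H hH
  induction hr using Submodule.span_induction with
  | mem x hx =>
    obtain ⟨i, hi, rfl⟩ := hx
    have := X_smul_mem_Wf w n i hH
    have hi' : w i = 1 := hi
    rwa [hi'] at this
  | zero => rw [zero_smul]; exact Submodule.zero_mem _
  | add x y _ _ hx hy => rw [add_smul]; exact Submodule.add_mem _ hx hy
  | smul c x _ hx =>
    rw [smul_eq_mul, mul_smul]
    exact Submodule.smul_mem _ _ hx

include hw in
theorem Jw_pow_smul_top (k : ℕ) :
    Jw (R := R) w ^ k • (⊤ : Submodule (MvPolynomial σ R) (Fin n → MvPolynomial σ R)) =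
      Wf w n k := by
  classical
  apply le_antisymm
  · induction k with
    | zero =>
      rw [Wf_zero]
      exact le_top
    | succ k ih =>
      rw [pow_succ', Submodule.mul_smul]
      exact (Submodule.smul_mono le_rfl ih).trans (Jw_smul_Wf_le w n k)
  · intro H hH
    have := mem_of_monomials ((Jw (R := R) w ^ k •
      (⊤ : Submodule (MvPolynomial σ R) (Fin n → MvPolynomial σ R))).restrictScalars R) H ?_
    · exact this
    intro i d hd
    rw [Submodule.restrictScalars_mem]
    have hwd := weight_ge_of_mem_Wf w hH i d hd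
    have e : (Pi.single i (monomial d (coeff d (H i))) : Fin n → MvPolynomial σ R) =
        (monomial d (coeff d (H i))) • (Pi.single i (1 : MvPolynomial σ R)) := by
      funext j
      by_cases hj : j = i
      · subst hj
        rw [Pi.smul_apply, Pi.single_eq_same, Pi.single_eq_same, smul_eq_mul, mul_one]
      · rw [Pi.smul_apply, Pi.single_eq_of_ne hj, Pi.single_eq_of_ne hj, smul_zero]
    rw [e]
    exact Submodule.smul_mem_smul (Ideal.pow_le_pow_right hwd (monomial_mem_Jw_pow w hw d _))
      Submodule.mem_top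

variable {M : Type u} [AddCommGroup M] [Module (MvPolynomial σ R) M]

include hw in
theorem ker_mkQ_comp (g : (Fin n → MvPolynomial σ R) →ₗ[MvPolynomial σ R] M)
    (hg : Function.Surjective g) (k : ℕ) :
    LinearMap.ker g ⊔ Wf w n k =
      LinearMap.ker ((Jw (R := R) w ^ k • (⊤ : Submodule (MvPolynomial σ R) M)).mkQ ∘ₗ g) := by
  rw [LinearMap.ker_comp, Submodule.ker_mkQ]
  have h1 : (Jw (R := R) w ^ k • (⊤ : Submodule (MvPolynomial σ R) M)) =
      Submodule.map g (Wf w n k) := by
    rw [← Jw_pow_smul_top w hw n k, Submodule.map_smul'', Submodule.map_top,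
      LinearMap.range_eq_top.2 hg]
  rw [h1, Submodule.comap_map_eq, sup_comm]

include hw in
noncomputable def quotEquivOfSurj (g : (Fin n → MvPolynomial σ R) →ₗ[MvPolynomial σ R] M)
    (hg : Function.Surjective g) (k : ℕ) :
    ((Fin n → MvPolynomial σ R) ⧸ (LinearMap.ker g ⊔ Wf w n k)) ≃ₗ[MvPolynomial σ R]
      M ⧸ (Jw (R := R) w ^ k • (⊤ : Submodule (MvPolynomial σ R) M)) :=
  (Submodule.quotEquivOfEq _ _ (ker_mkQ_comp w hw n g hg k)).trans
    (LinearMap.quotKerEquivOfSurjective _
      ((Submodule.mkQ_surjective _).comp hg))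

end bridge

section model

variable {σ : Type} {A : Type u} [CommRing A] (n : ℕ)

theorem exists_model_coeffs (K : Submodule (MvPolynomial σ A) (Fin n → MvPolynomial σ A))
    (hK : K.FG) :
    ∃ k : Subalgebra ℤ A, k.FG ∧
      ∃ K₀ : Submodule (MvPolynomial σ ↥k) (Fin n → MvPolynomial σ ↥k),
        ext n (algebraMap ↥k A) K₀ = K := by
  classical
  obtain ⟨G, hG⟩ := hK
  let Cs : Finset A := G.biUnion fun g => Finset.univ.biUnion fun i => (g i).coeffs
  let k : Subalgebra ℤ A := Algebra.adjoin ℤ (Cs : Set A)
  have hk : k.FG := Subalgebra.fg_adjoin_finset Cs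
  have hlift : ∀ g ∈ G, ∃ g₀ : Fin n → MvPolynomial σ ↥k, mapF n (algebraMap ↥k A) g₀ = g := by
    intro g hg
    have h1 : ∀ i, ∃ p : MvPolynomial σ ↥k, MvPolynomial.map (algebraMap ↥k A) p = g i := by
      intro i
      have : g i ∈ Set.range (MvPolynomial.map (algebraMap ↥k A)) := by
        rw [MvPolynomial.mem_range_map_iff_coeffs_subset]
        intro c hc
        have hcC : c ∈ Cs := by
          simp only [Cs, Finset.mem_biUnion, Finset.mem_univ, true_and]
          exact ⟨g, hg, i, hc⟩
        exact ⟨⟨c, Algebra.subset_adjoin hcC⟩, rfl⟩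
      exact this
    choose p hp using h1
    exact ⟨p, funext hp⟩
  choose! g₀ hg₀ using hlift
  refine ⟨k, hk, Submodule.span _ (g₀ '' (G : Set (Fin n → MvPolynomial σ A))), ?_⟩
  rw [ext_span, Set.image_image, ← hG]
  congr 1
  have : (fun x => mapF n (algebraMap ↥k A) (g₀ x)) '' (G : Set (Fin n → MvPolynomial σ A)) =
      id '' (G : Set (Fin n → MvPolynomial σ A)) :=
    Set.image_congr fun g hg => hg₀ g hg
  rw [this, Set.image_id]

end model

end Groth.Agent.Lib.Helper63.GrFlat
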