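import Groth.Agent.Lib.Helper63.GrFlat11
import Groth.Agent.Lib.Helper55.FL.ModOpen

set_option autoImplicit false
universe u

namespace Groth.Agent.Lib.Helper63.GrFlat

open MvPolynomial TensorProduct

attribute [local instance] MvPolynomial.algebraMvPolynomial

section gr

variable {A B M : Type u} [CommRing A] [CommRing B] [Algebra A B] [AddCommGroup M] [Module B M]
  [Module A M] [IsScalarTower A B M]

theorem flat_quot_pow_of_gr (J : Ideal B)
    (hgr : ∀ k : ℕ, Module.Flat A
      (↥(J ^ k • (⊤ : Submodule B M)) ⧸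
        Submodule.comap (J ^ k • (⊤ : Submodule B M)).subtype (J ^ (k + 1) • ⊤))) :
    ∀ k : ℕ, Module.Flat A (M ⧸ (J ^ k • (⊤ : Submodule B M))) := by
  intro k
  induction k with
  | zero =>
    have : Subsingleton (M ⧸ (J ^ 0 • (⊤ : Submodule B M))) := by
      apply Submodule.Quotient.subsingleton_iff.2
      rw [pow_zero, Ideal.one_eq_top, Submodule.top_smul]
    exact flat_of_subsingleton'
  | succ k ih =>
    let Nk : Submodule B M := J ^ k • (⊤ : Submodule B M)
    let Nk1 : Submodule B M := J ^ (k + 1) • (⊤ : Submodule B M)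
    have hle : Nk1 ≤ Nk := Submodule.smul_mono (Ideal.pow_le_pow_right (Nat.le_succ k)) le_rfl
    let ι : (↥Nk ⧸ Submodule.comap Nk.subtype Nk1) →ₗ[B] M ⧸ Nk1 :=
      Submodule.mapQ _ _ Nk.subtype le_rfl
    let ρ : (M ⧸ Nk1) →ₗ[B] M ⧸ Nk := Submodule.mapQ _ _ LinearMap.id hle
    have hι : Function.Injective (ι.restrictScalars A) := by
      rw [injective_iff_map_eq_zero]
      intro x hx
      obtain ⟨y, rfl⟩ := Submodule.Quotient.mk_surjective _ x
      have h1 : (Submodule.Quotient.mk (y : M) : M ⧸ Nk1) = 0 := hx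
      rw [Submodule.Quotient.mk_eq_zero] at h1
      exact (Submodule.Quotient.mk_eq_zero _).2 h1
    have hρ : Function.Surjective (ρ.restrictScalars A) := by
      intro z
      obtain ⟨m, rfl⟩ := Submodule.Quotient.mk_surjective _ z
      exact ⟨Submodule.Quotient.mk m, rfl⟩
    have hex : Function.Exact (ι.restrictScalars A) (ρ.restrictScalars A) := by
      intro z
      obtain ⟨m, rfl⟩ := Submodule.Quotient.mk_surjective _ z
      constructor
      · intro hz
        have h1 : (Submodule.Quotient.mk m : M ⧸ Nk) = 0 := hz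
        rw [Submodule.Quotient.mk_eq_zero] at h1
        exact ⟨Submodule.Quotient.mk ⟨m, h1⟩, rfl⟩
      · rintro ⟨y, hy⟩
        obtain ⟨y, rfl⟩ := Submodule.Quotient.mk_surjective _ y
        have h1 : (Submodule.Quotient.mk (y : M) : M ⧸ Nk1) = Submodule.Quotient.mk m := hy
        have h2 : (ρ.restrictScalars A) (Submodule.Quotient.mk m) =
            (Submodule.Quotient.mk (y : M) : M ⧸ Nk) := by
          rw [← h1]
          rfl
        rw [h2]
        exact (Submodule.Quotient.mk_eq_zero _).2 y.2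
    exact flat_of_ext (ι.restrictScalars A) (ρ.restrictScalars A) hι hex hρ (hgr k) ih

end gr

section restr

variable {P B M : Type u} [CommRing P] [CommRing B] [Algebra P B] [AddCommGroup M] [Module B M]
  [Module P M] [IsScalarTower P B M]

theorem restrictScalars_pow_smul_top (hπ : Function.Surjective (algebraMap P B)) (JP : Ideal P)
    (k : ℕ) :
    (((JP.map (algebraMap P B)) ^ k • (⊤ : Submodule B M)).restrictScalars P) =
      JP ^ k • (⊤ : Submodule P M) := by
  apply le_antisymm
  · intro x hx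
    rw [Submodule.restrictScalars_mem] at hx
    induction hx using Submodule.smul_induction_on' with
    | smul b hb m _ =>
      rw [← Ideal.map_pow] at hb
      obtain ⟨r, hr, rfl⟩ := (Ideal.mem_map_iff_of_surjective _ hπ).1 hb
      rw [algebraMap_smul]
      exact Submodule.smul_mem_smul hr Submodule.mem_top
    | add x _ y _ hx hy => exact Submodule.add_mem _ hx hy
  · rw [Submodule.smul_le]
    intro r hr m _
    rw [Submodule.restrictScalars_mem, ← algebraMap_smul B r m]
    refine Submodule.smul_mem_smul ?_ Submodule.mem_top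
    rw [← Ideal.map_pow]
    exact Ideal.mem_map_of_mem _ hr

end restr

section polymain

variable {σ : Type} [Finite σ] (w : σ → ℕ) (hw : ∀ i, w i ≤ 1) {A : Type u} [CommRing A] (n : ℕ)

include hw in
theorem flat_localized_poly
    (K : Submodule (MvPolynomial σ A) (Fin n → MvPolynomial σ A)) (hK : K.FG)
    (hH : ∀ j, Module.Flat A (EE w n K j))
    (qP : Ideal (MvPolynomial σ A)) [qP.IsPrime] (hq : Jw (R := A) w ≤ qP) :
    Module.Flat A (LocalizedModule qP.primeCompl ((Fin n → MvPolynomial σ A) ⧸ K)) := by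
  obtain ⟨k₀, hk₀, K₀, hK₀⟩ := exists_model_coeffs n K hK
  have ft : Algebra.FiniteType ℤ ↥k₀ := (Subalgebra.fg_iff_finiteType k₀).1 hk₀
  have hn₀ : IsNoetherianRing ↥k₀ := Algebra.FiniteType.isNoetherianRing ℤ ↥k₀
  have hA : ∀ j, Module.Flat A (EE w n (ext n (algebraMap ↥k₀ A) K₀) j) := by
    rw [hK₀]
    exact hH
  obtain ⟨R, iR, ikR, iRA, t, hft, hinj, hR⟩ := core w n K₀ hA
  have hnR : IsNoetherianRing R := Algebra.FiniteType.isNoetherianRing ↥k₀ R
  have hKA : ext n (algebraMap R A) (ext n (algebraMap ↥k₀ R) K₀) = K := by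
    rw [ext_ext, ← IsScalarTower.algebraMap_eq, hK₀]
  generalize ext n (algebraMap ↥k₀ R) K₀ = K_R at hR hKA
  have hHR : ∀ j, Module.Flat R (((Fin n → MvPolynomial σ R) ⧸ K_R) ⧸
      (Jw (R := R) w ^ j • (⊤ : Submodule (MvPolynomial σ R) ((Fin n → MvPolynomial σ R) ⧸ K_R)))) := by
    intro j
    have e := quotEquivOfSurj w hw n K_R.mkQ (Submodule.mkQ_surjective K_R) j
    have h1 : Module.Flat R ((Fin n → MvPolynomial σ R) ⧸ (LinearMap.ker K_R.mkQ ⊔ Wf w n j)) := by
      rw [Submodule.ker_mkQ]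
      exact hR j
    exact Module.Flat.of_linearEquiv (e.symm.restrictScalars R)
  let qR : Ideal (MvPolynomial σ R) := qP.comap (algebraMap (MvPolynomial σ R) (MvPolynomial σ A))
  have hle : Jw (R := R) w ≤ qR := by
    rw [Jw, Ideal.span_le]
    rintro _ ⟨i, hi, rfl⟩
    show algebraMap (MvPolynomial σ R) (MvPolynomial σ A) (X i) ∈ qP
    rw [MvPolynomial.algebraMap_def, map_X]
    exact hq (Ideal.subset_span (Set.mem_image_of_mem _ hi))
  have h2 : Module.Flat R (LocalizedModule qR.primeCompl ((Fin n → MvPolynomial σ R) ⧸ K_R)) :=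
    flat_localized_of_noeth (Jw (R := R) w) hHR qR hle
  let e₀ : ((Fin n → MvPolynomial σ R) ⧸ K_R) ≃ₗ[MvPolynomial σ R]
      (Fin n → MvPolynomial σ R) ⧸ Submodule.span (MvPolynomial σ R) (K_R : Set _) :=
    Submodule.quotEquivOfEq _ _ (Submodule.span_eq K_R).symm
  have hqm := Groth.Agent.Lib.Helper55.FL.isBaseChange_quotMap (MvPolynomial σ R)
    (MvPolynomial σ A) n (K_R : Set (Fin n → MvPolynomial σ R))
  have hspan : Groth.Agent.Lib.Helper55.FL.spanB (MvPolynomial σ R) (MvPolynomial σ A) n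
      (K_R : Set (Fin n → MvPolynomial σ R)) = K := by
    rw [← hKA]
    rfl
  let e₂ : ((Fin n → MvPolynomial σ A) ⧸ Groth.Agent.Lib.Helper55.FL.spanB (MvPolynomial σ R)
      (MvPolynomial σ A) n (K_R : Set (Fin n → MvPolynomial σ R))) ≃ₗ[MvPolynomial σ A]
      (Fin n → MvPolynomial σ A) ⧸ K := Submodule.quotEquivOfEq _ _ hspan
  have hβ := ((IsBaseChange.ofEquiv e₀).comp hqm).comp (IsBaseChange.ofEquiv e₂)
  exact flat_localized_baseChange (R' := R) (A := A) _ hβ qP h2

end polymain

end Groth.Agent.Lib.Helper63.GrFlat
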