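import Groth.Agent.Lib.Helper63.GrFlat12

set_option autoImplicit false
universe u

namespace Groth.Agent.Lib.Helper63.GrFlat

open MvPolynomial TensorProduct

attribute [local instance] MvPolynomial.algebraMvPolynomial

section general

variable {A B : Type u} [CommRing A] [CommRing B] [Algebra A B] [Algebra.FinitePresentation A B]

theorem exists_poly_cover (J : Ideal B) (hJ : J.FG) :
    ∃ (a r : ℕ) (π : MvPolynomial (Fin a ⊕ Fin r) A →ₐ[A] B), Function.Surjective π ∧
      Ideal.map π.toRingHom
        (Jw (R := A) (Sum.elim (fun _ : Fin a => 0) (fun _ : Fin r => 1))) = J := by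
  classical
  obtain ⟨a, π₀, hπ₀, -⟩ := Algebra.FinitePresentation.out (R := A) (A := B)
  obtain ⟨r, b, hb⟩ := Submodule.fg_iff_exists_fin_generating_family.1 hJ
  let π : MvPolynomial (Fin a ⊕ Fin r) A →ₐ[A] B :=
    MvPolynomial.aeval (Sum.elim (fun i => π₀ (X i)) b)
  refine ⟨a, r, π, ?_, ?_⟩
  · intro y
    obtain ⟨p, rfl⟩ := hπ₀ y
    refine ⟨MvPolynomial.rename Sum.inl p, ?_⟩
    show MvPolynomial.aeval (Sum.elim (fun i => π₀ (X i)) b) (MvPolynomial.rename Sum.inl p) = π₀ p
    rw [MvPolynomial.aeval_rename]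
    have : π₀ = MvPolynomial.aeval (fun i => π₀ (X i)) := MvPolynomial.aeval_unique π₀
    conv_rhs => rw [this]
    rfl
  · rw [Jw, Ideal.map_span, ← hb]
    congr 1
    ext y
    constructor
    · rintro ⟨_, ⟨i, hi, rfl⟩, rfl⟩
      rcases i with i | j
      · exact absurd hi (by simp)
      · exact ⟨j, by simp [π]⟩
    · rintro ⟨j, rfl⟩
      exact ⟨X (Sum.inr j), ⟨Sum.inr j, by simp, rfl⟩, by simp [π]⟩

variable (M : Type u) [AddCommGroup M] [Module B M] [Module A M] [IsScalarTower A B M]
  [Module.FinitePresentation B M]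

theorem flat_localization_of_flat_quot (J : Ideal B) (hJ : J.FG)
    (hH : ∀ k : ℕ, Module.Flat A (M ⧸ (J ^ k • (⊤ : Submodule B M))))
    (q : Ideal B) [q.IsPrime] (hq : J ≤ q) :
    Module.Flat A (LocalizedModule q.primeCompl M) := by
  classical
  obtain ⟨a, r, π, hπ, hJπ⟩ := exists_poly_cover (A := A) J hJ
  let w : Fin a ⊕ Fin r → ℕ := Sum.elim (fun _ => 0) (fun _ => 1)
  have hw : ∀ i, w i ≤ 1 := by
    rintro (i | j)
    · exact Nat.zero_le 1
    · exact le_rfl
  let P := MvPolynomial (Fin a ⊕ Fin r) A
  let algPB : Algebra P B := π.toRingHom.toAlgebra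
  have tAPB : IsScalarTower A P B := IsScalarTower.of_algebraMap_eq fun x => (π.commutes x).symm
  let modPM : Module P M := Module.compHom M (π : P →+* B)
  have tPBM : IsScalarTower P B M :=
    ⟨fun p s m => by
      show (π p * s) • m = π p • (s • m)
      rw [mul_smul]⟩
  have tAPM : IsScalarTower A P M :=
    ⟨fun r p m => by
      show π (r • p) • m = r • (π p • m)
      rw [map_smul, smul_assoc]⟩
  have hπ' : Function.Surjective (algebraMap P B) := hπ
  have hkerfg : (RingHom.ker π.toRingHom).FG :=
    Algebra.FinitePresentation.ker_fG_of_surjective π hπ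
  have fpPB : Module.FinitePresentation P B :=
    Module.finitePresentation_of_surjective (Algebra.linearMap P B) hπ' hkerfg
  have fpPM : Module.FinitePresentation P M := Module.FinitePresentation.trans P M B
  obtain ⟨n, K, e, hK⟩ := Module.FinitePresentation.exists_fin P M
  let g : (Fin n → P) →ₗ[P] M := e.symm.toLinearMap ∘ₗ K.mkQ
  have hg : Function.Surjective g := e.symm.surjective.comp (Submodule.mkQ_surjective K)
  have hkerg : LinearMap.ker g = K := by
    rw [LinearMap.ker_comp, LinearEquiv.ker, Submodule.comap_bot, Submodule.ker_mkQ]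
  have hJP : (Jw (R := A) w).map (algebraMap P B) = J := hJπ
  have hHK : ∀ j, Module.Flat A (EE w n K j) := by
    intro j
    have h1 := hH j
    rw [← hJP] at h1
    have h2 : Module.Flat A (M ⧸ (((Jw (R := A) w).map (algebraMap P B)) ^ j •
        (⊤ : Submodule B M)).restrictScalars P) :=
      Module.Flat.of_linearEquiv ((Submodule.Quotient.restrictScalarsEquiv P _).restrictScalars A)
    rw [restrictScalars_pow_smul_top hπ'] at h2
    have e1 := quotEquivOfSurj w hw n g hg j
    have h3 : Module.Flat A ((Fin n → P) ⧸ (LinearMap.ker g ⊔ Wf w n j)) :=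
      Module.Flat.of_linearEquiv (e1.restrictScalars A)
    rw [hkerg] at h3
    exact h3
  let qP : Ideal P := q.comap (algebraMap P B)
  have hqP : Jw (R := A) w ≤ qP := by
    intro x hx
    show algebraMap P B x ∈ q
    apply hq
    rw [← hJP]
    exact Ideal.mem_map_of_mem _ hx
  have h4 : Module.Flat A (LocalizedModule qP.primeCompl ((Fin n → P) ⧸ K)) :=
    flat_localized_poly w hw n K hK hHK qP hqP
  have h5 : Module.Flat A (LocalizedModule qP.primeCompl M) := by
    have hloc : IsLocalizedModule qP.primeCompl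
        ((LocalizedModule.mkLinearMap qP.primeCompl ((Fin n → P) ⧸ K)) ∘ₗ e.toLinearMap) :=
      inferInstance
    exact Module.Flat.of_linearEquiv
      ((IsLocalizedModule.iso qP.primeCompl
        ((LocalizedModule.mkLinearMap qP.primeCompl ((Fin n → P) ⧸ K)) ∘ₗ
          e.toLinearMap)).restrictScalars A)
  exact (Module.Flat.equiv_iff
    ((Groth.Agent.Lib.Helper55.FL.localizedModuleEquivOfSurjective hπ' M q).restrictScalars A)).1 h5

end general

end Groth.Agent.Lib.Helper63.GrFlat
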