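import Groth.Agent.Lib.Helper63.GrFlat13
import Groth.Agent.Lib.Helper55.FL.SpreadOut

set_option autoImplicit false
universe u

namespace Groth.Agent.Lib.Helper63.GrFlat

open MvPolynomial TensorProduct

attribute [local instance] MvPolynomial.algebraMvPolynomial

section model

variable {A B : Type u} [CommRing A] [CommRing B] [Algebra A B] [Algebra.FinitePresentation A B]
  (M : Type u) [AddCommGroup M] [Module B M] [Module A M] [IsScalarTower A B M]
  [Module.FinitePresentation B M]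

theorem exists_EE_model (J : Ideal B) (hJ : J.FG) :
    ∃ (a r n : ℕ) (K : Submodule (MvPolynomial (Fin a ⊕ Fin r) A)
        (Fin n → MvPolynomial (Fin a ⊕ Fin r) A)),
      K.FG ∧ ∀ k : ℕ, Nonempty ((M ⧸ (J ^ k • (⊤ : Submodule B M))) ≃ₗ[A]
        EE (Sum.elim (fun _ : Fin a => 0) (fun _ : Fin r => 1)) n K k) := by
  classical
  obtain ⟨a, r, π, hπ, hJπ⟩ := exists_poly_cover (A := A) J hJ
  let w : Fin a ⊕ Fin r → ℕ := Sum.elim (fun _ => 0) (fun _ => 1)
  have hw : ∀ i, w i ≤ 1 := by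
    rintro (i | j)
    · exact Nat.zero_le 1
    · exact le_rfl
  let P := MvPolynomial (Fin a ⊕ Fin r) A
  let algPB : Algebra P B := π.toRingHom.toAlgebra
  have tAPB : IsScalarTower A P B := IsScalarTower.of_algebraMap_eq fun x => (π.commutes x).symm
  let modPM : Module P M := Module.compHom M (π : P →+* B)
  have tPBM : IsScalarTower P B M :=
    ⟨fun p s m => by
      show (π p * s) • m = π p • (s • m)
      rw [mul_smul]⟩
  have tAPM : IsScalarTower A P M :=
    ⟨fun r p m => by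
      show π (r • p) • m = r • (π p • m)
      rw [map_smul, smul_assoc]⟩
  have hπ' : Function.Surjective (algebraMap P B) := hπ
  have hkerfg : (RingHom.ker π.toRingHom).FG :=
    Algebra.FinitePresentation.ker_fG_of_surjective π hπ
  have fpPB : Module.FinitePresentation P B :=
    Module.finitePresentation_of_surjective (Algebra.linearMap P B) hπ' hkerfg
  have fpPM : Module.FinitePresentation P M := Module.FinitePresentation.trans P M B
  obtain ⟨n, K, e, hK⟩ := Module.FinitePresentation.exists_fin P M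
  let g : (Fin n → P) →ₗ[P] M := e.symm.toLinearMap ∘ₗ K.mkQ
  have hg : Function.Surjective g := e.symm.surjective.comp (Submodule.mkQ_surjective K)
  have hkerg : LinearMap.ker g = K := by
    rw [LinearMap.ker_comp, LinearEquiv.ker, Submodule.comap_bot, Submodule.ker_mkQ]
  have hJP : (Jw (R := A) w).map (algebraMap P B) = J := hJπ
  refine ⟨a, r, n, K, hK, fun k => ?_⟩
  have e1 : (M ⧸ (J ^ k • (⊤ : Submodule B M))) ≃ₗ[A]
      (M ⧸ ((J ^ k • (⊤ : Submodule B M)).restrictScalars P)) :=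
    ((Submodule.Quotient.restrictScalarsEquiv P _).restrictScalars A).symm
  have h : ((J ^ k • (⊤ : Submodule B M)).restrictScalars P) =
      Jw (R := A) w ^ k • (⊤ : Submodule P M) := by
    rw [← hJP]
    exact restrictScalars_pow_smul_top hπ' _ k
  have e2 : (M ⧸ ((J ^ k • (⊤ : Submodule B M)).restrictScalars P)) ≃ₗ[P]
      M ⧸ (Jw (R := A) w ^ k • (⊤ : Submodule P M)) := Submodule.quotEquivOfEq _ _ h
  have e3 := (quotEquivOfSurj w hw n g hg k).symm
  have e4 : ((Fin n → P) ⧸ (LinearMap.ker g ⊔ Wf w n k)) ≃ₗ[P] (Fin n → P) ⧸ (K ⊔ Wf w n k) :=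
    Submodule.quotEquivOfEq _ _ (by rw [hkerg])
  exact ⟨e1.trans ((e2.trans (e3.trans e4)).restrictScalars A)⟩

end model

section iff

variable {A₀ B₀ M₀ : Type u} [CommRing A₀] [CommRing B₀] [Algebra A₀ B₀] [AddCommGroup M₀]
  [Module B₀ M₀] [Module A₀ M₀] [IsScalarTower A₀ B₀ M₀]
  {σ : Type} (w : σ → ℕ) (n : ℕ) (K₀ : Submodule (MvPolynomial σ A₀) (Fin n → MvPolynomial σ A₀))

theorem flat_stmt_iff_EE (N : Submodule B₀ M₀) (k : ℕ) (E : (M₀ ⧸ N) ≃ₗ[A₀] EE w n K₀ k)
    (C : Type u) [CommRing C] [Algebra A₀ C] :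
    Module.Flat C ((C ⊗[A₀] M₀) ⧸
        LinearMap.range ((N.restrictScalars A₀).subtype.baseChange C)) ↔
      Module.Flat C (EE w n (ext n (algebraMap A₀ C) K₀) k) := by
  have e1 : C ⊗[A₀] (M₀ ⧸ N) ≃ₗ[C] (C ⊗[A₀] M₀) ⧸
      LinearMap.range ((N.restrictScalars A₀).subtype.baseChange C) :=
    AlgebraTensorModule.tensorQuotientEquiv C B₀ C N
  have e2 : C ⊗[A₀] (M₀ ⧸ N) ≃ₗ[C] C ⊗[A₀] (EE w n K₀ k) :=
    AlgebraTensorModule.congr (LinearEquiv.refl C C) E
  have e3 := bcEquiv (T := C) n (K₀ ⊔ Wf w n k)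
  rw [← Module.Flat.equiv_iff e1, Module.Flat.equiv_iff e2, Module.Flat.equiv_iff e3, ext_sup,
    ext_Wf]

end iff

section stage

variable {A₀ : Type u} [CommRing A₀]
  {ι : Type u} [Preorder ι] (G : ι → Type u) [∀ i, CommRing (G i)] [∀ i, Algebra A₀ (G i)]
  (g : ∀ i j, i ≤ j → G i →ₐ[A₀] G j)
  (A : Type u) [CommRing A] [Algebra A₀ A] [∀ i, Algebra (G i) A] [∀ i, IsScalarTower A₀ (G i) A]
  (hcolim : FlatCA.IsDirectedColimitRing G (fun i j h => (g i j h).toRingHom) A)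
  {σ : Type} [Finite σ] (w : σ → ℕ) (n : ℕ)
  (K₀ : Submodule (MvPolynomial σ A₀) (Fin n → MvPolynomial σ A₀))

include hcolim in
theorem stage_of_colimit (hK₀ : K₀.FG)
    (hA : ∀ j, Module.Flat A (EE w n (ext n (algebraMap A₀ A) K₀) j)) :
    ∃ i, ∀ j, Module.Flat (G i) (EE w n (ext n (algebraMap A₀ (G i)) K₀) j) := by
  obtain ⟨k₀, hk₀, K₀₀, hK₀₀⟩ := exists_model_coeffs n K₀ hK₀
  have ft : Algebra.FiniteType ℤ ↥k₀ := (Subalgebra.fg_iff_finiteType k₀).1 hk₀
  have hn₀ : IsNoetherianRing ↥k₀ := Algebra.FiniteType.isNoetherianRing ℤ ↥k₀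
  have hA' : ∀ j, Module.Flat A (EE w n (ext n (algebraMap ↥k₀ A) K₀₀) j) := by
    intro j
    have := hA j
    rw [← hK₀₀, ext_ext] at this
    exact this
  obtain ⟨R, iR, ikR, iRA, t, hft, hinj, hR⟩ := core w n K₀₀ hA'
  have fp : Algebra.FinitePresentation ↥k₀ R := Algebra.FinitePresentation.of_finiteType.1 hft
  have hgk : ∀ i j (h : i ≤ j),
      ((g i j h).toRingHom).comp (algebraMap ↥k₀ (G i)) = algebraMap ↥k₀ (G j) := by
    intro i j h
    ext x
    exact (g i j h).commutes (x : A₀)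
  obtain ⟨j, ψ, -⟩ := Groth.Agent.Lib.Helper55.FL.exists_algHom_of_finitePresentation G
    (fun i j h => (g i j h).toRingHom) hgk A hcolim R (IsScalarTower.toAlgHom ↥k₀ R A)
  refine ⟨j, fun l => ?_⟩
  let algRG : Algebra R (G j) := ψ.toRingHom.toAlgebra
  have h1 := flat_quot_ext (T := G j) n (ext n (algebraMap ↥k₀ R) K₀₀ ⊔ Wf w n l) (hR l)
  rw [ext_sup, ext_Wf, ext_ext] at h1
  have h2 : (algebraMap R (G j)).comp (algebraMap ↥k₀ R) = algebraMap ↥k₀ (G j) :=
    ψ.comp_algebraMap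
  rw [h2] at h1
  have h3 : ext n (algebraMap A₀ (G j)) K₀ = ext n (algebraMap ↥k₀ (G j)) K₀₀ := by
    rw [← hK₀₀, ext_ext]
    rfl
  rw [h3]
  exact h1

end stage

end Groth.Agent.Lib.Helper63.GrFlat
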