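import Groth.Agent.Lib.Helper63.GrFlat11
import Groth.Agent.Lib.Helper63.GrFlat15
import Groth.Agent.Lib.Helper55.FL.ModOpen

set_option autoImplicit false
universe u

namespace Groth.Agent.Lib.Helper63.GrFlat

open MvPolynomial TensorProduct

section vertex

variable {τ : Type} (w : τ → ℕ) (hw1 : ∀ i, w i = 1) {D : Type u} [CommRing D] (n : ℕ)
  (K : Submodule (MvPolynomial τ D) (Fin n → MvPolynomial τ D))

include hw1 in
theorem mem_Jw_of_constantCoeff_eq_zero (s : MvPolynomial τ D) (hs : constantCoeff s = 0) :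
    s ∈ Jw (R := D) w := by
  classical
  have hw : ∀ i, w i ≤ 1 := fun i => (hw1 i).le
  rw [s.as_sum]
  refine Ideal.sum_mem _ fun d hd => ?_
  have hd0 : d ≠ 0 := by
    rintro rfl
    rw [mem_support_iff] at hd
    exact hd hs
  obtain ⟨i, hi⟩ : ∃ i, d i ≠ 0 := by
    by_contra hcon
    push Not at hcon
    exact hd0 (Finsupp.ext hcon)
  have h1 : 1 ≤ Finsupp.weight w d := by
    have h2 := Finsupp.le_weight w (s := i) (by rw [hw1 i]; exact one_ne_zero) d
    omega
  exact Ideal.pow_le_self (by omega) (monomial_mem_Jw_pow w hw d _)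

include hw1 in
theorem sub_C_smul_mem_Wf (s : MvPolynomial τ D) {j : ℕ} {H : Fin n → MvPolynomial τ D}
    (hH : H ∈ Wf w n j) : (s - MvPolynomial.C (constantCoeff s)) • H ∈ Wf w n (j + 1) := by
  have h1 : s - MvPolynomial.C (constantCoeff s) ∈ Jw (R := D) w := by
    apply mem_Jw_of_constantCoeff_eq_zero w hw1
    rw [map_sub, constantCoeff_C, sub_self]
  exact Jw_smul_Wf_le w n j (Submodule.smul_mem_smul h1 hH)

include hw1 in
theorem smul_hc_sub_mem_NG (s : MvPolynomial τ D) (j : ℕ) (x : Fin n → MvPolynomial τ D) :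
    s • hc w n j x - (constantCoeff s) • x ∈ NG w n K j := by
  have e : s • hc w n j x - (constantCoeff s) • x =
      (s - MvPolynomial.C (constantCoeff s)) • hc w n j x + (constantCoeff s) • (hc w n j x - x) := by
    rw [sub_smul, smul_sub]
    have : (MvPolynomial.C (constantCoeff s) : MvPolynomial τ D) • hc w n j x =
        (constantCoeff s) • hc w n j x := by
      funext i
      rw [Pi.smul_apply, Pi.smul_apply, smul_eq_mul, MvPolynomial.C_mul']
    rw [this]
    abel
  rw [e]
  apply Submodule.mem_sup_right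
  apply Submodule.add_mem
  · rw [LinearMap.mem_ker]
    exact (mem_Wf w n).1 (sub_C_smul_mem_Wf w hw1 n s (hc_mem_Wf w n j x)) j (Nat.lt_succ_self j)
  · rw [LinearMap.mem_ker, map_smul, map_sub, hc_hc_same, sub_self, smul_zero]

noncomputable def iN (j : ℕ) : GG w n K j →ₗ[D] QQ w n K :=
  (Submodule.Quotient.restrictScalarsEquiv D (inK w n K)).toLinearMap ∘ₗ iQ w n K j

noncomputable def sN (j : ℕ) : QQ w n K →ₗ[D] GG w n K j :=
  sQ w n K j ∘ₗ (Submodule.Quotient.restrictScalarsEquiv D (inK w n K)).symm.toLinearMap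

theorem iN_mk (j : ℕ) (x : Fin n → MvPolynomial τ D) :
    iN w n K j (Submodule.Quotient.mk x) = Submodule.Quotient.mk (hc w n j x) := rfl

theorem sN_mk (j : ℕ) (x : Fin n → MvPolynomial τ D) :
    sN w n K j (Submodule.Quotient.mk x) = Submodule.Quotient.mk x := rfl

theorem sN_iN_same (j : ℕ) (g : GG w n K j) : sN w n K j (iN w n K j g) = g := by
  obtain ⟨x, rfl⟩ := Submodule.Quotient.mk_surjective _ g
  rw [iN_mk, sN_mk]
  exact sQ_iQ_same w n K j (Submodule.Quotient.mk x)

noncomputable def smulC (s : MvPolynomial τ D) : QQ w n K →ₗ[D] QQ w n K :=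
  (LinearMap.lsmul (MvPolynomial τ D) (QQ w n K) s).restrictScalars D

theorem smulC_apply (s : MvPolynomial τ D) (x : QQ w n K) : smulC w n K s x = s • x := rfl

include hw1 in
theorem sN_smulC_iN (s : MvPolynomial τ D) (j : ℕ) :
    sN w n K j ∘ₗ smulC w n K s ∘ₗ iN w n K j = (constantCoeff s) • LinearMap.id := by
  apply LinearMap.ext
  intro g
  obtain ⟨x, rfl⟩ := Submodule.Quotient.mk_surjective _ g
  rw [LinearMap.comp_apply, LinearMap.comp_apply, iN_mk, smulC_apply, LinearMap.smul_apply,
    LinearMap.id_apply, ← Submodule.Quotient.mk_smul, sN_mk, ← Submodule.Quotient.mk_smul,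
    Submodule.Quotient.eq]
  exact smul_hc_sub_mem_NG w hw1 n K s j x

theorem exists_decomp (I : Ideal D) (t : QQ w n K ⊗[D] I) :
    ∃ J : Finset ℕ, (∀ j, j ∉ J → LinearMap.rTensor I (iN w n K j ∘ₗ sN w n K j) t = 0) ∧
      ∑ j ∈ J, LinearMap.rTensor I (iN w n K j ∘ₗ sN w n K j) t = t := by
  classical
  induction t using TensorProduct.induction_on with
  | zero => exact ⟨∅, fun j _ => map_zero _, by simp⟩
  | tmul y a =>
    obtain ⟨x, rfl⟩ := Submodule.Quotient.mk_surjective _ y
    obtain ⟨N, hN, hsum⟩ := exists_bound_hc w n x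
    refine ⟨Finset.range N, fun j hj => ?_, ?_⟩
    · rw [LinearMap.rTensor_tmul, LinearMap.comp_apply, sN_mk, iN_mk,
        hN j (by simpa using hj), Submodule.Quotient.mk_zero, zero_tmul]
    · have h1 : ∀ j ∈ Finset.range N,
          LinearMap.rTensor I (iN w n K j ∘ₗ sN w n K j)
            ((Submodule.Quotient.mk x : QQ w n K) ⊗ₜ[D] a) =
          (Submodule.Quotient.mk (hc w n j x) : QQ w n K) ⊗ₜ[D] a := by
        intro j _
        rw [LinearMap.rTensor_tmul, LinearMap.comp_apply, sN_mk, iN_mk]
      rw [Finset.sum_congr rfl h1, ← TensorProduct.sum_tmul]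
      congr 1
      conv_rhs => rw [← hsum]
      rw [← Submodule.mkQ_apply, map_sum]
      rfl
  | add t₁ t₂ h₁ h₂ =>
    obtain ⟨J₁, hz₁, hs₁⟩ := h₁
    obtain ⟨J₂, hz₂, hs₂⟩ := h₂
    refine ⟨J₁ ∪ J₂, fun j hj => ?_, ?_⟩
    · rw [Finset.mem_union, not_or] at hj
      rw [map_add, hz₁ j hj.1, hz₂ j hj.2, add_zero]
    · simp only [map_add]
      rw [Finset.sum_add_distrib]
      congr 1
      · rw [← Finset.sum_subset Finset.subset_union_left (fun j _ hj => hz₁ j hj)]
        exact hs₁
      · rw [← Finset.sum_subset Finset.subset_union_right (fun j _ hj => hz₂ j hj)]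
        exact hs₂

theorem smul_eq_rTensor (I : Ideal D) (s : MvPolynomial τ D) (t : QQ w n K ⊗[D] I) :
    s • t = LinearMap.rTensor I (smulC w n K s) t := by
  induction t using TensorProduct.induction_on with
  | zero => rw [smul_zero, map_zero]
  | tmul y a => rw [TensorProduct.smul_tmul', LinearMap.rTensor_tmul, smulC_apply]
  | add t₁ t₂ h₁ h₂ => rw [smul_add, map_add, h₁, h₂]

end vertex

section main

variable {τ : Type} [Finite τ] (w : τ → ℕ) (hw1 : ∀ i, w i = 1) {D : Type u} [CommRing D] (n : ℕ)
  (K : Submodule (MvPolynomial τ D) (Fin n → MvPolynomial τ D))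

theorem lTensor_rTensor_comm {M M' : Type u} [AddCommGroup M] [AddCommGroup M'] [Module D M]
    [Module D M'] (f : M →ₗ[D] M') (I : Ideal D) (t : M ⊗[D] I) :
    LinearMap.lTensor M' I.subtype (LinearMap.rTensor I f t) =
      LinearMap.rTensor D f (LinearMap.lTensor M I.subtype t) := by
  have h1 := LinearMap.congr_fun (LinearMap.lTensor_comp_rTensor (R := D) M f I.subtype) t
  have h2 := LinearMap.congr_fun (LinearMap.rTensor_comp_lTensor (R := D) M f I.subtype) t
  rw [LinearMap.comp_apply] at h1 h2
  rw [h1, h2]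

omit [Finite τ] in
include hw1 in
theorem flat_GG_iff_vertex (q : PrimeSpectrum D) :
    (∀ j, Module.Flat D (LocalizedModule q.asIdeal.primeCompl (GG w n K j))) ↔
      Module.Flat D (LocalizedModule
        (PrimeSpectrum.comap (constantCoeff : MvPolynomial τ D →+* D) q).asIdeal.primeCompl
        (QQ w n K)) := by
  classical
  constructor
  · intro h
    rw [flat_localized_iff_elementwise]
    intro I hI t ht
    have ht' : LinearMap.lTensor (QQ w n K) I.subtype t = 0 := ht
    obtain ⟨J, -, hsum⟩ := exists_decomp w n K I t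
    have hj : ∀ j, ∃ s ∈ q.asIdeal.primeCompl, s • LinearMap.rTensor I (sN w n K j) t = 0 := by
      intro j
      refine (flat_localized_iff_elementwise (C := D) (S := D) (N := GG w n K j)
        q.asIdeal.primeCompl).1 (h j) hI (LinearMap.rTensor I (sN w n K j) t) ?_
      show LinearMap.lTensor (GG w n K j) I.subtype (LinearMap.rTensor I (sN w n K j) t) = 0
      rw [lTensor_rTensor_comm, ht', map_zero]
    choose s hs hst using hj
    refine ⟨algebraMap D (MvPolynomial τ D) (∏ j ∈ J, s j), ?_, ?_⟩
    · show algebraMap D (MvPolynomial τ D) (∏ j ∈ J, s j) ∉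
        (PrimeSpectrum.comap (constantCoeff : MvPolynomial τ D →+* D) q).asIdeal
      rw [PrimeSpectrum.comap_asIdeal, Ideal.mem_comap, MvPolynomial.algebraMap_eq,
        constantCoeff_C]
      exact Submonoid.prod_mem _ fun j _ => hs j
    · rw [algebraMap_smul]
      conv_lhs => rw [← hsum]
      rw [Finset.smul_sum]
      refine Finset.sum_eq_zero fun j hj => ?_
      rw [LinearMap.rTensor_comp, LinearMap.comp_apply, ← map_smul,
        ← Finset.mul_prod_erase J s hj, mul_comm, mul_smul, hst j, smul_zero, map_zero]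
  · intro h j
    rw [flat_localized_iff_elementwise]
    intro I hI u hu
    have hu' : LinearMap.lTensor (GG w n K j) I.subtype u = 0 := hu
    have h1 := (flat_localized_iff_elementwise (C := D) (S := MvPolynomial τ D) (N := QQ w n K)
      (PrimeSpectrum.comap (constantCoeff : MvPolynomial τ D →+* D) q).asIdeal.primeCompl).1 h hI
      (LinearMap.rTensor I (iN w n K j) u) ?_
    · obtain ⟨s, hs, hst⟩ := h1
      refine ⟨constantCoeff s, ?_, ?_⟩
      · intro hmem
        apply hs
        show s ∈ (PrimeSpectrum.comap (constantCoeff : MvPolynomial τ D →+* D) q).asIdeal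
        rw [PrimeSpectrum.comap_asIdeal, Ideal.mem_comap]
        exact hmem
      · have h2 : LinearMap.rTensor I (sN w n K j)
            (s • LinearMap.rTensor I (iN w n K j) u) = 0 := by rw [hst, map_zero]
        rw [smul_eq_rTensor, ← LinearMap.comp_apply, ← LinearMap.comp_apply,
          ← LinearMap.rTensor_comp, ← LinearMap.rTensor_comp, LinearMap.comp_assoc,
          sN_smulC_iN w hw1, LinearMap.rTensor_smul, LinearMap.rTensor_id,
          LinearMap.smul_apply, LinearMap.id_apply] at h2
        exact h2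
    · show LinearMap.lTensor (QQ w n K) I.subtype (LinearMap.rTensor I (iN w n K j) u) = 0
      rw [lTensor_rTensor_comm, hu', map_zero]

include hw1 in
theorem isOpen_flat_GG (hfg : (inK w n K).FG) :
    IsOpen {q : PrimeSpectrum D |
      ∀ j, Module.Flat D (LocalizedModule q.asIdeal.primeCompl (GG w n K j))} := by
  have fp : Module.FinitePresentation (MvPolynomial τ D) (QQ w n K) :=
    Module.finitePresentation_of_surjective (inK w n K).mkQ (Submodule.mkQ_surjective _)
      (by rw [Submodule.ker_mkQ]; exact hfg)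
  have hU := Groth.Agent.Lib.Helper55.FL.isOpen_flat_localizedModule_of_fp (R := D)
    (S := MvPolynomial τ D) (M := QQ w n K)
  have := hU.preimage (PrimeSpectrum.continuous_comap (constantCoeff : MvPolynomial τ D →+* D))
  convert this using 1
  ext q
  exact flat_GG_iff_vertex w hw1 n K q

end main

end Groth.Agent.Lib.Helper63.GrFlat
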