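import Groth.Agent.Lib.Helper63.GrFlat12

set_option autoImplicit false
universe u

namespace Groth.Agent.Lib.Helper63.GrFlat

open MvPolynomial TensorProduct

attribute [local instance] MvPolynomial.algebraMvPolynomial

section alpha

variable {σ : Type} (w : σ → ℕ) {R T : Type u} [CommRing R] [CommRing T] [Algebra R T] (n : ℕ)
  (K : Submodule (MvPolynomial σ R) (Fin n → MvPolynomial σ R))

theorem inK_ext_of_flat (hfl : ∀ j, Module.Flat R (EE w n K j)) :
    inK w n (ext n (algebraMap R T) K) = ext n (algebraMap R T) (inK w n K) := by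
  apply le_antisymm
  · intro H' hH'
    obtain ⟨N, -, hsum⟩ := exists_bound_hc w n H'
    rw [← hsum]
    refine Submodule.sum_mem _ fun j _ => ?_
    have h1 := hc_mem_spanT w n K j (hfl j) H' hH'
    have h2 : Submodule.span T (mapF n (algebraMap R T) ''
        {H : Fin n → MvPolynomial σ R | hc w n j H = H ∧ H ∈ inK w n K}) ≤
        (ext n (algebraMap R T) (inK w n K)).restrictScalars T := by
      rw [Submodule.span_le]
      rintro _ ⟨H, ⟨-, hH⟩, rfl⟩
      exact mapF_mem_ext hH
    exact h2 h1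
  · exact ext_inK_le w K

end alpha

section fg

variable {σ : Type} [Finite σ] (w : σ → ℕ) {A : Type u} [CommRing A] (n : ℕ)

theorem inK_fg_of_flat (K : Submodule (MvPolynomial σ A) (Fin n → MvPolynomial σ A)) (hK : K.FG)
    (hH : ∀ j, Module.Flat A (EE w n K j)) : (inK w n K).FG := by
  classical
  obtain ⟨k₀, hk₀, K₀, hK₀⟩ := exists_model_coeffs n K hK
  have ft : Algebra.FiniteType ℤ ↥k₀ := (Subalgebra.fg_iff_finiteType k₀).1 hk₀
  have hn₀ : IsNoetherianRing ↥k₀ := Algebra.FiniteType.isNoetherianRing ℤ ↥k₀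
  have hA : ∀ j, Module.Flat A (EE w n (ext n (algebraMap ↥k₀ A) K₀) j) := by
    rw [hK₀]
    exact hH
  obtain ⟨R, iR, ikR, iRA, t, hft, hinj, hR⟩ := core w n K₀ hA
  have hnR : IsNoetherianRing R := Algebra.FiniteType.isNoetherianRing ↥k₀ R
  have hKA : ext n (algebraMap R A) (ext n (algebraMap ↥k₀ R) K₀) = K := by
    rw [ext_ext, ← IsScalarTower.algebraMap_eq, hK₀]
  generalize ext n (algebraMap ↥k₀ R) K₀ = K_R at hR hKA
  rw [← hKA, inK_ext_of_flat w n K_R hR]
  have hfg : (inK w n K_R).FG := IsNoetherian.noetherian _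
  obtain ⟨G, hG⟩ := hfg
  rw [← hG, ext_span]
  exact Submodule.fg_span (Set.Finite.image _ G.finite_toSet)

end fg

end Groth.Agent.Lib.Helper63.GrFlat
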