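import Groth.Agent.Lib.Helper63.GrFlat17

set_option autoImplicit false
universe u

namespace Groth.Agent.Lib.Helper63.GrFlat

open MvPolynomial TensorProduct

section transfer

variable {σ τ : Type} (w : σ → ℕ) (w' : τ → ℕ) {A B : Type u} [CommRing A] [CommRing B]
  (φ : MvPolynomial σ A →+* MvPolynomial τ B) (n : ℕ)

noncomputable def PhiF (H : Fin n → MvPolynomial σ A) : Fin n → MvPolynomial τ B := fun i => φ (H i)

theorem PhiF_add (H G : Fin n → MvPolynomial σ A) :
    PhiF φ n (H + G) = PhiF φ n H + PhiF φ n G := by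
  funext i
  exact map_add φ _ _

theorem PhiF_sub (H G : Fin n → MvPolynomial σ A) :
    PhiF φ n (H - G) = PhiF φ n H - PhiF φ n G := by
  funext i
  exact map_sub φ _ _

theorem PhiF_zero : PhiF φ n (0 : Fin n → MvPolynomial σ A) = 0 := by
  funext i
  exact map_zero φ

theorem PhiF_smul (p : MvPolynomial σ A) (H : Fin n → MvPolynomial σ A) :
    PhiF φ n (p • H) = φ p • PhiF φ n H := by
  funext i
  exact map_mul φ _ _

theorem PhiF_sum {ι : Type*} (s : Finset ι) (f : ι → Fin n → MvPolynomial σ A) :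
    PhiF φ n (∑ i ∈ s, f i) = ∑ i ∈ s, PhiF φ n (f i) := by
  classical
  induction s using Finset.induction_on with
  | empty => simp [PhiF_zero]
  | insert a s ha ih => rw [Finset.sum_insert ha, Finset.sum_insert ha, PhiF_add, ih]

variable (hsurj : Function.Surjective φ)
  (hgr : ∀ k p, φ (weightedHomogeneousComponent w k p) = weightedHomogeneousComponent w' k (φ p))

include hsurj in
theorem PhiF_surjective : Function.Surjective (PhiF φ n) := by
  intro H'
  choose H hH using fun i => hsurj (H' i)
  exact ⟨H, funext hH⟩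

include hgr in
theorem PhiF_hc (k : ℕ) (H : Fin n → MvPolynomial σ A) :
    PhiF φ n (hc w n k H) = hc w' n k (PhiF φ n H) := by
  funext i
  exact hgr k (H i)

include hgr in
theorem PhiF_mem_Wf {j : ℕ} {H : Fin n → MvPolynomial σ A} (hH : H ∈ Wf w n j) :
    PhiF φ n H ∈ Wf w' n j := by
  rw [mem_Wf] at hH ⊢
  intro i hi
  rw [← PhiF_hc w w' φ n hgr, hH i hi, PhiF_zero]

include hsurj hgr in
theorem exists_lift_Wf {j : ℕ} {v' : Fin n → MvPolynomial τ B} (hv' : v' ∈ Wf w' n j) :
    ∃ v ∈ Wf w n j, PhiF φ n v = v' := by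
  classical
  obtain ⟨v, rfl⟩ := PhiF_surjective φ n hsurj v'
  refine ⟨v - ∑ i ∈ Finset.range j, hc w n i v, ?_, ?_⟩
  · rw [mem_Wf]
    intro l hl
    rw [map_sub, map_sum]
    have h1 : ∀ i ∈ Finset.range j, hc w n l (hc w n i v) = if i = l then hc w n l v else 0 := by
      intro i _
      rw [hc_hc]
      by_cases h : l = i
      · subst h
        simp
      · rw [if_neg h, if_neg (Ne.symm h)]
    rw [Finset.sum_congr rfl h1, Finset.sum_ite_eq' (Finset.range j) l,
      if_pos (Finset.mem_range.2 hl), sub_self]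
  · rw [PhiF_sub, PhiF_sum]
    have h1 : ∀ i ∈ Finset.range j, PhiF φ n (hc w n i v) = 0 := by
      intro i hi
      rw [PhiF_hc w w' φ n hgr]
      exact (mem_Wf w' n).1 hv' i (Finset.mem_range.1 hi)
    rw [Finset.sum_eq_zero h1, sub_zero]

variable (K : Submodule (MvPolynomial σ A) (Fin n → MvPolynomial σ A))
  (K' : Submodule (MvPolynomial τ B) (Fin n → MvPolynomial τ B))
  (hK : ∀ H, H ∈ K ↔ PhiF φ n H ∈ K')

include hgr hK in
theorem PhiF_mem_inK {H : Fin n → MvPolynomial σ A} (hH : H ∈ inK w n K) :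
    PhiF φ n H ∈ inK w' n K' := by
  rw [mem_inK] at hH ⊢
  intro k
  rw [← PhiF_hc w w' φ n hgr]
  obtain ⟨a, ha, b, hb, hab⟩ := Submodule.mem_sup.1 (hH k)
  rw [← hab, PhiF_add]
  exact Submodule.add_mem _ (Submodule.mem_sup_left ((hK a).1 ha))
    (Submodule.mem_sup_right (PhiF_mem_Wf w w' φ n hgr hb))

include hsurj hgr hK in
theorem inK_eq_span_PhiF :
    inK w' n K' = Submodule.span (MvPolynomial τ B) (PhiF φ n '' (inK w n K : Set _)) := by
  apply le_antisymm
  · intro H' hH'
    obtain ⟨N, -, hsum⟩ := exists_bound_hc w' n H'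
    rw [← hsum]
    refine Submodule.sum_mem _ fun j _ => ?_
    apply Submodule.subset_span
    obtain ⟨H, rfl⟩ := PhiF_surjective φ n hsurj H'
    refine ⟨hc w n j H, ?_, PhiF_hc w w' φ n hgr j H⟩
    rw [SetLike.mem_coe, hc_mem_inK_iff]
    have h1 := (mem_inK w' n K').1 hH' j
    rw [← PhiF_hc w w' φ n hgr] at h1
    obtain ⟨k', hk', v', hv', hkv⟩ := Submodule.mem_sup.1 h1
    obtain ⟨v, hv, rfl⟩ := exists_lift_Wf w w' φ n hsurj hgr hv'
    have h2 : hc w n j H - v ∈ K := by
      rw [hK, PhiF_sub, ← hkv, add_sub_cancel_right]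
      exact hk'
    have h3 : hc w n j H = (hc w n j H - v) + v := by abel
    rw [h3]
    exact Submodule.add_mem _ (Submodule.mem_sup_left h2) (Submodule.mem_sup_right hv)
  · rw [Submodule.span_le]
    rintro _ ⟨H, hH, rfl⟩
    exact PhiF_mem_inK w w' φ n hgr K K' hK hH

include hsurj hgr hK in
theorem inK_fg_of_PhiF (hfg : (inK w n K).FG) : (inK w' n K').FG := by
  classical
  rw [inK_eq_span_PhiF w w' φ n hsurj hgr K K' hK]
  obtain ⟨G, hG⟩ := hfg
  have h1 : Submodule.span (MvPolynomial τ B) (PhiF φ n '' (inK w n K : Set _)) =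
      Submodule.span (MvPolynomial τ B) (PhiF φ n '' (G : Set (Fin n → MvPolynomial σ A))) := by
    apply le_antisymm
    · rw [Submodule.span_le]
      rintro _ ⟨H, hH, rfl⟩
      rw [SetLike.mem_coe, ← hG] at hH
      induction hH using Submodule.span_induction with
      | mem x hx => exact Submodule.subset_span ⟨x, hx, rfl⟩
      | zero => rw [PhiF_zero]; exact Submodule.zero_mem _
      | add x y _ _ hx hy => rw [PhiF_add]; exact Submodule.add_mem _ hx hy
      | smul c x _ hx => rw [PhiF_smul]; exact Submodule.smul_mem _ _ hx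
    · apply Submodule.span_mono
      apply Set.image_mono
      rw [← hG]
      exact Submodule.subset_span
  rw [h1]
  exact Submodule.fg_span (Set.Finite.image _ G.finite_toSet)

end transfer

section concrete

variable (A : Type u) {B : Type u} [CommRing A] [CommRing B] [Algebra A B] (a r : ℕ) (x : Fin a → B)

noncomputable def phiAB : MvPolynomial (Fin a ⊕ Fin r) A →ₐ[A] MvPolynomial (Fin r) B :=
  MvPolynomial.aeval (Sum.elim (fun i => MvPolynomial.C (x i)) (fun j => MvPolynomial.X j))

theorem phiAB_X_inl (i : Fin a) : phiAB A a r x (X (Sum.inl i) : MvPolynomial (Fin a ⊕ Fin r) A) = C (x i) := by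
  rw [phiAB, aeval_X]
  rfl

theorem phiAB_X_inr (j : Fin r) : phiAB A a r x (X (Sum.inr j) : MvPolynomial (Fin a ⊕ Fin r) A) = X j := by
  rw [phiAB, aeval_X]
  rfl

theorem phiAB_surjective
    (hx : Function.Surjective (MvPolynomial.aeval x : MvPolynomial (Fin a) A →ₐ[A] B)) :
    Function.Surjective (phiAB A a r x) := by
  intro q
  induction q using MvPolynomial.induction_on with
  | C b =>
    obtain ⟨p₀, rfl⟩ := hx b
    refine ⟨rename Sum.inl p₀, ?_⟩
    rw [phiAB, aeval_rename]
    have h1 := AlgHom.congr_fun (MvPolynomial.comp_aeval (R := A) x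
      (IsScalarTower.toAlgHom A B (MvPolynomial (Fin r) B))) p₀
    rw [AlgHom.comp_apply] at h1
    exact h1.symm
  | add p q hp hq =>
    obtain ⟨p', rfl⟩ := hp
    obtain ⟨q', rfl⟩ := hq
    exact ⟨p' + q', map_add _ _ _⟩
  | mul_X p j hp =>
    obtain ⟨p', rfl⟩ := hp
    exact ⟨p' * X (Sum.inr j), by rw [map_mul, phiAB_X_inr]⟩

theorem phiAB_monomial_homog (d : (Fin a ⊕ Fin r) →₀ ℕ) (c : A) :
    IsWeightedHomogeneous (fun _ : Fin r => 1) (phiAB A a r x (monomial d c))
      (Finsupp.weight (Sum.elim (fun _ : Fin a => 0) (fun _ : Fin r => 1)) d) := by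
  classical
  rw [phiAB, aeval_monomial]
  have h0 : IsWeightedHomogeneous (fun _ : Fin r => 1)
      (algebraMap A (MvPolynomial (Fin r) B) c) 0 := by
    rw [MvPolynomial.algebraMap_apply]
    exact isWeightedHomogeneous_C _ _
  have h1 : IsWeightedHomogeneous (fun _ : Fin r => 1)
      (d.prod fun i k => (Sum.elim (fun i => (C (x i) : MvPolynomial (Fin r) B))
        (fun j => X j) i) ^ k)
      (Finsupp.weight (Sum.elim (fun _ : Fin a => 0) (fun _ : Fin r => 1)) d) := by
    rw [Finsupp.prod, Finsupp.weight_apply, Finsupp.sum]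
    apply IsWeightedHomogeneous.prod
    intro i _
    apply IsWeightedHomogeneous.pow
    rcases i with i | j
    · exact isWeightedHomogeneous_C _ _
    · exact isWeightedHomogeneous_X _ _ _
  have := h0.mul h1
  rwa [zero_add] at this

theorem phiAB_graded (k : ℕ) (p : MvPolynomial (Fin a ⊕ Fin r) A) :
    phiAB A a r x (weightedHomogeneousComponent
      (Sum.elim (fun _ : Fin a => 0) (fun _ : Fin r => 1)) k p) =
      weightedHomogeneousComponent (fun _ : Fin r => 1) k (phiAB A a r x p) := by
  classical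
  induction p using MvPolynomial.induction_on' with
  | monomial d c =>
    by_cases h : Finsupp.weight (Sum.elim (fun _ : Fin a => 0) (fun _ : Fin r => 1)) d = k
    · rw [(isWeightedHomogeneous_monomial _ d c h).weightedHomogeneousComponent_same]
      have h1 := phiAB_monomial_homog A a r x d c
      rw [h] at h1
      rw [h1.weightedHomogeneousComponent_same]
    · rw [(isWeightedHomogeneous_monomial _ d c rfl).weightedHomogeneousComponent_ne k
        (Ne.symm h), map_zero,
        (phiAB_monomial_homog A a r x d c).weightedHomogeneousComponent_ne k (Ne.symm h)]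
  | add p q hp hq => rw [map_add, map_add, map_add, map_add, hp, hq]

end concrete

end Groth.Agent.Lib.Helper63.GrFlat
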