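import Groth.Agent.Lib.Helper63.GrFlat18
import Groth.Agent.Lib.Helper63.GrFlat15

set_option autoImplicit false
universe u

namespace Groth.Agent.Lib.Helper63.GrFlat

open MvPolynomial TensorProduct

attribute [local instance] MvPolynomial.algebraMvPolynomial

section stable

variable {σ : Type} (w : σ → ℕ) {R R' : Type u} [CommRing R] [CommRing R'] (n : ℕ)

theorem inK_eq_self_of_stable (L : Submodule (MvPolynomial σ R) (Fin n → MvPolynomial σ R))
    (h : ∀ H ∈ L, ∀ j, hc w n j H ∈ L) : inK w n L = L := by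
  apply le_antisymm
  · intro H hH
    obtain ⟨N, -, hsum⟩ := exists_bound_hc w n H
    rw [← hsum]
    refine Submodule.sum_mem _ fun k _ => ?_
    obtain ⟨l, hl, v, hv, hlv⟩ := Submodule.mem_sup.1 ((mem_inK w n L).1 hH k)
    have h1 : hc w n k H = hc w n k l := by
      have h2 := congrArg (hc w n k) hlv
      rw [map_add, hc_hc_same, (mem_Wf w n).1 hv k (Nat.lt_succ_self k), add_zero] at h2
      exact h2.symm
    rw [h1]
    exact h l hl k
  · intro H hH
    rw [mem_inK]
    exact fun k => Submodule.mem_sup_left (h H hH k)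

theorem ext_hc_stable (φ : R →+* R') (K₁ : Submodule (MvPolynomial σ R) (Fin n → MvPolynomial σ R))
    (h : ∀ H ∈ K₁, ∀ j, hc w n j H ∈ K₁) :
    ∀ H ∈ ext n φ K₁, ∀ j, hc w n j H ∈ ext n φ K₁ := by
  intro H hH j
  have key : ∀ G ∈ Submodule.span R' (mapF n φ '' (K₁ : Set (Fin n → MvPolynomial σ R))),
      hc w n j G ∈ Submodule.span R' (mapF n φ '' (K₁ : Set (Fin n → MvPolynomial σ R))) := by
    intro G hG
    induction hG using Submodule.span_induction with
    | mem x hx =>
      obtain ⟨H₀, hH₀, rfl⟩ := hx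
      rw [← mapF_hc]
      exact Submodule.subset_span ⟨hc w n j H₀, h H₀ hH₀ j, rfl⟩
    | zero => rw [map_zero]; exact Submodule.zero_mem _
    | add x y _ _ hx hy => rw [map_add]; exact Submodule.add_mem _ hx hy
    | smul c x _ hx => rw [map_smul]; exact Submodule.smul_mem _ _ hx
  have h1 : H ∈ (ext n φ K₁).restrictScalars R' := hH
  rw [ext_restrictScalars] at h1
  have h2 : hc w n j H ∈ (ext n φ K₁).restrictScalars R' := by
    rw [ext_restrictScalars]
    exact key H h1
  exact h2

theorem inK_ext_inK (φ : R →+* R') (K' : Submodule (MvPolynomial σ R) (Fin n → MvPolynomial σ R)) :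
    inK w n (ext n φ (inK w n K')) = ext n φ (inK w n K') :=
  inK_eq_self_of_stable w n _
    (ext_hc_stable w n φ _ fun _ hH j => hc_mem_inK w n K' hH j)

end stable

section gr

variable {B : Type u} [CommRing B] (J : Ideal B) (M : Type u) [AddCommGroup M] [Module B M]

abbrev grP (k : ℕ) : Type u :=
  ↥(J ^ k • (⊤ : Submodule B M)) ⧸
    Submodule.comap (J ^ k • (⊤ : Submodule B M)).subtype (J ^ (k + 1) • ⊤)

theorem pow_succ_smul_le (k : ℕ) :
    J ^ (k + 1) • (⊤ : Submodule B M) ≤ J ^ k • (⊤ : Submodule B M) :=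
  Submodule.smul_mono (Ideal.pow_le_pow_right (Nat.le_succ k)) le_rfl

noncomputable def iotaP (k : ℕ) : grP J M k →ₗ[B] M ⧸ (J ^ (k + 1) • (⊤ : Submodule B M)) :=
  Submodule.mapQ _ _ (J ^ k • (⊤ : Submodule B M)).subtype le_rfl

noncomputable def rhoP (k : ℕ) :
    (M ⧸ (J ^ (k + 1) • (⊤ : Submodule B M))) →ₗ[B] M ⧸ (J ^ k • (⊤ : Submodule B M)) :=
  Submodule.mapQ _ _ LinearMap.id (pow_succ_smul_le J M k)

theorem iotaP_injective (k : ℕ) : Function.Injective (iotaP J M k) := by
  rw [injective_iff_map_eq_zero]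
  intro x hx
  obtain ⟨y, rfl⟩ := Submodule.Quotient.mk_surjective _ x
  have h1 : (Submodule.Quotient.mk (y : M) : M ⧸ (J ^ (k + 1) • (⊤ : Submodule B M))) = 0 := hx
  rw [Submodule.Quotient.mk_eq_zero] at h1
  exact (Submodule.Quotient.mk_eq_zero _).2 h1

theorem exact_iotaP_rhoP (k : ℕ) : Function.Exact (iotaP J M k) (rhoP J M k) := by
  intro z
  obtain ⟨m, rfl⟩ := Submodule.Quotient.mk_surjective _ z
  constructor
  · intro hz
    have h1 : (Submodule.Quotient.mk m : M ⧸ (J ^ k • (⊤ : Submodule B M))) = 0 := hz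
    rw [Submodule.Quotient.mk_eq_zero] at h1
    exact ⟨Submodule.Quotient.mk ⟨m, h1⟩, rfl⟩
  · rintro ⟨y, hy⟩
    obtain ⟨y, rfl⟩ := Submodule.Quotient.mk_surjective _ y
    have h1 : (Submodule.Quotient.mk (y : M) : M ⧸ (J ^ (k + 1) • (⊤ : Submodule B M))) =
        Submodule.Quotient.mk m := hy
    have h2 : (rhoP J M k) (Submodule.Quotient.mk m) =
        (Submodule.Quotient.mk (y : M) : M ⧸ (J ^ k • (⊤ : Submodule B M))) := by
      rw [← h1]
      rfl
    rw [h2]
    exact (Submodule.Quotient.mk_eq_zero _).2 y.2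

end gr

section quotPow

variable {σ : Type} (w : σ → ℕ) (hw : ∀ i, w i ≤ 1) {R₀ : Type u} [CommRing R₀] (n : ℕ)
  {B' M : Type u} [CommRing B'] [Algebra (MvPolynomial σ R₀) B'] [AddCommGroup M] [Module B' M]
  [Module (MvPolynomial σ R₀) M] [IsScalarTower (MvPolynomial σ R₀) B' M]
  (hπ : Function.Surjective (algebraMap (MvPolynomial σ R₀) B'))
  (J : Ideal B') (hJ : (Jw (R := R₀) w).map (algebraMap (MvPolynomial σ R₀) B') = J)
  (g : (Fin n → MvPolynomial σ R₀) →ₗ[MvPolynomial σ R₀] M) (hg : Function.Surjective g)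

include hπ hJ in
theorem restrictScalars_pow_eq (k : ℕ) :
    (J ^ k • (⊤ : Submodule B' M)).restrictScalars (MvPolynomial σ R₀) =
      Jw (R := R₀) w ^ k • (⊤ : Submodule (MvPolynomial σ R₀) M) := by
  rw [← hJ]
  exact restrictScalars_pow_smul_top hπ _ k

noncomputable def quotPowEquivEE (k : ℕ) :
    (M ⧸ (J ^ k • (⊤ : Submodule B' M))) ≃ₗ[MvPolynomial σ R₀] EE w n (LinearMap.ker g) k :=
  (Submodule.Quotient.restrictScalarsEquiv (MvPolynomial σ R₀) _).symm.trans
    ((Submodule.quotEquivOfEq _ _ (restrictScalars_pow_eq w hπ J hJ k)).trans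
      (quotEquivOfSurj w hw n g hg k).symm)

theorem quotPowEquivEE_symm_mk (k : ℕ) (H : Fin n → MvPolynomial σ R₀) :
    (quotPowEquivEE w hw n hπ J hJ g hg k).symm (Submodule.Quotient.mk H) =
      Submodule.Quotient.mk (g H) := rfl

end quotPow

section bcR

variable {σ : Type} (w : σ → ℕ) {R T : Type u} [CommRing R] [CommRing T] [Algebra R T] (n : ℕ)

theorem map_equiv_range' (V : Submodule R (Fin n → MvPolynomial σ R)) :
    Submodule.map (isBaseChange_mapFL (σ := σ) (R := R) (T := T) n).equiv.toLinearMap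
      (LinearMap.range (AlgebraTensorModule.lTensor T T (V.subtype.restrictScalars R))) =
      Submodule.span T (mapF n (algebraMap R T) '' (V : Set (Fin n → MvPolynomial σ R))) := by
  apply le_antisymm
  · rintro _ ⟨_, ⟨z, rfl⟩, rfl⟩
    induction z using TensorProduct.induction_on with
    | zero => simp
    | tmul t k =>
      rw [AlgebraTensorModule.lTensor_tmul, LinearEquiv.coe_coe, IsBaseChange.equiv_tmul]
      exact Submodule.smul_mem _ _ (Submodule.subset_span ⟨k.1, k.2, rfl⟩)
    | add a b ha hb =>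
      rw [map_add, map_add]
      exact Submodule.add_mem _ ha hb
  · rw [Submodule.span_le]
    rintro _ ⟨H, hH, rfl⟩
    refine ⟨(1 : T) ⊗ₜ[R] H, ⟨(1 : T) ⊗ₜ[R] (⟨H, hH⟩ : V), rfl⟩, ?_⟩
    rw [LinearEquiv.coe_coe, IsBaseChange.equiv_tmul, one_smul]
    rfl

noncomputable def bcEquivR (V : Submodule R (Fin n → MvPolynomial σ R)) :
    T ⊗[R] ((Fin n → MvPolynomial σ R) ⧸ V) ≃ₗ[T]
      (Fin n → MvPolynomial σ T) ⧸
        Submodule.span T (mapF n (algebraMap R T) '' (V : Set (Fin n → MvPolynomial σ R))) :=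
  (AlgebraTensorModule.tensorQuotientEquiv T R T V).trans
    (Submodule.Quotient.equiv _ _ (isBaseChange_mapFL (σ := σ) (R := R) (T := T) n).equiv
      (map_equiv_range' n V))

theorem span_mapF_sup (V₁ V₂ : Submodule R (Fin n → MvPolynomial σ R)) :
    Submodule.span T (mapF n (algebraMap R T) '' ((V₁ ⊔ V₂ : Submodule R _) : Set _)) =
      Submodule.span T (mapF n (algebraMap R T) '' (V₁ : Set (Fin n → MvPolynomial σ R))) ⊔
        Submodule.span T (mapF n (algebraMap R T) '' (V₂ : Set (Fin n → MvPolynomial σ R))) := by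
  apply le_antisymm
  · rw [Submodule.span_le]
    rintro _ ⟨H, hH, rfl⟩
    obtain ⟨a, ha, b, hb, rfl⟩ := Submodule.mem_sup.1 hH
    rw [mapF_add]
    exact Submodule.add_mem _ (Submodule.mem_sup_left (Submodule.subset_span ⟨a, ha, rfl⟩))
      (Submodule.mem_sup_right (Submodule.subset_span ⟨b, hb, rfl⟩))
  · apply sup_le
    · exact Submodule.span_mono (Set.image_mono (fun x hx => Submodule.mem_sup_left hx))
    · exact Submodule.span_mono (Set.image_mono (fun x hx => Submodule.mem_sup_right hx))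

theorem span_mapF_ker_hc (j : ℕ) :
    Submodule.span T (mapF n (algebraMap R T) ''
      ((LinearMap.ker (hc (R := R) w n j) : Submodule R _) : Set _)) =
      LinearMap.ker (hc (R := T) w n j) := by
  classical
  apply le_antisymm
  · rw [Submodule.span_le]
    rintro _ ⟨H, hH, rfl⟩
    have hH' : hc w n j H = 0 := hH
    show hc w n j (mapF n (algebraMap R T) H) = 0
    rw [← mapF_hc, hH', mapF_zero]
  · intro x hx
    have hx' : hc w n j x = 0 := hx
    apply mem_of_monomials _ x
    intro i d hd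
    have hwd : Finsupp.weight w d ≠ j := by
      intro hwd
      have h1 := congrFun hx' i
      rw [hc_apply] at h1
      have h2 := congrArg (coeff d) h1
      rw [coeff_weightedHomogeneousComponent, if_pos hwd] at h2
      exact hd h2
    have h3 : (Pi.single i (monomial d (coeff d (x i))) : Fin n → MvPolynomial σ T) =
        (coeff d (x i)) • mapF n (algebraMap R T) (Pi.single i (monomial d (1 : R))) := by
      rw [mapF_single_monomial, map_one]
      funext l
      by_cases hl : l = i
      · subst hl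
        rw [Pi.smul_apply, Pi.single_eq_same, Pi.single_eq_same, smul_monomial, smul_eq_mul,
          mul_one]
      · rw [Pi.smul_apply, Pi.single_eq_of_ne hl, Pi.single_eq_of_ne hl, smul_zero]
    rw [h3]
    refine Submodule.smul_mem _ _ (Submodule.subset_span ⟨_, ?_, rfl⟩)
    show hc w n j (Pi.single i (monomial d (1 : R))) = 0
    rw [hc_single_monomial, if_neg hwd]

theorem span_mapF_NG (K' : Submodule (MvPolynomial σ R) (Fin n → MvPolynomial σ R)) (j : ℕ) :
    Submodule.span T (mapF n (algebraMap R T) '' ((NG w n K' j : Submodule R _) : Set _)) =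
      NG w n (ext n (algebraMap R T) (inK w n K')) j := by
  rw [NG, NG, span_mapF_sup, span_mapF_ker_hc, inK_ext_inK, ext_restrictScalars]
  rfl

noncomputable def bcEquivGG (K' : Submodule (MvPolynomial σ R) (Fin n → MvPolynomial σ R))
    (j : ℕ) :
    T ⊗[R] GG w n K' j ≃ₗ[T] GG w n (ext n (algebraMap R T) (inK w n K')) j :=
  (bcEquivR n (NG w n K' j)).trans (Submodule.quotEquivOfEq _ _ (span_mapF_NG w n K' j))

end bcR

end Groth.Agent.Lib.Helper63.GrFlat
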