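import Groth.Agent.Lib.Helper63.GrFlat1

set_option autoImplicit false
universe u

namespace Groth.Agent.Lib.Helper63.GrFlat

open MvPolynomial

section mapf

variable {σ : Type} (w : σ → ℕ) {R R' R'' : Type u} [CommRing R] [CommRing R'] [CommRing R'']
  (n : ℕ) (φ : R →+* R') (ψ : R' →+* R'')

noncomputable def mapF (H : Fin n → MvPolynomial σ R) : Fin n → MvPolynomial σ R' :=
  fun i => MvPolynomial.map φ (H i)

theorem mapF_apply (H : Fin n → MvPolynomial σ R) (i : Fin n) :
    mapF n φ H i = MvPolynomial.map φ (H i) := rfl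

theorem mapF_add (H G : Fin n → MvPolynomial σ R) : mapF n φ (H + G) = mapF n φ H + mapF n φ G := by
  funext i
  simp [mapF_apply]

theorem mapF_zero : mapF n φ (0 : Fin n → MvPolynomial σ R) = 0 := by
  funext i
  simp [mapF_apply]

theorem mapF_sub (H G : Fin n → MvPolynomial σ R) : mapF n φ (H - G) = mapF n φ H - mapF n φ G := by
  funext i
  simp [mapF_apply]

theorem mapF_smul (c : MvPolynomial σ R) (H : Fin n → MvPolynomial σ R) :
    mapF n φ (c • H) = MvPolynomial.map φ c • mapF n φ H := by
  funext i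
  simp [mapF_apply]

theorem mapF_sum {ι : Type*} (s : Finset ι) (f : ι → Fin n → MvPolynomial σ R) :
    mapF n φ (∑ a ∈ s, f a) = ∑ a ∈ s, mapF n φ (f a) := by
  classical
  induction s using Finset.induction_on with
  | empty => simp [mapF_zero]
  | insert a s ha ih => rw [Finset.sum_insert ha, Finset.sum_insert ha, mapF_add, ih]

theorem mapF_hc (k : ℕ) (H : Fin n → MvPolynomial σ R) :
    mapF n φ (hc w n k H) = hc w n k (mapF n φ H) := by
  funext i
  rw [mapF_apply, hc_apply, hc_apply, mapF_apply, map_whc]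

theorem mapF_mapF (H : Fin n → MvPolynomial σ R) :
    mapF n ψ (mapF n φ H) = mapF n (ψ.comp φ) H := by
  funext i
  rw [mapF_apply, mapF_apply, mapF_apply, MvPolynomial.map_map]

theorem mapF_id (H : Fin n → MvPolynomial σ R) : mapF n (RingHom.id R) H = H := by
  funext i
  rw [mapF_apply, MvPolynomial.map_id]

noncomputable def ext (K : Submodule (MvPolynomial σ R) (Fin n → MvPolynomial σ R)) :
    Submodule (MvPolynomial σ R') (Fin n → MvPolynomial σ R') :=
  Submodule.span (MvPolynomial σ R') (mapF n φ '' (K : Set (Fin n → MvPolynomial σ R)))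

variable {n φ}

theorem mapF_mem_ext {K : Submodule (MvPolynomial σ R) (Fin n → MvPolynomial σ R)}
    {H : Fin n → MvPolynomial σ R} (hH : H ∈ K) : mapF n φ H ∈ ext n φ K :=
  Submodule.subset_span ⟨H, hH, rfl⟩

theorem ext_le {K : Submodule (MvPolynomial σ R) (Fin n → MvPolynomial σ R)}
    {N : Submodule (MvPolynomial σ R') (Fin n → MvPolynomial σ R')}
    (h : ∀ H ∈ K, mapF n φ H ∈ N) : ext n φ K ≤ N := by
  rw [ext, Submodule.span_le]
  rintro _ ⟨H, hH, rfl⟩
  exact h H hH

theorem ext_mono {K K' : Submodule (MvPolynomial σ R) (Fin n → MvPolynomial σ R)} (h : K ≤ K') :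
    ext n φ K ≤ ext n φ K' :=
  ext_le fun _ hH => mapF_mem_ext (h hH)

theorem ext_sup (K K' : Submodule (MvPolynomial σ R) (Fin n → MvPolynomial σ R)) :
    ext n φ (K ⊔ K') = ext n φ K ⊔ ext n φ K' := by
  apply le_antisymm
  · apply ext_le
    intro H hH
    obtain ⟨a, ha, b, hb, rfl⟩ := Submodule.mem_sup.1 hH
    rw [mapF_add]
    exact Submodule.add_mem _ (Submodule.mem_sup_left (mapF_mem_ext ha))
      (Submodule.mem_sup_right (mapF_mem_ext hb))
  · exact sup_le (ext_mono le_sup_left) (ext_mono le_sup_right)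

theorem ext_span (S : Set (Fin n → MvPolynomial σ R)) :
    ext n φ (Submodule.span (MvPolynomial σ R) S) =
      Submodule.span (MvPolynomial σ R') (mapF n φ '' S) := by
  apply le_antisymm
  · apply ext_le
    intro H hH
    induction hH using Submodule.span_induction with
    | mem x hx => exact Submodule.subset_span ⟨x, hx, rfl⟩
    | zero => rw [mapF_zero]; exact Submodule.zero_mem _
    | add x y _ _ hx hy => rw [mapF_add]; exact Submodule.add_mem _ hx hy
    | smul c x _ hx => rw [mapF_smul]; exact Submodule.smul_mem _ _ hx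
  · apply Submodule.span_mono
    exact Set.image_mono Submodule.subset_span

theorem mapF_mem_ext_ext {K : Submodule (MvPolynomial σ R) (Fin n → MvPolynomial σ R)}
    {H : Fin n → MvPolynomial σ R'} (hH : H ∈ ext n φ K) :
    mapF n ψ H ∈ ext n (ψ.comp φ) K := by
  induction hH using Submodule.span_induction with
  | mem x hx =>
    obtain ⟨y, hy, rfl⟩ := hx
    rw [mapF_mapF]
    exact mapF_mem_ext hy
  | zero => rw [mapF_zero]; exact Submodule.zero_mem _
  | add x y _ _ hx hy => rw [mapF_add]; exact Submodule.add_mem _ hx hy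
  | smul c x _ hx => rw [mapF_smul]; exact Submodule.smul_mem _ _ hx

theorem ext_ext (K : Submodule (MvPolynomial σ R) (Fin n → MvPolynomial σ R)) :
    ext n ψ (ext n φ K) = ext n (ψ.comp φ) K := by
  apply le_antisymm
  · exact ext_le fun H hH => mapF_mem_ext_ext ψ hH
  · apply ext_le
    intro H hH
    rw [← mapF_mapF]
    exact mapF_mem_ext (mapF_mem_ext hH)

theorem ext_id (K : Submodule (MvPolynomial σ R) (Fin n → MvPolynomial σ R)) :
    ext n (RingHom.id R) K = K := by
  apply le_antisymm
  · apply ext_le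
    intro H hH
    rwa [mapF_id]
  · intro H hH
    have := mapF_mem_ext (φ := RingHom.id R) hH
    rwa [mapF_id] at this

theorem mapF_mem_Wf {k : ℕ} {H : Fin n → MvPolynomial σ R} (hH : H ∈ Wf w n k) :
    mapF n φ H ∈ Wf w n k := by
  rw [mem_Wf] at hH ⊢
  intro j hj
  rw [← mapF_hc, hH j hj, mapF_zero]

theorem mem_of_monomials (N : Submodule R (Fin n → MvPolynomial σ R))
    (H : Fin n → MvPolynomial σ R)
    (h : ∀ i d, coeff d (H i) ≠ 0 → Pi.single i (monomial d (coeff d (H i))) ∈ N) : H ∈ N := by
  classical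
  have h1 : H = ∑ i, Pi.single i (H i) := (Finset.univ_sum_single H).symm
  rw [h1]
  refine Submodule.sum_mem _ fun i _ => ?_
  have h2 : H i = ∑ d ∈ (H i).support, monomial d (coeff d (H i)) :=
    (MvPolynomial.support_sum_monomial_coeff (H i)).symm
  have h3 : (Pi.single i (H i) : Fin n → MvPolynomial σ R) =
      ∑ d ∈ (H i).support, Pi.single i (monomial d (coeff d (H i))) := by
    conv_lhs => rw [h2]
    funext j
    rw [Finset.sum_apply]
    by_cases hj : j = i
    · subst hj
      simp
    · simp [Pi.single_eq_of_ne hj]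
  rw [h3]
  exact Submodule.sum_mem _ fun d hd => h i d (mem_support_iff.1 hd)

theorem hc_single_monomial (k : ℕ) (i : Fin n) (d : σ →₀ ℕ) (r : R) :
    hc w n k (Pi.single i (monomial d r)) =
      if Finsupp.weight w d = k then Pi.single i (monomial d r) else 0 := by
  classical
  funext j
  rw [hc_apply]
  by_cases hj : j = i
  · subst hj
    rw [Pi.single_eq_same,
      weightedHomogeneousComponent_of_mem (n := Finsupp.weight w d)
        ((mem_weightedHomogeneousSubmodule R w _ _).2 (isWeightedHomogeneous_monomial w d r rfl))]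
    by_cases hk : k = Finsupp.weight w d
    · rw [if_pos hk, if_pos hk.symm, Pi.single_eq_same]
    · rw [if_neg hk, if_neg (Ne.symm hk)]
      rfl
  · rw [Pi.single_eq_of_ne hj, map_zero]
    split_ifs
    · rw [Pi.single_eq_of_ne hj]
    · rfl

theorem weight_ge_of_mem_Wf {k : ℕ} {H : Fin n → MvPolynomial σ R} (hH : H ∈ Wf w n k)
    (i : Fin n) (d : σ →₀ ℕ) (hd : coeff d (H i) ≠ 0) : k ≤ Finsupp.weight w d := by
  classical
  by_contra hlt
  rw [not_le] at hlt
  have h0 := (mem_Wf w n).1 hH _ hlt
  have h1 := congrFun h0 i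
  rw [hc_apply] at h1
  have h2 := congrArg (coeff d) h1
  rw [coeff_weightedHomogeneousComponent, if_pos rfl] at h2
  exact hd h2

theorem single_monomial_mem_Wf {k : ℕ} (i : Fin n) (d : σ →₀ ℕ) (r : R)
    (hd : k ≤ Finsupp.weight w d) :
    (Pi.single i (monomial d r) : Fin n → MvPolynomial σ R) ∈ Wf w n k := by
  rw [mem_Wf]
  intro j hj
  rw [hc_single_monomial, if_neg (by omega)]

theorem mapF_single_monomial (i : Fin n) (d : σ →₀ ℕ) (r : R) :
    mapF n φ (Pi.single i (monomial d r)) = Pi.single i (monomial d (φ r)) := by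
  classical
  funext j
  rw [mapF_apply]
  by_cases hj : j = i
  · subst hj
    rw [Pi.single_eq_same, Pi.single_eq_same, map_monomial]
  · rw [Pi.single_eq_of_ne hj, Pi.single_eq_of_ne hj, map_zero]

theorem ext_Wf (k : ℕ) : ext n φ (Wf (R := R) w n k) = Wf w n k := by
  apply le_antisymm
  · exact ext_le fun H hH => mapF_mem_Wf w hH
  · intro H hH
    apply mem_of_monomials ((ext n φ (Wf (R := R) w n k)).restrictScalars R') H
    intro i d hd
    rw [Submodule.restrictScalars_mem]
    have hw := weight_ge_of_mem_Wf w hH i d hd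
    have h1 : (Pi.single i (monomial d (coeff d (H i))) : Fin n → MvPolynomial σ R') =
        (C (coeff d (H i)) : MvPolynomial σ R') •
          mapF n φ (Pi.single i (monomial d (1 : R))) := by
      rw [mapF_single_monomial, map_one]
      funext j
      by_cases hj : j = i
      · subst hj
        rw [Pi.smul_apply, Pi.single_eq_same, Pi.single_eq_same, smul_eq_mul, C_mul_monomial,
          mul_one]
      · rw [Pi.smul_apply, Pi.single_eq_of_ne hj, Pi.single_eq_of_ne hj, smul_zero]
    rw [h1]
    exact Submodule.smul_mem _ _ (mapF_mem_ext (single_monomial_mem_Wf w i d 1 hw))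

theorem mapF_mem_inK {K : Submodule (MvPolynomial σ R) (Fin n → MvPolynomial σ R)}
    {H : Fin n → MvPolynomial σ R} (hH : H ∈ inK w n K) :
    mapF n φ H ∈ inK w n (ext n φ K) := by
  rw [mem_inK] at hH ⊢
  intro k
  rw [← mapF_hc, ← ext_Wf w (φ := φ), ← ext_sup]
  exact mapF_mem_ext (hH k)

theorem ext_inK_le (K : Submodule (MvPolynomial σ R) (Fin n → MvPolynomial σ R)) :
    ext n φ (inK w n K) ≤ inK w n (ext n φ K) :=
  ext_le fun _ hH => mapF_mem_inK w hH

end mapf

end Groth.Agent.Lib.Helper63.GrFlat
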