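import Groth.Agent.Lib.Helper63.GrFlat19
import Groth.Agent.Lib.Helper63.GrFlat16

set_option autoImplicit false
universe u

namespace Groth.Agent.Lib.Helper63.GrFlat

open MvPolynomial TensorProduct

attribute [local instance] MvPolynomial.algebraMvPolynomial

section eps

theorem flat_localizedModule_congr {R : Type u} [CommRing R] (S : Submonoid R) {X Y : Type u}
    [AddCommGroup X] [AddCommGroup Y] [Module R X] [Module R Y] (e : X ≃ₗ[R] Y) :
    Module.Flat R (LocalizedModule S X) ↔ Module.Flat R (LocalizedModule S Y) := by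
  have hloc : IsLocalizedModule S ((LocalizedModule.mkLinearMap S Y) ∘ₗ e.toLinearMap) :=
    inferInstance
  exact Module.Flat.equiv_iff (IsLocalizedModule.linearEquiv S (LocalizedModule.mkLinearMap S X)
    ((LocalizedModule.mkLinearMap S Y) ∘ₗ e.toLinearMap))

variable {B C : Type u} [CommRing B] [CommRing C] [Algebra B C]
  (hπ : Function.Surjective (algebraMap B C)) (X : Type u) [AddCommGroup X] [Module B X]

include hπ in
theorem flat_tensor_localized_iff (q' : Ideal C) [q'.IsPrime] :
    Module.Flat C (C ⊗[B] LocalizedModule (q'.comap (algebraMap B C)).primeCompl X) ↔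
      Module.Flat C (LocalizedModule q'.primeCompl (C ⊗[B] X)) := by
  let q : Ideal B := q'.comap (algebraMap B C)
  let g₁ : X →ₗ[B] LocalizedModule q.primeCompl X := LocalizedModule.mkLinearMap q.primeCompl X
  let ℓ₁ : C ⊗[B] X →ₗ[B] C ⊗[B] LocalizedModule q.primeCompl X :=
    (TensorProduct.comm B (LocalizedModule q.primeCompl X) C).toLinearMap ∘ₗ
      ((AlgebraTensorModule.rTensor B C g₁) ∘ₗ (TensorProduct.comm B C X).toLinearMap)
  have hℓ₁ : IsLocalizedModule q.primeCompl ℓ₁ := inferInstance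
  let e₁ : (C ⊗[B] LocalizedModule q.primeCompl X) ≃ₗ[B] LocalizedModule q.primeCompl (C ⊗[B] X) :=
    IsLocalizedModule.linearEquiv q.primeCompl ℓ₁ (LocalizedModule.mkLinearMap q.primeCompl (C ⊗[B] X))
  let e₂ := Groth.Agent.Lib.Helper55.FL.localizedModuleEquivOfSurjective hπ (C ⊗[B] X) q'
  exact Module.Flat.equiv_iff (LinearEquiv.extendScalarsOfSurjective hπ (e₁.trans e₂))

end eps

section main

variable {A B : Type u} [CommRing A] [CommRing B] [Algebra A B] [Algebra.FinitePresentation A B]
  (J : Ideal B) (hJ : J.FG)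
  (M : Type u) [AddCommGroup M] [Module B M] [Module A M] [IsScalarTower A B M]
  [Module.FinitePresentation B M]

include hJ in
theorem exists_C_model
    (hH : ∀ k : ℕ, Module.Flat A (M ⧸ (J ^ k • (⊤ : Submodule B M)))) :
    ∃ (r n : ℕ) (K' : Submodule (MvPolynomial (Fin r) B) (Fin n → MvPolynomial (Fin r) B)),
      (inK (fun _ : Fin r => 1) n K').FG ∧
      ∀ j : ℕ, Nonempty (GG (fun _ : Fin r => 1) n K' j ≃ₗ[B] grP J M j) := by
  classical
  obtain ⟨a, π₀, hπ₀, -⟩ := Algebra.FinitePresentation.out (R := A) (A := B)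
  obtain ⟨r, b, hb⟩ := Submodule.fg_iff_exists_fin_generating_family.1 hJ
  let x : Fin a → B := fun i => π₀ (X i)
  have hπ₀x : π₀ = MvPolynomial.aeval x := MvPolynomial.aeval_unique π₀
  have hx : Function.Surjective (MvPolynomial.aeval x : MvPolynomial (Fin a) A →ₐ[A] B) := by
    rw [← hπ₀x]
    exact hπ₀
  let w' : Fin r → ℕ := fun _ => 1
  have hw' : ∀ i, w' i ≤ 1 := fun _ => le_rfl
  let SB := MvPolynomial (Fin r) B
  let ev : SB →ₐ[B] B := MvPolynomial.aeval b
  let algSB : Algebra SB B := ev.toRingHom.toAlgebra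
  let modSM : Module SB M := Module.compHom M (ev : SB →+* B)
  have tSBM : IsScalarTower SB B M :=
    ⟨fun s b' m => by
      show (ev s * b') • m = ev s • (b' • m)
      rw [mul_smul]⟩
  have tBSM : IsScalarTower B SB M :=
    ⟨fun b' s m => by
      show ev (b' • s) • m = b' • (ev s • m)
      rw [map_smul, smul_assoc]⟩
  have hevC : ∀ y : B, ev (C y) = y := fun y => MvPolynomial.aeval_C b y
  have hevX : ∀ j : Fin r, ev (X j) = b j := fun j => MvPolynomial.aeval_X b j
  have hev : Function.Surjective (algebraMap SB B) := fun y => ⟨C y, hevC y⟩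
  have hJB : (Jw (R := B) w').map (algebraMap SB B) = J := by
    rw [Jw, Ideal.map_span, ← hb]
    congr 1
    ext y
    constructor
    · rintro ⟨_, ⟨i, -, rfl⟩, rfl⟩
      exact ⟨i, (hevX i).symm⟩
    · rintro ⟨j, rfl⟩
      exact ⟨X j, ⟨j, rfl, rfl⟩, hevX j⟩
  have hkerev : (RingHom.ker ev.toRingHom).FG :=
    Algebra.FinitePresentation.ker_fG_of_surjective ev hev
  have fpSB_B : Module.FinitePresentation SB B :=
    Module.finitePresentation_of_surjective (Algebra.linearMap SB B) hev hkerev
  have fpSM : Module.FinitePresentation SB M := Module.FinitePresentation.trans SB M B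
  obtain ⟨n, K₀', e', hK₀'⟩ := Module.FinitePresentation.exists_fin SB M
  let gB : (Fin n → SB) →ₗ[SB] M := e'.symm.toLinearMap ∘ₗ K₀'.mkQ
  have hgB : Function.Surjective gB := e'.symm.surjective.comp (Submodule.mkQ_surjective K₀')
  let K' : Submodule SB (Fin n → SB) := LinearMap.ker gB
  have hK'eq : K' = K₀' := by
    show LinearMap.ker (e'.symm.toLinearMap ∘ₗ K₀'.mkQ) = K₀'
    rw [LinearMap.ker_comp, LinearEquiv.ker, Submodule.comap_bot, Submodule.ker_mkQ]
  let w : Fin a ⊕ Fin r → ℕ := Sum.elim (fun _ => 0) (fun _ => 1)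
  have hw : ∀ i, w i ≤ 1 := by
    rintro (i | j)
    · exact Nat.zero_le 1
    · exact le_rfl
  let P := MvPolynomial (Fin a ⊕ Fin r) A
  let φ : P →ₐ[A] SB := phiAB A a r x
  have hφsurj : Function.Surjective (φ : P →+* SB) := phiAB_surjective A a r x hx
  have hφgr : ∀ k p, (φ : P →+* SB) (weightedHomogeneousComponent w k p) =
      weightedHomogeneousComponent w' k ((φ : P →+* SB) p) := phiAB_graded A a r x
  let πalg : P →ₐ[A] B := (ev.restrictScalars A).comp φ
  let algPB : Algebra P B := πalg.toRingHom.toAlgebra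
  have tAPB : IsScalarTower A P B :=
    IsScalarTower.of_algebraMap_eq fun c => (πalg.commutes c).symm
  let modPM : Module P M := Module.compHom M (πalg : P →+* B)
  have tPBM : IsScalarTower P B M :=
    ⟨fun p s m => by
      show (πalg p * s) • m = πalg p • (s • m)
      rw [mul_smul]⟩
  have tAPM : IsScalarTower A P M :=
    ⟨fun c p m => by
      show πalg (c • p) • m = c • (πalg p • m)
      rw [map_smul, smul_assoc]⟩
  have hπ : Function.Surjective (algebraMap P B) := hev.comp hφsurj
  have hJP : (Jw (R := A) w).map (algebraMap P B) = J := by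
    rw [Jw, Ideal.map_span, ← hb]
    congr 1
    ext y
    constructor
    · rintro ⟨_, ⟨i, hi, rfl⟩, rfl⟩
      rcases i with i | j
      · exact absurd hi (by simp [w])
      · refine ⟨j, ?_⟩
        show b j = ev (φ (X (Sum.inr j)))
        rw [show φ (X (Sum.inr j)) = X j from phiAB_X_inr A a r x j, hevX]
    · rintro ⟨j, rfl⟩
      refine ⟨X (Sum.inr j), ⟨Sum.inr j, by simp [w], rfl⟩, ?_⟩
      show ev (φ (X (Sum.inr j))) = b j
      rw [show φ (X (Sum.inr j)) = X j from phiAB_X_inr A a r x j, hevX]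
  have hkerπ : (RingHom.ker πalg.toRingHom).FG :=
    Algebra.FinitePresentation.ker_fG_of_surjective πalg hπ
  have fpPB : Module.FinitePresentation P B :=
    Module.finitePresentation_of_surjective (Algebra.linearMap P B) hπ hkerπ
  have fpPM : Module.FinitePresentation P M := Module.FinitePresentation.trans P M B
  let g : (Fin n → P) →ₗ[P] M :=
    { toFun := fun H => gB (PhiF (φ : P →+* SB) n H)
      map_add' := fun H G => by rw [PhiF_add, map_add]
      map_smul' := fun p H => by
        rw [PhiF_smul, map_smul]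
        rfl }
  have hg : Function.Surjective g := hgB.comp (PhiF_surjective (φ : P →+* SB) n hφsurj)
  let K : Submodule P (Fin n → P) := LinearMap.ker g
  have hK : ∀ H, H ∈ K ↔ PhiF (φ : P →+* SB) n H ∈ K' := fun H => Iff.rfl
  have hKfg : K.FG := Module.FinitePresentation.fg_ker g hg
  have hHP : ∀ j, Module.Flat A (EE w n K j) := fun j =>
    Module.Flat.of_linearEquiv
      ((quotPowEquivEE w hw n hπ J hJP g hg j).restrictScalars A).symm
  have hinK : (inK w n K).FG := inK_fg_of_flat w n K hKfg hHP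
  have hinK' : (inK w' n K').FG :=
    inK_fg_of_PhiF w w' (φ : P →+* SB) n hφsurj hφgr K K' hK hinK
  refine ⟨r, n, K', hinK', fun j => ?_⟩
  let e := ((quotPowEquivEE w' hw' n hev J hJB gB hgB (j + 1)).symm).restrictScalars B
  let f := ((quotPowEquivEE w' hw' n hev J hJB gB hgB j).symm).restrictScalars B
  refine ⟨equivOfExact (iotaG w' n K' j) (rhoE w' n K' j) (iotaP J M j) (rhoP J M j)
    (iotaG_injective w' n K' j) (iotaP_injective J M j) (exact_iotaG_rhoE w' n K' j)
    (exact_iotaP_rhoP J M j) e f ?_⟩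
  intro y
  obtain ⟨H, rfl⟩ := Submodule.Quotient.mk_surjective _ y
  rfl

include hJ in
theorem isOpen_normalFlat
    (hH : ∀ k : ℕ, Module.Flat A (M ⧸ (J ^ k • (⊤ : Submodule B M)))) :
    IsOpen {q : PrimeSpectrum B | J ≤ q.asIdeal → ∀ k : ℕ,
      Module.Flat (B ⧸ J) ((B ⧸ J) ⊗[B] LocalizedModule q.asIdeal.primeCompl (grP J M k))} := by
  classical
  obtain ⟨r, n, K', hinK', hiso⟩ := exists_C_model J hJ M hH
  let w' : Fin r → ℕ := fun _ => 1
  let L := ext n (algebraMap B (B ⧸ J)) (inK w' n K')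
  have hLfg : (inK w' n L).FG := by
    show (inK w' n (ext n (algebraMap B (B ⧸ J)) (inK w' n K'))).FG
    rw [inK_ext_inK]
    obtain ⟨G, hG⟩ := hinK'
    rw [← hG, ext_span]
    exact Submodule.fg_span (Set.Finite.image _ G.finite_toSet)
  have hopen := isOpen_flat_GG w' (fun _ => rfl) n L hLfg
  have hsurj : Function.Surjective (algebraMap B (B ⧸ J)) := Ideal.Quotient.mk_surjective
  have key : ∀ q' : PrimeSpectrum (B ⧸ J),
      (∀ k, Module.Flat (B ⧸ J) ((B ⧸ J) ⊗[B] LocalizedModule
        (PrimeSpectrum.comap (algebraMap B (B ⧸ J)) q').asIdeal.primeCompl (grP J M k))) ↔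
      ∀ j, Module.Flat (B ⧸ J) (LocalizedModule q'.asIdeal.primeCompl (GG w' n L j)) := by
    intro q'
    refine forall_congr' fun k => ?_
    obtain ⟨ε⟩ := hiso k
    exact (flat_tensor_localized_iff hsurj (grP J M k) q'.asIdeal).trans
      (flat_localizedModule_congr q'.asIdeal.primeCompl
        ((TensorProduct.AlgebraTensorModule.congr (LinearEquiv.refl (B ⧸ J) (B ⧸ J)) ε.symm).trans
          (bcEquivGG w' n K' k)))
  let κ : PrimeSpectrum (B ⧸ J) → PrimeSpectrum B := PrimeSpectrum.comap (algebraMap B (B ⧸ J))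
  have hκ : Topology.IsClosedEmbedding κ :=
    PrimeSpectrum.isClosedEmbedding_comap_of_surjective _ _ hsurj
  have hrange : Set.range κ = PrimeSpectrum.zeroLocus (J : Set B) := by
    rw [_root_.range_comap_of_surjective _ _ hsurj]
    congr 2
    exact Ideal.mk_ker
  rw [← isClosed_compl_iff]
  have hcl : IsClosed (κ '' {q' : PrimeSpectrum (B ⧸ J) |
      ∀ j, Module.Flat (B ⧸ J) (LocalizedModule q'.asIdeal.primeCompl (GG w' n L j))}ᶜ) :=
    hκ.isClosedMap _ hopen.isClosed_compl
  convert hcl using 1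
  ext q
  constructor
  · intro hq
    have hq' : ¬ (J ≤ q.asIdeal → ∀ k : ℕ, Module.Flat (B ⧸ J)
        ((B ⧸ J) ⊗[B] LocalizedModule q.asIdeal.primeCompl (grP J M k))) := hq
    have hqJ : J ≤ q.asIdeal := by
      by_contra h
      exact hq' (fun h' => absurd h' h)
    have hmem : q ∈ Set.range κ := by
      rw [hrange]
      exact hqJ
    obtain ⟨q₁, rfl⟩ := hmem
    refine ⟨q₁, ?_, rfl⟩
    intro hall
    exact hq' (fun _ => (key q₁).2 hall)
  · rintro ⟨q₁, hq₁, rfl⟩ hq
    apply hq₁
    refine (key q₁).1 (hq ?_)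
    intro y hy
    show algebraMap B (B ⧸ J) y ∈ q₁.asIdeal
    rw [show algebraMap B (B ⧸ J) y = 0 from Ideal.Quotient.eq_zero_iff_mem.2 hy]
    exact zero_mem _

end main

end Groth.Agent.Lib.Helper63.GrFlat
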