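import Groth.Agent.Lib.Helper63.GrFlat14

set_option autoImplicit false
universe u

namespace Groth.Agent.Lib.Helper63.GrFlat

open MvPolynomial TensorProduct

attribute [local instance] MvPolynomial.algebraMvPolynomial

section generic

variable {A₀ : Type u} [CommRing A₀] [IsNoetherianRing A₀]
  {B₀ : Type u} [CommRing B₀] [Algebra A₀ B₀] [Algebra.FiniteType A₀ B₀] (J₀ : Ideal B₀)
  (M₀ : Type u) [AddCommGroup M₀] [Module B₀ M₀] [Module A₀ M₀] [IsScalarTower A₀ B₀ M₀]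
  [Module.Finite B₀ M₀]

theorem exists_generic_gr_flat (p : Ideal A₀) [p.IsPrime] :
    ∃ f₀ : A₀, f₀ ∉ p ∧ ∀ f : A₀, f₀ ∣ f → f ∉ p → ∀ k : ℕ,
      Module.Flat (Localization.Away (Ideal.Quotient.mk p f))
        ((Localization.Away (Ideal.Quotient.mk p f) ⊗[A₀] M₀) ⧸
          LinearMap.range (((J₀ ^ k • (⊤ : Submodule B₀ M₀)).restrictScalars A₀).subtype.baseChange
            (Localization.Away (Ideal.Quotient.mk p f)))) := by
  classical
  have fpB : Algebra.FinitePresentation A₀ B₀ :=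
    Algebra.FinitePresentation.of_finiteType.1 inferInstance
  have nB : IsNoetherianRing B₀ := Algebra.FiniteType.isNoetherianRing A₀ B₀
  have fpM : Module.FinitePresentation B₀ M₀ := Module.finitePresentation_of_finite B₀ M₀
  have hJ₀ : J₀.FG := IsNoetherian.noetherian J₀
  obtain ⟨a, r, n, K₀, hK₀, hE⟩ := exists_EE_model (A := A₀) M₀ J₀ hJ₀
  let w : Fin a ⊕ Fin r → ℕ := Sum.elim (fun _ => 0) (fun _ => 1)
  let D := A₀ ⧸ p
  have : IsDomain D := Ideal.Quotient.isDomain p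
  let K_D := ext n (algebraMap A₀ D) K₀
  obtain ⟨f₀', hf₀', hfree⟩ := Groth.Agent.Lib.Helper18.exists_free_tensor_dvd (R := D)
    (MvPolynomial (Fin a ⊕ Fin r) D) (QQ w n K_D)
  obtain ⟨f₀, rfl⟩ := Ideal.Quotient.mk_surjective f₀'
  refine ⟨f₀, fun h => hf₀' (Ideal.Quotient.eq_zero_iff_mem.2 h), fun f hdvd hfp k => ?_⟩
  have hf' : (Ideal.Quotient.mk p f : D) ≠ 0 := fun h => hfp (Ideal.Quotient.eq_zero_iff_mem.1 h)
  have hdvd' : (Ideal.Quotient.mk p f₀ : D) ∣ Ideal.Quotient.mk p f := map_dvd _ hdvd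
  let Df := Localization.Away (Ideal.Quotient.mk p f : D)
  have hfr : Module.Free Df (Df ⊗[D] QQ w n K_D) := hfree _ hdvd' hf' Df
  have hflat : Module.Flat Df (Df ⊗[D] QQ w n K_D) := inferInstance
  have hEE := flat_EE_ext_of_flat_tensor_QQ w n K_D hflat k
  have hext : ext n (algebraMap D Df) K_D = ext n (algebraMap A₀ Df) K₀ := by
    show ext n (algebraMap D Df) (ext n (algebraMap A₀ D) K₀) = _
    rw [ext_ext, ← IsScalarTower.algebraMap_eq]
  rw [hext] at hEE
  exact (flat_stmt_iff_EE w n K₀ _ k (hE k).some Df).2 hEE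

end generic

section piece

variable {A₀ C : Type u} [CommRing A₀] [CommRing C] [Algebra A₀ C]
  {B₀ : Type u} [CommRing B₀] [Algebra A₀ B₀] (J₀ : Ideal B₀)
  (M₀ : Type u) [AddCommGroup M₀] [Module B₀ M₀] [Module A₀ M₀] [IsScalarTower A₀ B₀ M₀]

theorem range_baseChange_anti (k : ℕ) :
    LinearMap.range (LinearMap.baseChange C
      ((J₀ ^ (k + 1) • (⊤ : Submodule B₀ M₀)).restrictScalars A₀).subtype) ≤
    LinearMap.range (LinearMap.baseChange C
      ((J₀ ^ k • (⊤ : Submodule B₀ M₀)).restrictScalars A₀).subtype) := by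
  have hle : (J₀ ^ (k + 1) • (⊤ : Submodule B₀ M₀)).restrictScalars A₀ ≤
      (J₀ ^ k • (⊤ : Submodule B₀ M₀)).restrictScalars A₀ :=
    fun x hx => Submodule.smul_mono (Ideal.pow_le_pow_right (Nat.le_succ k)) le_rfl hx
  rintro _ ⟨z, rfl⟩
  refine ⟨LinearMap.baseChange C (Submodule.inclusion hle) z, ?_⟩
  rw [← LinearMap.comp_apply, ← LinearMap.baseChange_comp]
  rfl

end piece

section mapmkQ

variable {C N : Type u} [CommRing C] [AddCommGroup N] [Module C N]

theorem flat_map_mkQ (V' V : Submodule C N) (hle : V' ≤ V) (h1 : Module.Flat C (N ⧸ V'))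
    (h2 : Module.Flat C (N ⧸ V)) : Module.Flat C ↥(Submodule.map V'.mkQ V) := by
  let i : ↥(Submodule.map V'.mkQ V) →ₗ[C] N ⧸ V' := (Submodule.map V'.mkQ V).subtype
  let p : (N ⧸ V') →ₗ[C] N ⧸ V := Submodule.mapQ V' V LinearMap.id hle
  refine flat_of_ses_left i p Subtype.val_injective ?_ ?_ h1 h2
  · intro y
    obtain ⟨x, rfl⟩ := Submodule.Quotient.mk_surjective _ y
    constructor
    · intro hy
      have hx : x ∈ V := (Submodule.Quotient.mk_eq_zero V).1 hy
      exact ⟨⟨Submodule.Quotient.mk x, ⟨x, hx, rfl⟩⟩, rfl⟩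
    · rintro ⟨⟨z, ⟨x', hx', rfl⟩⟩, hz⟩
      have hz' : (Submodule.Quotient.mk x' : N ⧸ V') = Submodule.Quotient.mk x := hz
      rw [← hz']
      exact (Submodule.Quotient.mk_eq_zero V).2 hx'
  · intro y
    obtain ⟨x, rfl⟩ := Submodule.Quotient.mk_surjective _ y
    exact ⟨Submodule.Quotient.mk x, rfl⟩

end mapmkQ

end Groth.Agent.Lib.Helper63.GrFlat
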