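import Groth.Agent.Lib.Helper63.GrFlat21

set_option autoImplicit false
universe u

namespace Groth.Agent.Lib.Helper63.GrFlat

open AlgebraicGeometry CategoryTheory

structure Piece (A₀ : Type u) [CommRing A₀] where
  C : Type u
  [cr : CommRing C]
  [alg : Algebra A₀ C]

attribute [instance] Piece.cr Piece.alg

section strat

variable {A₀ : Type u} [CommRing A₀]

def Piece.rg (T : Piece A₀) : Set (PrimeSpectrum A₀) :=
  Set.range (PrimeSpectrum.comap (algebraMap A₀ T.C))

theorem range_comap_quot_away (p : Ideal A₀) (f : A₀) :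
    Set.range (PrimeSpectrum.comap (algebraMap A₀ (Localization.Away (Ideal.Quotient.mk p f)))) =
      {x : PrimeSpectrum A₀ | p ≤ x.asIdeal ∧ f ∉ x.asIdeal} := by
  have h1 : algebraMap A₀ (Localization.Away (Ideal.Quotient.mk p f)) =
      (algebraMap (A₀ ⧸ p) (Localization.Away (Ideal.Quotient.mk p f))).comp
        (algebraMap A₀ (A₀ ⧸ p)) := IsScalarTower.algebraMap_eq _ _ _
  rw [h1, PrimeSpectrum.comap_comp]
  have h2 : Set.range ((PrimeSpectrum.comap (algebraMap A₀ (A₀ ⧸ p))) ∘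
      (PrimeSpectrum.comap (algebraMap (A₀ ⧸ p) (Localization.Away (Ideal.Quotient.mk p f))))) =
      PrimeSpectrum.comap (algebraMap A₀ (A₀ ⧸ p)) ''
        (PrimeSpectrum.basicOpen (Ideal.Quotient.mk p f) : Set (PrimeSpectrum (A₀ ⧸ p))) := by
    rw [Set.range_comp, PrimeSpectrum.localization_away_comap_range (Localization.Away (Ideal.Quotient.mk p f)) (Ideal.Quotient.mk p f)]
  show Set.range ((PrimeSpectrum.comap (algebraMap A₀ (A₀ ⧸ p))) ∘
      (PrimeSpectrum.comap (algebraMap (A₀ ⧸ p) (Localization.Away (Ideal.Quotient.mk p f))))) = _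
  rw [h2]
  ext x
  constructor
  · rintro ⟨y, hy, rfl⟩
    refine ⟨fun a ha => ?_, fun hf => hy ?_⟩
    · show algebraMap A₀ (A₀ ⧸ p) a ∈ y.asIdeal
      rw [show algebraMap A₀ (A₀ ⧸ p) a = 0 from Ideal.Quotient.eq_zero_iff_mem.2 ha]
      exact zero_mem _
    · exact hf
  · rintro ⟨hp, hf⟩
    have hx : x ∈ Set.range (PrimeSpectrum.comap (algebraMap A₀ (A₀ ⧸ p))) := by
      rw [_root_.range_comap_of_surjective _ (algebraMap A₀ (A₀ ⧸ p)) Ideal.Quotient.mk_surjective]
      show (RingHom.ker (algebraMap A₀ (A₀ ⧸ p)) : Set A₀) ⊆ x.asIdeal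
      intro a ha
      apply hp
      have : (Ideal.Quotient.mk p) a = 0 := ha
      exact Ideal.Quotient.eq_zero_iff_mem.1 this
    obtain ⟨y, rfl⟩ := hx
    exact ⟨y, fun hy => hf hy, rfl⟩

end strat

section induct

variable {A₀ : Type u} [CommRing A₀] [IsNoetherianRing A₀]
  (Good : ∀ (C : Type u) [CommRing C] [Algebra A₀ C], Prop)
  (hGood : ∀ (p : Ideal A₀) [p.IsPrime], ∃ f₀ : A₀, f₀ ∉ p ∧ ∀ f : A₀, f₀ ∣ f → f ∉ p →
    Good (Localization.Away (Ideal.Quotient.mk p f)))

omit [IsNoetherianRing A₀] in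
theorem immersion_quot_away (p : Ideal A₀) (f : A₀) :
    IsImmersion (Spec.map (CommRingCat.ofHom
      (algebraMap A₀ (Localization.Away (Ideal.Quotient.mk p f))))) := by
  have h1 : algebraMap A₀ (Localization.Away (Ideal.Quotient.mk p f)) =
      (algebraMap (A₀ ⧸ p) (Localization.Away (Ideal.Quotient.mk p f))).comp
        (algebraMap A₀ (A₀ ⧸ p)) := IsScalarTower.algebraMap_eq _ _ _
  rw [h1, CommRingCat.ofHom_comp, Spec.map_comp]
  have h2 : IsOpenImmersion (Spec.map (CommRingCat.ofHom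
      (algebraMap (A₀ ⧸ p) (Localization.Away (Ideal.Quotient.mk p f))))) :=
    IsOpenImmersion.of_isLocalization (Ideal.Quotient.mk p f)
  have h3 : IsClosedImmersion (Spec.map (CommRingCat.ofHom (algebraMap A₀ (A₀ ⧸ p)))) :=
    IsClosedImmersion.spec_of_surjective _ Ideal.Quotient.mk_surjective
  infer_instance

include hGood in
theorem exists_strat (I : Ideal A₀) :
    ∃ (m : ℕ) (S : Fin m → Piece A₀),
      (∀ i, IsImmersion (Spec.map (CommRingCat.ofHom (algebraMap A₀ (S i).C)))) ∧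
      (∀ i j, i ≠ j → Disjoint (S i).rg (S j).rg) ∧
      (⋃ i, (S i).rg = PrimeSpectrum.zeroLocus (I : Set A₀)) ∧
      (∀ i, ∃ U : Set (PrimeSpectrum A₀), IsOpen U ∧
        U ∩ (⋃ j, ⋃ (_ : i ≤ j), (S j).rg) = (S i).rg) ∧
      ∀ i, Good (S i).C := by
  classical
  induction I using IsNoetherian.induction with
  | hgt I ih =>
  by_cases hI : I = ⊤
  · refine ⟨0, fun i => i.elim0, fun i => i.elim0, fun i => i.elim0, ?_, fun i => i.elim0,
      fun i => i.elim0⟩
    rw [hI, Set.iUnion_of_empty]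
    symm
    rw [Submodule.top_coe, PrimeSpectrum.zeroLocus_univ]
  obtain ⟨P, hPmax, hIP⟩ := Ideal.exists_le_maximal I hI
  have hPprime : P.IsPrime := hPmax.isPrime
  obtain ⟨p, hpmin, -⟩ := Ideal.exists_minimalPrimes_le hIP
  have hpprime : p.IsPrime := hpmin.1.1
  have hIp : I ≤ p := hpmin.1.2
  have hfin : (Ideal.minimalPrimes I).Finite := Ideal.finite_minimalPrimes_of_isNoetherianRing A₀ I
  let T : Finset (Ideal A₀) := hfin.toFinset.erase p
  have hg : ∃ g : A₀, g ∉ p ∧ ∀ p' ∈ Ideal.minimalPrimes I, p' ≠ p → g ∈ p' := by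
    have hnle : ¬ (T.inf id ≤ p) := by
      intro hle
      obtain ⟨p', hp'T, hp'p⟩ := (Ideal.IsPrime.inf_le' hpprime).1 hle
      rw [Finset.mem_erase, Set.Finite.mem_toFinset] at hp'T
      have : p ≤ p' := hpmin.2 hp'T.2.1 hp'p
      exact hp'T.1 (le_antisymm hp'p this)
    obtain ⟨g, hgT, hgp⟩ := Set.not_subset.1 hnle
    refine ⟨g, hgp, fun p' hp' hne => ?_⟩
    have hmem : p' ∈ T := by
      rw [Finset.mem_erase, Set.Finite.mem_toFinset]
      exact ⟨hne, hp'⟩
    exact (Finset.inf_le hmem : T.inf id ≤ id p') hgT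
  obtain ⟨g, hgp, hgmin⟩ := hg
  obtain ⟨f₀, hf₀p, hf₀⟩ := hGood p
  let f : A₀ := f₀ * g
  have hfp : f ∉ p := fun h => (hpprime.mem_or_mem h).elim hf₀p hgp
  have hgood₁ : Good (Localization.Away (Ideal.Quotient.mk p f)) := hf₀ f (dvd_mul_right f₀ g) hfp
  have hkey : ∀ x : PrimeSpectrum A₀, I ≤ x.asIdeal → f ∉ x.asIdeal → p ≤ x.asIdeal := by
    intro x hIx hfx
    obtain ⟨p', hp'min, hp'x⟩ := Ideal.exists_minimalPrimes_le hIx
    by_cases hpp : p' = p
    · rw [← hpp]
      exact hp'x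
    · exfalso
      exact hfx (hp'x (Ideal.mul_mem_left _ _ (hgmin p' hp'min hpp)))
  let S₁ : Piece A₀ := ⟨Localization.Away (Ideal.Quotient.mk p f)⟩
  have hrg₁ : S₁.rg = {x : PrimeSpectrum A₀ | I ≤ x.asIdeal ∧ f ∉ x.asIdeal} := by
    show Set.range (PrimeSpectrum.comap (algebraMap A₀
      (Localization.Away (Ideal.Quotient.mk p f)))) = _
    rw [range_comap_quot_away]
    ext x
    constructor
    · rintro ⟨h1, h2⟩
      exact ⟨hIp.trans h1, h2⟩
    · rintro ⟨h1, h2⟩
      exact ⟨hkey x h1 h2, h2⟩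
  have hlt : I < I ⊔ Ideal.span {f} := by
    refine lt_of_le_of_ne le_sup_left fun heq => hfp (hIp ?_)
    rw [heq]
    exact Ideal.mem_sup_right (Ideal.subset_span rfl)
  obtain ⟨m, S, himm, hdisj, hunion, hopen, hgood⟩ := ih _ hlt
  have hzl : PrimeSpectrum.zeroLocus ((I ⊔ Ideal.span {f} : Ideal A₀) : Set A₀) =
      {x : PrimeSpectrum A₀ | I ≤ x.asIdeal ∧ f ∈ x.asIdeal} := by
    ext x
    rw [PrimeSpectrum.mem_zeroLocus, SetLike.coe_subset_coe, sup_le_iff, Ideal.span_le,
      Set.singleton_subset_iff]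
    rfl
  have hsub : ∀ j, (S j).rg ⊆ {x : PrimeSpectrum A₀ | I ≤ x.asIdeal ∧ f ∈ x.asIdeal} := by
    intro j
    rw [← hzl, ← hunion]
    exact Set.subset_iUnion (fun i => (S i).rg) j
  refine ⟨m + 1, Fin.cons S₁ S, ?_, ?_, ?_, ?_, ?_⟩
  · intro i
    refine Fin.cases ?_ (fun j => ?_) i
    · exact immersion_quot_away p f
    · exact himm j
  · intro i j
    refine Fin.cases ?_ (fun i' => ?_) i <;> refine Fin.cases ?_ (fun j' => ?_) j
    · intro h
      exact absurd rfl h
    · intro _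
      show Disjoint S₁.rg (S j').rg
      rw [Set.disjoint_left]
      intro x hx1 hx2
      rw [hrg₁] at hx1
      exact hx1.2 (hsub j' hx2).2
    · intro _
      show Disjoint (S i').rg S₁.rg
      rw [Set.disjoint_left]
      intro x hx1 hx2
      rw [hrg₁] at hx2
      exact hx2.2 (hsub i' hx1).2
    · intro h
      show Disjoint (S i').rg (S j').rg
      exact hdisj i' j' (fun h' => h (by rw [h']))
  · ext x
    rw [Set.mem_iUnion, PrimeSpectrum.mem_zeroLocus, SetLike.coe_subset_coe]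
    constructor
    · rintro ⟨i, hx⟩
      revert hx
      refine Fin.cases ?_ (fun j => ?_) i
      · intro hx
        have hx' : x ∈ S₁.rg := hx
        rw [hrg₁] at hx'
        exact hx'.1
      · intro hx
        exact (hsub j hx).1
    · intro hIx
      by_cases hfx : f ∈ x.asIdeal
      · have hx : x ∈ ⋃ i, (S i).rg := by
          rw [hunion, hzl]
          exact ⟨hIx, hfx⟩
        obtain ⟨j, hj⟩ := Set.mem_iUnion.1 hx
        exact ⟨j.succ, hj⟩
      · refine ⟨0, ?_⟩
        show x ∈ S₁.rg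
        rw [hrg₁]
        exact ⟨hIx, hfx⟩
  · intro i
    refine Fin.cases ?_ (fun i' => ?_) i
    · refine ⟨(PrimeSpectrum.basicOpen f : Set (PrimeSpectrum A₀)),
        (PrimeSpectrum.basicOpen f).isOpen, ?_⟩
      show _ = S₁.rg
      rw [hrg₁]
      ext x
      constructor
      · rintro ⟨hxf, hxU⟩
        obtain ⟨j, hxj⟩ := Set.mem_iUnion.1 hxU
        obtain ⟨-, hxj'⟩ := Set.mem_iUnion.1 hxj
        refine ⟨?_, hxf⟩
        revert hxj'
        refine Fin.cases ?_ (fun j' => ?_) j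
        · intro hx
          have hx' : x ∈ S₁.rg := hx
          rw [hrg₁] at hx'
          exact hx'.1
        · intro hx
          exact (hsub j' hx).1
      · rintro ⟨hIx, hfx⟩
        refine ⟨hfx, Set.mem_iUnion.2 ⟨0, Set.mem_iUnion.2 ⟨Fin.zero_le _, ?_⟩⟩⟩
        show x ∈ S₁.rg
        rw [hrg₁]
        exact ⟨hIx, hfx⟩
    · obtain ⟨U, hU, hUeq⟩ := hopen i'
      refine ⟨U, hU, ?_⟩
      show _ = (S i').rg
      rw [← hUeq]
      congr 1
      ext x
      simp only [Set.mem_iUnion]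
      constructor
      · rintro ⟨j, hj, hx⟩
        revert hj hx
        refine Fin.cases ?_ (fun j' => ?_) j
        · intro hj
          exact absurd hj (by simp)
        · intro hj hx
          exact ⟨j', Fin.succ_le_succ_iff.1 hj, hx⟩
      · rintro ⟨j', hj', hx⟩
        exact ⟨j'.succ, Fin.succ_le_succ_iff.2 hj', hx⟩
  · intro i
    refine Fin.cases ?_ (fun j => ?_) i
    · exact hgood₁
    · exact hgood j

end induct

end Groth.Agent.Lib.Helper63.GrFlat
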