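import Mathlib

set_option autoImplicit false
universe u

namespace Groth.Agent.Lib.Helper63.GrFlat

open TensorProduct

section ses

variable {A : Type u} [CommRing A] {M' M M'' : Type u} [AddCommGroup M'] [Module A M']
  [AddCommGroup M] [Module A M] [AddCommGroup M''] [Module A M'']

theorem flat_of_ext (i : M' →ₗ[A] M) (v : M →ₗ[A] M'')
    (hi : Function.Injective i) (hex : Function.Exact i v) (hv : Function.Surjective v)
    (h1 : Module.Flat A M') (h2 : Module.Flat A M'') : Module.Flat A M := by
  rw [Module.Flat.iff_lTensor_preserves_injective_linearMap'.{u, u, u}]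
  intro N N' _ _ _ _ g hg
  rw [injective_iff_map_eq_zero]
  intro x hx
  have sq : ∀ (P : Type u) [AddCommGroup P] [Module A P] (f : M →ₗ[A] P) (y : M ⊗[A] N),
      f.rTensor N' (g.lTensor M y) = g.lTensor P (f.rTensor N y) := by
    intro P _ _ f y
    rw [← LinearMap.comp_apply, ← LinearMap.comp_apply, LinearMap.rTensor_comp_lTensor,
      LinearMap.lTensor_comp_rTensor]
  have h3 : v.rTensor N x = 0 := by
    have hinj : Function.Injective (g.lTensor M'') :=
      Module.Flat.lTensor_preserves_injective_linearMap _ hg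
    apply hinj
    rw [map_zero, ← sq, hx, map_zero]
  obtain ⟨y, rfl⟩ := (rTensor_exact N hex hv x).1 h3
  have sq' : i.rTensor N' (g.lTensor M' y) = g.lTensor M (i.rTensor N y) := by
    rw [← LinearMap.comp_apply, ← LinearMap.comp_apply, LinearMap.rTensor_comp_lTensor,
      LinearMap.lTensor_comp_rTensor]
  have h4 : i.rTensor N' (g.lTensor M' y) = 0 := by rw [sq', hx]
  have hinj2 : Function.Injective (i.rTensor N') := by
    have := LinearMap.lTensor_injective_of_exact_of_flat v hv i hi hex N'
    intro a b hab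
    apply (TensorProduct.comm A M' N').injective
    apply this
    have e : ∀ z : M' ⊗[A] N', i.lTensor N' (TensorProduct.comm A M' N' z) =
        TensorProduct.comm A M N' (i.rTensor N' z) := by
      intro z
      induction z using TensorProduct.induction_on with
      | zero => simp
      | tmul a b => simp
      | add a b ha hb => simp [ha, hb]
    rw [e, e, hab]
  have h5 : g.lTensor M' y = 0 := hinj2 (by rw [h4, map_zero])
  have h6 : y = 0 := Module.Flat.lTensor_preserves_injective_linearMap (M := M') _ hg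
    (by rw [h5, map_zero])
  rw [h6, map_zero]

theorem flat_ker (g : M →ₗ[A] M'') (hg : Function.Surjective g) (h1 : Module.Flat A M)
    (h2 : Module.Flat A M'') : Module.Flat A (LinearMap.ker g) := by
  rw [Module.Flat.iff_rTensor_preserves_injective_linearMap]
  intro X Y _ _ _ _ i hi
  let f := (LinearMap.ker g).subtype
  have hf : Function.Injective f := Submodule.subtype_injective _
  have hfg : Function.Exact f g := LinearMap.exact_subtype_ker_map g
  have h3 : Function.Injective (f.lTensor X) :=
    LinearMap.lTensor_injective_of_exact_of_flat g hg f hf hfg X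
  have h4 : Function.Injective (i.rTensor M) :=
    Module.Flat.rTensor_preserves_injective_linearMap i hi
  have hcomm : (f.lTensor Y) ∘ₗ (i.rTensor (LinearMap.ker g)) = (i.rTensor M) ∘ₗ (f.lTensor X) := by
    rw [LinearMap.lTensor_comp_rTensor, LinearMap.rTensor_comp_lTensor]
  have h5 : Function.Injective ((f.lTensor Y) ∘ₗ (i.rTensor (LinearMap.ker g))) := by
    rw [hcomm]
    exact h4.comp h3
  exact Function.Injective.of_comp h5

theorem flat_of_ses_left (i : M' →ₗ[A] M) (v : M →ₗ[A] M'')
    (hi : Function.Injective i) (hex : Function.Exact i v) (hv : Function.Surjective v)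
    (h1 : Module.Flat A M) (h2 : Module.Flat A M'') : Module.Flat A M' := by
  have hk := flat_ker v hv h1 h2
  have hr : LinearMap.range i = LinearMap.ker v := (LinearMap.exact_iff.1 hex).symm
  exact Module.Flat.of_linearEquiv
    ((LinearEquiv.ofInjective i hi).trans (LinearEquiv.ofEq _ _ hr))

end ses

section smulinf

variable {A : Type u} [CommRing A] {F : Type u} [AddCommGroup F] [Module A F]

theorem smul_top_inf_le (I : Ideal A) (N : Submodule A F) (h : Module.Flat A (F ⧸ N)) :
    I • (⊤ : Submodule A F) ⊓ N ≤ I • N := by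
  intro y hy
  obtain ⟨hy1, hy2⟩ := hy
  let mulF : I ⊗[A] F →ₗ[A] F := (TensorProduct.lid A F).toLinearMap ∘ₗ (I.subtype.rTensor F)
  let mulQ : I ⊗[A] (F ⧸ N) →ₗ[A] (F ⧸ N) :=
    (TensorProduct.lid A (F ⧸ N)).toLinearMap ∘ₗ (I.subtype.rTensor (F ⧸ N))
  have hmulF : ∀ (a : I) (f : F), mulF (a ⊗ₜ f) = (a : A) • f := by
    intro a f
    simp [mulF]
  have hmulQ : ∀ (a : I) (f : F ⧸ N), mulQ (a ⊗ₜ f) = (a : A) • f := by
    intro a f
    simp [mulQ]
  have hrange : ∀ z ∈ I • (⊤ : Submodule A F), ∃ t : I ⊗[A] F, mulF t = z := by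
    intro z hz
    induction hz using Submodule.smul_induction_on' with
    | smul a ha m _ => exact ⟨(⟨a, ha⟩ : I) ⊗ₜ m, hmulF _ _⟩
    | add x _ y _ hx hy =>
      obtain ⟨t1, h1⟩ := hx
      obtain ⟨t2, h2⟩ := hy
      exact ⟨t1 + t2, by rw [map_add, h1, h2]⟩
  obtain ⟨t, rfl⟩ := hrange y hy1
  have hinjQ : Function.Injective mulQ := by
    show Function.Injective ((TensorProduct.lid A (F ⧸ N)).toLinearMap ∘ₗ
      (I.subtype.rTensor (F ⧸ N)))
    rw [LinearMap.coe_comp]
    exact (TensorProduct.lid A (F ⧸ N)).injective.comp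
      (Module.Flat.rTensor_preserves_injective_linearMap I.subtype Subtype.val_injective)
  have hnat : ∀ t : I ⊗[A] F, mulQ (N.mkQ.lTensor I t) = N.mkQ (mulF t) := by
    intro t
    induction t using TensorProduct.induction_on with
    | zero => simp
    | tmul a f => rw [LinearMap.lTensor_tmul, hmulQ, hmulF, map_smul]
    | add a b ha hb => rw [map_add, map_add, ha, hb, map_add, map_add]
  have h0 : N.mkQ.lTensor I t = 0 := by
    apply hinjQ
    rw [hnat, map_zero]
    exact (Submodule.Quotient.mk_eq_zero N).2 hy2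
  have hex := lTensor_exact I (LinearMap.exact_subtype_mkQ N) (Submodule.mkQ_surjective N)
  obtain ⟨s, rfl⟩ := (hex t).1 h0
  clear hy1 hy2 h0
  induction s using TensorProduct.induction_on with
  | zero => simp
  | tmul a k =>
    rw [LinearMap.lTensor_tmul, hmulF]
    exact Submodule.smul_mem_smul a.2 k.2
  | add a b ha hb =>
    rw [map_add, map_add]
    exact Submodule.add_mem _ ha hb

end smulinf

section bcinf

variable {R : Type u} [CommRing R] (T : Type u) [CommRing T] [Algebra R T]
  {F : Type u} [AddCommGroup F] [Module R F]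

theorem baseChange_inf_le (N U : Submodule R F) (h : Module.Flat R (F ⧸ (N ⊔ U))) :
    N.baseChange T ⊓ U.baseChange T ≤ (N ⊓ U).baseChange T := by
  rintro x ⟨hxN, hxU⟩
  obtain ⟨a, ha⟩ := hxN
  obtain ⟨b, hb⟩ := hxU
  let V := N ⊔ U
  let iN : N →ₗ[R] V := Submodule.inclusion le_sup_left
  let iU : U →ₗ[R] V := Submodule.inclusion le_sup_right
  have hinj : Function.Injective (V.subtype.lTensor T) :=
    LinearMap.lTensor_injective_of_exact_of_flat V.mkQ (Submodule.mkQ_surjective V) V.subtype
      (Submodule.subtype_injective V) (LinearMap.exact_subtype_mkQ V) T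
  have ha' : N.subtype.lTensor T a = x := ha
  have hb' : U.subtype.lTensor T b = x := hb
  have h1 : iN.lTensor T a = iU.lTensor T b := by
    apply hinj
    rw [← LinearMap.comp_apply, ← LinearMap.comp_apply, ← LinearMap.lTensor_comp,
      ← LinearMap.lTensor_comp]
    have e1 : V.subtype ∘ₗ iN = N.subtype := rfl
    have e2 : V.subtype ∘ₗ iU = U.subtype := rfl
    rw [e1, e2, ha', hb']
  let s : (N × U) →ₗ[R] V := iN.coprod (-iU)
  let δ : ↥(N ⊓ U) →ₗ[R] (N × U) :=
    (Submodule.inclusion inf_le_left).prod (Submodule.inclusion inf_le_right)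
  have hexact : Function.Exact δ s := by
    intro y
    constructor
    · intro hy
      obtain ⟨y1, y2⟩ := y
      have h2 : (y1 : F) = (y2 : F) := by
        have := congrArg (fun v : V => (v : F)) hy
        simp only [s, LinearMap.coprod_apply, LinearMap.neg_apply, iN, iU] at this
        have h3 : ((Submodule.inclusion (le_sup_left : N ≤ N ⊔ U) y1 +
            -Submodule.inclusion (le_sup_right : U ≤ N ⊔ U) y2 : V) : F) = (y1 : F) - (y2 : F) := by
          simp [sub_eq_add_neg]
        rw [h3] at this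
        exact sub_eq_zero.1 (by simpa using this)
      refine ⟨⟨(y1 : F), ⟨y1.2, h2 ▸ y2.2⟩⟩, ?_⟩
      apply Prod.ext
      · exact Subtype.ext rfl
      · exact Subtype.ext h2
    · rintro ⟨z, rfl⟩
      apply Subtype.ext
      simp [s, δ, iN, iU]
  have hsurj : Function.Surjective s := by
    rintro ⟨v, hv⟩
    obtain ⟨p, hp, q, hq, rfl⟩ := Submodule.mem_sup.1 hv
    refine ⟨(⟨p, hp⟩, -⟨q, hq⟩), ?_⟩
    apply Subtype.ext
    simp [s, iN, iU]
  have hex := lTensor_exact T hexact hsurj
  let c : T ⊗[R] (N × U) :=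
    (LinearMap.inl R N U).lTensor T a + (LinearMap.inr R N U).lTensor T b
  have hc : s.lTensor T c = 0 := by
    show s.lTensor T ((LinearMap.inl R N U).lTensor T a + (LinearMap.inr R N U).lTensor T b) = 0
    rw [map_add, ← LinearMap.comp_apply, ← LinearMap.comp_apply, ← LinearMap.lTensor_comp,
      ← LinearMap.lTensor_comp]
    have e1 : s ∘ₗ LinearMap.inl R N U = iN := LinearMap.coprod_inl _ _
    have e2 : s ∘ₗ LinearMap.inr R N U = -iU := LinearMap.coprod_inr _ _
    rw [e1, e2, LinearMap.lTensor_neg, LinearMap.neg_apply, h1, add_neg_cancel]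
  obtain ⟨z, hz⟩ := (hex c).1 hc
  have hfst : (LinearMap.fst R N U).lTensor T c = a := by
    show (LinearMap.fst R N U).lTensor T
      ((LinearMap.inl R N U).lTensor T a + (LinearMap.inr R N U).lTensor T b) = a
    rw [map_add, ← LinearMap.comp_apply, ← LinearMap.comp_apply, ← LinearMap.lTensor_comp,
      ← LinearMap.lTensor_comp]
    have e1 : LinearMap.fst R N U ∘ₗ LinearMap.inl R N U = LinearMap.id := LinearMap.fst_comp_inl ..
    have e2 : LinearMap.fst R N U ∘ₗ LinearMap.inr R N U = 0 := LinearMap.fst_comp_inr ..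
    rw [e1, e2, LinearMap.lTensor_id, LinearMap.lTensor_zero, LinearMap.id_apply,
      LinearMap.zero_apply, add_zero]
  have ha2 : a = (Submodule.inclusion (inf_le_left : N ⊓ U ≤ N)).lTensor T z := by
    rw [← hfst, ← hz, ← LinearMap.comp_apply, ← LinearMap.lTensor_comp]
    rfl
  refine ⟨z, ?_⟩
  show (N ⊓ U).subtype.lTensor T z = x
  rw [← ha', ha2, ← LinearMap.comp_apply, ← LinearMap.lTensor_comp]
  rfl

variable {T}
variable {F' : Type u} [AddCommGroup F'] [Module R F'] [Module T F'] [IsScalarTower R T F']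

theorem span_image_eq_map_baseChange {μ : F →ₗ[R] F'} (hμ : IsBaseChange T μ) (N : Submodule R F) :
    Submodule.span T (μ '' (N : Set F)) = Submodule.map hμ.equiv.toLinearMap (N.baseChange T) := by
  rw [Submodule.baseChange_eq_span, Submodule.map_span]
  congr 1
  ext y
  constructor
  · rintro ⟨m, hm, rfl⟩
    refine ⟨(1 : T) ⊗ₜ[R] m, ⟨m, hm, rfl⟩, ?_⟩
    rw [LinearEquiv.coe_coe, IsBaseChange.equiv_tmul, one_smul]
  · rintro ⟨_, ⟨m, hm, rfl⟩, rfl⟩
    refine ⟨m, hm, ?_⟩
    rw [LinearEquiv.coe_coe, TensorProduct.mk_apply, IsBaseChange.equiv_tmul, one_smul]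

theorem span_inf_le_of_flat {μ : F →ₗ[R] F'} (hμ : IsBaseChange T μ) (N U : Submodule R F)
    (h : Module.Flat R (F ⧸ (N ⊔ U))) :
    Submodule.span T (μ '' (N : Set F)) ⊓ Submodule.span T (μ '' (U : Set F)) ≤
      Submodule.span T (μ '' ((N ⊓ U : Submodule R F) : Set F)) := by
  rw [span_image_eq_map_baseChange hμ, span_image_eq_map_baseChange hμ,
    span_image_eq_map_baseChange hμ]
  rintro x ⟨⟨y1, hy1, rfl⟩, ⟨y2, hy2, h2⟩⟩
  have : y2 = y1 := hμ.equiv.injective h2
  subst this
  exact ⟨y2, baseChange_inf_le T N U h ⟨hy1, hy2⟩, rfl⟩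

end bcinf

section loc

variable {A B : Type u} [CommRing A] [CommRing B] [Algebra A B]

theorem flat_of_isLocalizedModule (S : Submonoid B) {M M' : Type u} [AddCommGroup M]
    [AddCommGroup M'] [Module A M] [Module B M] [IsScalarTower A B M] [Module A M'] [Module B M']
    [IsScalarTower A B M'] (g : M →ₗ[B] M') [IsLocalizedModule S g] (h : Module.Flat A M) :
    Module.Flat A M' := by
  rw [Module.Flat.iff_lTensor_preserves_injective_linearMap]
  intro N N' _ _ _ _ j hj
  have h1 : Function.Injective (AlgebraTensorModule.lTensor B M j) :=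
    Module.Flat.lTensor_preserves_injective_linearMap j hj
  have h2 := IsLocalizedModule.map_injective S (AlgebraTensorModule.rTensor A N g)
    (AlgebraTensorModule.rTensor A N' g) _ h1
  rw [IsLocalizedModule.map_lTensor] at h2
  exact h2

end loc

end Groth.Agent.Lib.Helper63.GrFlat
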