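import Groth.Agent.Lib.Helper63.GrFlat2
import Groth.Agent.Lib.Helper63.GrFlat3

set_option autoImplicit false
universe u

namespace Groth.Agent.Lib.Helper63.GrFlat

open MvPolynomial DirectSum

theorem flat_of_subsingleton' {A : Type u} [CommRing A] {M : Type u} [AddCommGroup M] [Module A M]
    [Subsingleton M] : Module.Flat A M :=
  Module.Flat.of_retract (M := A) (0 : M →ₗ[A] A) (0 : A →ₗ[A] M)
    (LinearMap.ext fun _ => Subsingleton.elim _ _)

section quot

variable {σ : Type} (w : σ → ℕ) {R : Type u} [CommRing R] (n : ℕ)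
  (K : Submodule (MvPolynomial σ R) (Fin n → MvPolynomial σ R))

abbrev EE (j : ℕ) : Type u := (Fin n → MvPolynomial σ R) ⧸ (K ⊔ Wf w n j)

noncomputable def NG (j : ℕ) : Submodule R (Fin n → MvPolynomial σ R) :=
  (inK w n K).restrictScalars R ⊔ LinearMap.ker (hc (R := R) w n j)

abbrev GG (j : ℕ) : Type u := (Fin n → MvPolynomial σ R) ⧸ NG w n K j

abbrev QQ : Type u := (Fin n → MvPolynomial σ R) ⧸ inK w n K

abbrev QQR : Type u := (Fin n → MvPolynomial σ R) ⧸ (inK w n K).restrictScalars R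

theorem sub_hc_mem_ker (j : ℕ) (x : Fin n → MvPolynomial σ R) :
    x - hc w n j x ∈ LinearMap.ker (hc (R := R) w n j) := by
  rw [LinearMap.mem_ker, map_sub, hc_hc_same, sub_self]

theorem NG_le_ker (j : ℕ) :
    NG w n K j ≤ LinearMap.ker (((K ⊔ Wf w n (j + 1)).mkQ.restrictScalars R) ∘ₗ hc w n j) := by
  apply sup_le
  · intro x hx
    rw [Submodule.restrictScalars_mem] at hx
    rw [LinearMap.mem_ker, LinearMap.comp_apply, LinearMap.restrictScalars_apply,
      Submodule.mkQ_apply, Submodule.Quotient.mk_eq_zero]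
    exact (mem_inK w n K).1 hx j
  · intro x hx
    rw [LinearMap.mem_ker] at hx
    rw [LinearMap.mem_ker, LinearMap.comp_apply, hx, map_zero]

noncomputable def iotaG (j : ℕ) : GG w n K j →ₗ[R] EE w n K (j + 1) :=
  Submodule.liftQ (NG w n K j) (((K ⊔ Wf w n (j + 1)).mkQ.restrictScalars R) ∘ₗ hc w n j)
    (NG_le_ker w n K j)

theorem iotaG_mk (j : ℕ) (x : Fin n → MvPolynomial σ R) :
    iotaG w n K j (Submodule.Quotient.mk x) = Submodule.Quotient.mk (hc w n j x) := rfl

noncomputable def rhoE (j : ℕ) : EE w n K (j + 1) →ₗ[R] EE w n K j :=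
  (Submodule.mapQ (K ⊔ Wf w n (j + 1)) (K ⊔ Wf w n j) LinearMap.id
    (sup_le_sup_left (Wf_anti w n (Nat.le_succ j)) K)).restrictScalars R

theorem rhoE_mk (j : ℕ) (x : Fin n → MvPolynomial σ R) :
    rhoE w n K j (Submodule.Quotient.mk x) = Submodule.Quotient.mk x := rfl

theorem iotaG_injective (j : ℕ) : Function.Injective (iotaG w n K j) := by
  rw [← LinearMap.ker_eq_bot]
  apply Submodule.ker_liftQ_eq_bot
  intro x hx
  rw [LinearMap.mem_ker, LinearMap.comp_apply, LinearMap.restrictScalars_apply,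
    Submodule.mkQ_apply, Submodule.Quotient.mk_eq_zero] at hx
  have h1 : hc w n j x ∈ inK w n K := (hc_mem_inK_iff w n K j).2 hx
  have h2 : x = hc w n j x + (x - hc w n j x) := by abel
  rw [h2]
  exact Submodule.add_mem _ (Submodule.mem_sup_left h1)
    (Submodule.mem_sup_right (sub_hc_mem_ker w n j x))

theorem rhoE_surjective (j : ℕ) : Function.Surjective (rhoE w n K j) := by
  intro y
  obtain ⟨x, rfl⟩ := Submodule.Quotient.mk_surjective _ y
  exact ⟨Submodule.Quotient.mk x, rfl⟩

theorem exact_iotaG_rhoE (j : ℕ) : Function.Exact (iotaG w n K j) (rhoE w n K j) := by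
  intro y
  obtain ⟨x, rfl⟩ := Submodule.Quotient.mk_surjective _ y
  rw [rhoE_mk, Submodule.Quotient.mk_eq_zero]
  constructor
  · intro hx
    obtain ⟨a, ha, b, hb, rfl⟩ := Submodule.mem_sup.1 hx
    refine ⟨Submodule.Quotient.mk b, ?_⟩
    rw [iotaG_mk, Submodule.Quotient.eq]
    have h1 : hc w n j b - (a + b) = -(a + (b - hc w n j b)) := by abel
    rw [h1]
    exact Submodule.neg_mem _ (Submodule.add_mem _ (Submodule.mem_sup_left ha)
      (Submodule.mem_sup_right (sub_hc_mem_Wf w n hb)))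
  · rintro ⟨z, hz⟩
    obtain ⟨z, rfl⟩ := Submodule.Quotient.mk_surjective _ z
    rw [iotaG_mk, Submodule.Quotient.eq] at hz
    have h1 : x = hc w n j z - (hc w n j z - x) := by abel
    rw [h1]
    exact Submodule.sub_mem _ (Submodule.mem_sup_right (hc_mem_Wf w n j z))
      (sup_le_sup_left (Wf_anti w n (Nat.le_succ j)) K hz)

theorem flat_EE_zero : Module.Flat R (EE w n K 0) := by
  have : Subsingleton (EE w n K 0) := by
    apply Submodule.Quotient.subsingleton_iff.2
    rw [Wf_zero, sup_top_eq]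
  exact flat_of_subsingleton'

theorem flat_EE_succ (j : ℕ) (h1 : Module.Flat R (GG w n K j)) (h2 : Module.Flat R (EE w n K j)) :
    Module.Flat R (EE w n K (j + 1)) :=
  flat_of_ext (iotaG w n K j) (rhoE w n K j) (iotaG_injective w n K j)
    (exact_iotaG_rhoE w n K j) (rhoE_surjective w n K j) h1 h2

theorem flat_EE_of_flat_GG (h : ∀ j, Module.Flat R (GG w n K j)) :
    ∀ j, Module.Flat R (EE w n K j) := by
  intro j
  induction j with
  | zero => exact flat_EE_zero w n K
  | succ j ih => exact flat_EE_succ w n K j (h j) ih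

theorem flat_GG_of_flat_EE (j : ℕ) (h1 : Module.Flat R (EE w n K (j + 1)))
    (h2 : Module.Flat R (EE w n K j)) : Module.Flat R (GG w n K j) :=
  flat_of_ses_left (iotaG w n K j) (rhoE w n K j) (iotaG_injective w n K j)
    (exact_iotaG_rhoE w n K j) (rhoE_surjective w n K j) h1 h2

noncomputable def sQ (j : ℕ) : QQR w n K →ₗ[R] GG w n K j :=
  Submodule.mapQ _ _ LinearMap.id (le_sup_left (a := (inK w n K).restrictScalars R))

theorem sQ_mk (j : ℕ) (x : Fin n → MvPolynomial σ R) :
    sQ w n K j (Submodule.Quotient.mk x) = Submodule.Quotient.mk x := rfl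

theorem NG_le_ker' (j : ℕ) :
    NG w n K j ≤ LinearMap.ker (((inK w n K).restrictScalars R).mkQ ∘ₗ hc w n j) := by
  apply sup_le
  · intro x hx
    rw [Submodule.restrictScalars_mem] at hx
    rw [LinearMap.mem_ker, LinearMap.comp_apply, Submodule.mkQ_apply,
      Submodule.Quotient.mk_eq_zero, Submodule.restrictScalars_mem]
    exact hc_mem_inK w n K hx j
  · intro x hx
    rw [LinearMap.mem_ker] at hx
    rw [LinearMap.mem_ker, LinearMap.comp_apply, hx, map_zero]

noncomputable def iQ (j : ℕ) : GG w n K j →ₗ[R] QQR w n K :=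
  Submodule.liftQ (NG w n K j) (((inK w n K).restrictScalars R).mkQ ∘ₗ hc w n j)
    (NG_le_ker' w n K j)

theorem iQ_mk (j : ℕ) (x : Fin n → MvPolynomial σ R) :
    iQ w n K j (Submodule.Quotient.mk x) = Submodule.Quotient.mk (hc w n j x) := rfl

theorem sQ_iQ_same (j : ℕ) (g : GG w n K j) : sQ w n K j (iQ w n K j g) = g := by
  obtain ⟨x, rfl⟩ := Submodule.Quotient.mk_surjective _ g
  rw [iQ_mk, sQ_mk, Submodule.Quotient.eq]
  have : hc w n j x - x = -(x - hc w n j x) := by abel
  rw [this]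
  exact Submodule.neg_mem _ (Submodule.mem_sup_right (sub_hc_mem_ker w n j x))

theorem sQ_iQ_ne {j k : ℕ} (h : k ≠ j) (g : GG w n K j) : sQ w n K k (iQ w n K j g) = 0 := by
  obtain ⟨x, rfl⟩ := Submodule.Quotient.mk_surjective _ g
  rw [iQ_mk, sQ_mk, Submodule.Quotient.mk_eq_zero]
  apply Submodule.mem_sup_right
  rw [LinearMap.mem_ker, hc_hc_ne w n h]

noncomputable def Psi : (⨁ j : ℕ, GG w n K j) →ₗ[R] QQR w n K :=
  DirectSum.toModule R ℕ (QQR w n K) (fun j => iQ w n K j)

theorem sQ_Psi (x : ⨁ j : ℕ, GG w n K j) (j : ℕ) : sQ w n K j (Psi w n K x) = x j := by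
  classical
  induction x using DirectSum.induction_on with
  | zero => simp
  | of k g =>
    have h1 : Psi w n K (DirectSum.of (fun j => GG w n K j) k g) = iQ w n K k g :=
      DirectSum.toModule_lof R k g
    rw [h1]
    by_cases hk : j = k
    · subst hk
      rw [sQ_iQ_same, DirectSum.of_eq_same]
    · rw [sQ_iQ_ne w n K hk, DirectSum.of_eq_of_ne _ _ _ hk]
  | add x y hx hy => rw [map_add, map_add, hx, hy, DirectSum.add_apply]

theorem Psi_bijective : Function.Bijective (Psi w n K) := by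
  classical
  constructor
  · rw [injective_iff_map_eq_zero]
    intro x hx
    apply DFinsupp.ext
    intro j
    rw [← sQ_Psi, hx, map_zero]
    rfl
  · intro q
    obtain ⟨x, rfl⟩ := Submodule.Quotient.mk_surjective _ q
    obtain ⟨N, -, hsum⟩ := exists_bound_hc w n x
    refine ⟨∑ j ∈ Finset.range N, DirectSum.lof R ℕ (fun j => GG w n K j) j
      (Submodule.Quotient.mk x), ?_⟩
    rw [map_sum]
    have h1 : ∀ j ∈ Finset.range N, Psi w n K (DirectSum.lof R ℕ (fun j => GG w n K j) j
        (Submodule.Quotient.mk x)) = Submodule.Quotient.mk (hc w n j x) := by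
      intro j _
      exact DirectSum.toModule_lof R j _
    rw [Finset.sum_congr rfl h1]
    conv_rhs => rw [← hsum]
    rw [← Submodule.mkQ_apply, map_sum]
    rfl

theorem flat_QQR_iff : Module.Flat R (QQR w n K) ↔ ∀ j, Module.Flat R (GG w n K j) := by
  constructor
  · intro h j
    exact Module.Flat.of_retract (iQ w n K j) (sQ w n K j)
      (LinearMap.ext fun g => sQ_iQ_same w n K j g)
  · intro h
    have h1 : Module.Flat R (⨁ j : ℕ, GG w n K j) := Module.Flat.directSum_iff.2 h
    exact Module.Flat.of_linearEquiv (LinearEquiv.ofBijective (Psi w n K) (Psi_bijective w n K)).symm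

theorem flat_QQ_iff_QQR : Module.Flat R (QQ w n K) ↔ Module.Flat R (QQR w n K) :=
  Module.Flat.equiv_iff (Submodule.Quotient.restrictScalarsEquiv R (inK w n K)).symm

theorem flat_QQ_of_flat_EE (h : ∀ j, Module.Flat R (EE w n K j)) : Module.Flat R (QQ w n K) := by
  rw [flat_QQ_iff_QQR, flat_QQR_iff]
  exact fun j => flat_GG_of_flat_EE w n K j (h (j + 1)) (h j)

theorem flat_EE_of_flat_QQ (h : Module.Flat R (QQ w n K)) : ∀ j, Module.Flat R (EE w n K j) := by
  rw [flat_QQ_iff_QQR, flat_QQR_iff] at h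
  exact flat_EE_of_flat_GG w n K h

end quot

end Groth.Agent.Lib.Helper63.GrFlat
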