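import Groth.Agent.Lib.Helper63.GrFlat4

set_option autoImplicit false
universe u

namespace Groth.Agent.Lib.Helper63.GrFlat

open MvPolynomial TensorProduct

section spanR

variable {σ : Type} {R R' : Type u} [CommRing R] [CommRing R'] (n : ℕ) (φ : R →+* R')

theorem X_smul_mem_spanR (K : Submodule (MvPolynomial σ R) (Fin n → MvPolynomial σ R)) (i : σ)
    (y : Fin n → MvPolynomial σ R')
    (hy : y ∈ Submodule.span R' (mapF n φ '' (K : Set (Fin n → MvPolynomial σ R)))) :
    (X i : MvPolynomial σ R') • y ∈
      Submodule.span R' (mapF n φ '' (K : Set (Fin n → MvPolynomial σ R))) := by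
  induction hy using Submodule.span_induction with
  | mem x hx =>
    obtain ⟨H, hH, rfl⟩ := hx
    have : (X i : MvPolynomial σ R') • mapF n φ H = mapF n φ ((X i : MvPolynomial σ R) • H) := by
      rw [mapF_smul, map_X]
    rw [this]
    exact Submodule.subset_span ⟨_, K.smul_mem _ hH, rfl⟩
  | zero => rw [smul_zero]; exact Submodule.zero_mem _
  | add x y _ _ hx hy => rw [smul_add]; exact Submodule.add_mem _ hx hy
  | smul c x _ hx =>
    rw [smul_comm]
    exact Submodule.smul_mem _ _ hx

theorem ext_restrictScalars (K : Submodule (MvPolynomial σ R) (Fin n → MvPolynomial σ R)) :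
    (ext n φ K).restrictScalars R' =
      Submodule.span R' (mapF n φ '' (K : Set (Fin n → MvPolynomial σ R))) := by
  apply le_antisymm
  · intro y hy
    rw [Submodule.restrictScalars_mem] at hy
    have hle : ext n φ K ≤ ofX n (Submodule.span R'
        (mapF n φ '' (K : Set (Fin n → MvPolynomial σ R))))
        (fun i y hy => X_smul_mem_spanR n φ K i y hy) :=
      ext_le fun H hH => Submodule.subset_span ⟨H, hH, rfl⟩
    exact hle hy
  · rw [Submodule.span_le]
    rintro _ ⟨H, hH, rfl⟩
    exact mapF_mem_ext hH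

end spanR

section bc

attribute [local instance] MvPolynomial.algebraMvPolynomial

variable {σ : Type} (w : σ → ℕ) {R T : Type u} [CommRing R] [CommRing T] [Algebra R T] (n : ℕ)

noncomputable def mapFL : (Fin n → MvPolynomial σ R) →ₗ[R] (Fin n → MvPolynomial σ T) :=
  ((IsScalarTower.toAlgHom R (MvPolynomial σ R) (MvPolynomial σ T)).toLinearMap).compLeft (Fin n)

theorem mapFL_apply (H : Fin n → MvPolynomial σ R) :
    mapFL (T := T) n H = mapF n (algebraMap R T) H := by
  funext i
  rfl

theorem isBaseChange_mapFL : IsBaseChange T (mapFL (σ := σ) (R := R) (T := T) n) :=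
  IsBaseChange.finitePow (Fin n) Algebra.IsPushout.out

variable (K : Submodule (MvPolynomial σ R) (Fin n → MvPolynomial σ R))

theorem map_equiv_range :
    Submodule.map (isBaseChange_mapFL (σ := σ) (R := R) (T := T) n).equiv.toLinearMap
      (LinearMap.range (AlgebraTensorModule.lTensor T T (K.subtype.restrictScalars R))) =
      (ext n (algebraMap R T) K).restrictScalars T := by
  rw [ext_restrictScalars]
  apply le_antisymm
  · rintro _ ⟨_, ⟨z, rfl⟩, rfl⟩
    induction z using TensorProduct.induction_on with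
    | zero => simp
    | tmul t k =>
      rw [AlgebraTensorModule.lTensor_tmul, LinearEquiv.coe_coe, IsBaseChange.equiv_tmul]
      exact Submodule.smul_mem _ _ (Submodule.subset_span ⟨k.1, k.2, rfl⟩)
    | add a b ha hb =>
      rw [map_add, map_add]
      exact Submodule.add_mem _ ha hb
  · rw [Submodule.span_le]
    rintro _ ⟨H, hH, rfl⟩
    refine ⟨(1 : T) ⊗ₜ[R] H, ⟨(1 : T) ⊗ₜ[R] (⟨H, hH⟩ : K), rfl⟩, ?_⟩
    rw [LinearEquiv.coe_coe, IsBaseChange.equiv_tmul, one_smul]
    rfl

noncomputable def bcEquiv :
    T ⊗[R] ((Fin n → MvPolynomial σ R) ⧸ K) ≃ₗ[T]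
      (Fin n → MvPolynomial σ T) ⧸ ext n (algebraMap R T) K :=
  (AlgebraTensorModule.tensorQuotientEquiv T (MvPolynomial σ R) T K).trans
    ((Submodule.Quotient.equiv _ _ (isBaseChange_mapFL (σ := σ) (R := R) (T := T) n).equiv
      (map_equiv_range n K)).trans
      (Submodule.Quotient.restrictScalarsEquiv T (ext n (algebraMap R T) K)))

theorem bcEquiv_tmul (t : T) (H : Fin n → MvPolynomial σ R) :
    bcEquiv n K (t ⊗ₜ[R] Submodule.Quotient.mk H) =
      t • Submodule.Quotient.mk (mapF n (algebraMap R T) H) := by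
  rw [bcEquiv, LinearEquiv.trans_apply, LinearEquiv.trans_apply,
    AlgebraTensorModule.tensorQuotientEquiv_apply_tmul, Submodule.Quotient.equiv_apply,
    Submodule.mapQ_apply, LinearEquiv.coe_coe, IsBaseChange.equiv_tmul,
    Submodule.Quotient.restrictScalarsEquiv_mk]
  rfl

theorem flat_quot_ext (h : Module.Flat R ((Fin n → MvPolynomial σ R) ⧸ K)) :
    Module.Flat T ((Fin n → MvPolynomial σ T) ⧸ ext n (algebraMap R T) K) :=
  Module.Flat.of_linearEquiv (bcEquiv n K).symm

theorem flat_tensor_iff :
    Module.Flat T (T ⊗[R] ((Fin n → MvPolynomial σ R) ⧸ K)) ↔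
      Module.Flat T ((Fin n → MvPolynomial σ T) ⧸ ext n (algebraMap R T) K) :=
  Module.Flat.equiv_iff (bcEquiv n K)

theorem sup_range_hc (j : ℕ) :
    (K ⊔ Wf w n (j + 1)).restrictScalars R ⊔ LinearMap.range (hc (R := R) w n j) =
      (K ⊔ Wf w n j).restrictScalars R := by
  apply le_antisymm
  · apply sup_le
    · intro x hx
      exact sup_le_sup_left (Wf_anti w n (Nat.le_succ j)) K hx
    · rintro _ ⟨x, rfl⟩
      exact Submodule.mem_sup_right (hc_mem_Wf w n j x)
  · intro x hx
    rw [Submodule.restrictScalars_mem] at hx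
    obtain ⟨a, ha, b, hb, rfl⟩ := Submodule.mem_sup.1 hx
    have h1 : a + b = (a + (b - hc w n j b)) + hc w n j b := by abel
    rw [h1]
    refine Submodule.add_mem _ (Submodule.mem_sup_left ?_) (Submodule.mem_sup_right ⟨b, rfl⟩)
    rw [Submodule.restrictScalars_mem]
    exact Submodule.add_mem _ (Submodule.mem_sup_left ha)
      (Submodule.mem_sup_right (sub_hc_mem_Wf w n hb))

theorem mem_spanT_of_flat (j : ℕ) (hfl : Module.Flat R (EE w n K j))
    (H' : Fin n → MvPolynomial σ T) (h1 : hc w n j H' = H')
    (h2 : H' ∈ ext n (algebraMap R T) K ⊔ Wf w n (j + 1)) :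
    H' ∈ Submodule.span T (mapF n (algebraMap R T) ''
      {H : Fin n → MvPolynomial σ R | hc w n j H = H ∧ H ∈ K ⊔ Wf w n (j + 1)}) := by
  classical
  let N : Submodule R (Fin n → MvPolynomial σ R) := (K ⊔ Wf w n (j + 1)).restrictScalars R
  let U : Submodule R (Fin n → MvPolynomial σ R) := LinearMap.range (hc (R := R) w n j)
  have hNU : N ⊔ U = (K ⊔ Wf w n j).restrictScalars R := sup_range_hc w n K j
  have hflat : Module.Flat R ((Fin n → MvPolynomial σ R) ⧸ (N ⊔ U)) := by
    rw [hNU]
    exact Module.Flat.of_linearEquiv (Submodule.Quotient.restrictScalarsEquiv R (K ⊔ Wf w n j))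
  have key := span_inf_le_of_flat (isBaseChange_mapFL (σ := σ) (R := R) (T := T) n) N U hflat
  have hN : H' ∈ Submodule.span T (mapFL (T := T) n '' (N : Set (Fin n → MvPolynomial σ R))) := by
    have e : Submodule.span T (mapFL (T := T) n '' (N : Set (Fin n → MvPolynomial σ R))) =
        (ext n (algebraMap R T) (K ⊔ Wf w n (j + 1))).restrictScalars T :=
      (ext_restrictScalars n (algebraMap R T) (K ⊔ Wf w n (j + 1))).symm
    rw [e, Submodule.restrictScalars_mem, ext_sup, ext_Wf]
    exact h2
  have hU : H' ∈ Submodule.span T (mapFL (T := T) n '' (U : Set (Fin n → MvPolynomial σ R))) := by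
    apply mem_of_monomials
    intro i d hd
    have hwd : Finsupp.weight w d = j := by
      by_contra hne
      apply hd
      have := congrArg (fun G => coeff d (G i)) h1
      simp only [hc_apply, coeff_weightedHomogeneousComponent, if_neg hne] at this
      exact this.symm
    have e1 : (Pi.single i (monomial d (coeff d (H' i))) : Fin n → MvPolynomial σ T) =
        coeff d (H' i) • mapFL (T := T) n (Pi.single i (monomial d (1 : R))) := by
      rw [mapFL_apply, mapF_single_monomial, map_one]
      funext k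
      by_cases hk : k = i
      · subst hk
        rw [Pi.smul_apply, Pi.single_eq_same, Pi.single_eq_same, smul_monomial, smul_eq_mul,
          mul_one]
      · rw [Pi.smul_apply, Pi.single_eq_of_ne hk, Pi.single_eq_of_ne hk, smul_zero]
    rw [e1]
    refine Submodule.smul_mem _ _ (Submodule.subset_span ⟨_, ⟨Pi.single i (monomial d 1), ?_⟩, rfl⟩)
    rw [hc_single_monomial, if_pos hwd]
  have h3 := key ⟨hN, hU⟩
  refine Submodule.span_mono (Set.image_mono ?_) h3
  rintro x ⟨hxN, ⟨y, rfl⟩⟩
  exact ⟨hc_hc_same w n j y, hxN⟩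

end bc

end Groth.Agent.Lib.Helper63.GrFlat
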