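import Groth.Agent.Lib.Helper63.GrFlat5
import Groth.Agent.Lib.Helper18.GenericFP

set_option autoImplicit false
universe u

namespace Groth.Agent.Lib.Helper63.GrFlat

open MvPolynomial TensorProduct

attribute [local instance] MvPolynomial.algebraMvPolynomial

section gen

variable {σ : Type} (w : σ → ℕ) {R : Type u} [CommRing R] (n : ℕ)
  (K : Submodule (MvPolynomial σ R) (Fin n → MvPolynomial σ R))

def Sd (d : ℕ) : Set (Fin n → MvPolynomial σ R) :=
  {H | H ∈ inK w n K ∧ ∀ i, d < i → hc w n i H = 0}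

def Gen (d : ℕ) : Prop := inK w n K ≤ Submodule.span (MvPolynomial σ R) (Sd w n K d)

variable {w n K}

theorem Sd_mono {d d' : ℕ} (h : d ≤ d') : Sd w n K d ⊆ Sd w n K d' :=
  fun _ hH => ⟨hH.1, fun i hi => hH.2 i (by omega)⟩

theorem Gen_mono {d d' : ℕ} (h : d ≤ d') (hG : Gen w n K d) : Gen w n K d' :=
  hG.trans (Submodule.span_mono (Sd_mono h))

theorem span_Sd_le (d : ℕ) : Submodule.span (MvPolynomial σ R) (Sd w n K d) ≤ inK w n K :=
  Submodule.span_le.2 fun _ hH => hH.1

theorem exists_Gen_of_fg (hfg : (inK w n K).FG) : ∃ d, Gen w n K d := by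
  classical
  obtain ⟨S, hS⟩ := hfg
  have hb : ∀ s : Fin n → MvPolynomial σ R, ∃ N : ℕ, ∀ k, N ≤ k → hc w n k s = 0 := fun s => by
    obtain ⟨N, hN, -⟩ := exists_bound_hc w n s
    exact ⟨N, hN⟩
  choose N hN using hb
  refine ⟨S.sup N, ?_⟩
  intro H hH
  rw [← hS] at hH
  refine Submodule.span_mono ?_ hH
  intro s hs
  refine ⟨?_, fun i hi => hN s i ?_⟩
  · rw [← hS]
    exact Submodule.subset_span hs
  · have : N s ≤ S.sup N := Finset.le_sup hs
    omega

end gen

section genbc

variable {σ : Type} (w : σ → ℕ) {R T : Type u} [CommRing R] [CommRing T] [Algebra R T] (n : ℕ)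
  (K : Submodule (MvPolynomial σ R) (Fin n → MvPolynomial σ R))

theorem hc_mem_spanT (j : ℕ) (hfl : Module.Flat R (EE w n K j))
    (H' : Fin n → MvPolynomial σ T) (hH' : H' ∈ inK w n (ext n (algebraMap R T) K)) :
    hc w n j H' ∈ Submodule.span T (mapF n (algebraMap R T) ''
      {H : Fin n → MvPolynomial σ R | hc w n j H = H ∧ H ∈ inK w n K}) := by
  have h1 := mem_spanT_of_flat w n K j hfl (hc w n j H') (hc_hc_same w n j H')
    ((hc_mem_inK_iff w n _ j).1 (hc_mem_inK w n _ hH' j))
  refine Submodule.span_mono (Set.image_mono ?_) h1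
  rintro H ⟨h2, h3⟩
  refine ⟨h2, ?_⟩
  rw [← h2]
  rw [← h2] at h3
  exact (hc_mem_inK_iff w n K j).2 h3

theorem mapF_mem_Sd {d : ℕ} {H : Fin n → MvPolynomial σ R} (hH : H ∈ Sd w n K d) :
    mapF n (algebraMap R T) H ∈ Sd w n (ext n (algebraMap R T) K) d :=
  ⟨mapF_mem_inK w hH.1, fun i hi => by rw [← mapF_hc, hH.2 i hi, mapF_zero]⟩

theorem Sd_ext_of_flat (d : ℕ) (hfl : ∀ j ≤ d, Module.Flat R (EE w n K j))
    (H' : Fin n → MvPolynomial σ T) (hH' : H' ∈ Sd w n (ext n (algebraMap R T) K) d) :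
    H' ∈ Submodule.span T (mapF n (algebraMap R T) '' Sd w n K d) := by
  obtain ⟨N, -, hsum⟩ := exists_bound_hc w n H'
  rw [← hsum]
  refine Submodule.sum_mem _ fun j _ => ?_
  by_cases hj : j ≤ d
  · have h1 := hc_mem_spanT w n K j (hfl j hj) H' hH'.1
    refine Submodule.span_mono (Set.image_mono ?_) h1
    rintro H ⟨h2, h3⟩
    refine ⟨h3, fun i hi => ?_⟩
    rw [← h2, hc_hc_ne w n (by omega)]
  · rw [hH'.2 j (by omega)]
    exact Submodule.zero_mem _

theorem Gen_ext_of_flat (d : ℕ) (hfl : ∀ j, Module.Flat R (EE w n K j)) (hG : Gen w n K d) :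
    Gen w n (ext n (algebraMap R T) K) d := by
  intro H' hH'
  obtain ⟨N, -, hsum⟩ := exists_bound_hc w n H'
  rw [← hsum]
  refine Submodule.sum_mem _ fun j _ => ?_
  have h1 := hc_mem_spanT w n K j (hfl j) H' hH'
  have h2 : Submodule.span T (mapF n (algebraMap R T) ''
      {H : Fin n → MvPolynomial σ R | hc w n j H = H ∧ H ∈ inK w n K}) ≤
      (Submodule.span (MvPolynomial σ T) (Sd w n (ext n (algebraMap R T) K) d)).restrictScalars T := by
    rw [Submodule.span_le]
    rintro _ ⟨H, ⟨-, hH⟩, rfl⟩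
    rw [SetLike.mem_coe, Submodule.restrictScalars_mem]
    have h3 : mapF n (algebraMap R T) H ∈
        ext n (algebraMap R T) (Submodule.span (MvPolynomial σ R) (Sd w n K d)) :=
      mapF_mem_ext (hG hH)
    rw [ext_span] at h3
    refine Submodule.span_mono ?_ h3
    rintro _ ⟨G, hG', rfl⟩
    exact mapF_mem_Sd w n K hG'
  exact h2 h1

end genbc

section flatT

variable {σ : Type} (w : σ → ℕ) {D T : Type u} [CommRing D] [CommRing T] [Algebra D T]
  [Module.Flat D T] (n : ℕ) (K : Submodule (MvPolynomial σ D) (Fin n → MvPolynomial σ D))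

theorem flat_tensor_EE_of_flat_tensor_QQ (h : Module.Flat T (T ⊗[D] QQ w n K)) :
    ∀ j, Module.Flat T (T ⊗[D] EE w n K j) := by
  have hR : Module.Flat T (T ⊗[D] QQR w n K) :=
    Module.Flat.of_linearEquiv
      (TensorProduct.AlgebraTensorModule.congr (LinearEquiv.refl T T)
        (Submodule.Quotient.restrictScalarsEquiv D (inK w n K)))
  have hG : ∀ j, Module.Flat T (T ⊗[D] GG w n K j) := by
    intro j
    refine Module.Flat.of_retract ((iQ w n K j).baseChange T) ((sQ w n K j).baseChange T) ?_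
    rw [← LinearMap.baseChange_comp]
    have : sQ w n K j ∘ₗ iQ w n K j = LinearMap.id :=
      LinearMap.ext fun g => sQ_iQ_same w n K j g
    rw [this, LinearMap.baseChange_id]
  intro j
  induction j with
  | zero =>
    have := flat_EE_zero w n K
    infer_instance
  | succ j ih =>
    refine flat_of_ext ((iotaG w n K j).baseChange T) ((rhoE w n K j).baseChange T) ?_ ?_ ?_
      (hG j) ih
    · rw [LinearMap.baseChange_eq_ltensor]
      exact Module.Flat.lTensor_preserves_injective_linearMap _ (iotaG_injective w n K j)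
    · rw [LinearMap.baseChange_eq_ltensor, LinearMap.baseChange_eq_ltensor]
      exact lTensor_exact T (exact_iotaG_rhoE w n K j) (rhoE_surjective w n K j)
    · rw [LinearMap.baseChange_eq_ltensor]
      exact LinearMap.lTensor_surjective T (rhoE_surjective w n K j)

theorem flat_EE_ext_of_flat_tensor_QQ (h : Module.Flat T (T ⊗[D] QQ w n K)) :
    ∀ j, Module.Flat T (EE w n (ext n (algebraMap D T) K) j) := by
  intro j
  have h1 := flat_tensor_EE_of_flat_tensor_QQ w n K h j
  have h2 := (flat_tensor_iff n (K ⊔ Wf w n j)).1 h1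
  rw [ext_sup, ext_Wf] at h2
  exact h2

end flatT

section uniform

variable {σ : Type} [Finite σ] (w : σ → ℕ) {k : Type u} [CommRing k] [IsNoetherianRing k] (n : ℕ)
  (K₀ : Submodule (MvPolynomial σ k) (Fin n → MvPolynomial σ k))

theorem exists_Gen_of_noetherian : ∃ d, Gen w n K₀ d :=
  exists_Gen_of_fg (IsNoetherian.noetherian _)

theorem exists_uniform_bound :
    ∃ d, ∀ (L : Type u) [Field L] (φ : k →+* L), Gen w n (ext n φ K₀) d := by
  classical
  suffices hP : ∀ I : Ideal k, ∃ d, ∀ (L : Type u) [Field L] (φ : k →+* L),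
      I ≤ RingHom.ker φ → Gen w n (ext n φ K₀) d by
    obtain ⟨d, hd⟩ := hP ⊥
    exact ⟨d, fun L _ φ => hd L φ bot_le⟩
  intro I
  induction I using IsNoetherian.induction with
  | hgt I ih =>
  by_cases hI : I = ⊤
  · refine ⟨0, fun L _ φ hle => ?_⟩
    exfalso
    have : (1 : k) ∈ RingHom.ker φ := hle (hI ▸ Submodule.mem_top)
    rw [RingHom.mem_ker, map_one] at this
    exact one_ne_zero this
  by_cases hp : Ideal.IsPrime (I : Ideal k)
  · have := hp
    let D := k ⧸ (I : Ideal k)
    have : IsDomain D := Ideal.Quotient.isDomain (I : Ideal k)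
    let π : k →+* D := Ideal.Quotient.mk (I : Ideal k)
    let K_D := ext n π K₀
    obtain ⟨f₀, hf₀, hfree⟩ := Groth.Agent.Lib.Helper18.exists_free_tensor_dvd (R := D)
      (MvPolynomial σ D) (QQ w n K_D)
    let Df := Localization.Away f₀
    have hfr : Module.Free Df (Df ⊗[D] QQ w n K_D) := hfree f₀ dvd_rfl hf₀ Df
    have hflat : Module.Flat Df (Df ⊗[D] QQ w n K_D) := inferInstance
    have hEE := flat_EE_ext_of_flat_tensor_QQ w n K_D hflat
    have : IsNoetherianRing Df := IsLocalization.isNoetherianRing (Submonoid.powers f₀) Df inferInstance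
    obtain ⟨d₂, hd₂⟩ := exists_Gen_of_noetherian w n (ext n (algebraMap D Df) K_D)
    obtain ⟨ft, hft⟩ := Ideal.Quotient.mk_surjective f₀
    have hftI : ft ∉ I := by
      intro h
      apply hf₀
      rw [← hft]
      exact Ideal.Quotient.eq_zero_iff_mem.2 h
    have hlt : I < I ⊔ Ideal.span {ft} := by
      refine lt_of_le_of_ne le_sup_left fun heq => hftI ?_
      rw [heq]
      exact Ideal.mem_sup_right (Ideal.subset_span rfl)
    obtain ⟨d₁, hd₁⟩ := ih _ hlt
    refine ⟨max d₁ d₂, fun L _ φ hle => ?_⟩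
    by_cases hφ : φ ft = 0
    · refine Gen_mono (le_max_left _ _) (hd₁ L φ ?_)
      apply sup_le hle
      rw [Ideal.span_le]
      intro x hx
      rw [Set.mem_singleton_iff] at hx
      subst hx
      exact hφ
    · let φb : D →+* L := Ideal.Quotient.lift I φ (fun a ha => hle ha)
      have hφb : φb.comp π = φ := Ideal.Quotient.lift_comp_mk I φ _
      have hu : IsUnit (φb f₀) := by
        rw [← hft]
        exact (Ne.isUnit hφ)
      let ψ : Df →+* L := IsLocalization.Away.lift f₀ hu
      have hψ : ψ.comp (algebraMap D Df) = φb := IsLocalization.Away.lift_comp f₀ hu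
      let _ : Algebra Df L := ψ.toAlgebra
      have hK : ext n φ K₀ = ext n (algebraMap Df L) (ext n (algebraMap D Df) K_D) := by
        show ext n φ K₀ = ext n ψ (ext n (algebraMap D Df) (ext n π K₀))
        rw [ext_ext, ext_ext, hψ, hφb]
      rw [hK]
      exact Gen_mono (le_max_right _ _) (Gen_ext_of_flat w n _ d₂ hEE hd₂)
  · obtain ⟨x, hx, y, hy, hxy⟩ := (Ideal.not_isPrime_iff.1 hp).resolve_left hI
    have hltx : I < I ⊔ Ideal.span {x} := by
      refine lt_of_le_of_ne le_sup_left fun heq => hx ?_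
      rw [heq]
      exact Ideal.mem_sup_right (Ideal.subset_span rfl)
    have hlty : I < I ⊔ Ideal.span {y} := by
      refine lt_of_le_of_ne le_sup_left fun heq => hy ?_
      rw [heq]
      exact Ideal.mem_sup_right (Ideal.subset_span rfl)
    obtain ⟨d₁, hd₁⟩ := ih _ hltx
    obtain ⟨d₂, hd₂⟩ := ih _ hlty
    refine ⟨max d₁ d₂, fun L _ φ hle => ?_⟩
    have h0 : φ x * φ y = 0 := by
      rw [← map_mul]
      exact hle hxy
    rcases mul_eq_zero.1 h0 with h | h
    · refine Gen_mono (le_max_left _ _) (hd₁ L φ ?_)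
      apply sup_le hle
      rw [Ideal.span_le]
      intro z hz
      rw [Set.mem_singleton_iff] at hz
      subst hz
      exact h
    · refine Gen_mono (le_max_right _ _) (hd₂ L φ ?_)
      apply sup_le hle
      rw [Ideal.span_le]
      intro z hz
      rw [Set.mem_singleton_iff] at hz
      subst hz
      exact h

end uniform

end Groth.Agent.Lib.Helper63.GrFlat
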