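import Groth.Agent.Lib.Helper63.GrFlat6

set_option autoImplicit false
universe u

namespace Groth.Agent.Lib.Helper63.GrFlat

open MvPolynomial TensorProduct

attribute [local instance] MvPolynomial.algebraMvPolynomial

section den

variable {σ : Type} {R L : Type u} [CommRing R] [Field L] (n : ℕ) (φ : R →+* L)
  (hfrac : ∀ x : L, ∃ a s : R, φ s ≠ 0 ∧ x * φ s = φ a)

include hfrac in
theorem den_poly (c : MvPolynomial σ L) :
    ∃ s : R, φ s ≠ 0 ∧ ∃ c' : MvPolynomial σ R, MvPolynomial.map φ c' = C (φ s) * c := by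
  induction c using MvPolynomial.induction_on with
  | C x =>
    obtain ⟨a, s, hs, hx⟩ := hfrac x
    refine ⟨s, hs, C a, ?_⟩
    rw [map_C, ← hx, mul_comm x, C_mul]
  | add p q hp hq =>
    obtain ⟨s₁, hs₁, c₁, h₁⟩ := hp
    obtain ⟨s₂, hs₂, c₂, h₂⟩ := hq
    refine ⟨s₁ * s₂, ?_, C s₂ * c₁ + C s₁ * c₂, ?_⟩
    · rw [map_mul]
      exact mul_ne_zero hs₁ hs₂
    · rw [map_add, map_mul, map_mul, map_C, map_C, h₁, h₂, map_mul, C_mul]
      ring
  | mul_X p i hp =>
    obtain ⟨s, hs, c', h⟩ := hp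
    refine ⟨s, hs, c' * X i, ?_⟩
    rw [map_mul, map_X, h, mul_assoc]

include hfrac in
theorem den_span (S : Set (Fin n → MvPolynomial σ R)) (y : Fin n → MvPolynomial σ L)
    (hy : y ∈ Submodule.span (MvPolynomial σ L) (mapF n φ '' S)) :
    ∃ s : R, φ s ≠ 0 ∧ ∃ ℓ ∈ Submodule.span (MvPolynomial σ R) S,
      mapF n φ ℓ = (C (φ s) : MvPolynomial σ L) • y := by
  induction hy using Submodule.span_induction with
  | mem x hx =>
    obtain ⟨z, hz, rfl⟩ := hx
    refine ⟨1, by rw [map_one]; exact one_ne_zero, z, Submodule.subset_span hz, ?_⟩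
    rw [map_one, C_1, one_smul]
  | zero =>
    refine ⟨1, by rw [map_one]; exact one_ne_zero, 0, Submodule.zero_mem _, ?_⟩
    rw [mapF_zero, smul_zero]
  | add x y _ _ hx hy =>
    obtain ⟨s₁, hs₁, ℓ₁, hℓ₁, h₁⟩ := hx
    obtain ⟨s₂, hs₂, ℓ₂, hℓ₂, h₂⟩ := hy
    refine ⟨s₁ * s₂, ?_, (C s₂ : MvPolynomial σ R) • ℓ₁ + (C s₁ : MvPolynomial σ R) • ℓ₂,
      Submodule.add_mem _ (Submodule.smul_mem _ _ hℓ₁) (Submodule.smul_mem _ _ hℓ₂), ?_⟩
    · rw [map_mul]
      exact mul_ne_zero hs₁ hs₂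
    · have e1 : (C (φ s₂) : MvPolynomial σ L) * C (φ s₁) = C (φ (s₁ * s₂)) := by
        rw [map_mul φ, C_mul, mul_comm]
      have e2 : (C (φ s₁) : MvPolynomial σ L) * C (φ s₂) = C (φ (s₁ * s₂)) := by
        rw [map_mul φ, C_mul]
      rw [mapF_add, mapF_smul, mapF_smul, h₁, h₂, map_C, map_C, smul_smul, smul_smul, e1, e2,
        smul_add]
  | smul c x _ hx =>
    obtain ⟨s₁, hs₁, c', hc'⟩ := den_poly φ hfrac c
    obtain ⟨s₂, hs₂, ℓ, hℓ, h⟩ := hx
    refine ⟨s₁ * s₂, ?_, c' • ℓ, Submodule.smul_mem _ _ hℓ, ?_⟩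
    · rw [map_mul]
      exact mul_ne_zero hs₁ hs₂
    · have e : (C (φ s₁) * c) * C (φ s₂) = C (φ (s₁ * s₂)) * c := by
        rw [map_mul φ, C_mul]
        ring
      rw [mapF_smul, h, hc', smul_smul, smul_smul, e]

theorem mem_smul_top_of_mapF_eq_zero (y : Fin n → MvPolynomial σ R) (hy : mapF n φ y = 0) :
    y ∈ (RingHom.ker φ) • (⊤ : Submodule R (Fin n → MvPolynomial σ R)) := by
  classical
  apply mem_of_monomials
  intro i d _
  have h1 : coeff d (y i) ∈ RingHom.ker φ := by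
    rw [RingHom.mem_ker]
    have := congrArg (fun G => coeff d (G i)) hy
    simpa [mapF_apply, coeff_map] using this
  have h2 : (Pi.single i (monomial d (coeff d (y i))) : Fin n → MvPolynomial σ R) =
      coeff d (y i) • Pi.single i (monomial d (1 : R)) := by
    funext k
    by_cases hk : k = i
    · subst hk
      rw [Pi.smul_apply, Pi.single_eq_same, Pi.single_eq_same, smul_monomial, smul_eq_mul, mul_one]
    · rw [Pi.smul_apply, Pi.single_eq_of_ne hk, Pi.single_eq_of_ne hk, smul_zero]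
  rw [h2]
  exact Submodule.smul_mem_smul h1 Submodule.mem_top

end den

section stable

variable {σ : Type} (w : σ → ℕ) {R : Type u} [CommRing R] (n : ℕ)

theorem hc_mem_span_of_stable (S : Set (Fin n → MvPolynomial σ R))
    (hS : ∀ x ∈ S, ∀ m, hc w n m x ∈ S) (y : Fin n → MvPolynomial σ R)
    (hy : y ∈ Submodule.span (MvPolynomial σ R) S) (m : ℕ) :
    hc w n m y ∈ Submodule.span (MvPolynomial σ R) S := by
  let NR : Submodule R (Fin n → MvPolynomial σ R) :=
    (Submodule.span (MvPolynomial σ R) S).restrictScalars R ⊓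
      ⨅ m : ℕ, Submodule.comap (hc w n m) ((Submodule.span (MvPolynomial σ R) S).restrictScalars R)
  have hmem : ∀ z, z ∈ NR ↔ z ∈ Submodule.span (MvPolynomial σ R) S ∧
      ∀ m, hc w n m z ∈ Submodule.span (MvPolynomial σ R) S := by
    intro z
    simp only [NR, Submodule.mem_inf, Submodule.mem_iInf, Submodule.mem_comap,
      Submodule.restrictScalars_mem]
  have hX : ∀ i : σ, ∀ z ∈ NR, (X i : MvPolynomial σ R) • z ∈ NR := by
    intro i z hz
    rw [hmem] at hz ⊢
    refine ⟨Submodule.smul_mem _ _ hz.1, fun m => ?_⟩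
    rw [hc_X_smul]
    split_ifs
    · exact Submodule.smul_mem _ _ (hz.2 _)
    · exact Submodule.zero_mem _
  have hle : Submodule.span (MvPolynomial σ R) S ≤ ofX n NR hX := by
    rw [Submodule.span_le]
    intro x hx
    show x ∈ NR
    rw [hmem]
    exact ⟨Submodule.subset_span hx, fun m => Submodule.subset_span (hS x hx m)⟩
  have := hle hy
  exact ((hmem y).1 this).2 m

end stable

section nak

variable {σ : Type} (w : σ → ℕ) {k R : Type u} [CommRing k] [CommRing R] [Algebra k R] (n : ℕ)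
  (K₀ : Submodule (MvPolynomial σ k) (Fin n → MvPolynomial σ k)) (d : ℕ)

theorem Sd_stable (K : Submodule (MvPolynomial σ R) (Fin n → MvPolynomial σ R)) (x) (hx : x ∈ Sd w n K d)
    (m : ℕ) : hc w n m x ∈ Sd w n K d := by
  refine ⟨hc_mem_inK w n K hx.1 m, fun i hi => ?_⟩
  rw [hc_hc]
  split_ifs with h
  · subst h
    exact hx.2 i hi
  · rfl

theorem nak_step {L : Type u} [Field L] (φ : R →+* L)
    (hfrac : ∀ x : L, ∃ a s : R, φ s ≠ 0 ∧ x * φ s = φ a)
    (hU : ∀ (L : Type u) [Field L] (ψ : k →+* L), Gen w n (ext n ψ K₀) d)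
    (hk : ∀ j ≤ d, Module.Flat k (EE w n K₀ j))
    (j : ℕ)
    (hG : Module.Flat R (GG w n (ext n (algebraMap k R) K₀) j))
    (H : Fin n → MvPolynomial σ R) (hH1 : hc w n j H = H)
    (hH2 : H ∈ inK w n (ext n (algebraMap k R) K₀)) :
    ∃ s : R, φ s ≠ 0 ∧ (C s : MvPolynomial σ R) • H ∈
      (Ideal.map (C : R →+* MvPolynomial σ R) (RingHom.ker φ)) •
        Submodule.span (MvPolynomial σ R)
          {G : Fin n → MvPolynomial σ R | hc w n j G = G ∧ G ∈ inK w n (ext n (algebraMap k R) K₀)} ⊔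
      ext n (algebraMap k R) (Submodule.span (MvPolynomial σ k) (Sd w n K₀ d)) := by
  classical
  set K_R := ext n (algebraMap k R) K₀ with hK_R
  set Y := Submodule.span (MvPolynomial σ R)
    {G : Fin n → MvPolynomial σ R | hc w n j G = G ∧ G ∈ inK w n K_R} with hY
  set L' := ext n (algebraMap k R) (Submodule.span (MvPolynomial σ k) (Sd w n K₀ d)) with hL'
  let ψ : k →+* L := φ.comp (algebraMap k R)
  have h1 : mapF n φ H ∈ inK w n (ext n ψ K₀) := by
    have := mapF_mem_inK w (φ := φ) hH2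
    rwa [hK_R, ext_ext] at this
  have h2 : mapF n φ H ∈ Submodule.span (MvPolynomial σ L) (Sd w n (ext n ψ K₀) d) := hU L ψ h1
  let _ : Algebra k L := ψ.toAlgebra
  have h3 : Submodule.span (MvPolynomial σ L) (Sd w n (ext n ψ K₀) d) ≤
      Submodule.span (MvPolynomial σ L) (mapF n φ '' (mapF n (algebraMap k R) '' Sd w n K₀ d)) := by
    rw [Submodule.span_le]
    intro x hx
    have h4 := Sd_ext_of_flat (T := L) w n K₀ d hk x hx
    have h5 : Submodule.span L (mapF n (algebraMap k L) '' Sd w n K₀ d) ≤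
        (Submodule.span (MvPolynomial σ L)
          (mapF n φ '' (mapF n (algebraMap k R) '' Sd w n K₀ d))).restrictScalars L := by
      rw [Submodule.span_le]
      rintro _ ⟨z, hz, rfl⟩
      rw [SetLike.mem_coe, Submodule.restrictScalars_mem]
      refine Submodule.subset_span ⟨mapF n (algebraMap k R) z, ⟨z, hz, rfl⟩, ?_⟩
      rw [mapF_mapF]
      rfl
    exact h5 h4
  obtain ⟨s, hs, ℓ, hℓ, hsℓ⟩ := den_span n φ hfrac _ _ (h3 h2)
  have hℓ' : ℓ ∈ L' := by
    rw [hL', ext_span]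
    exact hℓ
  refine ⟨s, hs, ?_⟩
  have hstab : ∀ m, hc w n m ℓ ∈ L' := by
    intro m
    rw [hL', ext_span]
    refine hc_mem_span_of_stable w n _ ?_ ℓ hℓ m
    rintro _ ⟨z, hz, rfl⟩ m
    refine ⟨hc w n m z, Sd_stable w n d K₀ z hz m, ?_⟩
    rw [mapF_hc]
  have hL'in : L' ≤ inK w n K_R := by
    rw [hL', hK_R]
    exact (ext_mono (span_Sd_le d)).trans (ext_inK_le w K₀)
  set y := (C s : MvPolynomial σ R) • H - ℓ with hy
  have hy0 : mapF n φ y = 0 := by
    rw [hy, mapF_sub, mapF_smul, map_C, hsℓ, sub_self]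
  have hy1 := mem_smul_top_of_mapF_eq_zero n φ y hy0
  have hCs : hc w n j ((C s : MvPolynomial σ R) • H) = (C s : MvPolynomial σ R) • H := by
    rw [hc_C_smul, hH1]
  have hyj : hc w n j y = (C s : MvPolynomial σ R) • H - hc w n j ℓ := by
    rw [hy, map_sub, hCs]
  have hyj1 : hc w n j y ∈ (RingHom.ker φ) • (⊤ : Submodule R (Fin n → MvPolynomial σ R)) := by
    have := Submodule.mem_map_of_mem (f := hc (R := R) w n j) hy1
    rw [Submodule.map_smul''] at this
    exact Submodule.smul_mono le_rfl le_top this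
  have hyj2 : hc w n j y ∈ NG w n K_R j := by
    apply Submodule.mem_sup_left
    rw [Submodule.restrictScalars_mem, hyj]
    exact Submodule.sub_mem _ (Submodule.smul_mem _ _ hH2) (hL'in (hstab j))
  have hyj3 := smul_top_inf_le (RingHom.ker φ) (NG w n K_R j) hG ⟨hyj1, hyj2⟩
  have hgen : ∀ z ∈ (RingHom.ker φ) • NG w n K_R j, hc w n j z ∈
      (Ideal.map (C : R →+* MvPolynomial σ R) (RingHom.ker φ)) • Y := by
    intro z hz
    induction hz using Submodule.smul_induction_on' with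
    | smul a ha z hz =>
      have e : hc w n j (a • z) = (C a : MvPolynomial σ R) • hc w n j z := by
        rw [map_smul]
        funext i
        rw [Pi.smul_apply, Pi.smul_apply, smul_eq_mul, C_mul']
      rw [e]
      refine Submodule.smul_mem_smul (Ideal.mem_map_of_mem _ ha) (Submodule.subset_span ?_)
      refine ⟨hc_hc_same w n j z, ?_⟩
      obtain ⟨u, hu, v, hv, rfl⟩ := Submodule.mem_sup.1 hz
      rw [LinearMap.mem_ker] at hv
      rw [map_add, hv, add_zero]
      exact hc_mem_inK w n K_R hu j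
    | add x _ y _ hx hy =>
      rw [map_add]
      exact Submodule.add_mem _ hx hy
  have hyj4 := hgen _ hyj3
  rw [hc_hc_same] at hyj4
  have e : (C s : MvPolynomial σ R) • H = hc w n j y + hc w n j ℓ := by
    rw [hyj]
    abel
  rw [e]
  exact Submodule.add_mem _ (Submodule.mem_sup_left hyj4) (Submodule.mem_sup_right (hstab j))

end nak

end Groth.Agent.Lib.Helper63.GrFlat
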