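import Groth.Agent.Lib.Helper63.GrFlat7
import Groth.Agent.Lib.Helper55.FL.ModuleDescent

set_option autoImplicit false
universe u

namespace Groth.Agent.Lib.Helper63.GrFlat

open MvPolynomial TensorProduct

attribute [local instance] MvPolynomial.algebraMvPolynomial

section resfield

variable {R : Type u} [CommRing R] (p : Ideal R) [p.IsPrime]

theorem hfrac_residueField (x : p.ResidueField) :
    ∃ a s : R, algebraMap R p.ResidueField s ≠ 0 ∧
      x * algebraMap R p.ResidueField s = algebraMap R p.ResidueField a := by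
  obtain ⟨⟨y1, y2⟩, hy⟩ := IsLocalization.surj (nonZeroDivisors (R ⧸ p)) x
  obtain ⟨a, ha⟩ := Ideal.Quotient.mk_surjective y1
  obtain ⟨s, hs⟩ := Ideal.Quotient.mk_surjective (y2 : R ⧸ p)
  refine ⟨a, s, ?_, ?_⟩
  · rw [← Ideal.algebraMap_quotient_residueField_mk, hs]
    intro h0
    have h1 : (y2 : R ⧸ p) = 0 := by
      apply Ideal.injective_algebraMap_quotient_residueField p
      rw [h0, map_zero]
    exact nonZeroDivisors.coe_ne_zero y2 h1
  · rw [← Ideal.algebraMap_quotient_residueField_mk, ← Ideal.algebraMap_quotient_residueField_mk,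
      hs, ha]
    exact hy

end resfield

section nak

variable {σ : Type} [Finite σ] (w : σ → ℕ) {k R : Type u} [CommRing k] [CommRing R] [Algebra k R]
  [IsNoetherianRing R] (n : ℕ)
  (K₀ : Submodule (MvPolynomial σ k) (Fin n → MvPolynomial σ k)) (d : ℕ)

theorem nak
    (hU : ∀ (L : Type u) [Field L] (ψ : k →+* L), Gen w n (ext n ψ K₀) d)
    (hk : ∀ j ≤ d, Module.Flat k (EE w n K₀ j))
    (j : ℕ)
    (hG : Module.Flat R (GG w n (ext n (algebraMap k R) K₀) j))
    (H : Fin n → MvPolynomial σ R) (hH1 : hc w n j H = H)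
    (hH2 : H ∈ inK w n (ext n (algebraMap k R) K₀)) :
    H ∈ ext n (algebraMap k R) (Submodule.span (MvPolynomial σ k) (Sd w n K₀ d)) := by
  classical
  set Y := Submodule.span (MvPolynomial σ R)
    {G : Fin n → MvPolynomial σ R | hc w n j G = G ∧ G ∈ inK w n (ext n (algebraMap k R) K₀)}
    with hY
  set L' := ext n (algebraMap k R) (Submodule.span (MvPolynomial σ k) (Sd w n K₀ d)) with hL'
  have hHY : H ∈ Y := Submodule.subset_span ⟨hH1, hH2⟩
  suffices hYL : Y ≤ L' from hYL hHY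
  set Nb := Y.map L'.mkQ with hNb
  have hNbfg : Nb.FG := Submodule.FG.map _ (IsNoetherian.noetherian Y)
  by_cases hann : Nb.annihilator = ⊤
  · intro y hy
    have h1 : (1 : MvPolynomial σ R) ∈ Nb.annihilator := hann ▸ Submodule.mem_top
    have h2 := Submodule.mem_annihilator.1 h1 (L'.mkQ y) (Submodule.mem_map_of_mem hy)
    rw [one_smul, Submodule.mkQ_apply, Submodule.Quotient.mk_eq_zero] at h2
    exact h2
  · exfalso
    obtain ⟨𝔪, h𝔪, hle⟩ := Ideal.exists_le_maximal _ hann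
    let p : Ideal R := 𝔪.comap (C : R →+* MvPolynomial σ R)
    have hp : p.IsPrime := Ideal.comap_isPrime _ _
    let φ : R →+* p.ResidueField := algebraMap R p.ResidueField
    have hker : Ideal.map (C : R →+* MvPolynomial σ R) (RingHom.ker φ) ≤ 𝔪 := by
      rw [Ideal.map_le_iff_le_comap]
      intro a ha
      rw [RingHom.mem_ker] at ha
      exact Ideal.algebraMap_residueField_eq_zero.1 ha
    have hgen : ∀ G : Fin n → MvPolynomial σ R, hc w n j G = G →
        G ∈ inK w n (ext n (algebraMap k R) K₀) → G ∈ 𝔪 • Y ⊔ L' := by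
      intro G hG1 hG2
      obtain ⟨s, hs, hsG⟩ := nak_step w n K₀ d φ (hfrac_residueField p) hU hk j hG G hG1 hG2
      have hs' : (C s : MvPolynomial σ R) ∉ 𝔪 := by
        intro hmem
        apply hs
        exact Ideal.algebraMap_residueField_eq_zero.2 hmem
      obtain ⟨u, i, hi, hui⟩ := h𝔪.exists_inv hs'
      have hsG' : (C s : MvPolynomial σ R) • G ∈ 𝔪 • Y ⊔ L' :=
        sup_le_sup_right (Submodule.smul_mono_left hker) L' hsG
      have e : G = u • ((C s : MvPolynomial σ R) • G) + i • G := by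
        rw [smul_smul, ← add_smul, hui, one_smul]
      rw [e]
      exact Submodule.add_mem _ (Submodule.smul_mem _ _ hsG')
        (Submodule.mem_sup_left (Submodule.smul_mem_smul hi (Submodule.subset_span ⟨hG1, hG2⟩)))
    have hYle : Y ≤ 𝔪 • Y ⊔ L' := by
      rw [hY, Submodule.span_le]
      rintro G ⟨hG1, hG2⟩
      exact hgen G hG1 hG2
    have hNble : Nb ≤ 𝔪 • Nb := by
      have h1 : Nb ≤ Submodule.map L'.mkQ (𝔪 • Y ⊔ L') := Submodule.map_mono hYle
      rw [Submodule.map_sup, Submodule.map_smul'', Submodule.mkQ_map_self, sup_bot_eq] at h1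
      exact h1
    obtain ⟨r, hr1, hr2⟩ :=
      Submodule.exists_sub_one_mem_and_smul_eq_zero_of_fg_of_le_smul 𝔪 Nb hNbfg hNble
    have hr3 : r ∈ 𝔪 := hle (Submodule.mem_annihilator.2 hr2)
    have h1 : (1 : MvPolynomial σ R) ∈ 𝔪 := by
      have := Ideal.sub_mem _ hr3 hr1
      rwa [sub_sub_cancel] at this
    exact h𝔪.ne_top ((Ideal.eq_top_iff_one _).2 h1)

end nak

section stage

variable {σ : Type} [Finite σ] (w : σ → ℕ) {k A : Type u} [CommRing k] [IsNoetherianRing k]
  [CommRing A] [Algebra k A] (n : ℕ)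

theorem exists_fg_flat_quot (N : Submodule (MvPolynomial σ k) (Fin n → MvPolynomial σ k))
    (h : Module.Flat A ((Fin n → MvPolynomial σ A) ⧸ ext n (algebraMap k A) N)) :
    ∃ R : Subalgebra k A, R.FG ∧
      Module.Flat ↥R ((Fin n → MvPolynomial σ ↥R) ⧸ ext n (algebraMap k ↥R) N) := by
  have h1 : Module.Flat A (A ⊗[k] ((Fin n → MvPolynomial σ k) ⧸ N)) := (flat_tensor_iff n N).2 h
  obtain ⟨R, hR, hfl⟩ := Groth.Agent.Lib.Helper55.FL.exists_fg_flat_module (k := k) (R := A)
    (S₁ := MvPolynomial σ k) (M₁ := (Fin n → MvPolynomial σ k) ⧸ N) h1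
  exact ⟨R, hR, (flat_tensor_iff n N).1 hfl⟩

theorem flat_quot_of_le {R R' : Subalgebra k A} (hle : R ≤ R')
    (N : Submodule (MvPolynomial σ k) (Fin n → MvPolynomial σ k))
    (h : Module.Flat ↥R ((Fin n → MvPolynomial σ ↥R) ⧸ ext n (algebraMap k ↥R) N)) :
    Module.Flat ↥R' ((Fin n → MvPolynomial σ ↥R') ⧸ ext n (algebraMap k ↥R') N) := by
  let _ : Algebra ↥R ↥R' := (Subalgebra.inclusion hle).toRingHom.toAlgebra
  have h1 := flat_quot_ext (T := ↥R') n (ext n (algebraMap k ↥R) N) h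
  rw [ext_ext] at h1
  have e : (algebraMap ↥R ↥R').comp (algebraMap k ↥R) = algebraMap k ↥R' := by
    ext x
    rfl
  rw [e] at h1
  exact h1

variable (K₀ : Submodule (MvPolynomial σ k) (Fin n → MvPolynomial σ k))

theorem ext_sup_Wf {T : Type u} [CommRing T] (φ : k →+* T) (j : ℕ) :
    ext n φ (K₀ ⊔ Wf w n j) = ext n φ K₀ ⊔ Wf w n j := by
  rw [ext_sup, ext_Wf]

theorem exists_fg_flat_EE_le
    (hA : ∀ j, Module.Flat A (EE w n (ext n (algebraMap k A) K₀) j)) (N : ℕ) :
    ∃ R : Subalgebra k A, R.FG ∧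
      ∀ j ≤ N, Module.Flat ↥R (EE w n (ext n (algebraMap k ↥R) K₀) j) := by
  have hone : ∀ j, ∃ R : Subalgebra k A, R.FG ∧
      Module.Flat ↥R (EE w n (ext n (algebraMap k ↥R) K₀) j) := by
    intro j
    have h1 : Module.Flat A ((Fin n → MvPolynomial σ A) ⧸
        ext n (algebraMap k A) (K₀ ⊔ Wf w n j)) := by
      rw [ext_sup_Wf]
      exact hA j
    obtain ⟨R, hR, hfl⟩ := exists_fg_flat_quot n _ h1
    rw [ext_sup_Wf] at hfl
    exact ⟨R, hR, hfl⟩
  have hup : ∀ {R R' : Subalgebra k A} (_ : R ≤ R') (j : ℕ),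
      Module.Flat ↥R (EE w n (ext n (algebraMap k ↥R) K₀) j) →
      Module.Flat ↥R' (EE w n (ext n (algebraMap k ↥R') K₀) j) := by
    intro R R' hle j h
    have h1 : Module.Flat ↥R ((Fin n → MvPolynomial σ ↥R) ⧸
        ext n (algebraMap k ↥R) (K₀ ⊔ Wf w n j)) := by
      rw [ext_sup_Wf]
      exact h
    have h2 := flat_quot_of_le n hle _ h1
    rw [ext_sup_Wf] at h2
    exact h2
  induction N with
  | zero =>
    obtain ⟨R, hR, hfl⟩ := hone 0
    refine ⟨R, hR, fun j hj => ?_⟩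
    have : j = 0 := by omega
    subst this
    exact hfl
  | succ N ih =>
    obtain ⟨R₁, hR₁, h₁⟩ := ih
    obtain ⟨R₂, hR₂, h₂⟩ := hone (N + 1)
    refine ⟨R₁ ⊔ R₂, hR₁.sup hR₂, fun j hj => ?_⟩
    rcases Nat.lt_or_ge j (N + 1) with h | h
    · exact hup le_sup_left j (h₁ j (by omega))
    · have : j = N + 1 := by omega
      subst this
      exact hup le_sup_right _ h₂

end stage

end Groth.Agent.Lib.Helper63.GrFlat
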