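import Groth.Agent.Lib.Helper63.GrFlat8

set_option autoImplicit false
universe u

namespace Groth.Agent.Lib.Helper63.GrFlat

open MvPolynomial TensorProduct

attribute [local instance] MvPolynomial.algebraMvPolynomial

section s2

variable {σ : Type} [Finite σ] (w : σ → ℕ) {k A : Type u} [CommRing k] [IsNoetherianRing k]
  [CommRing A] [Algebra k A] (n : ℕ)
  (K₀ : Submodule (MvPolynomial σ k) (Fin n → MvPolynomial σ k)) (d : ℕ)

theorem comp_algebraMap_sub (R : Subalgebra k A) :
    (algebraMap ↥R A).comp (algebraMap k ↥R) = algebraMap k A := by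
  ext x
  rfl

theorem claimA
    (hU : ∀ (L : Type u) [Field L] (ψ : k →+* L), Gen w n (ext n ψ K₀) d)
    (hk : ∀ j ≤ d, Module.Flat k (EE w n K₀ j))
    (hA : ∀ j, Module.Flat A (EE w n (ext n (algebraMap k A) K₀) j)) :
    ext n (algebraMap k A) (Submodule.span (MvPolynomial σ k) (Sd w n K₀ d)) =
      inK w n (ext n (algebraMap k A) K₀) := by
  apply le_antisymm
  · exact (ext_mono (span_Sd_le d)).trans (ext_inK_le w K₀)
  · intro H hH
    obtain ⟨N, -, hsum⟩ := exists_bound_hc w n H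
    rw [← hsum]
    refine Submodule.sum_mem _ fun j _ => ?_
    obtain ⟨R, hR, hfl⟩ := exists_fg_flat_EE_le w n K₀ hA (j + 1)
    have hft : Algebra.FiniteType k ↥R := (Subalgebra.fg_iff_finiteType R).1 hR
    have hnoeth : IsNoetherianRing ↥R := Algebra.FiniteType.isNoetherianRing k ↥R
    have hH' : H ∈ inK w n (ext n (algebraMap ↥R A) (ext n (algebraMap k ↥R) K₀)) := by
      rw [ext_ext, comp_algebraMap_sub]
      exact hH
    have h1 := hc_mem_spanT (T := A) w n (ext n (algebraMap k ↥R) K₀) j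
      (hfl j (Nat.le_succ j)) H hH'
    have hG : Module.Flat ↥R (GG w n (ext n (algebraMap k ↥R) K₀) j) :=
      flat_GG_of_flat_EE w n _ j (hfl (j + 1) le_rfl) (hfl j (Nat.le_succ j))
    have h2 : Submodule.span A (mapF n (algebraMap ↥R A) ''
        {G : Fin n → MvPolynomial σ ↥R | hc w n j G = G ∧
          G ∈ inK w n (ext n (algebraMap k ↥R) K₀)}) ≤
        (ext n (algebraMap k A)
          (Submodule.span (MvPolynomial σ k) (Sd w n K₀ d))).restrictScalars A := by
      rw [Submodule.span_le]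
      rintro _ ⟨G, ⟨hG1, hG2⟩, rfl⟩
      rw [SetLike.mem_coe, Submodule.restrictScalars_mem]
      have h3 := nak w n K₀ d hU hk j hG G hG1 hG2
      have h4 := mapF_mem_ext (φ := algebraMap ↥R A) h3
      rw [ext_ext, comp_algebraMap_sub] at h4
      exact h4
    exact h2 h1

theorem s2
    (hU : ∀ (L : Type u) [Field L] (ψ : k →+* L), Gen w n (ext n ψ K₀) d)
    (hk : ∀ j ≤ d, Module.Flat k (EE w n K₀ j))
    (hA : ∀ j, Module.Flat A (EE w n (ext n (algebraMap k A) K₀) j)) :
    ∃ R : Subalgebra k A, R.FG ∧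
      ∀ j, Module.Flat ↥R (EE w n (ext n (algebraMap k ↥R) K₀) j) := by
  have hCA := claimA w n K₀ d hU hk hA
  have hQ : Module.Flat A (QQ w n (ext n (algebraMap k A) K₀)) := flat_QQ_of_flat_EE w n _ hA
  have hX : Module.Flat A ((Fin n → MvPolynomial σ A) ⧸
      ext n (algebraMap k A) (Submodule.span (MvPolynomial σ k) (Sd w n K₀ d))) := by
    rw [hCA]
    exact hQ
  obtain ⟨R, hR, hfl⟩ := exists_fg_flat_quot n _ hX
  refine ⟨R, hR, ?_⟩
  have hCB : ext n (algebraMap k ↥R) (Submodule.span (MvPolynomial σ k) (Sd w n K₀ d)) =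
      inK w n (ext n (algebraMap k ↥R) K₀) := by
    apply le_antisymm
    · exact (ext_mono (span_Sd_le d)).trans (ext_inK_le w K₀)
    · intro H hH
      have hinj := Module.Flat.tensorProduct_mk_injective ↥R
        ((Fin n → MvPolynomial σ ↥R) ⧸
          ext n (algebraMap k ↥R) (Submodule.span (MvPolynomial σ k) (Sd w n K₀ d))) A
      rw [← Submodule.Quotient.mk_eq_zero]
      apply hinj
      rw [map_zero]
      apply (bcEquiv (T := A) n
        (ext n (algebraMap k ↥R) (Submodule.span (MvPolynomial σ k) (Sd w n K₀ d)))).injective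
      rw [TensorProduct.mk_apply, bcEquiv_tmul, map_zero, one_smul, Submodule.Quotient.mk_eq_zero,
        ext_ext, comp_algebraMap_sub, hCA]
      have h1 := mapF_mem_inK w (φ := algebraMap ↥R A) hH
      rw [ext_ext, comp_algebraMap_sub] at h1
      exact h1
  have hQR : Module.Flat ↥R (QQ w n (ext n (algebraMap k ↥R) K₀)) := by
    show Module.Flat ↥R ((Fin n → MvPolynomial σ ↥R) ⧸ inK w n (ext n (algebraMap k ↥R) K₀))
    rw [← hCB]
    exact hfl
  exact flat_EE_of_flat_QQ w n _ hQR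

end s2

section core

variable {σ : Type} [Finite σ] (w : σ → ℕ) {k A : Type u} [CommRing k] [IsNoetherianRing k]
  [CommRing A] [Algebra k A] (n : ℕ)
  (K₀ : Submodule (MvPolynomial σ k) (Fin n → MvPolynomial σ k))

theorem core (hA : ∀ j, Module.Flat A (EE w n (ext n (algebraMap k A) K₀) j)) :
    ∃ (R : Type u) (_ : CommRing R) (_ : Algebra k R) (_ : Algebra R A)
      (_ : IsScalarTower k R A),
      Algebra.FiniteType k R ∧ Function.Injective (algebraMap R A) ∧
        ∀ j, Module.Flat R (EE w n (ext n (algebraMap k R) K₀) j) := by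
  obtain ⟨d, hd⟩ := exists_uniform_bound w n K₀
  obtain ⟨R₁, hR₁, h₁⟩ := exists_fg_flat_EE_le w n K₀ hA d
  have hft₁ : Algebra.FiniteType k ↥R₁ := (Subalgebra.fg_iff_finiteType R₁).1 hR₁
  have hn₁ : IsNoetherianRing ↥R₁ := Algebra.FiniteType.isNoetherianRing k ↥R₁
  have hU' : ∀ (L : Type u) [Field L] (ψ : ↥R₁ →+* L),
      Gen w n (ext n ψ (ext n (algebraMap k ↥R₁) K₀)) d := by
    intro L _ ψ
    rw [ext_ext]
    exact hd L _
  have hA' : ∀ j, Module.Flat A
      (EE w n (ext n (algebraMap ↥R₁ A) (ext n (algebraMap k ↥R₁) K₀)) j) := by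
    intro j
    rw [ext_ext, comp_algebraMap_sub]
    exact hA j
  obtain ⟨R₂, hR₂, h₂⟩ := s2 w n (ext n (algebraMap k ↥R₁) K₀) d hU' h₁ hA'
  let algkR : Algebra k ↥R₂ := ((algebraMap ↥R₁ ↥R₂).comp (algebraMap k ↥R₁)).toAlgebra
  have t1 : IsScalarTower k ↥R₁ ↥R₂ := IsScalarTower.of_algebraMap_eq fun _ => rfl
  have t2 : IsScalarTower k ↥R₂ A := IsScalarTower.of_algebraMap_eq fun _ => rfl
  have hft₂ : Algebra.FiniteType ↥R₁ ↥R₂ := (Subalgebra.fg_iff_finiteType R₂).1 hR₂
  refine ⟨↥R₂, inferInstance, algkR, inferInstance, t2,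
    Algebra.FiniteType.trans (S := ↥R₁) hft₁ hft₂, Subtype.val_injective, fun j => ?_⟩
  have := h₂ j
  rw [ext_ext] at this
  exact this

end core

end Groth.Agent.Lib.Helper63.GrFlat
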