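import Mathlib

set_option autoImplicit false
universe u

namespace Groth.Agent.Lib.Helper63.JacDesc

theorem exists_max_prime {A : Type u} [CommRing A] (P : Ideal A) [P.IsPrime] (f : A) (hf : f ∉ P) :
    ∃ P₁ : Ideal A, P₁.IsPrime ∧ P ≤ P₁ ∧ f ∉ P₁ ∧
      ∀ J : Ideal A, J.IsPrime → P₁ < J → f ∈ J := by
  have hdisj : Disjoint (P : Set A) (Submonoid.powers f : Set A) := by
    rw [Set.disjoint_right]
    rintro _ ⟨n, rfl⟩ hmem
    exact hf (Ideal.IsPrime.mem_of_pow_mem inferInstance n hmem)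
  have ⟨p, hPp, hp⟩ := zorn_le_nonempty₀ {p : Ideal A | Disjoint (p : Set A) (Submonoid.powers f : Set A)}
    (fun c hc hc' x hx ↦ ?_) P hdisj
  · have hprime : p.IsPrime :=
      Ideal.isPrime_of_maximally_disjoint _ _ hp.1 (fun _ ↦ hp.not_prop_of_gt)
    refine ⟨p, hprime, hPp, ?_, ?_⟩
    · intro hfp
      exact Set.disjoint_left.1 hp.1 hfp (Submonoid.mem_powers f)
    · intro J hJ hlt
      have hnd : ¬ Disjoint (J : Set A) (Submonoid.powers f : Set A) := hp.not_prop_of_gt hlt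
      rw [Set.not_disjoint_iff] at hnd
      obtain ⟨x, hxJ, n, rfl⟩ := hnd
      exact Ideal.IsPrime.mem_of_pow_mem hJ n hxJ
  · cases isEmpty_or_nonempty c
    · exact ⟨P, hdisj, fun J hJ ↦ isEmptyElim (⟨J, hJ⟩ : c)⟩
    refine ⟨sSup c, Set.disjoint_left.mpr fun x hx ↦ ?_, fun _ ↦ le_sSup⟩
    have ⟨p, hp⟩ := (Submodule.mem_iSup_of_directed _ hc'.directed).mp (sSup_eq_iSup' c ▸ hx)
    exact Set.disjoint_left.mp (hc p.2) hp

theorem isJacobsonRing_of_quasiFinite_faithfullyFlat (A S : Type u) [CommRing A] [CommRing S]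
    [Algebra A S] [Algebra.QuasiFinite A S] [Module.FaithfullyFlat A S] [IsJacobsonRing S] :
    IsJacobsonRing A := by
  rw [isJacobsonRing_iff_prime_eq]
  intro P hP
  refine le_antisymm ?_ Ideal.le_jacobson
  intro f hfJ
  by_contra hfP
  obtain ⟨P₁, hP₁, hPP₁, hfP₁, hmax⟩ := exists_max_prime P f hfP
  have hnotmax : ¬ P₁.IsMaximal := by
    intro hm
    rw [Ideal.jacobson, Ideal.mem_sInf] at hfJ
    exact hfP₁ (hfJ ⟨hPP₁, hm⟩)
  obtain ⟨m, hm, hP₁m⟩ := Ideal.exists_le_maximal P₁ hP₁.ne_top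
  have hmprime : m.IsPrime := hm.isPrime
  have hne : P₁ ≠ m := fun h => hnotmax (h ▸ hm)
  obtain ⟨Q', hQ'⟩ := PrimeSpectrum.comap_surjective_of_faithfullyFlat (A := A) (B := S)
    ⟨m, hmprime⟩
  have hQ'prime : Q'.asIdeal.IsPrime := Q'.isPrime
  have hQ'over : Q'.asIdeal.LiesOver m := ⟨by
    have := congrArg PrimeSpectrum.asIdeal hQ'
    exact this.symm⟩
  obtain ⟨Q, hQQ', hQprime, hQover⟩ :=
    Ideal.exists_ideal_le_liesOver_of_le (p := P₁) (q := m) Q'.asIdeal hP₁m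
  have hQne : Q ≠ Q'.asIdeal := by
    intro h
    apply hne
    rw [hQover.over, hQ'over.over, h]
  have hQnotmax : ¬ Q.IsMaximal := by
    intro hmax'
    exact hQne (hmax'.eq_of_le hQ'prime.ne_top hQQ')
  have hJS : Q.jacobson = Q := (isJacobsonRing_iff_prime_eq.1 inferInstance) Q hQprime
  have hfQ : algebraMap A S f ∉ Q := by
    intro h
    apply hfP₁
    rw [hQover.over]
    exact h
  have : ∃ n : Ideal S, Q ≤ n ∧ n.IsMaximal ∧ algebraMap A S f ∉ n := by
    by_contra hcon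
    push Not at hcon
    apply hfQ
    rw [← hJS, Ideal.jacobson, Ideal.mem_sInf]
    rintro n ⟨hQn, hn⟩
    exact hcon n hQn hn
  obtain ⟨n, hQn, hn, hfn⟩ := this
  have hnprime : n.IsPrime := hn.isPrime
  have hunder : Q.under A = n.under A := by
    have h1 : Q.under A = P₁ := hQover.over.symm
    have h2 : P₁ ≤ n.under A := by
      rw [← h1]
      exact Ideal.comap_mono hQn
    rcases eq_or_lt_of_le h2 with h3 | h3
    · rw [h1, h3]
    · exfalso
      exact hfn (hmax (n.under A) inferInstance h3)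
  have := Algebra.QuasiFinite.eq_of_le_of_under_eq (R := A) Q n hQn hunder
  exact hQnotmax (this ▸ hn)

end Groth.Agent.Lib.Helper63.JacDesc
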