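import Mathlib.RingTheory.Ideal.KrullsHeightTheorem
import Mathlib.RingTheory.Ideal.MinimalPrime.Noetherian
import Mathlib.RingTheory.KrullDimension.Basic
import Mathlib.RingTheory.AdicCompletion.Noetherian
import Mathlib.RingTheory.Henselian
import Mathlib.RingTheory.Ideal.Operations
import Mathlib.RingTheory.Ideal.Quotient.Operations
import Groth.Agent.S3866

set_option autoImplicit false
set_option linter.unusedSectionVars false
universe u

namespace Groth.Agent.Lib.Helper63.RigClosed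

section ArtinTate

variable {B : Type u} [CommRing B] [IsDomain B] [IsNoetherianRing B]

theorem mem_minimalPrimes_of_height_le_one {f : B} (hf : f ≠ 0)
    (Q : Ideal B) (hQ : Q.IsPrime) (hfQ : f ∈ Q) (hht : Q.height ≤ 1) :
    Q ∈ (Ideal.span {f}).minimalPrimes := by
  have hle : Ideal.span {f} ≤ Q := (Ideal.span_singleton_le_iff_mem Q).mpr hfQ
  obtain ⟨P', hP', hP'Q⟩ := Ideal.exists_minimalPrimes_le hle
  have hP'prime : P'.IsPrime := hP'.1.1
  have hP'0 : P' ≠ ⊥ := by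
    intro h0
    have : f ∈ P' := hP'.1.2 (Ideal.mem_span_singleton_self f)
    rw [h0, Ideal.mem_bot] at this
    exact hf this
  rcases eq_or_lt_of_le hP'Q with heq | hlt
  · rwa [← heq]
  · exfalso
    have h1 : P'.height < Q.height := Ideal.height_strict_mono_of_isPrime hlt
    have h2 : P'.height = 0 := by
      have : P'.height < 1 := lt_of_lt_of_le h1 hht
      exact Order.lt_one_iff.mp this
    exact hP'0 (Ideal.height_eq_zero_iff_eq_bot.mp h2)

theorem mem_minimalPrimes_of_forall_mem {f : B} (hf : f ≠ 0)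
    (h : ∀ P : Ideal B, P.IsPrime → P ≠ ⊥ → f ∈ P) (P : Ideal B) (hP : P.IsPrime) (hP0 : P ≠ ⊥) :
    P ∈ (Ideal.span {f}).minimalPrimes := by
  classical
  have hfin : (Ideal.span {f}).minimalPrimes.Finite :=
    Ideal.finite_minimalPrimes_of_isNoetherianRing B (Ideal.span {f})
  have hcover : (P : Set B) ⊆ ⋃ Q ∈ ((hfin.toFinset : Finset (Ideal B)) : Set (Ideal B)),
      ((id Q : Ideal B) : Set B) := by
    intro x hx
    obtain ⟨x0, hx0P, hx0⟩ := Submodule.exists_mem_ne_zero_of_ne_bot hP0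
    have key : ∀ y : B, y ∈ P → y ≠ 0 → ∃ Q ∈ (Ideal.span {f}).minimalPrimes, y ∈ Q := by
      intro y hyP hy0
      have hle : Ideal.span {y} ≤ P := (Ideal.span_singleton_le_iff_mem P).mpr hyP
      obtain ⟨Q, hQ, hQP⟩ := Ideal.exists_minimalPrimes_le hle
      have hQprime : Q.IsPrime := hQ.1.1
      have hyQ : y ∈ Q := hQ.1.2 (Ideal.mem_span_singleton_self y)
      have hQ0 : Q ≠ ⊥ := by
        intro h0
        rw [h0, Ideal.mem_bot] at hyQ
        exact hy0 hyQ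
      have hht : Q.height ≤ 1 :=
        Ideal.height_le_one_of_isPrincipal_of_mem_minimalPrimes (Ideal.span {y}) Q hQ
      exact ⟨Q, mem_minimalPrimes_of_height_le_one hf Q hQprime (h Q hQprime hQ0) hht, hyQ⟩
    by_cases hx0' : x = 0
    · obtain ⟨Q, hQ, -⟩ := key x0 hx0P hx0
      refine Set.mem_iUnion₂.mpr ⟨Q, by simpa using hQ, ?_⟩
      rw [hx0']
      exact Q.zero_mem
    · obtain ⟨Q, hQ, hxQ⟩ := key x hx hx0'
      exact Set.mem_iUnion₂.mpr ⟨Q, by simpa using hQ, hxQ⟩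
  have hprime : ∀ Q ∈ hfin.toFinset, Q ≠ (⊥ : Ideal B) → Q ≠ (⊥ : Ideal B) →
      (id Q : Ideal B).IsPrime := by
    intro Q hQ _ _
    have : Q ∈ (Ideal.span {f}).minimalPrimes := by simpa using hQ
    exact this.1.1
  obtain ⟨Q, hQ, hPQ⟩ := (Ideal.subset_union_prime (s := hfin.toFinset) (f := id) ⊥ ⊥ hprime).mp hcover
  have hQ' : Q ∈ (Ideal.span {f}).minimalPrimes := by simpa using hQ
  have hfP : Ideal.span {f} ≤ P := (Ideal.span_singleton_le_iff_mem P).mpr (h P hP hP0)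
  have hQP : Q ≤ P := hQ'.2 ⟨hP, hfP⟩ hPQ
  have : P = Q := le_antisymm hPQ hQP
  rwa [this]

theorem isMaximal_of_forall_mem {f : B} (hf : f ≠ 0)
    (h : ∀ P : Ideal B, P.IsPrime → P ≠ ⊥ → f ∈ P) (P : Ideal B) (hP : P.IsPrime) (hP0 : P ≠ ⊥) :
    P.IsMaximal := by
  obtain ⟨M, hM, hPM⟩ := Ideal.exists_le_maximal P hP.ne_top
  have hM0 : M ≠ ⊥ := fun h0 => hP0 (le_bot_iff.mp (h0 ▸ hPM))
  have hMmin := mem_minimalPrimes_of_forall_mem hf h M hM.isPrime hM0
  have hfP : Ideal.span {f} ≤ P := (Ideal.span_singleton_le_iff_mem P).mpr (h P hP hP0)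
  have hMP : M ≤ P := hMmin.2 ⟨hP, hfP⟩ hPM
  have : P = M := le_antisymm hPM hMP
  rwa [this]

theorem finite_primes_of_forall_mem {f : B} (hf : f ≠ 0)
    (h : ∀ P : Ideal B, P.IsPrime → P ≠ ⊥ → f ∈ P) :
    {P : Ideal B | P.IsPrime ∧ P ≠ ⊥}.Finite :=
  (Ideal.finite_minimalPrimes_of_isNoetherianRing B (Ideal.span {f})).subset
    (fun P hP => mem_minimalPrimes_of_forall_mem hf h P hP.1 hP.2)

end ArtinTate

section Transfer

theorem isAdicComplete_of_le_of_pow_le {R : Type u} [CommRing R] (J P : Ideal R)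
    [IsAdicComplete J R] (hJP : J ≤ P) (N : ℕ) (hN : P ^ N ≤ J) : IsAdicComplete P R := by
  have hK : P ^ (N + 1) ≤ J := le_trans (Ideal.pow_le_pow_right (Nat.le_succ N)) hN
  have hpow : ∀ m : ℕ, (P ^ ((N + 1) * m) • ⊤ : Submodule R R) ≤ J ^ m • ⊤ := by
    intro m
    rw [pow_mul]
    exact Submodule.smul_mono_left (Ideal.pow_right_mono hK m)
  have hpow' : ∀ m : ℕ, (J ^ m • ⊤ : Submodule R R) ≤ P ^ m • ⊤ := fun m =>
    Submodule.smul_mono_left (Ideal.pow_right_mono hJP m)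
  have hH : IsHausdorff P R := by
    refine ⟨fun x hx => ?_⟩
    refine IsHausdorff.haus' (I := J) x (fun m => ?_)
    exact (hx ((N + 1) * m)).mono (hpow m)
  have hP : IsPrecomplete P R := by
    refine ⟨fun f hf => ?_⟩
    obtain ⟨L, hL⟩ := IsPrecomplete.prec' (I := J) (fun m => f ((N + 1) * m))
      (fun {m n} hmn => (hf (Nat.mul_le_mul_left (N + 1) hmn)).mono (hpow m))
    refine ⟨L, fun n => ?_⟩
    have h1 : f n ≡ f ((N + 1) * n) [SMOD (P ^ n • ⊤ : Submodule R R)] :=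
      hf (Nat.le_mul_of_pos_left n (Nat.succ_pos N))
    exact h1.trans ((hL n).mono (hpow' n))
  exact { hH, hP with }

end Transfer

section Local

open Polynomial

variable {B : Type u} [CommRing B] [IsDomain B] [IsNoetherianRing B] (J : Ideal B)
  [IsAdicComplete J B]

theorem exists_idempotent_of_mul_mem {e₁ : B} (h : e₁ * (1 - e₁) ∈ J) :
    ∃ e : B, e * e = e ∧ e - e₁ ∈ J := by
  have hmonic : (X ^ 2 - X : B[X]).Monic := by
    exact Polynomial.monic_X_pow_sub (R := B) (n := 2) (p := X) (by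
      rw [Polynomial.degree_X]
      norm_num)
  have heval : (X ^ 2 - X : B[X]).eval e₁ ∈ J := by
    have : (X ^ 2 - X : B[X]).eval e₁ = -(e₁ * (1 - e₁)) := by
      simp
      ring
    rw [this]
    exact J.neg_mem h
  have hder : IsUnit (Ideal.Quotient.mk J ((X ^ 2 - X : B[X]).derivative.eval e₁)) := by
    have hd : (X ^ 2 - X : B[X]).derivative.eval e₁ = 2 * e₁ - 1 := by
      simp only [derivative_sub, derivative_X_pow, derivative_X, eval_sub, eval_mul, eval_pow,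
        eval_X, eval_one, eval_C]
      norm_num
    rw [hd]
    refine IsUnit.of_mul_eq_one (Ideal.Quotient.mk J (2 * e₁ - 1)) ?_
    rw [← map_mul, ← map_one (Ideal.Quotient.mk J), Ideal.Quotient.eq]
    have : (2 * e₁ - 1) * (2 * e₁ - 1) - 1 = -4 * (e₁ * (1 - e₁)) := by ring
    rw [this]
    exact J.mul_mem_left _ h
  obtain ⟨e, he, hee⟩ := HenselianRing.is_henselian (I := J) _ hmonic e₁ heval hder
  refine ⟨e, ?_, hee⟩
  have : (X ^ 2 - X : B[X]).eval e = 0 := he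
  simp at this
  linear_combination this

theorem unique_prime (hJ0 : J ≠ ⊥) (h : ∀ P : Ideal B, P.IsPrime → P ≠ ⊥ → J ≤ P)
    (M₁ M₂ : Ideal B) (h₁ : M₁.IsPrime) (h₁0 : M₁ ≠ ⊥) (h₂ : M₂.IsPrime) (h₂0 : M₂ ≠ ⊥) :
    M₁ = M₂ := by
  classical
  obtain ⟨f, hfJ, hf⟩ := Submodule.exists_mem_ne_zero_of_ne_bot hJ0
  have hf' : ∀ P : Ideal B, P.IsPrime → P ≠ ⊥ → f ∈ P := fun P hP hP0 => h P hP hP0 hfJ
  have hfin := finite_primes_of_forall_mem hf hf'
  have hmax : ∀ P : Ideal B, P.IsPrime → P ≠ ⊥ → P.IsMaximal :=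
    fun P hP hP0 => isMaximal_of_forall_mem hf hf' P hP hP0
  by_contra hne
  set S : Finset (Ideal B) := hfin.toFinset with hS
  have hSmem : ∀ P : Ideal B, P ∈ S ↔ P.IsPrime ∧ P ≠ ⊥ := fun P => by simp [hS]
  set N' : Ideal B := (S.erase M₁).inf id with hN'
  have hN'M₁ : ¬ N' ≤ M₁ := by
    rw [hN', Ideal.IsPrime.inf_le' h₁]
    rintro ⟨P, hP, hPM⟩
    rw [Finset.mem_erase, hSmem] at hP
    have hPmax := hmax P hP.2.1 hP.2.2
    exact hP.1 (hPmax.eq_of_le h₁.ne_top hPM)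
  have h₁max := hmax M₁ h₁ h₁0
  have hsup : M₁ ⊔ N' = ⊤ := by
    refine h₁max.1.2 _ (lt_of_le_of_ne le_sup_left (fun heq => hN'M₁ ?_))
    rw [heq]
    exact le_sup_right
  have h1mem : (1 : B) ∈ M₁ ⊔ N' := by
    rw [hsup]
    exact Submodule.mem_top
  obtain ⟨e₀, he₀, n', hn', hsum⟩ := Submodule.mem_sup.mp h1mem
  have hN'le : ∀ P : Ideal B, P.IsPrime → P ≠ ⊥ → P ≠ M₁ → N' ≤ P := by
    intro P hP hP0 hPne
    have : P ∈ S.erase M₁ := Finset.mem_erase.mpr ⟨hPne, (hSmem P).mpr ⟨hP, hP0⟩⟩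
    exact Finset.inf_le (f := id) this
  have hrad : e₀ * n' ∈ J.radical := by
    rw [Ideal.radical_eq_sInf, Ideal.mem_sInf]
    rintro P ⟨hJP, hP⟩
    have hP0 : P ≠ ⊥ := fun h0 => hJ0 (le_bot_iff.mp (h0 ▸ hJP))
    by_cases hPM : P = M₁
    · rw [hPM]
      exact M₁.mul_mem_right _ he₀
    · exact P.mul_mem_left _ (hN'le P hP hP0 hPM hn')
  obtain ⟨n, hn⟩ := hrad
  have hn1 : (e₀ * n') ^ (n + 1) ∈ J := by
    rw [pow_succ]
    exact J.mul_mem_right _ hn
  have hcop : IsCoprime (e₀ ^ (n + 1)) (n' ^ (n + 1)) :=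
    IsCoprime.pow ⟨1, 1, by rw [one_mul, one_mul, hsum]⟩
  obtain ⟨a, b, hab⟩ := hcop
  have h1e : 1 - a * e₀ ^ (n + 1) = b * n' ^ (n + 1) := by
    rw [← hab]
    ring
  have hmul : a * e₀ ^ (n + 1) * (1 - a * e₀ ^ (n + 1)) ∈ J := by
    rw [h1e]
    have : a * e₀ ^ (n + 1) * (b * n' ^ (n + 1)) = a * b * (e₀ * n') ^ (n + 1) := by ring
    rw [this]
    exact J.mul_mem_left _ hn1
  obtain ⟨e, hee, heJ⟩ := exists_idempotent_of_mul_mem J hmul
  have he₁M₁ : a * e₀ ^ (n + 1) ∈ M₁ :=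
    M₁.mul_mem_left _ (M₁.pow_mem_of_mem he₀ (n + 1) (Nat.succ_pos n))
  have h1e₁N' : 1 - a * e₀ ^ (n + 1) ∈ N' := by
    rw [h1e]
    exact N'.mul_mem_left _ (N'.pow_mem_of_mem hn' (n + 1) (Nat.succ_pos n))
  have he01 : e = 0 ∨ e = 1 := by
    have : e * (e - 1) = 0 := by rw [mul_sub, hee, mul_one, sub_self]
    rcases mul_eq_zero.mp this with h0 | h0
    · exact Or.inl h0
    · exact Or.inr (sub_eq_zero.mp h0)
  rcases he01 with he | he
  · rw [he, zero_sub] at heJ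
    have h1 : a * e₀ ^ (n + 1) ∈ M₂ := h M₂ h₂ h₂0 (by simpa using J.neg_mem heJ)
    have h2 : 1 - a * e₀ ^ (n + 1) ∈ M₂ := hN'le M₂ h₂ h₂0 (fun h => hne h.symm) h1e₁N'
    have : (1 : B) ∈ M₂ := by
      have := M₂.add_mem h1 h2
      rwa [add_sub_cancel] at this
    exact h₂.ne_top ((Ideal.eq_top_iff_one _).mpr this)
  · rw [he] at heJ
    have h2 : 1 - a * e₀ ^ (n + 1) ∈ M₁ := h M₁ h₁ h₁0 heJ
    have : (1 : B) ∈ M₁ := by
      have := M₁.add_mem he₁M₁ h2
      rwa [add_sub_cancel] at this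
    exact h₁.ne_top ((Ideal.eq_top_iff_one _).mpr this)



theorem dom_main (hJ0 : J ≠ ⊥) (h : ∀ P : Ideal B, P.IsPrime → P ≠ ⊥ → J ≤ P) :
    ringKrullDim B = 1 ∧ (∀ m : Ideal B, m.IsMaximal → m = J.radical) ∧
      IsAdicComplete J.radical B := by
  obtain ⟨f, hfJ, hf⟩ := Submodule.exists_mem_ne_zero_of_ne_bot hJ0
  have hf' : ∀ P : Ideal B, P.IsPrime → P ≠ ⊥ → f ∈ P := fun P hP hP0 => h P hP hP0 hfJ
  obtain ⟨M, hM⟩ := Ideal.exists_maximal B
  have hJjac : J ≤ Ideal.jacobson ⊥ := IsAdicComplete.le_jacobson_bot J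
  have hJM : ∀ m : Ideal B, m.IsMaximal → J ≤ m := fun m hm =>
    hJjac.trans (sInf_le ⟨bot_le, hm⟩)
  have hm0 : ∀ m : Ideal B, m.IsMaximal → m ≠ ⊥ := fun m hm h0 =>
    hJ0 (le_bot_iff.mp (h0 ▸ hJM m hm))
  refine ⟨?_, ?_, ?_⟩
  · have h1 : Ring.KrullDimLE 1 B :=
      Ring.KrullDimLE.mk₁' (fun P hP0 hP => isMaximal_of_forall_mem hf hf' P hP hP0)
    have h2 : ¬ ringKrullDim B ≤ 0 := fun hle => by
      have h0 : Ring.KrullDimLE 0 B := Ring.krullDimLE_iff.mpr hle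
      have hbot : (⊥ : Ideal B).IsMaximal := Ideal.isMaximal_of_isPrime ⊥
      exact hm0 M hM (hbot.eq_of_le hM.ne_top bot_le).symm
    rw [Ring.krullDimLE_iff] at h1
    exact le_antisymm h1 (Order.succ_le_of_lt (lt_of_not_ge h2))
  · intro m hm
    refine le_antisymm ?_ ((hm.isPrime.radical_le_iff).mpr (hJM m hm))
    rw [Ideal.radical_eq_sInf]
    refine le_sInf ?_
    rintro P ⟨hJP, hP⟩
    have hP0 : P ≠ ⊥ := fun h0 => hJ0 (le_bot_iff.mp (h0 ▸ hJP))
    exact (unique_prime J hJ0 h m P hm.isPrime (hm0 m hm) hP hP0).le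
  · obtain ⟨N, hN⟩ := Ideal.exists_radical_pow_le_of_fg J (IsNoetherian.noetherian J.radical)
    exact isAdicComplete_of_le_of_pow_le J J.radical Ideal.le_radical N hN

end Local

section Statement

theorem tfae_rig_closed_point (A : Type u) [CommRing A] [IsNoetherianRing A] (I : Ideal A)
    [IsAdicComplete I A] (q : PrimeSpectrum A) :
    List.TFAE [¬ I ≤ q.asIdeal ∧ ∀ q' : PrimeSpectrum A, q ≤ q' → ¬ I ≤ q'.asIdeal → q' = q,
      ringKrullDim (A ⧸ q.asIdeal) = 1 ∧ ¬ I ≤ q.asIdeal,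
      ringKrullDim (A ⧸ q.asIdeal) = 1 ∧
        (∀ m : Ideal (A ⧸ q.asIdeal), m.IsMaximal →
          m = (I.map (Ideal.Quotient.mk q.asIdeal)).radical) ∧
        IsAdicComplete (I.map (Ideal.Quotient.mk q.asIdeal)).radical (A ⧸ q.asIdeal)] := by
  have hqp : q.asIdeal.IsPrime := q.isPrime
  have hsurj : Function.Surjective (Ideal.Quotient.mk q.asIdeal) := Ideal.Quotient.mk_surjective
  have hcompl : IsAdicComplete (I.map (Ideal.Quotient.mk q.asIdeal)) (A ⧸ q.asIdeal) := by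
    have h1 : IsAdicComplete I (A ⧸ q.asIdeal) := Groth.Agent.S3866.result A I (A ⧸ q.asIdeal)
    exact (IsAdicComplete.map_algebraMap_iff (R := A) (S := A ⧸ q.asIdeal) I
      (A ⧸ q.asIdeal)).mpr h1
  have hJ0 : I.map (Ideal.Quotient.mk q.asIdeal) ≠ ⊥ ↔ ¬ I ≤ q.asIdeal := by
    rw [Ne, Ideal.map_eq_bot_iff_le_ker, Ideal.mk_ker]
  have hcm : ∀ q' : Ideal A, q.asIdeal ≤ q' →
      Ideal.comap (Ideal.Quotient.mk q.asIdeal) (Ideal.map (Ideal.Quotient.mk q.asIdeal) q') =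
        q' := by
    intro q' hle
    rw [Ideal.comap_map_of_surjective _ hsurj, ← RingHom.ker_eq_comap_bot, Ideal.mk_ker,
      sup_eq_left.mpr hle]
  tfae_have 1 → 3 := by
    rintro ⟨hI, hmax⟩
    refine dom_main (I.map (Ideal.Quotient.mk q.asIdeal)) (hJ0.mpr hI) ?_
    intro P hP hP0
    by_contra hJP
    have hq' : q.asIdeal ≤ Ideal.comap (Ideal.Quotient.mk q.asIdeal) P := by
      intro x hx
      rw [Ideal.mem_comap, Ideal.Quotient.eq_zero_iff_mem.mpr hx]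
      exact P.zero_mem
    have hnot : ¬ I ≤ Ideal.comap (Ideal.Quotient.mk q.asIdeal) P :=
      fun hle => hJP (Ideal.map_le_iff_le_comap.mpr hle)
    have heq := hmax ⟨Ideal.comap (Ideal.Quotient.mk q.asIdeal) P, inferInstance⟩ hq' hnot
    have heq' : Ideal.comap (Ideal.Quotient.mk q.asIdeal) P = q.asIdeal :=
      congrArg PrimeSpectrum.asIdeal heq
    apply hP0
    rw [← Ideal.map_comap_of_surjective _ hsurj P, heq', Ideal.map_quotient_self]
  tfae_have 3 → 2 := by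
    rintro ⟨hdim, hmax, -⟩
    refine ⟨hdim, fun hle => ?_⟩
    have hJbot : I.map (Ideal.Quotient.mk q.asIdeal) = ⊥ := by
      by_contra hne
      exact (hJ0.mp hne) hle
    obtain ⟨M, hM⟩ := Ideal.exists_maximal (A ⧸ q.asIdeal)
    have hMbot : M = ⊥ := by
      rw [hmax M hM, hJbot]
      exact Ideal.radical_bot_of_isReduced
    have h0 : Ring.KrullDimLE 0 (A ⧸ q.asIdeal) := by
      refine Ring.KrullDimLE.mk₀ (fun P hP => ?_)
      have : M = P := hM.eq_of_le hP.ne_top (hMbot ▸ bot_le)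
      rwa [← this]
    have := Ring.krullDimLE_iff.mp h0
    rw [hdim] at this
    exact absurd this (by norm_num)
  tfae_have 2 → 1 := by
    rintro ⟨hdim, hI⟩
    refine ⟨hI, fun q' hqq' hIq' => ?_⟩
    have h1 : Ring.KrullDimLE 1 (A ⧸ q.asIdeal) := Ring.krullDimLE_iff.mpr (le_of_eq hdim)
    have hq'p : q'.asIdeal.IsPrime := q'.isPrime
    have hle : q.asIdeal ≤ q'.asIdeal := hqq'
    have hker : RingHom.ker (Ideal.Quotient.mk q.asIdeal) ≤ q'.asIdeal := by
      rw [Ideal.mk_ker]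
      exact hle
    have hPp : (Ideal.map (Ideal.Quotient.mk q.asIdeal) q'.asIdeal).IsPrime :=
      Ideal.map_isPrime_of_surjective hsurj hker
    by_cases hP0 : Ideal.map (Ideal.Quotient.mk q.asIdeal) q'.asIdeal = ⊥
    · have : q'.asIdeal ≤ q.asIdeal := by
        rw [Ideal.map_eq_bot_iff_le_ker, Ideal.mk_ker] at hP0
        exact hP0
      exact PrimeSpectrum.ext (le_antisymm this hle)
    · exfalso
      have hPmax := hPp.isMaximal_of_ne_bot hP0
      have hJle : I.map (Ideal.Quotient.mk q.asIdeal) ≤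
          Ideal.map (Ideal.Quotient.mk q.asIdeal) q'.asIdeal :=
        (IsAdicComplete.le_jacobson_bot _).trans (sInf_le ⟨bot_le, hPmax⟩)
      apply hIq'
      have := Ideal.map_le_iff_le_comap.mp hJle
      rwa [hcm q'.asIdeal hle] at this
  tfae_finish

end Statement

end Groth.Agent.Lib.Helper63.RigClosed
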