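import Mathlib
import Groth.Agent.Lib.Helper63.RigClosed

set_option autoImplicit false
universe u

namespace Groth.Agent.Lib.Helper63.JacobsonLC

open TopologicalSpace

theorem exists_notMem_forall_mem_of_isLocallyClosed {A : Type*} [CommRing A]
    (p : PrimeSpectrum A) (hp : IsLocallyClosed ({p} : Set (PrimeSpectrum A))) :
    ∃ f : A, f ∉ p.asIdeal ∧ ∀ P : PrimeSpectrum A, p < P → f ∈ P.asIdeal := by
  obtain ⟨U, Z, hU, hZ, hUZ⟩ := hp
  have hpU : p ∈ U := (hUZ.subset rfl).1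
  have hpZ : p ∈ Z := (hUZ.subset rfl).2
  obtain ⟨_, ⟨f, rfl⟩, hpf, hfU⟩ :=
    PrimeSpectrum.isTopologicalBasis_basic_opens.exists_subset_of_mem_open hpU hU
  refine ⟨f, hpf, ?_⟩
  intro P hP
  by_contra hfP
  have hPU : P ∈ U := hfU hfP
  have hPZ : P ∈ Z := by
    have hsp : p ⤳ P := (PrimeSpectrum.le_iff_specializes p P).mp hP.le
    exact hsp.mem_closed hZ hpZ
  have : P ∈ ({p} : Set (PrimeSpectrum A)) := hUZ ▸ ⟨hPU, hPZ⟩
  exact hP.ne' this

theorem exists_ne_zero_forall_mem_quotient {A : Type*} [CommRing A]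
    (p : PrimeSpectrum A) (hp : IsLocallyClosed ({p} : Set (PrimeSpectrum A))) :
    ∃ g : A ⧸ p.asIdeal, g ≠ 0 ∧
      ∀ Q : Ideal (A ⧸ p.asIdeal), Q.IsPrime → Q ≠ ⊥ → g ∈ Q := by
  obtain ⟨f, hfp, key⟩ := exists_notMem_forall_mem_of_isLocallyClosed p hp
  have := p.isPrime
  let π : A →+* A ⧸ p.asIdeal := Ideal.Quotient.mk p.asIdeal
  have hπ : Function.Surjective π := Ideal.Quotient.mk_surjective
  refine ⟨π f, fun h => hfp (Ideal.Quotient.eq_zero_iff_mem.mp h), ?_⟩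
  intro Q hQ hQ0
  have hlt : p < ⟨Q.comap π, inferInstance⟩ := by
    refine lt_of_le_of_ne ?_ ?_
    · intro a ha
      show π a ∈ Q
      rw [Ideal.Quotient.eq_zero_iff_mem.mpr ha]
      exact Q.zero_mem
    · intro heq
      apply hQ0
      rw [eq_bot_iff]
      intro d hd
      obtain ⟨a, rfl⟩ := hπ d
      have : a ∈ p.asIdeal := by
        rw [heq]
        exact hd
      rw [Ideal.Quotient.eq_zero_iff_mem.mpr this]
      exact Ideal.zero_mem _
  exact key _ hlt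

theorem semilocal_dim_one {D : Type u} [CommRing D] [IsDomain D] [IsNoetherianRing D] (g : D)
    (hg : g ≠ 0) (h : ∀ Q : Ideal D, Q.IsPrime → Q ≠ ⊥ → g ∈ Q) (hD : ¬ IsField D) :
    Finite (MaximalSpectrum D) ∧ ringKrullDim D = 1 := by
  have hfin := RigClosed.finite_primes_of_forall_mem hg h
  have hm0 : ∀ m : Ideal D, m.IsMaximal → m ≠ ⊥ := by
    intro m hm h0
    apply hD
    rw [Ring.isField_iff_maximal_bot]
    exact h0 ▸ hm
  refine ⟨?_, ?_⟩
  · have : Finite ↥{P : Ideal D | P.IsPrime ∧ P ≠ ⊥} := hfin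
    refine Finite.of_injective
      (fun m : MaximalSpectrum D => (⟨m.asIdeal, m.isMaximal.isPrime, hm0 _ m.isMaximal⟩ :
        ↥{P : Ideal D | P.IsPrime ∧ P ≠ ⊥})) ?_
    intro m₁ m₂ h12
    have : m₁.asIdeal = m₂.asIdeal := congrArg Subtype.val h12
    exact MaximalSpectrum.ext this
  · have h1 : Ring.KrullDimLE 1 D :=
      Ring.KrullDimLE.mk₁' (fun P hP0 hP => RigClosed.isMaximal_of_forall_mem hg h P hP hP0)
    have h2 : ¬ ringKrullDim D ≤ 0 := fun hle => by
      have h0 : Ring.KrullDimLE 0 D := Ring.krullDimLE_iff.mpr hle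
      have hbot : (⊥ : Ideal D).IsMaximal := Ideal.isMaximal_of_isPrime ⊥
      exact hm0 ⊥ hbot rfl
    rw [Ring.krullDimLE_iff] at h1
    exact le_antisymm h1 (Order.succ_le_of_lt (lt_of_not_ge h2))

theorem jacobsonSpace_of_forall_isClosed_singleton {X : Type*} [TopologicalSpace X] [T0Space X]
    (hN : ∀ x : X, ∃ U : Set X, IsOpen U ∧ x ∈ U ∧ NoetherianSpace U)
    (h : ∀ x : X, IsLocallyClosed ({x} : Set X) → IsClosed ({x} : Set X)) :
    JacobsonSpace X := by
  rw [jacobsonSpace_iff_locallyClosed]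
  rintro Z ⟨z₀, hz₀⟩ hZ
  obtain ⟨V, hVo, hzV, hNS⟩ := hN z₀
  let Z₁ : Set X := Z ∩ V
  have hZ₁lc : IsLocallyClosed Z₁ := hZ.inter hVo.isLocallyClosed
  have hZ₁c : IsCompact Z₁ := by
    have hsub : Z₁ ⊆ V := Set.inter_subset_right
    have h1 : Z₁ = (Subtype.val : ↥V → X) '' ((Subtype.val : ↥V → X) ⁻¹' Z₁) := by
      rw [Subtype.image_preimage_coe]
      exact (Set.inter_eq_right.mpr hsub).symm
    rw [h1]
    exact (NoetherianSpace.isCompact _).image continuous_subtype_val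
  have : CompactSpace Z₁ := isCompact_iff_compactSpace.mp hZ₁c
  obtain ⟨x, -, hx⟩ := IsClosed.exists_closed_singleton (X := ↥Z₁) isClosed_univ
    ⟨⟨z₀, hz₀, hzV⟩, trivial⟩
  have hlc : IsLocallyClosed ({(x : X)} : Set X) := by
    have := hx.isLocallyClosed.image Topology.IsEmbedding.subtypeVal.isInducing
      (by rw [Subtype.range_coe]; exact hZ₁lc)
    rwa [Set.image_singleton] at this
  exact ⟨x, x.2.1, h x hlc⟩

end Groth.Agent.Lib.Helper63.JacobsonLC
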