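import Mathlib
import Groth.Prelude.Def_FlatCA

set_option autoImplicit false
universe u

namespace Groth.Agent.Lib.Helper63.LocalColim

variable (R R' : Type u) [CommRing R] [CommRing R'] [IsLocalRing R'] [Algebra R R']

abbrev Idx := {A : Subalgebra R R' // A.FG}

variable {R R'}

def P (A : Idx R R') : Ideal ↥A.1 := (IsLocalRing.maximalIdeal R').comap (algebraMap ↥A.1 R')

instance (A : Idx R R') : (P A).IsPrime := by
  unfold P
  infer_instance

def Gr (A : Idx R R') : Type u := Localization.AtPrime (P A)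

noncomputable instance instCommRingGr (A : Idx R R') : CommRing (Gr A) :=
  inferInstanceAs (CommRing (Localization.AtPrime (P A)))

noncomputable instance instAlgebraSubGr (A : Idx R R') : Algebra ↥A.1 (Gr A) :=
  inferInstanceAs (Algebra ↥A.1 (Localization.AtPrime (P A)))

instance instIsLocalizationGr (A : Idx R R') : IsLocalization.AtPrime (Gr A) (P A) :=
  inferInstanceAs (IsLocalization.AtPrime (Localization.AtPrime (P A)) (P A))

noncomputable instance instAlgebraGr (A : Idx R R') : Algebra R (Gr A) :=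
  inferInstanceAs (Algebra R (Localization.AtPrime (P A)))

instance instIsScalarTowerGr (A : Idx R R') : IsScalarTower R ↥A.1 (Gr A) :=
  inferInstanceAs (IsScalarTower R ↥A.1 (Localization.AtPrime (P A)))

instance instIsLocalRingGr (A : Idx R R') : IsLocalRing (Gr A) :=
  inferInstanceAs (IsLocalRing (Localization.AtPrime (P A)))

theorem isUnit_of_notMem (A : Idx R R') (y : (P A).primeCompl) :
    IsUnit ((algebraMap ↥A.1 R') y) := by
  have := y.2
  by_contra h
  exact this ((IsLocalRing.mem_maximalIdeal _).2 h)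

noncomputable instance algGrR' (A : Idx R R') : Algebra (Gr A) R' :=
  (IsLocalization.lift (M := (P A).primeCompl) (g := algebraMap ↥A.1 R') (isUnit_of_notMem A)).toAlgebra

theorem algebraMap_Gr_R' (A : Idx R R') (a : ↥A.1) :
    algebraMap (Gr A) R' (algebraMap ↥A.1 (Gr A) a) = algebraMap ↥A.1 R' a :=
  IsLocalization.lift_eq _ _

instance (A : Idx R R') : IsScalarTower R (Gr A) R' := IsScalarTower.of_algebraMap_eq fun r => by
  rw [IsScalarTower.algebraMap_apply R ↥A.1 (Gr A), algebraMap_Gr_R']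
  rfl

theorem P_eq_comap {A B : Idx R R'} (h : A ≤ B) :
    P A = (P B).comap (Subalgebra.inclusion h).toRingHom := by
  ext x
  rfl

noncomputable def tr (A B : Idx R R') (h : A ≤ B) : Gr A →+* Gr B :=
  Localization.localRingHom (P A) (P B) (Subalgebra.inclusion h).toRingHom (P_eq_comap h)

theorem tr_algebraMap {A B : Idx R R'} (h : A ≤ B) (a : ↥A.1) :
    tr A B h (algebraMap ↥A.1 (Gr A) a) = algebraMap ↥B.1 (Gr B) (Subalgebra.inclusion h a) :=
  Localization.localRingHom_to_map _ _ _ _ _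

theorem tr_comp_algebraMap {A B : Idx R R'} (h : A ≤ B) :
    (tr A B h).comp (algebraMap R (Gr A)) = algebraMap R (Gr B) := by
  ext r
  rw [RingHom.comp_apply, IsScalarTower.algebraMap_apply R ↥A.1 (Gr A), tr_algebraMap,
    IsScalarTower.algebraMap_apply R ↥B.1 (Gr B)]
  rfl

theorem isDirectedColimitRing : FlatCA.IsDirectedColimitRing (Gr (R := R) (R' := R')) tr R' := by
  refine ⟨⟨fun A B => ⟨⟨A.1 ⊔ B.1, A.2.sup B.2⟩,
      (le_sup_left : A.1 ≤ A.1 ⊔ B.1), (le_sup_right : B.1 ≤ A.1 ⊔ B.1)⟩⟩,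
    ⟨⟨⊥, Subalgebra.fg_bot⟩⟩, fun A => ?_, fun A B C hAB hBC => ?_, fun A B h => ?_, fun a => ?_,
    fun A x hx => ?_⟩
  · apply IsLocalization.ringHom_ext (P A).primeCompl
    ext a
    rw [RingHom.comp_apply, tr_algebraMap]
    rfl
  · apply IsLocalization.ringHom_ext (P A).primeCompl
    ext a
    rw [RingHom.comp_apply, RingHom.comp_apply, tr_algebraMap, tr_algebraMap, RingHom.comp_apply,
      tr_algebraMap]
    rfl
  · apply IsLocalization.ringHom_ext (P A).primeCompl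
    ext a
    rw [RingHom.comp_apply, RingHom.comp_apply, tr_algebraMap, algebraMap_Gr_R', RingHom.comp_apply,
      algebraMap_Gr_R']
    rfl
  · have hfg : (Algebra.adjoin R ({a} : Set R')).FG := ⟨{a}, by rw [Finset.coe_singleton]⟩
    obtain ⟨A₀, hA₀⟩ : ∃ A₀ : Idx R R', A₀.1 = Algebra.adjoin R {a} := ⟨⟨_, hfg⟩, rfl⟩
    have haA : a ∈ A₀.1 := by
      rw [hA₀]
      exact Algebra.subset_adjoin (Set.mem_singleton a)
    obtain ⟨a₀, ha₀⟩ : ∃ a₀ : ↥A₀.1, (a₀ : R') = a := ⟨⟨a, haA⟩, rfl⟩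
    refine ⟨A₀, algebraMap ↥A₀.1 (Gr A₀) a₀, ?_⟩
    rw [algebraMap_Gr_R']
    exact ha₀
  · refine ⟨A, le_rfl, ?_⟩
    obtain ⟨a, s, rfl⟩ := IsLocalization.exists_mk'_eq (P A).primeCompl x
    have h1 : algebraMap (Gr A) R' (IsLocalization.mk' (Gr A) a s) * (algebraMap ↥A.1 R' s) =
        algebraMap ↥A.1 R' a := by
      rw [← algebraMap_Gr_R' A s, ← map_mul, IsLocalization.mk'_spec, algebraMap_Gr_R']
    rw [hx, zero_mul] at h1
    have ha : a = 0 := Subtype.ext h1.symm
    rw [ha, IsLocalization.mk'_zero, map_zero]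

theorem isNoetherianRing_Gr [IsNoetherianRing R] (A : Idx R R') : IsNoetherianRing (Gr A) := by
  have : Algebra.FiniteType R ↥A.1 := (Subalgebra.fg_iff_finiteType A.1).1 A.2
  have : IsNoetherianRing ↥A.1 := Algebra.FiniteType.isNoetherianRing R ↥A.1
  exact IsLocalization.isNoetherianRing (P A).primeCompl (Gr A) inferInstance

theorem isLocalHom_Gr [IsLocalRing R] [IsLocalHom (algebraMap R R')] (A : Idx R R') :
    IsLocalHom (algebraMap R (Gr A)) := by
  constructor
  intro r hr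
  have h1 : IsUnit (algebraMap (Gr A) R' (algebraMap R (Gr A) r)) := hr.map _
  rw [← IsScalarTower.algebraMap_apply R (Gr A) R'] at h1
  exact isUnit_of_map_unit (algebraMap R R') r h1

theorem map_maximalIdeal_tr_le {A B : Idx R R'} (h : A ≤ B) :
    (IsLocalRing.maximalIdeal (Gr A)).map (tr A B h) ≤ IsLocalRing.maximalIdeal (Gr B) := by
  have : IsLocalHom (tr A B h) := Localization.isLocalHom_localRingHom _ _ _ _
  exact ((IsLocalRing.local_hom_TFAE (tr A B h)).out 0 2).mp this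

theorem maximalIdeal_le_iSup :
    IsLocalRing.maximalIdeal R' ≤
      ⨆ A : Idx R R', (IsLocalRing.maximalIdeal (Gr A)).map (algebraMap (Gr A) R') := by
  intro x hx
  have hfg : (Algebra.adjoin R ({x} : Set R')).FG := ⟨{x}, by rw [Finset.coe_singleton]⟩
  obtain ⟨A₀, hA₀⟩ : ∃ A₀ : Idx R R', A₀.1 = Algebra.adjoin R {x} := ⟨⟨_, hfg⟩, rfl⟩
  have hxA : x ∈ A₀.1 := by
    rw [hA₀]
    exact Algebra.subset_adjoin (Set.mem_singleton x)
  obtain ⟨x₀, hx₀'⟩ : ∃ x₀ : ↥A₀.1, (x₀ : R') = x := ⟨⟨x, hxA⟩, rfl⟩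
  have hx₀ : x₀ ∈ P A₀ := by
    show algebraMap ↥A₀.1 R' x₀ ∈ IsLocalRing.maximalIdeal R'
    rw [← hx₀'] at hx
    exact hx
  have h1 : algebraMap ↥A₀.1 (Gr A₀) x₀ ∈ IsLocalRing.maximalIdeal (Gr A₀) :=
    (IsLocalization.AtPrime.to_map_mem_maximal_iff (Gr A₀) (P A₀) x₀).2 hx₀
  have h2 : algebraMap (Gr A₀) R' (algebraMap ↥A₀.1 (Gr A₀) x₀) = x :=
    (algebraMap_Gr_R' A₀ x₀).trans hx₀'
  rw [← h2]
  exact Ideal.mem_iSup_of_mem A₀ (Ideal.mem_map_of_mem _ h1)

end Groth.Agent.Lib.Helper63.LocalColim
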