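import Mathlib
import Groth.Prelude.Def_FlatCA

set_option autoImplicit false
set_option linter.unusedSectionVars false
universe u
open TensorProduct

namespace Groth.Agent.Lib.Helper63.OneStep

attribute [local instance] Algebra.TensorProduct.rightAlgebra


theorem krullDim_lt_of_forall_le {α : Type*} [PartialOrder α] (η : α) (hη : ∀ x, η ≤ x)
    (s : Set α) (hs : η ∉ s) (n : ℕ) (hn : Order.krullDim α ≤ n) : Order.krullDim s < n := by
  have hsm : StrictMono (Subtype.val : s → α) := fun _ _ h => h
  have key : ∀ q : LTSeries s, q.length + 1 ≤ n := by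
    intro q
    have hlt : η < (q.head : α) := lt_of_le_of_ne (hη _) (fun h => hs (h ▸ q.head.2))
    have hlt' : η < (q.map Subtype.val hsm).head := by
      rw [LTSeries.head_map]; exact hlt
    let q' : LTSeries α := (q.map Subtype.val hsm).cons η hlt'
    have h1 : (q'.length : WithBot ℕ∞) ≤ Order.krullDim α := Order.LTSeries.length_le_krullDim q'
    have h2 : ((q'.length : ℕ) : WithBot ℕ∞) ≤ (n : WithBot ℕ∞) := h1.trans hn
    have h3 : q'.length ≤ n := by exact_mod_cast h2
    have h4 : q'.length = q.length + 1 := by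
      simp [q']
    omega
  rcases n with _ | m
  · have : IsEmpty s := ⟨fun x => by have := key (RelSeries.singleton _ x); simp at this⟩
    rw [Order.krullDim_eq_bot]; exact WithBot.bot_lt_coe _
  · have : Order.krullDim s ≤ (m : WithBot ℕ∞) := by
      unfold Order.krullDim
      refine iSup_le fun q => ?_
      have := key q
      exact_mod_cast (by omega : q.length ≤ m)
    exact lt_of_le_of_lt this (by exact_mod_cast Nat.lt_succ_self m)



theorem nontrivial_tensor_of_mem_support {A L M : Type*} [CommRing A] [Field L] [Algebra A L]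
    [AddCommGroup M] [Module A M] [Module.Finite A M] (p : PrimeSpectrum A)
    (hp : p.asIdeal = RingHom.ker (algebraMap A L)) (h : p ∈ Module.support A M) :
    Nontrivial (L ⊗[A] M) := by
  rw [Module.mem_support_iff_nontrivial_residueField_tensorProduct] at h
  let K := p.asIdeal.ResidueField
  have hf₁ : p.asIdeal ≤ RingHom.ker (algebraMap A L) := hp.le
  have hf₂ : p.asIdeal.primeCompl ≤ (IsUnit.submonoid L).comap (algebraMap A L) := by
    intro x hx
    change IsUnit (algebraMap A L x)
    rw [isUnit_iff_ne_zero]
    intro h0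
    exact hx (hp ▸ (RingHom.mem_ker.2 h0))
  let _ : Algebra K L := (Ideal.ResidueField.lift p.asIdeal (algebraMap A L) hf₁ hf₂).toAlgebra
  have : IsScalarTower A K L := IsScalarTower.of_algebraMap_eq' (by
    ext r
    exact (Ideal.ResidueField.lift_algebraMap p.asIdeal (algebraMap A L) hf₁ hf₂ r).symm)
  let e2 := AlgebraTensorModule.cancelBaseChange A K L L M
  have : Nontrivial (L ⊗[K] (K ⊗[A] M)) := inferInstance
  exact e2.toEquiv.nontrivial_congr.1 this

theorem mem_support_baseChange {A A' M : Type*} [CommRing A] [CommRing A'] [Algebra A A']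
    [AddCommGroup M] [Module A M] [Module.Finite A M] (p' : PrimeSpectrum A')
    (h : PrimeSpectrum.comap (algebraMap A A') p' ∈ Module.support A M) :
    p' ∈ Module.support A' (A' ⊗[A] M) := by
  rw [Module.mem_support_iff_nontrivial_residueField_tensorProduct]
  let K' := p'.asIdeal.ResidueField
  let e1 := AlgebraTensorModule.cancelBaseChange A A' K' K' M
  have : Nontrivial (K' ⊗[A] M) := by
    refine nontrivial_tensor_of_mem_support _ ?_ h
    ext x
    rw [PrimeSpectrum.comap_asIdeal, Ideal.mem_comap, RingHom.mem_ker,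
      IsScalarTower.algebraMap_apply A A' K', Ideal.algebraMap_residueField_eq_zero]
  exact e1.toEquiv.nontrivial_congr.2 this

theorem comap_mem_support_of_mem {A A' M : Type*} [CommRing A] [CommRing A'] [Algebra A A']
    [AddCommGroup M] [Module A M] [Module.Finite A M] (p' : PrimeSpectrum A')
    (h : p' ∈ Module.support A' (A' ⊗[A] M)) :
    PrimeSpectrum.comap (algebraMap A A') p' ∈ Module.support A M := by
  rw [Module.mem_support_iff_of_finite]
  have h1 := Module.annihilator_le_of_mem_support h
  intro a ha
  rw [PrimeSpectrum.comap_asIdeal, Ideal.mem_comap]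
  apply h1
  rw [Module.mem_annihilator]
  intro z
  induction z using TensorProduct.induction_on with
  | zero => simp
  | tmul x y =>
    rw [TensorProduct.smul_tmul', smul_eq_mul, ← Algebra.smul_def,
      TensorProduct.smul_tmul, Module.mem_annihilator.1 ha, tmul_zero]
  | add x y hx hy => rw [smul_add, hx, hy, add_zero]

section Fib

variable {R : Type u} [CommRing R] (p : Ideal R) [p.IsPrime]

/-- primes over `p` in the support -/
def T (S : Type u) [CommRing S] [Algebra R S] (N : Type u) [AddCommGroup N] [Module S N] :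
    Set (PrimeSpectrum S) :=
  {q | q ∈ Module.support S N ∧ q.asIdeal.comap (algebraMap R S) = p}

variable (S : Type u) [CommRing S] [Algebra R S] (N : Type u) [AddCommGroup N] [Module S N]
  [Module.Finite S N]

theorem comap_comap_fiber (x : PrimeSpectrum (p.Fiber S)) :
    (PrimeSpectrum.comap (algebraMap S (p.Fiber S)) x).asIdeal.comap (algebraMap R S) = p := by
  have := ((PrimeSpectrum.preimageOrderIsoFiber R S ⟨p, inferInstance⟩).symm x).2
  exact congrArg PrimeSpectrum.asIdeal this

theorem mem_support_fiberMod_iff (x : PrimeSpectrum (p.Fiber S)) :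
    x ∈ Module.support (p.Fiber S) (FlatCA.fiberMod p S N) ↔
      PrimeSpectrum.comap (algebraMap S (p.Fiber S)) x ∈ Module.support S N :=
  ⟨fun h => comap_mem_support_of_mem x h, fun h => mem_support_baseChange x h⟩

theorem supportDim_fiberMod_le :
    Module.supportDim (p.Fiber S) (FlatCA.fiberMod p S N) ≤ Order.krullDim (T p S N) := by
  refine Order.krullDim_le_of_strictMono
    (fun x : Module.support (p.Fiber S) (FlatCA.fiberMod p S N) =>
      (⟨PrimeSpectrum.comap (algebraMap S (p.Fiber S)) x.1,
        (mem_support_fiberMod_iff p S N x.1).1 x.2, comap_comap_fiber p S x.1⟩ : T p S N)) ?_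
  intro x y hxy
  have := (PrimeSpectrum.preimageOrderIsoFiber R S ⟨p, inferInstance⟩).symm.strictMono
    (show x.1 < y.1 from hxy)
  exact this

theorem le_supportDim_fiberMod :
    Order.krullDim (T p S N) ≤ Module.supportDim (p.Fiber S) (FlatCA.fiberMod p S N) := by
  have hmem : ∀ q : T p S N, q.1 ∈ PrimeSpectrum.comap (algebraMap R S) ⁻¹'
      {(⟨p, inferInstance⟩ : PrimeSpectrum R)} := fun q => PrimeSpectrum.ext q.2.2
  have hc : ∀ q : T p S N, PrimeSpectrum.comap (algebraMap S (p.Fiber S))
      (PrimeSpectrum.preimageOrderIsoFiber R S ⟨p, inferInstance⟩ ⟨q.1, hmem q⟩) = q.1 := fun q =>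
    congrArg Subtype.val ((PrimeSpectrum.preimageOrderIsoFiber R S ⟨p, inferInstance⟩).symm_apply_apply
      ⟨q.1, hmem q⟩)
  refine Order.krullDim_le_of_strictMono
    (fun q : T p S N =>
      (⟨PrimeSpectrum.preimageOrderIsoFiber R S ⟨p, inferInstance⟩ ⟨q.1, hmem q⟩,
        (mem_support_fiberMod_iff p S N _).2 (by rw [hc q]; exact q.2.1)⟩ :
        Module.support (p.Fiber S) (FlatCA.fiberMod p S N))) ?_
  intro x y hxy
  exact (PrimeSpectrum.preimageOrderIsoFiber R S ⟨p, inferInstance⟩).strictMono
    (show (⟨x.1, hmem x⟩ : PrimeSpectrum.comap (algebraMap R S) ⁻¹' {⟨p, inferInstance⟩}) <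
      ⟨y.1, hmem y⟩ from hxy)

end Fib



section Fib2

variable {R : Type u} [CommRing R] (p : Ideal R) [p.IsPrime]


theorem krullDim_T_le_of_surjective (S C : Type u) [CommRing S] [CommRing C] [Algebra R S]
    [Algebra R C] [Algebra S C] [IsScalarTower R S C] (N G : Type u) [AddCommGroup N] [Module S N]
    [AddCommGroup G] [Module S G] [Module C G] [IsScalarTower S C G] [Module.Finite C G]
    (e : N ≃ₗ[S] G) (hsurj : Function.Surjective (algebraMap S C)) :
    Order.krullDim (T p S N) ≤ Order.krullDim (T p C G) := by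
  have hann : ∀ s : S, algebraMap S C s ∈ Module.annihilator C G → s ∈ Module.annihilator S G := by
    intro s hs
    rw [Module.mem_annihilator] at hs ⊢
    intro g
    rw [← hs g, algebraMap_smul]
  have hker : ∀ q : T p S N, RingHom.ker (algebraMap S C) ≤ q.1.asIdeal := by
    intro q s hs
    have h1 : q.1 ∈ Module.support S G := by rw [← e.support_eq]; exact q.2.1
    apply Module.annihilator_le_of_mem_support h1
    apply hann
    rw [RingHom.mem_ker.1 hs]
    exact Submodule.zero_mem _
  have hcm : ∀ q : T p S N, (q.1.asIdeal.map (algebraMap S C)).comap (algebraMap S C) =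
      q.1.asIdeal := by
    intro q
    rw [Ideal.comap_map_of_surjective _ hsurj, ← RingHom.ker_eq_comap_bot]
    exact sup_eq_left.2 (hker q)
  have hprime : ∀ q : T p S N, (q.1.asIdeal.map (algebraMap S C)).IsPrime := fun q =>
    Ideal.map_isPrime_of_surjective hsurj (hker q)
  refine Order.krullDim_le_of_strictMono
    (fun q : T p S N => (⟨⟨q.1.asIdeal.map (algebraMap S C), hprime q⟩, ?_, ?_⟩ : T p C G)) ?_
  · rw [Module.mem_support_iff_of_finite]
    intro c hc
    obtain ⟨s, rfl⟩ := hsurj c
    have h1 : q.1 ∈ Module.support S G := by rw [← e.support_eq]; exact q.2.1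
    exact Ideal.mem_map_of_mem _ (Module.annihilator_le_of_mem_support h1 (hann s hc))
  · show (q.1.asIdeal.map (algebraMap S C)).comap (algebraMap R C) = p
    rw [IsScalarTower.algebraMap_eq R S C, ← Ideal.comap_comap, hcm q]
    exact q.2.2
  · intro x y hxy
    have hxy' : x.1.asIdeal < y.1.asIdeal := hxy
    show x.1.asIdeal.map (algebraMap S C) < y.1.asIdeal.map (algebraMap S C)
    refine lt_of_le_of_ne (Ideal.map_mono hxy'.le) fun h => ?_
    have := congrArg (Ideal.comap (algebraMap S C)) h
    rw [hcm x, hcm y] at this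
    exact hxy'.ne this

theorem krullDim_T_le_of_integral (D C : Type u) [CommRing D] [CommRing C] [Algebra R D]
    [Algebra R C] [Algebra D C] [IsScalarTower R D C] [Algebra.IsIntegral D C]
    (G : Type u) [AddCommGroup G] [Module D G] [Module C G] [IsScalarTower D C G] :
    Order.krullDim (T p C G) ≤ Order.krullDim (T p D G) := by
  refine Order.krullDim_le_of_strictMono
    (fun q : T p C G => (⟨PrimeSpectrum.comap (algebraMap D C) q.1, ?_, ?_⟩ : T p D G)) ?_
  · exact Module.support_subset_preimage_comap (R := D) (A := C) (M := G) q.2.1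
  · show (q.1.asIdeal.comap (algebraMap D C)).comap (algebraMap R D) = p
    rw [Ideal.comap_comap, ← IsScalarTower.algebraMap_eq R D C]
    exact q.2.2
  · intro x y hxy
    have hxy' : x.1.asIdeal < y.1.asIdeal := hxy
    exact Ideal.IsIntegral.comap_lt_comap (R := D) hxy'

end Fib2

end Groth.Agent.Lib.Helper63.OneStep
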