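import Mathlib
import Groth.Prelude.Def_FlatCA

set_option autoImplicit false
set_option linter.unusedSectionVars false
universe u
open TensorProduct

namespace Groth.Agent.Lib.Helper63.OneStep

section EL

variable (R R' : Type u) [CommRing R] [CommRing R'] [Algebra R R'] (p' : Ideal R') [p'.IsPrime]
  (hκ : Function.Surjective (Ideal.ResidueField.mapₐ (p'.comap (algebraMap R R')) p'
      (Algebra.ofId R R') rfl))
include hκ

theorem exists_frac (r' : R') : ∃ a b : R, b ∉ p'.comap (algebraMap R R') ∧
    algebraMap R R' b * r' - algebraMap R R' a ∈ p' := by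
  obtain ⟨α, hα⟩ := hκ (algebraMap R' p'.ResidueField r')
  obtain ⟨α₀, rfl⟩ := IsLocalRing.residue_surjective α
  obtain ⟨⟨a, ⟨b, hb⟩⟩, rfl⟩ := IsLocalization.mk'_surjective (p'.comap (algebraMap R R')).primeCompl α₀
  refine ⟨a, b, hb, ?_⟩
  have h1 : IsLocalRing.residue _ (IsLocalization.mk' (Localization.AtPrime (p'.comap (algebraMap R R')))
      a ⟨b, hb⟩) * algebraMap R (p'.comap (algebraMap R R')).ResidueField b =
      algebraMap R (p'.comap (algebraMap R R')).ResidueField a := by
    rw [IsScalarTower.algebraMap_apply R (Localization.AtPrime (p'.comap (algebraMap R R')))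
      (p'.comap (algebraMap R R')).ResidueField, IsScalarTower.algebraMap_apply R
      (Localization.AtPrime (p'.comap (algebraMap R R'))) (p'.comap (algebraMap R R')).ResidueField,
      IsLocalRing.ResidueField.algebraMap_eq, ← map_mul, IsLocalization.mk'_spec]
  have h2 := congrArg (Ideal.ResidueField.mapₐ (p'.comap (algebraMap R R')) p'
      (Algebra.ofId R R') rfl) h1
  rw [map_mul, hα, AlgHom.commutes, AlgHom.commutes,
    IsScalarTower.algebraMap_apply R R' p'.ResidueField,
    IsScalarTower.algebraMap_apply R R' p'.ResidueField, ← map_mul, ← sub_eq_zero, ← map_sub,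
    Ideal.algebraMap_residueField_eq_zero] at h2
  rwa [mul_comm]

theorem exists_approx (D D' : Type u) [CommRing D] [CommRing D'] [Algebra R D] [Algebra R' D']
    [Algebra R D'] [Algebra D D'] [IsScalarTower R R' D'] [IsScalarTower R D D']
    [Algebra.IsPushout R R' D D'] (t : D') :
    ∃ (b : R) (d : D), b ∉ p'.comap (algebraMap R R') ∧
      algebraMap R D' b * t - algebraMap D D' d ∈ p'.map (algebraMap R' D') := by
  have hbc : IsBaseChange R' (IsScalarTower.toAlgHom R D D').toLinearMap :=
    Algebra.IsPushout.out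
  induction t using hbc.inductionOn with
  | zero => exact ⟨1, 0, (Ideal.ne_top_iff_one _).1 (Ideal.IsPrime.ne_top inferInstance), by simp⟩
  | tmul d =>
    refine ⟨1, d, (Ideal.ne_top_iff_one _).1 (Ideal.IsPrime.ne_top inferInstance), ?_⟩
    simp
  | smul r' t ih =>
    obtain ⟨b, d, hb, hd⟩ := ih
    obtain ⟨a, b', hb', hab⟩ := exists_frac R R' p' hκ r'
    refine ⟨b' * b, a • d, Ideal.IsPrime.mul_notMem inferInstance hb' hb, ?_⟩
    have h1 : algebraMap R' D' (algebraMap R R' b' * r' - algebraMap R R' a) ∈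
        p'.map (algebraMap R' D') := Ideal.mem_map_of_mem _ hab
    have e : algebraMap R D' (b' * b) * r' • t - algebraMap D D' (a • d) =
        algebraMap R' D' (algebraMap R R' b' * r' - algebraMap R R' a) * (algebraMap R D' b * t) +
        algebraMap R D' a * (algebraMap R D' b * t - algebraMap D D' d) := by
      rw [Algebra.smul_def, Algebra.smul_def, map_mul, map_mul, map_sub, map_mul,
        ← IsScalarTower.algebraMap_apply R R' D', ← IsScalarTower.algebraMap_apply R R' D',
        ← IsScalarTower.algebraMap_apply R D D']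
      ring
    rw [e]
    exact Ideal.add_mem _ (Ideal.mul_mem_right _ _ h1) (Ideal.mul_mem_left _ _ hd)
  | add t₁ t₂ ih₁ ih₂ =>
    obtain ⟨b₁, d₁, hb₁, hd₁⟩ := ih₁
    obtain ⟨b₂, d₂, hb₂, hd₂⟩ := ih₂
    refine ⟨b₁ * b₂, b₂ • d₁ + b₁ • d₂, Ideal.IsPrime.mul_notMem inferInstance hb₁ hb₂, ?_⟩
    have e : algebraMap R D' (b₁ * b₂) * (t₁ + t₂) - algebraMap D D' (b₂ • d₁ + b₁ • d₂) =
        algebraMap R D' b₂ * (algebraMap R D' b₁ * t₁ - algebraMap D D' d₁) +
        algebraMap R D' b₁ * (algebraMap R D' b₂ * t₂ - algebraMap D D' d₂) := by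
      rw [map_add, Algebra.smul_def, Algebra.smul_def, map_mul, map_mul, map_mul,
        ← IsScalarTower.algebraMap_apply R D D', ← IsScalarTower.algebraMap_apply R D D']
      ring
    rw [e]
    exact Ideal.add_mem _ (Ideal.mul_mem_left _ _ hd₁) (Ideal.mul_mem_left _ _ hd₂)

end EL

end Groth.Agent.Lib.Helper63.OneStep
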