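import Mathlib
import Groth.Prelude.Def_FlatCA
import Groth.Agent.Lib.Helper63.OneStep10

set_option autoImplicit false
set_option linter.unusedSectionVars false
universe u
open TensorProduct

namespace Groth.Agent.Lib.Helper63.OneStep

section J

variable (R R' : Type u) [CommRing R] [CommRing R'] [Algebra R R'] (p' : Ideal R') [p'.IsPrime]
  (hκ : Function.Surjective (Ideal.ResidueField.mapₐ (p'.comap (algebraMap R R')) p'
      (Algebra.ofId R R') rfl))
include hκ

theorem residueField_map_surjective (D D' : Type u) [CommRing D] [CommRing D'] [Algebra R D]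
    [Algebra R' D'] [Algebra R D'] [Algebra D D'] [IsScalarTower R R' D'] [IsScalarTower R D D']
    [Algebra.IsPushout R R' D D'] (y' : Ideal D') [y'.IsPrime]
    (hy' : y'.comap (algebraMap R' D') = p') (y : Ideal D) [y.IsPrime]
    (hyy : y = y'.comap (Algebra.ofId D D').toRingHom) :
    Function.Surjective (Ideal.ResidueField.mapₐ y y' (Algebra.ofId D D') hyy) := by
  intro z
  obtain ⟨z₀, rfl⟩ := IsLocalRing.residue_surjective z
  obtain ⟨⟨t₁, ⟨t₂, ht₂⟩⟩, rfl⟩ := IsLocalization.mk'_surjective y'.primeCompl z₀
  set j := Ideal.ResidueField.mapₐ y y' (Algebra.ofId D D') hyy with hj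
  set z := IsLocalRing.residue _ (IsLocalization.mk' (Localization.AtPrime y') t₁ ⟨t₂, ht₂⟩) with hz
  have h1 : z * algebraMap D' y'.ResidueField t₂ = algebraMap D' y'.ResidueField t₁ := by
    rw [hz, IsScalarTower.algebraMap_apply D' (Localization.AtPrime y') y'.ResidueField,
      IsScalarTower.algebraMap_apply D' (Localization.AtPrime y') y'.ResidueField,
      IsLocalRing.ResidueField.algebraMap_eq, ← map_mul, IsLocalization.mk'_spec]
  have hle : p'.map (algebraMap R' D') ≤ y' := Ideal.map_le_iff_le_comap.2 hy'.ge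
  have key : ∀ t : D', ∃ (b : R) (d : D), algebraMap R y'.ResidueField b ≠ 0 ∧
      algebraMap R y'.ResidueField b * algebraMap D' y'.ResidueField t =
        j (algebraMap D y.ResidueField d) ∧
      algebraMap R y'.ResidueField b = j (algebraMap D y.ResidueField (algebraMap R D b)) := by
    intro t
    obtain ⟨b, d, hb, hd⟩ := exists_approx R R' p' hκ D D' t
    refine ⟨b, d, ?_, ?_, ?_⟩
    · rw [IsScalarTower.algebraMap_apply R D' y'.ResidueField, ne_eq,
        Ideal.algebraMap_residueField_eq_zero]
      intro hmem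
      apply hb
      rw [Ideal.mem_comap, ← hy', Ideal.mem_comap, ← IsScalarTower.algebraMap_apply R R' D']
      exact hmem
    · have h0 : algebraMap D' y'.ResidueField (algebraMap R D' b * t - algebraMap D D' d) = 0 :=
        Ideal.algebraMap_residueField_eq_zero.2 (hle hd)
      rw [map_sub, map_mul, sub_eq_zero] at h0
      rw [hj, AlgHom.commutes, IsScalarTower.algebraMap_apply D D' y'.ResidueField,
        IsScalarTower.algebraMap_apply R D' y'.ResidueField]
      exact h0
    · rw [hj, AlgHom.commutes, ← IsScalarTower.algebraMap_apply R D y'.ResidueField]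
  obtain ⟨b₁, d₁, hb₁, e₁, f₁⟩ := key t₁
  obtain ⟨b₂, d₂, hb₂, e₂, f₂⟩ := key t₂
  have ht₂0 : algebraMap D' y'.ResidueField t₂ ≠ 0 := by
    rw [ne_eq, Ideal.algebraMap_residueField_eq_zero]
    exact ht₂
  refine ⟨algebraMap D y.ResidueField d₁ * algebraMap D y.ResidueField (algebraMap R D b₂) /
    (algebraMap D y.ResidueField (algebraMap R D b₁) * algebraMap D y.ResidueField d₂), ?_⟩
  rw [map_div₀, map_mul, map_mul, ← e₁, ← e₂, ← f₁, ← f₂, ← h1]
  field_simp

end J

section TR

theorem transport_transcendenceBasis {K L K' L' : Type u} [Field K] [Field L] [Field K'] [Field L']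
    [Algebra K L] [Algebra K' L'] (ι : K →+* K') (hι : Function.Surjective ι) (j : L →+* L')
    (hj : Function.Bijective j) (hc : (algebraMap K' L').comp ι = j.comp (algebraMap K L))
    (I : Type u) (x : I → L) (hx : IsTranscendenceBasis K x)
    (hadj : IntermediateField.adjoin K (Set.range x) = ⊤) :
    IsTranscendenceBasis K' (j ∘ x) ∧ IntermediateField.adjoin K' (Set.range (j ∘ x)) = ⊤ := by
  refine ⟨⟨?_, ?_⟩, ?_⟩
  · exact AlgebraicIndependent.ringHom_of_comp_eq (f := ι) (g := j) hx.1 hι hj.1 hc
  · intro s' hs' hsub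
    let s : Set L := j ⁻¹' s'
    have hs : AlgebraicIndepOn K id s := by
      have h1 : AlgebraicIndependent K' (j ∘ (fun a : s => (a : L))) := by
        have : (j ∘ (fun a : s => (a : L))) =
            (fun a' : s' => (id a'.1 : L')) ∘ (fun a : s => (⟨j a.1, a.2⟩ : s')) := rfl
        rw [this]
        exact AlgebraicIndependent.comp hs' _ (fun a b hab => by
          apply Subtype.ext
          apply hj.1
          exact congrArg Subtype.val hab)
      exact AlgebraicIndependent.of_ringHom_of_comp_eq (f := ι) (g := j) h1 ι.injective hc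
    have hsub' : Set.range x ⊆ s := by
      rintro _ ⟨i, rfl⟩
      exact hsub ⟨i, rfl⟩
    have := hx.2 s hs hsub'
    apply Set.Subset.antisymm hsub
    intro a' ha'
    obtain ⟨a, rfl⟩ := hj.2 a'
    have ha : a ∈ s := ha'
    rw [← this] at ha
    obtain ⟨i, rfl⟩ := ha
    exact ⟨i, rfl⟩
  · rw [eq_top_iff]
    rintro l' -
    obtain ⟨l, rfl⟩ := hj.2 l'
    have hl : l ∈ IntermediateField.adjoin K (Set.range x) := by rw [hadj]; trivial
    induction hl using IntermediateField.adjoin_induction with
    | mem a ha =>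
      obtain ⟨i, rfl⟩ := ha
      exact IntermediateField.subset_adjoin _ _ ⟨i, rfl⟩
    | algebraMap a =>
      have : j (algebraMap K L a) = algebraMap K' L' (ι a) := (RingHom.congr_fun hc a).symm
      rw [this]
      exact IntermediateField.algebraMap_mem _ _
    | add a b _ _ iha ihb => rw [map_add]; exact add_mem iha ihb
    | inv a _ iha => rw [map_inv₀]; exact inv_mem iha
    | mul a b _ _ iha ihb => rw [map_mul]; exact mul_mem iha ihb

end TR

end Groth.Agent.Lib.Helper63.OneStep
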