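import Mathlib
import Groth.Prelude.Def_FlatCA
import Groth.Prelude.Def_Flat
import Groth.Agent.Lib.Helper63.OneStep1

set_option autoImplicit false
set_option linter.unusedSectionVars false
universe u
open TensorProduct

namespace Groth.Agent.Lib.Helper63.OneStep

attribute [local instance] Algebra.TensorProduct.rightAlgebra

theorem localDim_le_of_homeomorph {X Y : Type*} [TopologicalSpace X] [TopologicalSpace Y]
    (φ : X ≃ₜ Y) (x : X) : FlatMor.localDim X x ≤ FlatMor.localDim Y (φ x) := by
  unfold FlatMor.localDim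
  refine le_iInf fun V => ?_
  let U : {U : TopologicalSpace.Opens X // x ∈ U} :=
    ⟨⟨φ ⁻¹' V.1, V.1.isOpen.preimage φ.continuous⟩, V.2⟩
  refine (iInf_le _ U).trans (le_of_eq ?_)
  exact IsHomeomorph.topologicalKrullDim_eq _
    (φ.subtype (p := fun a => a ∈ φ ⁻¹' (V.1 : Set Y)) (q := fun b => b ∈ (V.1 : Set Y))
      (fun _ => Iff.rfl)).isHomeomorph

theorem localDim_homeomorph {X Y : Type*} [TopologicalSpace X] [TopologicalSpace Y]
    (φ : X ≃ₜ Y) (x : X) : FlatMor.localDim X x = FlatMor.localDim Y (φ x) := by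
  apply le_antisymm (localDim_le_of_homeomorph φ x)
  have := localDim_le_of_homeomorph φ.symm (φ x)
  rwa [φ.symm_apply_apply] at this

section PM

variable {R : Type u} [CommRing R] (p : Ideal R) [p.IsPrime] (S : Type u) [CommRing S] [Algebra R S]

theorem asIdeal_eq_map_comap (x : PrimeSpectrum (p.Fiber S)) :
    x.asIdeal = (x.asIdeal.comap (algebraMap S (p.Fiber S))).map (algebraMap S (p.Fiber S)) := by
  apply le_antisymm
  · intro t ht
    obtain ⟨r, hr, s, hs⟩ := Ideal.Fiber.exists_smul_eq_one_tmul p t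
    have h1 : (1 : p.ResidueField) ⊗ₜ[R] s ∈ x.asIdeal := by
      rw [← hs, Algebra.smul_def]
      exact Ideal.mul_mem_left _ _ ht
    have h2 : s ∈ x.asIdeal.comap (algebraMap S (p.Fiber S)) := h1
    have h3 : r • t ∈ (x.asIdeal.comap (algebraMap S (p.Fiber S))).map
        (algebraMap S (p.Fiber S)) := by
      rw [hs]
      exact Ideal.mem_map_of_mem _ h2
    have hu : IsUnit (algebraMap R (p.Fiber S) r) := by
      rw [IsScalarTower.algebraMap_apply R p.ResidueField (p.Fiber S)]
      apply IsUnit.map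
      rw [isUnit_iff_ne_zero, ne_eq, Ideal.algebraMap_residueField_eq_zero]
      exact hr
    rw [Algebra.smul_def] at h3
    exact (Ideal.unit_mul_mem_iff_mem _ hu).1 h3
  · exact Ideal.map_comap_le

end PM

section Theta

variable (A B A' B' : Type u) [CommRing A] [CommRing B] [CommRing A'] [CommRing B']
  [Algebra A B] [Algebra A A'] [Algebra B B'] [Algebra A' B'] [Algebra A B']
  [IsScalarTower A B B'] [IsScalarTower A A' B'] [Algebra.IsPushout A B A' B']
  (p' : Ideal A') [p'.IsPrime]

noncomputable def θ₁ : (p'.comap (algebraMap A A')).Fiber B →ₐ[A] p'.ResidueField ⊗[A] B :=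
  Algebra.TensorProduct.map
    (Ideal.ResidueField.mapₐ (p'.comap (algebraMap A A')) p' (Algebra.ofId A A') rfl)
    (AlgHom.id A B)

noncomputable def θ₂ :
    p'.ResidueField ⊗[A] B ≃ₐ[p'.ResidueField] p'.ResidueField ⊗[A'] (A' ⊗[A] B) :=
  (Algebra.TensorProduct.cancelBaseChange A A' p'.ResidueField p'.ResidueField B).symm

noncomputable def pe : A' ⊗[A] B ≃ₐ[A'] B' :=
  haveI : Algebra.IsPushout A A' B B' := Algebra.IsPushout.symm inferInstance
  Algebra.IsPushout.equiv A A' B B'

noncomputable def θ₃ : p'.ResidueField ⊗[A'] (A' ⊗[A] B) ≃ₐ[p'.ResidueField] p'.Fiber B' :=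
  Algebra.TensorProduct.congr AlgEquiv.refl (pe A B A' B')

noncomputable def θ : (p'.comap (algebraMap A A')).Fiber B →+* p'.Fiber B' :=
  ((θ₃ A B A' B' p').toAlgHom.toRingHom.comp (θ₂ A B A' p').toAlgHom.toRingHom).comp
    (θ₁ A B A' p').toRingHom

theorem pe_tmul (a' : A') (b : B) : pe A B A' B' (a' ⊗ₜ b) = a' • algebraMap B B' b := by
  unfold pe
  simp [Algebra.IsPushout.equiv_tmul, Algebra.smul_def]

theorem θ_one_tmul (b : B) : θ A B A' B' p' (1 ⊗ₜ b) = 1 ⊗ₜ algebraMap B B' b := by
  unfold θ θ₁ θ₂ θ₃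
  simp [pe_tmul]

theorem θ_bijective
    (hκ : Function.Bijective (Ideal.ResidueField.mapₐ (p'.comap (algebraMap A A')) p'
      (Algebra.ofId A A') rfl)) : Function.Bijective (θ A B A' B' p') := by
  unfold θ
  refine ((θ₃ A B A' B' p').bijective.comp (θ₂ A B A' p').bijective).comp ?_
  have : (θ₁ A B A' p' : _ → _) =
      (Algebra.TensorProduct.congr (AlgEquiv.ofBijective _ hκ) (AlgEquiv.refl (R := A) (A₁ := B))) := by
    ext x
    induction x using TensorProduct.induction_on with
    | zero => simp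
    | tmul a b => simp [θ₁]
    | add x y hx hy => rw [map_add, map_add, hx, hy]
  rw [show ((θ₁ A B A' p').toRingHom : _ → _) = (θ₁ A B A' p' : _ → _) from rfl, this]
  exact AlgEquiv.bijective _

theorem θ_comp_algebraMap :
    (θ A B A' B' p').comp (algebraMap B ((p'.comap (algebraMap A A')).Fiber B)) =
      (algebraMap B' (p'.Fiber B')).comp (algebraMap B B') := by
  ext b
  exact θ_one_tmul A B A' B' p' b

end Theta

end Groth.Agent.Lib.Helper63.OneStep
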