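import Mathlib
import Groth.Prelude.Def_FlatCA
import Groth.Agent.Lib.Helper63.OneStep1
import Groth.Agent.Lib.Helper63.OneStep8
import Groth.Agent.Lib.Helper63.OneStep11

set_option autoImplicit false
set_option linter.unusedSectionVars false
universe u
open TensorProduct

namespace Groth.Agent.Lib.Helper63.OneStep

attribute [local instance] Algebra.TensorProduct.rightAlgebra

section PM2

variable {R : Type u} [CommRing R] (p : Ideal R) [p.IsPrime] (S : Type u) [CommRing S] [Algebra R S]

theorem asIdeal_iso_eq_map (Q : PrimeSpectrum S)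
    (hQ : Q ∈ PrimeSpectrum.comap (algebraMap R S) ⁻¹' {(⟨p, inferInstance⟩ : PrimeSpectrum R)}) :
    (PrimeSpectrum.preimageOrderIsoFiber R S ⟨p, inferInstance⟩ ⟨Q, hQ⟩).asIdeal =
      Q.asIdeal.map (algebraMap S (p.Fiber S)) := by
  have hc : PrimeSpectrum.comap (algebraMap S (p.Fiber S))
      (PrimeSpectrum.preimageOrderIsoFiber R S ⟨p, inferInstance⟩ ⟨Q, hQ⟩) = Q :=
    congrArg Subtype.val ((PrimeSpectrum.preimageOrderIsoFiber R S ⟨p, inferInstance⟩).symm_apply_apply
      ⟨Q, hQ⟩)
  rw [asIdeal_eq_map_comap p S]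
  congr 1
  exact congrArg PrimeSpectrum.asIdeal hc

theorem comap_eq_of_asIdeal_eq_map (ξ : PrimeSpectrum (p.Fiber S)) (Q : PrimeSpectrum S)
    (hQ : Q.asIdeal.comap (algebraMap R S) = p)
    (h : ξ.asIdeal = Q.asIdeal.map (algebraMap S (p.Fiber S))) :
    PrimeSpectrum.comap (algebraMap S (p.Fiber S)) ξ = Q := by
  have hm : Q ∈ PrimeSpectrum.comap (algebraMap R S) ⁻¹' {(⟨p, inferInstance⟩ : PrimeSpectrum R)} :=
    PrimeSpectrum.ext hQ
  have h1 := asIdeal_iso_eq_map p S Q hm
  have h2 : ξ = PrimeSpectrum.preimageOrderIsoFiber R S ⟨p, inferInstance⟩ ⟨Q, hm⟩ :=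
    PrimeSpectrum.ext (h.trans h1.symm)
  rw [h2]
  exact congrArg Subtype.val ((PrimeSpectrum.preimageOrderIsoFiber R S ⟨p, inferInstance⟩).symm_apply_apply
      ⟨Q, hm⟩)

end PM2

section PT

theorem purelyTranscendental_baseChange (R R' D D' : Type u) [CommRing R] [CommRing R'] [CommRing D]
    [CommRing D'] [Algebra R R'] [Algebra R D] [Algebra R' D'] [Algebra R D'] [Algebra D D']
    [IsScalarTower R R' D'] [IsScalarTower R D D'] [Algebra.IsPushout R R' D D']
    (p : Ideal R) [p.IsPrime] (p' : Ideal R') [p'.IsPrime] [hp' : p'.LiesOver p]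
    (hκ : Function.Bijective (Ideal.ResidueField.mapₐ p p' (Algebra.ofId R R') hp'.over))
    (y : Ideal D) [y.IsPrime] [y.LiesOver p] (y' : Ideal D') [y'.IsPrime] [hyy : y'.LiesOver y]
    [hy'p' : y'.LiesOver p'] (h4 : FlatCA.PurelyTranscendental p y) :
    FlatCA.PurelyTranscendental p' y' := by
  obtain rfl : p = p'.comap (algebraMap R R') := hp'.over
  obtain ⟨I, x, hx, hadj⟩ := h4
  have hjs := residueField_map_surjective R R' p' hκ.2 D D' y' hy'p'.over.symm y hyy.over
  let j : y.ResidueField →+* y'.ResidueField :=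
    (Ideal.ResidueField.mapₐ y y' (Algebra.ofId D D') hyy.over).toRingHom
  have hj : Function.Bijective j := ⟨j.injective, hjs⟩
  let ι : (p'.comap (algebraMap R R')).ResidueField →+* p'.ResidueField :=
    (Ideal.ResidueField.mapₐ (p'.comap (algebraMap R R')) p' (Algebra.ofId R R') rfl).toRingHom
  let a1 : Algebra (p'.comap (algebraMap R R')).ResidueField y.ResidueField :=
    (Ideal.ResidueField.mapₐ (p'.comap (algebraMap R R')) y (Algebra.ofId R D)
      (Ideal.LiesOver.over (P := y) (p := p'.comap (algebraMap R R')))).toRingHom.toAlgebra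
  let a2 : Algebra p'.ResidueField y'.ResidueField :=
    (Ideal.ResidueField.mapₐ p' y' (Algebra.ofId R' D') hy'p'.over).toRingHom.toAlgebra
  have hc : (algebraMap p'.ResidueField y'.ResidueField).comp ι =
      j.comp (algebraMap (p'.comap (algebraMap R R')).ResidueField y.ResidueField) := by
    apply Ideal.ResidueField.ringHom_ext
    ext r
    simp only [RingHom.coe_comp, Function.comp_apply, RingHom.algebraMap_toAlgebra, ι, j,
      AlgHom.toRingHom_eq_coe, RingHom.coe_coe, Ideal.ResidueField.mapₐ_apply,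
      Ideal.ResidueField.map_algebraMap, Algebra.ofId_apply]
    rw [← IsScalarTower.algebraMap_apply R R' D', ← IsScalarTower.algebraMap_apply R D D']
  have := transport_transcendenceBasis ι hκ.2 j hj hc I x hx hadj
  exact ⟨I, j ∘ x, this.1, this.2⟩

end PT

end Groth.Agent.Lib.Helper63.OneStep
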