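import Mathlib
import Groth.Prelude.Def_FlatCA
import Groth.Prelude.Def_Flat
import Groth.Agent.Lib.Helper63.OneStep1
import Groth.Agent.Lib.Helper63.OneStep8

set_option autoImplicit false
set_option linter.unusedSectionVars false
universe u
open TensorProduct

namespace Groth.Agent.Lib.Helper63.OneStep

attribute [local instance] Algebra.TensorProduct.rightAlgebra

section Corr

variable (R S R' S' : Type u) [CommRing R] [CommRing S] [CommRing R'] [CommRing S']
  [Algebra R S] [Algebra R R'] [Algebra S S'] [Algebra R' S'] [Algebra R S']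
  [IsScalarTower R S S'] [IsScalarTower R R' S'] [Algebra.IsPushout R S R' S']
  (p' : Ideal R') [p'.IsPrime]

theorem comap_θ_comap (x' : PrimeSpectrum (p'.Fiber S')) :
    PrimeSpectrum.comap (algebraMap S ((p'.comap (algebraMap R R')).Fiber S))
      (PrimeSpectrum.comap (θ R S R' S' p') x') =
    PrimeSpectrum.comap (algebraMap S S') (PrimeSpectrum.comap (algebraMap S' (p'.Fiber S')) x') := by
  rw [← PrimeSpectrum.comap_comp_apply, ← PrimeSpectrum.comap_comp_apply, θ_comp_algebraMap]

theorem eq_of_comap_eq (y₁ y₂ : PrimeSpectrum ((p'.comap (algebraMap R R')).Fiber S))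
    (h : PrimeSpectrum.comap (algebraMap S ((p'.comap (algebraMap R R')).Fiber S)) y₁ =
      PrimeSpectrum.comap (algebraMap S ((p'.comap (algebraMap R R')).Fiber S)) y₂) : y₁ = y₂ := by
  let iso := PrimeSpectrum.preimageOrderIsoFiber R S ⟨p'.comap (algebraMap R R'), inferInstance⟩
  have : iso.symm y₁ = iso.symm y₂ := Subtype.ext h
  exact iso.symm.injective this

variable (hκ : Function.Bijective (Ideal.ResidueField.mapₐ (p'.comap (algebraMap R R')) p'
      (Algebra.ofId R R') rfl))
include hκ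

theorem prime_eq_of_comap_eq (Q₁ Q₂ : PrimeSpectrum S')
    (h₁ : Q₁.asIdeal.comap (algebraMap R' S') = p') (h₂ : Q₂.asIdeal.comap (algebraMap R' S') = p')
    (h : PrimeSpectrum.comap (algebraMap S S') Q₁ = PrimeSpectrum.comap (algebraMap S S') Q₂) :
    Q₁ = Q₂ := by
  let iso' := PrimeSpectrum.preimageOrderIsoFiber R' S' ⟨p', inferInstance⟩
  have hm₁ : Q₁ ∈ PrimeSpectrum.comap (algebraMap R' S') ⁻¹' {(⟨p', inferInstance⟩ : PrimeSpectrum R')} :=
    PrimeSpectrum.ext h₁
  have hm₂ : Q₂ ∈ PrimeSpectrum.comap (algebraMap R' S') ⁻¹' {(⟨p', inferInstance⟩ : PrimeSpectrum R')} :=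
    PrimeSpectrum.ext h₂
  have hc₁ : PrimeSpectrum.comap (algebraMap S' (p'.Fiber S')) (iso' ⟨Q₁, hm₁⟩) = Q₁ :=
    congrArg Subtype.val (iso'.symm_apply_apply ⟨Q₁, hm₁⟩)
  have hc₂ : PrimeSpectrum.comap (algebraMap S' (p'.Fiber S')) (iso' ⟨Q₂, hm₂⟩) = Q₂ :=
    congrArg Subtype.val (iso'.symm_apply_apply ⟨Q₂, hm₂⟩)
  have h3 : PrimeSpectrum.comap (θ R S R' S' p') (iso' ⟨Q₁, hm₁⟩) =
      PrimeSpectrum.comap (θ R S R' S' p') (iso' ⟨Q₂, hm₂⟩) := by
    apply eq_of_comap_eq
    rw [comap_θ_comap, comap_θ_comap, hc₁, hc₂, h]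
  have h4 := PrimeSpectrum.comap_injective_of_surjective _ (θ_bijective R S R' S' p' hκ).2 h3
  rw [← hc₁, ← hc₂, h4]

theorem mem_support_iff (N N' : Type u) [AddCommGroup N] [Module S N] [Module.Finite S N]
    [AddCommGroup N'] [Module S' N'] [Module S N'] [IsScalarTower S S' N'] (f : N →ₗ[S] N')
    (hf : IsBaseChange S' f) (x' : PrimeSpectrum (p'.Fiber S')) :
    x' ∈ Module.support (p'.Fiber S') (FlatCA.fiberMod p' S' N') ↔
      PrimeSpectrum.comap (θ R S R' S' p') x' ∈
        Module.support ((p'.comap (algebraMap R R')).Fiber S)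
          (FlatCA.fiberMod (p'.comap (algebraMap R R')) S N) := by
  have hfin : Module.Finite S' N' := Module.Finite.equiv hf.equiv
  rw [mem_support_fiberMod_iff, mem_support_fiberMod_iff, comap_θ_comap, ← hf.equiv.support_eq]
  exact ⟨fun h => comap_mem_support_of_mem _ h, fun h => mem_support_baseChange _ h⟩

theorem localDim_support_eq (N N' : Type u) [AddCommGroup N] [Module S N] [Module.Finite S N]
    [AddCommGroup N'] [Module S' N'] [Module S N'] [IsScalarTower S S' N'] (f : N →ₗ[S] N')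
    (hf : IsBaseChange S' f) (x' : PrimeSpectrum (p'.Fiber S'))
    (hx' : x' ∈ Module.support (p'.Fiber S') (FlatCA.fiberMod p' S' N'))
    (hx : PrimeSpectrum.comap (θ R S R' S' p') x' ∈
        Module.support ((p'.comap (algebraMap R R')).Fiber S)
          (FlatCA.fiberMod (p'.comap (algebraMap R R')) S N)) :
    FlatMor.localDim (Module.support (p'.Fiber S') (FlatCA.fiberMod p' S' N')) ⟨x', hx'⟩ =
      FlatMor.localDim (Module.support ((p'.comap (algebraMap R R')).Fiber S)
          (FlatCA.fiberMod (p'.comap (algebraMap R R')) S N))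
        ⟨PrimeSpectrum.comap (θ R S R' S' p') x', hx⟩ := by
  let ΦE : (p'.comap (algebraMap R R')).Fiber S ≃+* p'.Fiber S' :=
    RingEquiv.ofBijective (θ R S R' S' p') (θ_bijective R S R' S' p' hκ)
  let h := (PrimeSpectrum.homeomorphOfRingEquiv ΦE).symm
  have hh : ∀ y', h y' = PrimeSpectrum.comap (θ R S R' S' p') y' := fun y' => rfl
  let hs := h.subtype (p := fun y' => y' ∈ Module.support (p'.Fiber S') (FlatCA.fiberMod p' S' N'))
    (q := fun y => y ∈ Module.support ((p'.comap (algebraMap R R')).Fiber S)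
          (FlatCA.fiberMod (p'.comap (algebraMap R R')) S N))
    (fun y' => by rw [hh]; exact mem_support_iff R S R' S' p' hκ N N' f hf y')
  exact localDim_homeomorph hs ⟨x', hx'⟩

end Corr

end Groth.Agent.Lib.Helper63.OneStep
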