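import Mathlib
import Groth.Prelude.Def_FlatCA
import Groth.Prelude.Def_Flat
import Groth.Agent.Lib.Helper63.OneStep1
import Groth.Agent.Lib.Helper63.OneStep8
import Groth.Agent.Lib.Helper63.OneStep9
import Groth.Agent.Lib.Helper63.OneStep12

set_option autoImplicit false
set_option linter.unusedSectionVars false
universe u
open TensorProduct

namespace Groth.Agent.Lib.Helper63.OneStep

attribute [local instance] Algebra.TensorProduct.rightAlgebra

theorem exists_point (R S R' S' : Type u) [CommRing R] [CommRing S] [CommRing R'] [CommRing S']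
    [Algebra R S] [Algebra R R'] [Algebra S S'] [Algebra R' S'] [Algebra R S']
    [IsScalarTower R S S'] [IsScalarTower R R' S'] [Algebra.IsPushout R S R' S']
    (p' : Ideal R') [p'.IsPrime]
    (hκ : Function.Bijective (Ideal.ResidueField.mapₐ (p'.comap (algebraMap R R')) p'
      (Algebra.ofId R R') rfl))
    (N N' : Type u) [AddCommGroup N] [Module S N] [Module.Finite S N]
    [AddCommGroup N'] [Module S' N'] [Module S N'] [IsScalarTower S S' N'] (f : N →ₗ[S] N')
    (hf : IsBaseChange S' f)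
    (q : Ideal S) [q.IsPrime] (hqp : q.comap (algebraMap R S) = p'.comap (algebraMap R R'))
    (q' : Ideal S') [q'.IsPrime] (hq'p' : q'.comap (algebraMap R' S') = p')
    (hq'q : q'.comap (algebraMap S S') = q) (n : ℕ)
    (h1 : ∃ (ξ : PrimeSpectrum ((p'.comap (algebraMap R R')).Fiber S))
      (hξ : ξ ∈ Module.support ((p'.comap (algebraMap R R')).Fiber S)
        (FlatCA.fiberMod (p'.comap (algebraMap R R')) S N)),
      ξ.asIdeal = FlatCA.fiberIdeal (p'.comap (algebraMap R R')) q ∧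
      FlatMor.localDim (Module.support ((p'.comap (algebraMap R R')).Fiber S)
        (FlatCA.fiberMod (p'.comap (algebraMap R R')) S N)) ⟨ξ, hξ⟩ = n) :
    ∃ (ξ' : PrimeSpectrum (p'.Fiber S'))
      (hξ' : ξ' ∈ Module.support (p'.Fiber S') (FlatCA.fiberMod p' S' N')),
      ξ'.asIdeal = FlatCA.fiberIdeal p' q' ∧
      FlatMor.localDim (Module.support (p'.Fiber S') (FlatCA.fiberMod p' S' N')) ⟨ξ', hξ'⟩ = n := by
  obtain ⟨ξ, hξ, hξe, hξd⟩ := h1
  have hm' : (⟨q', inferInstance⟩ : PrimeSpectrum S') ∈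
      PrimeSpectrum.comap (algebraMap R' S') ⁻¹' {(⟨p', inferInstance⟩ : PrimeSpectrum R')} :=
    PrimeSpectrum.ext hq'p'
  let ξ' : PrimeSpectrum (p'.Fiber S') :=
    PrimeSpectrum.preimageOrderIsoFiber R' S' ⟨p', inferInstance⟩ ⟨⟨q', inferInstance⟩, hm'⟩
  have hc' : PrimeSpectrum.comap (algebraMap S' (p'.Fiber S')) ξ' = ⟨q', inferInstance⟩ :=
    congrArg Subtype.val
      ((PrimeSpectrum.preimageOrderIsoFiber R' S' ⟨p', inferInstance⟩).symm_apply_apply
        ⟨⟨q', inferInstance⟩, hm'⟩)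
  have hξq : PrimeSpectrum.comap (algebraMap S ((p'.comap (algebraMap R R')).Fiber S)) ξ =
      ⟨q, inferInstance⟩ :=
    comap_eq_of_asIdeal_eq_map (p'.comap (algebraMap R R')) S ξ ⟨q, inferInstance⟩ hqp hξe
  have hθ : PrimeSpectrum.comap (θ R S R' S' p') ξ' = ξ := by
    apply eq_of_comap_eq R S R' p'
    rw [comap_θ_comap, hc', hξq]
    exact PrimeSpectrum.ext hq'q
  have hξ' : ξ' ∈ Module.support (p'.Fiber S') (FlatCA.fiberMod p' S' N') :=
    (mem_support_iff R S R' S' p' hκ N N' f hf ξ').2 (by rw [hθ]; exact hξ)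
  refine ⟨ξ', hξ', ?_, ?_⟩
  · exact asIdeal_iso_eq_map p' S' ⟨q', inferInstance⟩ hm'
  · have hx : PrimeSpectrum.comap (θ R S R' S' p') ξ' ∈
        Module.support ((p'.comap (algebraMap R R')).Fiber S)
          (FlatCA.fiberMod (p'.comap (algebraMap R R')) S N) := by rw [hθ]; exact hξ
    rw [localDim_support_eq R S R' S' p' hκ N N' f hf ξ' hξ' hx]
    have e : (⟨PrimeSpectrum.comap (θ R S R' S' p') ξ', hx⟩ :
        Module.support ((p'.comap (algebraMap R R')).Fiber S)
          (FlatCA.fiberMod (p'.comap (algebraMap R R')) S N)) = ⟨ξ, hξ⟩ := Subtype.ext hθ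
    rw [e]
    exact hξd

end Groth.Agent.Lib.Helper63.OneStep
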