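import Mathlib
import Groth.Prelude.Def_FlatCA
import Groth.Agent.Lib.Helper63.OneStep1

set_option autoImplicit false
set_option linter.unusedSectionVars false
universe u
open TensorProduct

namespace Groth.Agent.Lib.Helper63.OneStep

attribute [local instance] Algebra.TensorProduct.rightAlgebra

section Drop

variable {R : Type u} [CommRing R] (p : Ideal R) [p.IsPrime] (D : Type u) [CommRing D] [Algebra R D]
  [hP : (p.map (algebraMap R D)).IsPrime]

theorem supportDim_fiberMod_lt (hover : (p.map (algebraMap R D)).comap (algebraMap R D) = p)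
    (X : Type u) [AddCommGroup X] [Module D X] [Module.Finite D X]
    (hX : (⟨p.map (algebraMap R D), hP⟩ : PrimeSpectrum D) ∉ Module.support D X) (n : ℕ)
    (hn : ringKrullDim (p.Fiber D) ≤ n) :
    Module.supportDim (p.Fiber D) (FlatCA.fiberMod p D X) < n := by
  let iso := PrimeSpectrum.preimageOrderIsoFiber R D ⟨p, inferInstance⟩
  have hmem : (⟨p.map (algebraMap R D), hP⟩ : PrimeSpectrum D) ∈
      PrimeSpectrum.comap (algebraMap R D) ⁻¹' {(⟨p, inferInstance⟩ : PrimeSpectrum R)} :=
    PrimeSpectrum.ext hover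
  let η : PrimeSpectrum (p.Fiber D) := iso ⟨_, hmem⟩
  have hcη : PrimeSpectrum.comap (algebraMap D (p.Fiber D)) η = ⟨p.map (algebraMap R D), hP⟩ :=
    congrArg Subtype.val (iso.symm_apply_apply ⟨_, hmem⟩)
  have hη : ∀ x, η ≤ x := by
    intro x
    rw [← iso.symm.le_iff_le]
    show (iso.symm η).1 ≤ (iso.symm x).1
    rw [show (iso.symm η).1 = _ from hcη]
    show p.map (algebraMap R D) ≤ (PrimeSpectrum.comap (algebraMap D (p.Fiber D)) x).asIdeal
    rw [Ideal.map_le_iff_le_comap, comap_comap_fiber p D x]
  have hs : η ∉ Module.support (p.Fiber D) (FlatCA.fiberMod p D X) := by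
    intro h
    rw [mem_support_fiberMod_iff, hcη] at h
    exact hX h
  exact krullDim_lt_of_forall_le η hη _ hs n hn

end Drop

section Basis

theorem exists_alpha {D : Type u} [CommRing D] (K : Type u) [Field K] [Algebra D K] (G : Type u)
    [AddCommGroup G] [Module D G] [Module.Finite D G] [Nontrivial (K ⊗[D] G)] :
    ∃ (r : ℕ) (α : (Fin r → D) →ₗ[D] G), 0 < r ∧ Function.Bijective (α.baseChange K) := by
  let s : Set (K ⊗[D] G) := Set.range (fun g : G => (1 : K) ⊗ₜ[D] g)
  have hs : Submodule.span K s = ⊤ := by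
    rw [eq_top_iff]
    rintro z -
    induction z using TensorProduct.induction_on with
    | zero => exact Submodule.zero_mem _
    | tmul k g =>
      have : k ⊗ₜ[D] g = k • ((1 : K) ⊗ₜ[D] g) := by
        rw [TensorProduct.smul_tmul', smul_eq_mul, mul_one]
      rw [this]
      exact Submodule.smul_mem _ _ (Submodule.subset_span ⟨g, rfl⟩)
    | add x y hx hy => exact Submodule.add_mem _ hx hy
  obtain ⟨b, hbs, hbspan, hli⟩ := exists_linearIndependent K s
  have hb : ⊤ ≤ Submodule.span K (Set.range (Subtype.val : b → K ⊗[D] G)) := by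
    rw [Subtype.range_coe, hbspan, hs]
  let B : Module.Basis b K (K ⊗[D] G) := Module.Basis.mk hli hb
  have : Fintype b := FiniteDimensional.fintypeBasisIndex B
  let e : Fin (Fintype.card b) ≃ b := (Fintype.equivFin b).symm
  have hch : ∀ i : Fin (Fintype.card b), ∃ g : G, (1 : K) ⊗ₜ[D] g = ((e i : b) : K ⊗[D] G) :=
    fun i => hbs (e i).2
  choose gs hgs using hch
  let α : (Fin (Fintype.card b) → D) →ₗ[D] G := (Pi.basisFun D (Fin (Fintype.card b))).constr D gs
  have hbij : Function.Bijective (α.baseChange K) := by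
    let B1 : Module.Basis (Fin (Fintype.card b)) K (K ⊗[D] (Fin (Fintype.card b) → D)) :=
      (Pi.basisFun D (Fin (Fintype.card b))).baseChange K
    let B2 : Module.Basis (Fin (Fintype.card b)) K (K ⊗[D] G) := B.reindex e.symm
    have : α.baseChange K = (B1.equiv B2 (Equiv.refl _)).toLinearMap := by
      refine B1.ext fun i => ?_
      rw [LinearEquiv.coe_coe, Module.Basis.equiv_apply]
      simp only [B1, B2, Module.Basis.baseChange_apply, LinearMap.baseChange_tmul,
        Module.Basis.reindex_apply, Equiv.symm_symm, Equiv.refl_apply, B, Module.Basis.mk_apply]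
      rw [← hgs i]
      congr 1
      simp [α]
    rw [this]
    exact (B1.equiv B2 (Equiv.refl _)).bijective
  refine ⟨Fintype.card b, α, ?_, hbij⟩
  by_contra h0
  have h1 : IsEmpty (Fin (Fintype.card b)) := by
    rw [show Fintype.card b = 0 by omega]; infer_instance
  have h2 : Subsingleton (K ⊗[D] G) := by
    refine ⟨fun x y => ?_⟩
    obtain ⟨x', rfl⟩ := hbij.2 x
    obtain ⟨y', rfl⟩ := hbij.2 y
    have : Subsingleton (K ⊗[D] (Fin (Fintype.card b) → D)) := by
      have : Subsingleton (Fin (Fintype.card b) → D) := inferInstance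
      infer_instance
    rw [Subsingleton.elim x' y']
  exact not_subsingleton _ h2

theorem subsingleton_tensor_quot {D : Type u} [CommRing D] (K : Type u) [Field K] [Algebra D K]
    (G : Type u) [AddCommGroup G] [Module D G] (r : ℕ) (α : (Fin r → D) →ₗ[D] G)
    (hα : Function.Surjective (α.baseChange K)) :
    Subsingleton (K ⊗[D] (G ⧸ LinearMap.range α)) := by
  have h1 : Function.Surjective ((LinearMap.range α).mkQ.baseChange K) :=
    LinearMap.lTensor_surjective K (Submodule.mkQ_surjective _)
  have h2 : (LinearMap.range α).mkQ.baseChange K ∘ₗ α.baseChange K = 0 := by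
    rw [← LinearMap.baseChange_comp, LinearMap.range_mkQ_comp, LinearMap.baseChange_zero]
  refine ⟨fun x y => ?_⟩
  obtain ⟨x', rfl⟩ := h1 x
  obtain ⟨y', rfl⟩ := h1 y
  obtain ⟨x'', rfl⟩ := hα x'
  obtain ⟨y'', rfl⟩ := hα y'
  have hx := LinearMap.congr_fun h2 x''
  have hy := LinearMap.congr_fun h2 y''
  simp only [LinearMap.comp_apply, LinearMap.zero_apply] at hx hy
  rw [hx, hy]

end Basis

end Groth.Agent.Lib.Helper63.OneStep
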