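import Mathlib
import Groth.Prelude.Def_FlatCA
import Groth.Agent.Lib.Helper22.SmoothDim
import Groth.Agent.Lib.Helper36.FibreDimSp

set_option autoImplicit false
universe u
open TensorProduct CategoryTheory CategoryTheory.Limits AlgebraicGeometry

namespace Groth.Agent.Lib.Helper63.OneStep

theorem comap_map_eq_of_geomIrred {R D : Type u} [CommRing R] [CommRing D] [Algebra R D]
    (h : FlatCA.GeomIrredFibres R D) (p : Ideal R) [p.IsPrime] :
    (p.map (algebraMap R D)).comap (algebraMap R D) = p := by
  have : GeometricallyIrreducible (Spec.map (CommRingCat.ofHom (algebraMap R D))) := h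
  obtain ⟨q, hq⟩ := (Spec.map (CommRingCat.ofHom (algebraMap R D))).surjective
    (⟨p, inferInstance⟩ : PrimeSpectrum R)
  have hq' : q.asIdeal.comap (algebraMap R D) = p := congrArg PrimeSpectrum.asIdeal hq
  apply le_antisymm
  · intro x hx
    rw [← hq']
    exact Ideal.comap_mono (Ideal.map_le_iff_le_comap.2 hq'.ge) hx
  · exact Ideal.le_comap_map

theorem ringKrullDim_fiber_le {R D : Type u} [CommRing R] [CommRing D] [Algebra R D] (n : ℕ)
    (h : FlatCA.SmoothRelDim n R D) (p : Ideal R) [p.IsPrime] :
    ringKrullDim (p.Fiber D) ≤ n := by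
  let κ := p.ResidueField
  let f := Spec.map (CommRingCat.ofHom (algebraMap R D))
  let g := Spec.map (CommRingCat.ofHom (algebraMap R κ))
  have hf : SmoothOfRelativeDimension n f := h
  have hst : MorphismProperty.IsStableUnderBaseChange (@SmoothOfRelativeDimension n) :=
    smoothOfRelativeDimension_isStableUnderBaseChange n
  have h1 : SmoothOfRelativeDimension n (pullback.fst g f) :=
    MorphismProperty.pullback_fst (P := @SmoothOfRelativeDimension n) g f hf
  let φ : Spec (CommRingCat.of (κ ⊗[R] D)) ⟶ Spec (CommRingCat.of κ) :=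
    Spec.map (CommRingCat.ofHom (algebraMap κ (κ ⊗[R] D)))
  have h2 : SmoothOfRelativeDimension n φ := by
    have e : φ = (pullbackSpecIso R κ D).inv ≫ pullback.fst g f :=
      (pullbackSpecIso_inv_fst' R κ D).symm
    rw [e]
    exact (MorphismProperty.cancel_left_of_respectsIso (@SmoothOfRelativeDimension n)
      (pullbackSpecIso R κ D).inv (pullback.fst g f)).2 h1
  have h3 : ∀ x : Spec (CommRingCat.of (κ ⊗[R] D)),
      FlatMor.localDim (Spec (CommRingCat.of (κ ⊗[R] D))) x ≤ (n : WithBot ℕ∞) := by
    intro x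
    rw [← Groth.Agent.Lib.Helper36.FibreDimSp.fibreDimAt_eq_localDim_of_field κ φ x,
      Groth.Agent.Lib.Helper22.SmoothDim.fibreDimAt_eq_of_smoothOfRelativeDimension n φ x]
  have h4 := Groth.Agent.Lib.Helper36.FibreDimSp.topologicalKrullDim_le_of_forall_localDim_le _ h3
  rw [← PrimeSpectrum.topologicalKrullDim_eq_ringKrullDim]
  exact h4

end Groth.Agent.Lib.Helper63.OneStep
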