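import Mathlib
import Groth.Prelude.Def_FlatCA
import Groth.Agent.Lib.Helper63.OneStep1

set_option autoImplicit false
set_option linter.unusedSectionVars false
universe u
open TensorProduct

namespace Groth.Agent.Lib.Helper63.OneStep

attribute [local instance] Algebra.TensorProduct.rightAlgebra

section Lift

theorem exists_ltSeries_of_lift {α β : Type*} [Preorder α] [Preorder β] (f : α → β)
    (hm : Monotone f) (hl : ∀ (a : α) (b : β), b ≤ f a → ∃ a', a' ≤ a ∧ f a' = b) :
    ∀ (n : ℕ) (p : LTSeries β), p.length = n → ∀ a : α, f a = p.last →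
      ∃ q : LTSeries α, q.length = n ∧ q.last = a := by
  intro n
  induction n with
  | zero =>
    intro p _ a _
    exact ⟨RelSeries.singleton _ a, rfl, rfl⟩
  | succ n ih =>
    intro p hp a ha
    have hne : p.length ≠ 0 := by omega
    have hlt : p.eraseLast.last < p.last := RelSeries.eraseLast_last_rel_last p hne
    obtain ⟨a', ha'1, ha'2⟩ := hl a p.eraseLast.last (by rw [ha]; exact hlt.le)
    obtain ⟨q', hq'1, hq'2⟩ := ih p.eraseLast (by simp [hp]) a' ha'2
    have hlt' : q'.last < a := by
      rw [hq'2]
      refine lt_of_le_not_ge ha'1 fun h => ?_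
      have := hm h
      rw [ha, ha'2] at this
      exact absurd hlt (not_lt_of_ge this)
    exact ⟨q'.snoc a hlt', by simp [hq'1], by simp⟩

/-- If `f` is monotone, surjective and lifts "going down" (`b ≤ f a` lifts to `a' ≤ a`), then
`krullDim β ≤ krullDim α`. -/
theorem krullDim_le_of_lift {α β : Type*} [Preorder α] [Preorder β] (f : α → β)
    (hm : Monotone f) (hs : Function.Surjective f)
    (hl : ∀ (a : α) (b : β), b ≤ f a → ∃ a', a' ≤ a ∧ f a' = b) :
    Order.krullDim β ≤ Order.krullDim α := by
  unfold Order.krullDim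
  refine iSup_le fun p => ?_
  obtain ⟨a, ha⟩ := hs p.last
  obtain ⟨q, hq, -⟩ := exists_ltSeries_of_lift f hm hl p.length p rfl a ha
  rw [← hq]
  exact le_iSup (fun q : LTSeries α => (q.length : WithBot ℕ∞)) q


end Lift

section Up

variable {R : Type u} [CommRing R] (p : Ideal R) [p.IsPrime]

theorem krullDim_T_le_of_integral_up (D C : Type u) [CommRing D] [CommRing C] [Algebra R D]
    [Algebra R C] [Algebra D C] [IsScalarTower R D C] [Algebra.IsIntegral D C]
    (G : Type u) [AddCommGroup G] [Module D G] [Module C G] [IsScalarTower D C G]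
    [Module.Finite C G] [Module.Finite D G] :
    Order.krullDim (T p D G) ≤ Order.krullDim (T p C G) := by
  have hover : ∀ c : PrimeSpectrum C, (c.asIdeal.comap (algebraMap D C)).comap (algebraMap R D) =
      c.asIdeal.comap (algebraMap R C) := by
    intro c
    rw [Ideal.comap_comap, ← IsScalarTower.algebraMap_eq R D C]
  let f : (T p C G)ᵒᵈ → (T p D G)ᵒᵈ := fun q => OrderDual.toDual
    (⟨PrimeSpectrum.comap (algebraMap D C) (OrderDual.ofDual q).1,
      Module.support_subset_preimage_comap (R := D) (A := C) (M := G) (OrderDual.ofDual q).2.1,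
      (hover _).trans (OrderDual.ofDual q).2.2⟩ : T p D G)
  have hm : Monotone f := by
    intro a b hab
    have : (OrderDual.ofDual b).1.asIdeal ≤ (OrderDual.ofDual a).1.asIdeal := hab
    exact Ideal.comap_mono this
  have hs : Function.Surjective f := by
    intro b
    obtain ⟨⟨Q, hQs, hQp⟩, rfl⟩ := OrderDual.toDual.surjective b
    have hann : (Module.annihilator C G).comap (algebraMap D C) ≤ Q.asIdeal := by
      refine le_trans ?_ (Module.annihilator_le_of_mem_support hQs)
      intro d hd
      rw [Ideal.mem_comap, Module.mem_annihilator] at hd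
      rw [Module.mem_annihilator]
      intro g
      rw [← hd g, algebraMap_smul]
    obtain ⟨c, hc1, hc2, hc3⟩ := Ideal.exists_ideal_over_prime_of_isIntegral Q.asIdeal
      (Module.annihilator C G) hann
    refine ⟨OrderDual.toDual ⟨⟨c, hc2⟩, ?_, ?_⟩, ?_⟩
    · rw [Module.mem_support_iff_of_finite]; exact hc1
    · show c.comap (algebraMap R C) = p
      rw [← hover ⟨c, hc2⟩]
      show (c.comap (algebraMap D C)).comap (algebraMap R D) = p
      rw [hc3]; exact hQp
    · apply congrArg OrderDual.toDual
      apply Subtype.ext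
      exact PrimeSpectrum.ext hc3
  have hl : ∀ (a : (T p C G)ᵒᵈ) (b : (T p D G)ᵒᵈ), b ≤ f a → ∃ a', a' ≤ a ∧ f a' = b := by
    intro a b hab
    obtain ⟨⟨Q, hQs, hQp⟩, rfl⟩ := OrderDual.toDual.surjective b
    obtain ⟨⟨c, hcs, hcp⟩, rfl⟩ := OrderDual.toDual.surjective a
    have hle : c.asIdeal.comap (algebraMap D C) ≤ Q.asIdeal := hab
    obtain ⟨c', hc1, hc2, hc3⟩ := Ideal.exists_ideal_over_prime_of_isIntegral_of_isPrime
      Q.asIdeal c.asIdeal hle
    refine ⟨OrderDual.toDual ⟨⟨c', hc2⟩, ?_, ?_⟩, ?_, ?_⟩
    · exact Module.mem_support_mono (show c ≤ ⟨c', hc2⟩ from hc1) hcs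
    · show c'.comap (algebraMap R C) = p
      rw [← hover ⟨c', hc2⟩]
      show (c'.comap (algebraMap D C)).comap (algebraMap R D) = p
      rw [hc3]; exact hQp
    · exact (show c.asIdeal ≤ c' from hc1)
    · apply congrArg OrderDual.toDual
      apply Subtype.ext
      exact PrimeSpectrum.ext hc3
  have := krullDim_le_of_lift f hm hs hl
  rwa [Order.krullDim_orderDual, Order.krullDim_orderDual] at this

theorem krullDim_T_le_of_surjective_up (S C : Type u) [CommRing S] [CommRing C] [Algebra R S]
    [Algebra R C] [Algebra S C] [IsScalarTower R S C] (N G : Type u) [AddCommGroup N] [Module S N]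
    [AddCommGroup G] [Module S G] [Module C G] [IsScalarTower S C G]
    (e : N ≃ₗ[S] G) (hsurj : Function.Surjective (algebraMap S C)) :
    Order.krullDim (T p C G) ≤ Order.krullDim (T p S N) := by
  refine Order.krullDim_le_of_strictMono
    (fun q : T p C G => (⟨PrimeSpectrum.comap (algebraMap S C) q.1, ?_, ?_⟩ : T p S N)) ?_
  · rw [e.support_eq]
    exact Module.support_subset_preimage_comap (R := S) (A := C) (M := G) q.2.1
  · show (q.1.asIdeal.comap (algebraMap S C)).comap (algebraMap R S) = p
    rw [Ideal.comap_comap, ← IsScalarTower.algebraMap_eq R S C]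
    exact q.2.2
  · intro x y hxy
    have hxy' : x.1.asIdeal < y.1.asIdeal := hxy
    show x.1.asIdeal.comap (algebraMap S C) < y.1.asIdeal.comap (algebraMap S C)
    refine lt_of_le_of_ne (Ideal.comap_mono hxy'.le) fun h => ?_
    have := congrArg (Ideal.map (algebraMap S C)) h
    rw [Ideal.map_comap_of_surjective _ hsurj, Ideal.map_comap_of_surjective _ hsurj] at this
    exact hxy'.ne this

theorem ringKrullDim_fiber_le_krullDim_T (D : Type u) [CommRing D] [Algebra R D]
    (G : Type u) [AddCommGroup G] [Module D G]
    (hall : ∀ Q : PrimeSpectrum D, Q.asIdeal.comap (algebraMap R D) = p → Q ∈ Module.support D G) :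
    ringKrullDim (p.Fiber D) ≤ Order.krullDim (T p D G) := by
  refine Order.krullDim_le_of_strictMono
    (fun x : PrimeSpectrum (p.Fiber D) =>
      (⟨PrimeSpectrum.comap (algebraMap D (p.Fiber D)) x,
        hall _ (comap_comap_fiber p D x), comap_comap_fiber p D x⟩ : T p D G)) ?_
  intro x y hxy
  exact (PrimeSpectrum.preimageOrderIsoFiber R D ⟨p, inferInstance⟩).symm.strictMono hxy

theorem supportDim_fiberMod_eq (S C D : Type u) [CommRing S] [CommRing C] [CommRing D]
    [Algebra R S] [Algebra R C] [Algebra R D] [Algebra S C] [Algebra D C] [IsScalarTower R S C]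
    [IsScalarTower R D C] [Module.Finite D C]
    (N G : Type u) [AddCommGroup N] [Module S N] [Module.Finite S N]
    [AddCommGroup G] [Module S G] [Module C G] [IsScalarTower S C G] [Module D G]
    [IsScalarTower D C G] [Module.Finite C G]
    (e : N ≃ₗ[S] G) (hsurj : Function.Surjective (algebraMap S C))
    (hall : ∀ Q : PrimeSpectrum D, Q.asIdeal.comap (algebraMap R D) = p → Q ∈ Module.support D G) :
    Module.supportDim (p.Fiber S) (FlatCA.fiberMod p S N) = ringKrullDim (p.Fiber D) := by
  have hDG : Module.Finite D G := Module.Finite.trans C G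
  have hint : Algebra.IsIntegral D C := inferInstance
  apply le_antisymm
  · refine (supportDim_fiberMod_le p S N).trans
      ((krullDim_T_le_of_surjective p S C N G e hsurj).trans
        ((krullDim_T_le_of_integral p D C G).trans
          ((le_supportDim_fiberMod p D G).trans ?_)))
    exact Module.supportDim_le_ringKrullDim _ _
  · exact (ringKrullDim_fiber_le_krullDim_T p D G hall).trans
      ((krullDim_T_le_of_integral_up p D C G).trans
        ((krullDim_T_le_of_surjective_up p S C N G e hsurj).trans
          (le_supportDim_fiberMod p S N)))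

end Up

end Groth.Agent.Lib.Helper63.OneStep
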