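import Mathlib
import Groth.Prelude.Def_FlatCA
import Groth.Agent.Lib.Helper63.OneStep1
import Groth.Agent.Lib.Helper22.SmoothDim
import Groth.Agent.Lib.Helper36.FibreDimSp

set_option autoImplicit false
universe u
open TensorProduct CategoryTheory CategoryTheory.Limits AlgebraicGeometry

namespace Groth.Agent.Lib.Helper63.OneStep

theorem irreducibleSpace_fiber {R D : Type u} [CommRing R] [CommRing D] [Algebra R D]
    (h : FlatCA.GeomIrredFibres R D) (p : Ideal R) [p.IsPrime] :
    IrreducibleSpace (PrimeSpectrum (p.Fiber D)) := by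
  let κ := p.ResidueField
  let f := Spec.map (CommRingCat.ofHom (algebraMap R D))
  let g := Spec.map (CommRingCat.ofHom (algebraMap R κ))
  have hf : GeometricallyIrreducible f := h
  have h1 : IrreducibleSpace ↥(pullback g f) :=
    pullback_of_geometrically' (P := (IrreducibleSpace ·)) hf.geometrically_irreducibleSpace κ g
  exact (pullbackSpecIso R κ D).hom.homeomorph.irreducibleSpace_iff.mp h1

theorem le_ringKrullDim_fiber {R D : Type u} [CommRing R] [CommRing D] [Algebra R D] (n : ℕ)
    (h : FlatCA.SmoothRelDim n R D) (p : Ideal R) [p.IsPrime]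
    [hne : Nonempty (PrimeSpectrum (p.Fiber D))] :
    (n : WithBot ℕ∞) ≤ ringKrullDim (p.Fiber D) := by
  let κ := p.ResidueField
  let f := Spec.map (CommRingCat.ofHom (algebraMap R D))
  let g := Spec.map (CommRingCat.ofHom (algebraMap R κ))
  have hf : SmoothOfRelativeDimension n f := h
  have hst : MorphismProperty.IsStableUnderBaseChange (@SmoothOfRelativeDimension n) :=
    smoothOfRelativeDimension_isStableUnderBaseChange n
  have h1 : SmoothOfRelativeDimension n (pullback.fst g f) :=
    MorphismProperty.pullback_fst (P := @SmoothOfRelativeDimension n) g f hf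
  let φ : Spec (CommRingCat.of (κ ⊗[R] D)) ⟶ Spec (CommRingCat.of κ) :=
    Spec.map (CommRingCat.ofHom (algebraMap κ (κ ⊗[R] D)))
  have h2 : SmoothOfRelativeDimension n φ := by
    have e : φ = (pullbackSpecIso R κ D).inv ≫ pullback.fst g f :=
      (pullbackSpecIso_inv_fst' R κ D).symm
    rw [e]
    exact (MorphismProperty.cancel_left_of_respectsIso (@SmoothOfRelativeDimension n)
      (pullbackSpecIso R κ D).inv (pullback.fst g f)).2 h1
  obtain ⟨x⟩ := hne
  have h3 : FlatMor.localDim (Spec (CommRingCat.of (κ ⊗[R] D))) x = (n : WithBot ℕ∞) := by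
    rw [← Groth.Agent.Lib.Helper36.FibreDimSp.fibreDimAt_eq_localDim_of_field κ φ x,
      Groth.Agent.Lib.Helper22.SmoothDim.fibreDimAt_eq_of_smoothOfRelativeDimension n φ x]
  have h4 := Groth.Agent.Lib.Helper84.localDim_le_dim (X := Spec (CommRingCat.of (κ ⊗[R] D))) x
  rw [h3] at h4
  rw [← PrimeSpectrum.topologicalKrullDim_eq_ringKrullDim]
  exact h4

theorem support_eq_univ_of_irreducible {A : Type u} [CommRing A] [IrreducibleSpace (PrimeSpectrum A)]
    (M : Type u) [AddCommGroup M] [Module A M] (n : ℕ) (hA : ringKrullDim A ≤ n)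
    (hle : (n : WithBot ℕ∞) ≤ Module.supportDim A M) (x : PrimeSpectrum A) :
    x ∈ Module.support A M := by
  have hprime : (nilradical A).IsPrime := PrimeSpectrum.irreducibleSpace_iff_isPrime_nilradical.1
    inferInstance
  let η : PrimeSpectrum A := ⟨nilradical A, hprime⟩
  have hη : ∀ y, η ≤ y := fun y => nilradical_le_prime y.asIdeal
  have hmem : η ∈ Module.support A M := by
    by_contra hc
    have := krullDim_lt_of_forall_le η hη _ hc n hA
    exact absurd (lt_of_le_of_lt hle this) (lt_irrefl _)
  exact Module.mem_support_mono (hη x) hmem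

end Groth.Agent.Lib.Helper63.OneStep
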