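import Mathlib
import Groth.Prelude.Def_FlatCA

set_option autoImplicit false
universe u
open TensorProduct CategoryTheory CategoryTheory.Limits AlgebraicGeometry

namespace Groth.Agent.Lib.Helper63.OneStep

section BC

variable (R R' D D' : Type u) [CommRing R] [CommRing R'] [CommRing D] [CommRing D']
  [Algebra R R'] [Algebra R D] [Algebra R' D'] [Algebra R D'] [Algebra D D']
  [IsScalarTower R R' D'] [IsScalarTower R D D'] [Algebra.IsPushout R R' D D']

theorem smoothRelDim_baseChange (n : ℕ) (h : FlatCA.SmoothRelDim n R D) :
    FlatCA.SmoothRelDim n R' D' := by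
  have h0 : SmoothOfRelativeDimension n (Spec.map (CommRingCat.ofHom (algebraMap R D))) := h
  show SmoothOfRelativeDimension n (Spec.map (CommRingCat.ofHom (algebraMap R' D')))
  rw [HasRingHomProperty.Spec_iff (P := @SmoothOfRelativeDimension n)] at h0 ⊢
  have hp : Algebra.IsPushout R D R' D' := Algebra.IsPushout.symm inferInstance
  exact RingHom.locally_isStableUnderBaseChange
    RingHom.isStandardSmoothOfRelativeDimension_respectsIso
    (RingHom.isStandardSmoothOfRelativeDimension_isStableUnderBaseChange n) R D R' D' h0

theorem geomIrred_baseChange (h : FlatCA.GeomIrredFibres R D) : FlatCA.GeomIrredFibres R' D' := by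
  have h0 : GeometricallyIrreducible (Spec.map (CommRingCat.ofHom (algebraMap R D))) := h
  show GeometricallyIrreducible (Spec.map (CommRingCat.ofHom (algebraMap R' D')))
  have hpo : IsPushout (CommRingCat.ofHom (algebraMap R R')) (CommRingCat.ofHom (algebraMap R D))
      (CommRingCat.ofHom (algebraMap R' D')) (CommRingCat.ofHom (algebraMap D D')) :=
    CommRingCat.isPushout_iff_isPushout.2 inferInstance
  have hpb := isPullback_SpecMap_of_isPushout _ _ _ _ hpo
  exact MorphismProperty.of_isPullback (P := @GeometricallyIrreducible) hpb.flip h0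

end BC

section Comp

theorem isPushout_comp (R R' S S' C C' : Type u) [CommRing R] [CommRing R'] [CommRing S] [CommRing S']
    [CommRing C] [CommRing C'] [Algebra R R'] [Algebra R S] [Algebra R C] [Algebra S C]
    [IsScalarTower R S C]
    [Algebra R' S'] [Algebra R S'] [Algebra S S'] [IsScalarTower R R' S'] [IsScalarTower R S S']
    [Algebra.IsPushout R R' S S']
    [Algebra R' C'] [Algebra R C'] [Algebra C C'] [IsScalarTower R R' C'] [IsScalarTower R C C']
    [Algebra.IsPushout R R' C C']
    [Algebra S' C'] [IsScalarTower R' S' C'] [Algebra S C'] [IsScalarTower S S' C']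
    [IsScalarTower S C C'] : Algebra.IsPushout S C S' C' := by
  have h1 : Algebra.IsPushout R S R' S' := Algebra.IsPushout.symm inferInstance
  have h2 : Algebra.IsPushout R C R' C' := Algebra.IsPushout.symm inferInstance
  have : IsScalarTower R S' C' := IsScalarTower.of_algebraMap_eq fun x => by
    rw [IsScalarTower.algebraMap_apply R R' C', IsScalarTower.algebraMap_apply R' S' C',
      ← IsScalarTower.algebraMap_apply R R' S']
  exact (Algebra.IsPushout.comp_iff R S R' (S' := S') (T := C) (T' := C')).1 h2

end Comp

end Groth.Agent.Lib.Helper63.OneStep
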