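import Mathlib
import Groth.Prelude.Def_FlatCA
import Groth.Agent.Lib.Helper63.OneStep1
import Groth.Agent.Lib.Helper63.OneStep3
import Groth.Agent.Lib.Helper63.OneStep4
import Groth.Agent.Lib.Helper63.OneStep5

set_option autoImplicit false
set_option linter.unusedSectionVars false
universe u
open TensorProduct

namespace Groth.Agent.Lib.Helper63.OneStep

attribute [local instance] Algebra.TensorProduct.rightAlgebra

theorem forall_mem_support {R : Type u} [CommRing R] (p : Ideal R) [p.IsPrime]
    (S C D : Type u) [CommRing S] [CommRing C] [CommRing D]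
    [Algebra R S] [Algebra R C] [Algebra R D] [Algebra S C] [Algebra D C] [IsScalarTower R S C]
    [IsScalarTower R D C] [Module.Finite D C]
    (N G : Type u) [AddCommGroup N] [Module S N] [Module.Finite S N]
    [AddCommGroup G] [Module S G] [Module C G] [IsScalarTower S C G] [Module D G]
    [IsScalarTower D C G] [Module.Finite C G]
    (e : N ≃ₗ[S] G) (hsurj : Function.Surjective (algebraMap S C)) (n : ℕ)
    (hsm : FlatCA.SmoothRelDim n R D) (hirr : FlatCA.GeomIrredFibres R D)
    (hdim : Module.supportDim (p.Fiber S) (FlatCA.fiberMod p S N) = n)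
    (Q : PrimeSpectrum D) (hQ : Q.asIdeal.comap (algebraMap R D) = p) :
    Q ∈ Module.support D G := by
  have hDG : Module.Finite D G := Module.Finite.trans C G
  have hint : Algebra.IsIntegral D C := inferInstance
  have hA : ringKrullDim (p.Fiber D) ≤ n := ringKrullDim_fiber_le n hsm p
  have hirrA : IrreducibleSpace (PrimeSpectrum (p.Fiber D)) := irreducibleSpace_fiber hirr p
  have hle : Module.supportDim (p.Fiber S) (FlatCA.fiberMod p S N) ≤
      Module.supportDim (p.Fiber D) (FlatCA.fiberMod p D G) :=
    (supportDim_fiberMod_le p S N).trans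
      ((krullDim_T_le_of_surjective p S C N G e hsurj).trans
        ((krullDim_T_le_of_integral p D C G).trans (le_supportDim_fiberMod p D G)))
  rw [hdim] at hle
  have hmem : Q ∈ PrimeSpectrum.comap (algebraMap R D) ⁻¹' {(⟨p, inferInstance⟩ : PrimeSpectrum R)} :=
    PrimeSpectrum.ext hQ
  let iso := PrimeSpectrum.preimageOrderIsoFiber R D ⟨p, inferInstance⟩
  have hx := support_eq_univ_of_irreducible (A := p.Fiber D) (FlatCA.fiberMod p D G) n hA hle
    (iso ⟨Q, hmem⟩)
  rw [mem_support_fiberMod_iff] at hx
  have hc : PrimeSpectrum.comap (algebraMap D (p.Fiber D)) (iso ⟨Q, hmem⟩) = Q :=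
    congrArg Subtype.val (iso.symm_apply_apply ⟨Q, hmem⟩)
  rwa [hc] at hx

end Groth.Agent.Lib.Helper63.OneStep
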