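import Groth.Prelude.Def_Frob
import Mathlib.AlgebraicGeometry.OpenImmersion

set_option autoImplicit false
set_option linter.unusedSectionVars false
universe u

open CategoryTheory CategoryTheory.Limits AlgebraicGeometry FrobSch

namespace Groth.Agent.Lib.Helper63.Perf

variable (p : ℕ) [Fact p.Prime]

theorem inv_frob_apply (Z : Scheme.{u}) [IsCharP Z p] [IsPerfect Z p] (x : Z) :
    (inv (frob Z p)) x = x := by
  have h : (inv (frob Z p) ≫ frob Z p) x = x := by
    rw [IsIso.inv_hom_id]; rfl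
  rw [Scheme.Hom.comp_apply, frob_apply] at h
  exact h

theorem isPerfect_of_isOpenImmersion {V Z : Scheme.{u}} (j : V ⟶ Z) [IsOpenImmersion j]
    [IsCharP V p] [IsCharP Z p] [IsPerfect Z p] : IsPerfect V p := by
  have hr : Set.range (j ≫ inv (frob Z p)) ⊆ Set.range j := by
    rintro _ ⟨x, rfl⟩
    rw [Scheme.Hom.comp_apply, inv_frob_apply]
    exact ⟨x, rfl⟩
  refine ⟨IsOpenImmersion.lift j (j ≫ inv (frob Z p)) hr, ?_, ?_⟩
  · rw [← cancel_mono j, Category.assoc, IsOpenImmersion.lift_fac, frob_comp_assoc,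
      IsIso.hom_inv_id, Category.comp_id, Category.id_comp]
  · rw [← cancel_mono j, Category.assoc, frob_comp, IsOpenImmersion.lift_fac_assoc,
      Category.assoc, IsIso.inv_hom_id, Category.comp_id, Category.id_comp]

theorem isPerfection_restrict {YP Y U U' : Scheme.{u}} [IsCharP YP p] [IsCharP U' p]
    (πY : YP ⟶ Y) (hY : IsPerfection πY p) (j : U ⟶ Y) [IsOpenImmersion j]
    (j' : U' ⟶ YP) [IsOpenImmersion j'] (hrange : Set.range j' = πY ⁻¹' Set.range j)
    (π' : U' ⟶ U) (w : π' ≫ j = j' ≫ πY) : IsPerfection π' p := by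
  have hYP : IsPerfect YP p := hY.1
  refine ⟨isPerfect_of_isOpenImmersion p j', ?_⟩
  intro T _ hT
  constructor
  · intro h1 h2 h12
    have h12 : h1 ≫ π' = h2 ≫ π' := h12
    have : (h1 ≫ j') ≫ πY = (h2 ≫ j') ≫ πY := by
      rw [Category.assoc, Category.assoc, ← w, ← Category.assoc, ← Category.assoc, h12]
    have := (hY.2 T hT).1 this
    exact (cancel_mono j').1 this
  · intro g
    obtain ⟨h, hh⟩ := (hY.2 T hT).2 (g ≫ j)
    have hh : h ≫ πY = g ≫ j := hh
    have hr : Set.range h ⊆ Set.range j' := by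
      rintro _ ⟨t, rfl⟩
      rw [hrange, Set.mem_preimage, ← Scheme.Hom.comp_apply, hh, Scheme.Hom.comp_apply]
      exact ⟨g t, rfl⟩
    refine ⟨IsOpenImmersion.lift j' h hr, ?_⟩
    change IsOpenImmersion.lift j' h hr ≫ π' = g
    rw [← cancel_mono j, Category.assoc, w, IsOpenImmersion.lift_fac_assoc, hh]

theorem isPerfection_unique {P1 P2 X : Scheme.{u}} [IsCharP P1 p] [IsCharP P2 p]
    (π1 : P1 ⟶ X) (π2 : P2 ⟶ X) (h1 : IsPerfection π1 p) (h2 : IsPerfection π2 p) :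
    ∃ e : P1 ≅ P2, e.hom ≫ π2 = π1 := by
  obtain ⟨a, ha⟩ := (h2.2 P1 h1.1).2 π1
  obtain ⟨b, hb⟩ := (h1.2 P2 h2.1).2 π2
  have ha : a ≫ π2 = π1 := ha
  have hb : b ≫ π1 = π2 := hb
  refine ⟨⟨a, b, ?_, ?_⟩, ha⟩
  · apply (h1.2 P1 h1.1).1
    change (a ≫ b) ≫ π1 = 𝟙 _ ≫ π1
    rw [Category.assoc, hb, ha, Category.id_comp]
  · apply (h2.2 P2 h2.1).1
    change (b ≫ a) ≫ π2 = 𝟙 _ ≫ π2
    rw [Category.assoc, ha, hb, Category.id_comp]

end Groth.Agent.Lib.Helper63.Perf
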