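import Groth.Agent.Lib.Helper63.Perf
import Mathlib.AlgebraicGeometry.Morphisms.IsIso
import Mathlib.AlgebraicGeometry.Morphisms.ClosedImmersion

set_option autoImplicit false
set_option linter.unusedSectionVars false
universe u

open CategoryTheory CategoryTheory.Limits AlgebraicGeometry FrobSch

namespace Groth.Agent.Lib.Helper63.Perf

variable (p : ℕ) [Fact p.Prime]

theorem isCharP_Spec_of_eq_zero (R : CommRingCat.{u}) (h : (p : R) = 0) :
    IsCharP (Spec R) p where
  natCast_eq_zero := by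
    apply (Scheme.ΓSpecIso R).commRingCatIsoToRingEquiv.injective
    rw [map_natCast, map_zero]
    exact h

theorem bijective_pow_of_isPerfect (Z : Scheme.{u}) [IsCharP Z p] [IsPerfect Z p] :
    Function.Bijective (fun s : Γ(Z, ⊤) => s ^ p) := by
  have h : IsIso ((frob Z p).app ⊤) := inferInstance
  exact (ConcreteCategory.isIso_iff_bijective _).1 h

theorem isPerfect_of_isAffine (Z : Scheme.{u}) [IsAffine Z] [IsCharP Z p]
    (h : Function.Bijective (fun s : Γ(Z, ⊤) => s ^ p)) : IsPerfect Z p := by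
  have h1 : IsIso (frob Z p).appTop := (ConcreteCategory.isIso_iff_bijective _).2 h
  exact (HasAffineProperty.iff_of_isAffine (P := MorphismProperty.isomorphisms Scheme)).2
    ⟨inferInstance, h1⟩

theorem bijective_pow_of_ringEquiv {R S : Type u} [CommRing R] [CommRing S] (e : R ≃+* S)
    (h : Function.Bijective (fun s : S => s ^ p)) : Function.Bijective (fun r : R => r ^ p) := by
  constructor
  · intro a b hab
    apply e.injective
    apply h.1
    change e a ^ p = e b ^ p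
    rw [← map_pow, ← map_pow]
    exact congrArg e hab
  · intro b
    obtain ⟨a, ha⟩ := h.2 (e b)
    refine ⟨e.symm a, ?_⟩
    apply e.injective
    change e (e.symm a ^ p) = e b
    rw [map_pow, RingEquiv.apply_symm_apply]
    exact ha

theorem isPerfect_Spec (R : CommRingCat.{u}) (h0 : (p : R) = 0)
    (h : Function.Bijective (fun r : R => r ^ p)) :
    @IsPerfect (Spec R) p _ (isCharP_Spec_of_eq_zero p R h0) := by
  have := isCharP_Spec_of_eq_zero p R h0
  apply isPerfect_of_isAffine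
  exact bijective_pow_of_ringEquiv p (Scheme.ΓSpecIso R).commRingCatIsoToRingEquiv h

theorem isAffine_of_isPerfection {P V : Scheme.{u}} [IsCharP P p] [IsAffine V] (π : P ⟶ V)
    (hπ : IsPerfection π p) : IsAffine P := by
  have hP : IsPerfect P p := hπ.1
  have hR0 : (p : Γ(P, ⊤)) = 0 := IsCharP.natCast_eq_zero
  have := isCharP_Spec_of_eq_zero p Γ(P, ⊤) hR0
  have hQ : IsPerfect (Spec Γ(P, ⊤)) p :=
    isPerfect_Spec p Γ(P, ⊤) hR0 (bijective_pow_of_isPerfect p P)
  let τ : Spec Γ(P, ⊤) ⟶ V := Spec.map π.appTop ≫ V.isoSpec.inv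
  have hητ : P.toSpecΓ ≫ τ = π := by
    change P.toSpecΓ ≫ Spec.map π.appTop ≫ V.isoSpec.inv = π
    rw [← Scheme.toSpecΓ_naturality_assoc, ← Scheme.isoSpec_hom, Iso.hom_inv_id,
      Category.comp_id]
  obtain ⟨s, hs⟩ := (hπ.2 (Spec Γ(P, ⊤)) hQ).2 τ
  have hs : s ≫ π = τ := hs
  have h1 : P.toSpecΓ ≫ s = 𝟙 P := by
    apply (hπ.2 P hP).1
    change (P.toSpecΓ ≫ s) ≫ π = 𝟙 P ≫ π
    rw [Category.assoc, hs, hητ, Category.id_comp]
  have h2 : s ≫ P.toSpecΓ = 𝟙 (Spec Γ(P, ⊤)) := by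
    apply ext_of_isAffine
    rw [Scheme.Hom.comp_appTop, Scheme.Hom.id_appTop]
    have h3 : s.appTop ≫ P.toSpecΓ.appTop = 𝟙 _ := by
      rw [← Scheme.Hom.comp_appTop, h1, Scheme.Hom.id_appTop]
    have hiso : IsIso P.toSpecΓ.appTop := by
      rw [Scheme.toSpecΓ_appTop]
      infer_instance
    rw [← cancel_mono P.toSpecΓ.appTop, Category.assoc, h3, Category.comp_id, Category.id_comp]
  exact ⟨⟨s, h1, h2⟩⟩

theorem isClosedImmersion_of_isAffine {X Y XP YP : Scheme.{u}} [IsCharP XP p] [IsCharP YP p]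
    [IsAffine Y] (πX : XP ⟶ X) (πY : YP ⟶ Y) (hX : IsPerfection πX p)
    (hY : IsPerfection πY p) (f : X ⟶ Y) (fP : XP ⟶ YP) (w : fP ≫ πY = πX ≫ f)
    [IsClosedImmersion f] : IsClosedImmersion fP := by
  have hXaff : IsAffine X := (IsClosedImmersion.isAffine_surjective_of_isAffine f).1
  have hfsurj : Function.Surjective f.appTop :=
    (IsClosedImmersion.isAffine_surjective_of_isAffine f).2
  have hXPaff : IsAffine XP := isAffine_of_isPerfection p πX hX
  have hYPaff : IsAffine YP := isAffine_of_isPerfection p πY hY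
  have hXPperf : IsPerfect XP p := hX.1
  have hYPperf : IsPerfect YP p := hY.1
  rw [HasAffineProperty.iff_of_isAffine (P := @IsClosedImmersion)]
  refine ⟨hXPaff, ?_⟩
  let φ : Γ(YP, ⊤) →+* Γ(XP, ⊤) := fP.appTop.hom
  let S'' : Subring Γ(XP, ⊤) := φ.range
  let R'' : CommRingCat.{u} := CommRingCat.of S''
  have h0 : (p : R'') = 0 := by
    apply Subtype.ext
    change ((p : S'') : Γ(XP, ⊤)) = 0
    rw [Subring.coe_natCast]
    exact IsCharP.natCast_eq_zero
  have hbij : Function.Bijective (fun r : R'' => r ^ p) := by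
    have hXPb := bijective_pow_of_isPerfect p XP
    have hYPb := bijective_pow_of_isPerfect p YP
    constructor
    · intro a b hab
      apply Subtype.ext
      apply hXPb.1
      exact congrArg Subtype.val hab
    · rintro ⟨_, b, rfl⟩
      obtain ⟨a, ha⟩ := hYPb.2 b
      refine ⟨⟨φ a, a, rfl⟩, Subtype.ext ?_⟩
      change φ a ^ p = φ b
      rw [← map_pow]
      exact congrArg φ ha
  have := isCharP_Spec_of_eq_zero p R'' h0
  have hQ : IsPerfect (Spec R'') p := isPerfect_Spec p R'' h0 hbij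
  have hmem : ∀ a : Γ(X, ⊤), πX.appTop.hom a ∈ S'' := by
    intro a
    obtain ⟨b, rfl⟩ := hfsurj a
    refine ⟨πY.appTop.hom b, ?_⟩
    have h := congrArg (fun g => g.appTop.hom b) w
    simpa using h
  let ρ0 : Γ(X, ⊤) ⟶ R'' := CommRingCat.ofHom (πX.appTop.hom.codRestrict S'' hmem)
  let incl : R'' ⟶ Γ(XP, ⊤) := CommRingCat.ofHom S''.subtype
  have hρ : ρ0 ≫ incl = πX.appTop := by
    ext a
    rfl
  let m : Spec R'' ⟶ X := Spec.map ρ0 ≫ X.isoSpec.inv
  obtain ⟨t, ht⟩ := (hX.2 (Spec R'') hQ).2 m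
  have ht : t ≫ πX = m := ht
  let j : XP ⟶ Spec R'' := XP.toSpecΓ ≫ Spec.map incl
  have hjm : j ≫ m = πX := by
    change (XP.toSpecΓ ≫ Spec.map incl) ≫ Spec.map ρ0 ≫ X.isoSpec.inv = πX
    rw [Category.assoc, ← Spec.map_comp_assoc, hρ, ← Scheme.toSpecΓ_naturality_assoc,
      ← Scheme.isoSpec_hom, Iso.hom_inv_id, Category.comp_id]
  have hjt : j ≫ t = 𝟙 XP := by
    apply (hX.2 XP hX.1).1
    change (j ≫ t) ≫ πX = 𝟙 XP ≫ πX
    rw [Category.assoc, ht, hjm, Category.id_comp]
  have happ : t.appTop ≫ j.appTop = 𝟙 _ := by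
    rw [← Scheme.Hom.comp_appTop, hjt, Scheme.Hom.id_appTop]
  have hj : j.appTop = (Scheme.ΓSpecIso R'').hom ≫ incl := by
    change (XP.toSpecΓ ≫ Spec.map incl).appTop = _
    rw [Scheme.Hom.comp_appTop, Scheme.toSpecΓ_appTop, Scheme.ΓSpecIso_naturality]
  have hincl : Function.Surjective incl.hom := by
    intro x
    have h := congrArg (fun g => g.hom x) happ
    rw [hj] at h
    exact ⟨(Scheme.ΓSpecIso R'').hom.hom (t.appTop.hom x), h⟩
  intro x
  obtain ⟨⟨_, y, rfl⟩, hy⟩ := hincl x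
  exact ⟨y, hy⟩

end Groth.Agent.Lib.Helper63.Perf
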