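import Groth.Agent.Lib.Helper63.FiltApprox
import Mathlib.RingTheory.Filtration
import Mathlib.RingTheory.AdicCompletion.Noetherian
import Mathlib.Algebra.Module.Torsion.Basic
import Mathlib.RingTheory.Noetherian.Basic

set_option autoImplicit false
universe u

namespace Groth.Agent.Lib.Helper63.PrecompleteExt

open Groth.Agent.Lib.Helper63.FiltApprox

theorem isPrecomplete_of_sub_of_quot {A : Type u} [CommRing A] [IsNoetherianRing A] (J : Ideal A)
    (M : Type*) [AddCommGroup M] [Module A M] [Module.Finite A M] (M' : Submodule A M)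
    [IsPrecomplete J M'] [IsPrecomplete J (M ⧸ M')] : IsPrecomplete J M := by
  obtain ⟨c, hc⟩ := Ideal.exists_pow_inf_eq_pow_smul J M'
  constructor
  intro x hx
  have hx' : ∀ {m n}, m ≤ n → x n - x m ∈ J ^ m • (⊤ : Submodule A M) := by
    intro m n hmn
    have := hx hmn
    rw [SModEq.sub_mem] at this
    have h2 : x n - x m = -(x m - x n) := by abel
    rw [h2]
    exact Submodule.neg_mem _ this
  have hmapJ : ∀ n, Submodule.map M'.mkQ (J ^ n • (⊤ : Submodule A M)) =
      J ^ n • (⊤ : Submodule A (M ⧸ M')) := by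
    intro n
    rw [Submodule.map_smul'', Submodule.map_top, Submodule.range_mkQ]
  obtain ⟨ybar, hy⟩ := IsPrecomplete.prec' (I := J) (fun n => M'.mkQ (x n)) (by
    intro m n hmn
    rw [SModEq.sub_mem, ← map_sub, ← hmapJ]
    have := hx hmn
    rw [SModEq.sub_mem] at this
    exact Submodule.mem_map_of_mem this)
  obtain ⟨y, rfl⟩ := M'.mkQ_surjective ybar
  have hex : ∀ n, ∃ a ∈ J ^ n • (⊤ : Submodule A M), x n - y - a ∈ M' := by
    intro n
    have h1 := hy n
    rw [SModEq.sub_mem, ← map_sub, ← hmapJ] at h1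
    obtain ⟨a, ha, hax⟩ := h1
    refine ⟨a, ha, ?_⟩
    rw [← Submodule.Quotient.mk_eq_zero, Submodule.Quotient.mk_sub]
    exact sub_eq_zero.mpr hax.symm
  choose a ha hab using hex
  have hbdiff : ∀ n, (x (n + c + 1) - y - a (n + c + 1)) - (x (n + c) - y - a (n + c)) ∈
      J ^ n • M' := by
    intro n
    have h1 : (x (n + c + 1) - y - a (n + c + 1)) - (x (n + c) - y - a (n + c)) ∈
        J ^ (n + c) • (⊤ : Submodule A M) ⊓ M' := by
      refine ⟨?_, Submodule.sub_mem _ (hab _) (hab _)⟩
      have h2 : (x (n + c + 1) - y - a (n + c + 1)) - (x (n + c) - y - a (n + c)) =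
          (x (n + c + 1) - x (n + c)) - a (n + c + 1) + a (n + c) := by abel
      rw [h2]
      refine Submodule.add_mem _ (Submodule.sub_mem _ (hx' (Nat.le_succ _)) ?_) (ha _)
      exact Submodule.smul_mono_left (Ideal.pow_le_pow_right (Nat.le_succ _)) (ha _)
    rw [hc (n + c) (Nat.le_add_left c n), Nat.add_sub_cancel] at h1
    exact Submodule.smul_mono le_rfl inf_le_right h1
  obtain ⟨bl, hbl⟩ := IsPrecomplete.prec (I := J) (M := M') inferInstance
    (f := fun n => (⟨x (n + c) - y - a (n + c), hab (n + c)⟩ : M')) (by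
    apply (AdicCompletion.isAdicCauchy_iff J M' _).mpr
    intro n
    rw [SModEq.sub_mem, Submodule.mem_smul_top_iff]
    have h2 : (((⟨x (n + c) - y - a (n + c), hab (n + c)⟩ : M') -
        ⟨x (n + 1 + c) - y - a (n + 1 + c), hab (n + 1 + c)⟩ : M') : M) =
        -((x (n + c + 1) - y - a (n + c + 1)) - (x (n + c) - y - a (n + c))) := by
      have : n + 1 + c = n + c + 1 := by omega
      simp only [this, Submodule.coe_sub]
      abel
    rw [h2]
    exact Submodule.neg_mem _ (hbdiff n))
  refine ⟨y + bl, fun n => ?_⟩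
  rw [SModEq.sub_mem]
  have h1 := hbl n
  rw [SModEq.sub_mem, Submodule.mem_smul_top_iff] at h1
  have h2 : x n - (y + bl) = -(x (n + c) - x n) + a (n + c) +
      (((⟨x (n + c) - y - a (n + c), hab (n + c)⟩ : M') - bl : M') : M) := by
    simp only [Submodule.coe_sub]
    abel
  rw [h2]
  refine Submodule.add_mem _ (Submodule.add_mem _ (Submodule.neg_mem _ (hx' (Nat.le_add_right n c)))
    ?_) ?_
  · exact Submodule.smul_mono_left (Ideal.pow_le_pow_right (Nat.le_add_right n c)) (ha _)
  · exact Submodule.smul_mono le_rfl le_top h1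

theorem isPrecomplete_of_smul_eq_bot {A : Type u} [CommRing A] (I J : Ideal A)
    [IsPrecomplete (J.map (Ideal.Quotient.mk I)) (A ⧸ I)] (M : Type*) [AddCommGroup M]
    [Module A M] [Module.Finite A M] (h : I • (⊤ : Submodule A M) = ⊥) : IsPrecomplete J M := by
  have ht : Module.IsTorsionBySet A M I := by
    intro x a
    have : (a : A) • x ∈ I • (⊤ : Submodule A M) :=
      Submodule.smul_mem_smul a.2 Submodule.mem_top
    rw [h] at this
    exact this
  let _ : Module (A ⧸ I) M := ht.module
  have hst : IsScalarTower A (A ⧸ I) M := ht.isScalarTower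
  have hfin : Module.Finite (A ⧸ I) M := Module.Finite.of_restrictScalars_finite A (A ⧸ I) M
  have h1 : IsPrecomplete (J.map (algebraMap A (A ⧸ I))) M := isPrecomplete_of_finite _ M
  exact IsPrecomplete.map_algebraMap_iff.mp h1

theorem isPrecomplete_of_pow_smul_eq_bot {A : Type u} [CommRing A] [IsNoetherianRing A]
    (I J : Ideal A) [IsPrecomplete (J.map (Ideal.Quotient.mk I)) (A ⧸ I)] (m : ℕ) :
    ∀ (M : Type u) [AddCommGroup M] [Module A M] [Module.Finite A M],
      I ^ m • (⊤ : Submodule A M) = ⊥ → IsPrecomplete J M := by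
  induction m with
  | zero =>
    intro M _ _ _ h
    rw [pow_zero, Ideal.one_eq_top, Submodule.top_smul] at h
    have : Subsingleton M := by
      refine ⟨fun x y => ?_⟩
      have hx : x ∈ (⊤ : Submodule A M) := Submodule.mem_top
      have hy : y ∈ (⊤ : Submodule A M) := Submodule.mem_top
      rw [h, Submodule.mem_bot] at hx hy
      rw [hx, hy]
    infer_instance
  | succ m ih =>
    intro M _ _ _ h
    have hnoeth : IsNoetherian A M := isNoetherian_of_isNoetherianRing_of_finite A M
    let M' : Submodule A M := I ^ m • ⊤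
    have h1 : IsPrecomplete J M' := by
      apply isPrecomplete_of_smul_eq_bot I J M'
      rw [eq_bot_iff]
      intro z hz
      rw [Submodule.mem_smul_top_iff] at hz
      have h2 : I • M' = ⊥ := by
        change I • (I ^ m • (⊤ : Submodule A M)) = ⊥
        rw [← mul_smul, ← pow_succ', h]
      rw [h2, Submodule.mem_bot] at hz
      rw [Submodule.mem_bot]
      exact Subtype.ext hz
    have h2 : IsPrecomplete J (M ⧸ M') := by
      apply ih
      rw [← Submodule.range_mkQ M', ← Submodule.map_top, ← Submodule.map_smul'']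
      exact Submodule.mkQ_map_self M'
    exact isPrecomplete_of_sub_of_quot J M M'

end Groth.Agent.Lib.Helper63.PrecompleteExt
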