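import Mathlib
import Groth.Agent.Lib.Helper22.ValTrdeg
import Groth.Agent.S14728

set_option autoImplicit false
universe u

namespace Groth.Agent.Lib.Helper63.PruferDim

open MvPolynomial

section Basic

variable {R : Type u} [CommRing R] [IsDomain R]

theorem exists_mul_eq_of_dvd (q : Ideal R) [q.IsPrime] (x y : R)
    (h : algebraMap R (Localization.AtPrime q) x ∣ algebraMap R (Localization.AtPrime q) y) :
    ∃ s : R, s ∉ q ∧ ∃ a : R, y * s = x * a := by
  obtain ⟨z, hz⟩ := h
  obtain ⟨⟨a, s⟩, rfl⟩ := IsLocalization.mk'_surjective q.primeCompl z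
  refine ⟨s.1, s.2, a, ?_⟩
  have hinj : Function.Injective (algebraMap R (Localization.AtPrime q)) :=
    IsLocalization.injective _ q.primeCompl_le_nonZeroDivisors
  apply hinj
  rw [map_mul, map_mul, hz, mul_assoc, IsLocalization.mk'_spec]

theorem le_total_of_le
    (hR : ∀ (p : Ideal R) [p.IsPrime], ValuationRing (Localization.AtPrime p))
    (a b q : Ideal R) [a.IsPrime] [b.IsPrime] [q.IsPrime] (ha : a ≤ q) (hb : b ≤ q) :
    a ≤ b ∨ b ≤ a := by
  by_contra hcon
  push Not at hcon
  obtain ⟨h1, h2⟩ := hcon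
  obtain ⟨x, hxa, hxb⟩ := SetLike.not_le_iff_exists.1 h1
  obtain ⟨y, hyb, hya⟩ := SetLike.not_le_iff_exists.1 h2
  have hV : ValuationRing (Localization.AtPrime q) := hR q
  rcases ValuationRing.dvd_total (algebraMap R (Localization.AtPrime q) x)
    (algebraMap R (Localization.AtPrime q) y) with h | h
  · obtain ⟨s, hs, c, hc⟩ := exists_mul_eq_of_dvd q x y h
    have h3 : y * s ∈ a := by rw [hc]; exact a.mul_mem_right _ hxa
    rcases Ideal.IsPrime.mem_or_mem inferInstance h3 with h4 | h4
    · exact hya h4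
    · exact hs (ha h4)
  · obtain ⟨s, hs, c, hc⟩ := exists_mul_eq_of_dvd q y x h
    have h3 : x * s ∈ b := by rw [hc]; exact b.mul_mem_right _ hyb
    rcases Ideal.IsPrime.mem_or_mem inferInstance h3 with h4 | h4
    · exact hxb h4
    · exact hs (hb h4)

theorem height_le_add_one_of_covBy
    (hR : ∀ (p : Ideal R) [p.IsPrime], ValuationRing (Localization.AtPrime p))
    (p q : Ideal R) [hp : p.IsPrime] [hq : q.IsPrime] (hpq : p < q)
    (hcov : ∀ (b : Ideal R), b.IsPrime → p ≤ b → b ≤ q → b = p ∨ b = q) (n : ℕ)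
    (hn : p.height = n) : q.height ≤ (n + 1 : ℕ) := by
  have e1 := PrimeSpectrum.height_eq_orderHeight (⟨q, hq⟩ : PrimeSpectrum R)
  simp only at e1
  rw [e1, Order.height_le_coe_iff]
  intro y hy
  have hyq : y.asIdeal < q := hy
  have hyp : y.asIdeal ≤ p := by
    have := y.isPrime
    rcases le_total_of_le hR y.asIdeal p q hyq.le hpq.le with h | h
    · exact h
    · rcases hcov y.asIdeal y.isPrime h hyq.le with h' | h'
      · exact h'.le
      · exact absurd h' hyq.ne
  have h2 : Order.height y ≤ (n : ℕ∞) := by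
    rw [← PrimeSpectrum.height_eq_orderHeight, ← hn]
    exact Ideal.height_mono hyp
  exact lt_of_le_of_lt h2 (by exact_mod_cast Nat.lt_succ_self n)

theorem exists_common_mul (q : Ideal R) [q.IsPrime] {ι : Type*} (T : Finset ι) (b : ι → R) (c : R)
    (h : ∀ m ∈ T, algebraMap R (Localization.AtPrime q) c ∣
      algebraMap R (Localization.AtPrime q) (b m)) :
    ∃ σ : R, σ ∉ q ∧ ∀ m ∈ T, c ∣ σ * b m := by
  classical
  induction T using Finset.induction_on with
  | empty => exact ⟨1, fun h1 => (inferInstance : q.IsPrime).ne_top (q.eq_top_of_isUnit_mem h1 isUnit_one), by simp⟩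
  | insert i T hi ih =>
    obtain ⟨σ, hσ, hall⟩ := ih (fun m hm => h m (Finset.mem_insert_of_mem hm))
    obtain ⟨s, hs, a, ha⟩ := exists_mul_eq_of_dvd q c (b i) (h i (Finset.mem_insert_self i T))
    refine ⟨σ * s, fun h1 => ?_, fun m hm => ?_⟩
    · rcases Ideal.IsPrime.mem_or_mem inferInstance h1 with h2 | h2
      · exact hσ h2
      · exact hs h2
    · rcases Finset.mem_insert.1 hm with rfl | hm
      · refine ⟨σ * a, ?_⟩
        calc σ * s * b m = σ * (b m * s) := by ring
          _ = c * (σ * a) := by rw [ha]; ring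
      · obtain ⟨d, hd⟩ := hall m hm
        refine ⟨s * d, ?_⟩
        calc σ * s * b m = s * (σ * b m) := by ring
          _ = c * (s * d) := by rw [hd]; ring

end Basic

section Indep

variable {R S : Type u} [CommRing R] [IsDomain R] [CommRing S] [Algebra R S]

theorem algebraicIndependent_quotient_of_le
    (hR : ∀ (p : Ideal R) [p.IsPrime], ValuationRing (Localization.AtPrime p))
    (p₀ p : Ideal R) (q₀ q : Ideal S) [p₀.IsPrime]
    [p.IsPrime] [q₀.IsPrime] [q.IsPrime] [q₀.LiesOver p₀] [q.LiesOver p] (hq : q₀ ≤ q)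
    {ι : Type*} (t : ι → S)
    (ht : AlgebraicIndependent (R ⧸ p) (fun i => Ideal.Quotient.mk q (t i))) :
    AlgebraicIndependent (R ⧸ p₀) (fun i => Ideal.Quotient.mk q₀ (t i)) := by
  classical
  have hV : ValuationRing (Localization.AtPrime p) := hR p
  have hp₀p : p₀ ≤ p := by
    rw [q₀.over_def p₀, q.over_def p]
    exact Ideal.comap_mono hq
  rw [algebraicIndependent_iff]
  intro P₀ hP₀
  by_contra hne
  obtain ⟨P, rfl⟩ := MvPolynomial.map_surjective (Ideal.Quotient.mk p₀)
    Ideal.Quotient.mk_surjective P₀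
  have h1 : aeval t P ∈ q₀ := by
    rw [← Ideal.Quotient.eq_zero_iff_mem, ← hP₀]
    have : (Ideal.Quotient.mk q₀) (aeval t P) =
        (Ideal.Quotient.mkₐ R q₀) (aeval t P) := rfl
    rw [this, comp_aeval_apply]
    simp only [aeval_def, eval₂_map]
    congr 1
  have h2 : ∃ m, P.coeff m ∉ p₀ := by
    by_contra hcon
    push Not at hcon
    apply hne
    ext m
    rw [coeff_map, coeff_zero, Ideal.Quotient.eq_zero_iff_mem]
    exact hcon m
  obtain ⟨m₁, hm₁⟩ := h2
  let s : Finset (ι →₀ ℕ) := P.support.filter (fun m => P.coeff m ∉ p₀)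
  have hs : s.Nonempty := ⟨m₁, Finset.mem_filter.2 ⟨by
    rw [mem_support_iff]; rintro h0; rw [h0] at hm₁; exact hm₁ p₀.zero_mem, hm₁⟩⟩
  obtain ⟨m₀, hm₀s, hm₀⟩ := Groth.Agent.Lib.Helper22.ValTrdeg.exists_dvd_of_finset s hs
    (fun m => algebraMap R (Localization.AtPrime p) (P.coeff m))
  set c := P.coeff m₀ with hc
  have hcp : c ∉ p₀ := (Finset.mem_filter.1 hm₀s).2
  have hc0 : c ≠ 0 := by rintro h0; rw [h0] at hcp; exact hcp p₀.zero_mem
  have hdisj : Disjoint (p.primeCompl : Set R) (p₀ : Set R) := by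
    rw [Set.disjoint_left]
    intro x hx hx0
    exact hx (hp₀p hx0)
  have hdvd : ∀ m, algebraMap R (Localization.AtPrime p) c ∣
      algebraMap R (Localization.AtPrime p) (P.coeff m) := by
    intro m
    by_cases hm : P.coeff m ∈ p₀
    · rcases ValuationRing.dvd_total (algebraMap R (Localization.AtPrime p) c)
        (algebraMap R (Localization.AtPrime p) (P.coeff m)) with h | h
      · exact h
      · exfalso
        apply hcp
        have h3 : algebraMap R (Localization.AtPrime p) c ∈
            p₀.map (algebraMap R (Localization.AtPrime p)) :=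
          Ideal.mem_of_dvd _ h (Ideal.mem_map_of_mem _ hm)
        have h4 := IsLocalization.under_map_of_isPrime_disjoint p.primeCompl
          (Localization.AtPrime p) (inferInstance : p₀.IsPrime) hdisj
        rw [← h4]
        exact h3
    · refine hm₀ m (Finset.mem_filter.2 ⟨?_, hm⟩)
      rw [mem_support_iff]; rintro h0; rw [h0] at hm; exact hm p₀.zero_mem
  obtain ⟨σ, hσ, hall⟩ := exists_common_mul p P.support (fun m => P.coeff m) c
    (fun m _ => hdvd m)
  choose! y hy using hall
  let P' : MvPolynomial ι R := ∑ m ∈ P.support, monomial m (y m)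
  have hcoeff : ∀ m, P'.coeff m = if m ∈ P.support then y m else 0 := by
    intro m
    simp only [P', coeff_sum, coeff_monomial]
    rw [Finset.sum_ite_eq']
  have hP' : C σ * P = C c * P' := by
    ext m
    rw [coeff_C_mul, coeff_C_mul, hcoeff]
    by_cases hm : m ∈ P.support
    · rw [if_pos hm]
      exact hy m hm
    · rw [if_neg hm, notMem_support_iff.1 hm]
      simp
  have hm₀supp : m₀ ∈ P.support := (Finset.mem_filter.1 hm₀s).1
  have hone : P'.coeff m₀ = σ := by
    rw [hcoeff, if_pos hm₀supp]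
    have := hy m₀ hm₀supp
    have h5 : c * σ = c * y m₀ := by rw [← this]; ring
    exact (mul_left_cancel₀ hc0 h5).symm
  have h3 : aeval t P' ∈ q := by
    apply hq
    have h6 : aeval t (C σ * P) ∈ q₀ := by
      rw [map_mul]
      exact q₀.mul_mem_left _ h1
    rw [hP', map_mul, aeval_C] at h6
    rcases Ideal.IsPrime.mem_or_mem inferInstance h6 with h | h
    · exact absurd ((Ideal.mem_of_liesOver q₀ p₀ c).2 h) hcp
    · exact h
  have h4 : aeval (fun i => Ideal.Quotient.mk q (t i)) (map (Ideal.Quotient.mk p) P') = 0 := by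
    have h5 : (Ideal.Quotient.mkₐ R q) (aeval t P') = 0 :=
      Ideal.Quotient.eq_zero_iff_mem.2 h3
    rw [comp_aeval_apply] at h5
    rw [← h5]
    simp only [aeval_def, eval₂_map]
    congr 1
  have h6 := (algebraicIndependent_iff.1 ht) _ h4
  have h7 := congrArg (fun Q => coeff m₀ Q) h6
  simp only [coeff_map, hone, coeff_zero] at h7
  exact hσ (Ideal.Quotient.eq_zero_iff_mem.1 h7)

theorem trdeg_quotient_le_of_le
    (hR : ∀ (p : Ideal R) [p.IsPrime], ValuationRing (Localization.AtPrime p))
    (p₀ p : Ideal R) (q₀ q : Ideal S) [p₀.IsPrime]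
    [p.IsPrime] [q₀.IsPrime] [q.IsPrime] [q₀.LiesOver p₀] [q.LiesOver p] (hq : q₀ ≤ q) :
    Algebra.trdeg (R ⧸ p) (S ⧸ q) ≤ Algebra.trdeg (R ⧸ p₀) (S ⧸ q₀) := by
  rw [Algebra.trdeg]
  refine ciSup_le' fun i => ?_
  have hsurj := Ideal.Quotient.mk_surjective (I := q)
  choose t ht using fun a : i.1 => hsurj a.1
  have h1 : AlgebraicIndependent (R ⧸ p) (fun a : i.1 => Ideal.Quotient.mk q (t a)) := by
    have := i.2
    simp only [ht]
    exact this
  exact (algebraicIndependent_quotient_of_le hR p₀ p q₀ q hq t h1).cardinalMk_le_trdeg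

end Indep

end Groth.Agent.Lib.Helper63.PruferDim
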