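import Mathlib
import Groth.Agent.Lib.Helper63.PruferDim1
import Groth.Agent.Lib.Helper72.FibDimIrr
import Groth.Agent.Lib.Helper73.DimFormula.Chevalley

set_option autoImplicit false
universe u

open AlgebraicGeometry CategoryTheory

namespace Groth.Agent.Lib.Helper63.PruferDim

open Groth.Agent.Lib.Helper73 Groth.Agent.Lib.Helper72.FibDimIrr

section GoingDown

variable {R S : Type u} [CommRing R] [IsDomain R] [CommRing S] [Algebra R S]

theorem exists_prime_between_of_under
    (hR : ∀ (p : Ideal R) [p.IsPrime], ValuationRing (Localization.AtPrime p))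
    (P Q : Ideal S) [hP : P.IsPrime] [hQ : Q.IsPrime] (hPQ : P ≤ Q) (p₁ : Ideal R) [p₁.IsPrime]
    (h1 : P.under R ≤ p₁) (h2 : p₁ ≤ Q.under R) :
    ∃ P₁ : Ideal S, P₁.IsPrime ∧ P ≤ P₁ ∧ P₁ ≤ Q ∧ P₁.under R = p₁ := by
  have hp : (P.under R).IsPrime := inferInstance
  have hR' : ∀ (q : Ideal (R ⧸ P.under R)) [q.IsPrime], ValuationRing (Localization.AtPrime q) :=
    (Groth.Agent.S14728.result R hR (nonZeroDivisors R) (FractionRing R) (P.under R)).2
  have hdomR : IsDomain (R ⧸ P.under R) := Ideal.Quotient.isDomain _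
  have hdomD : IsDomain (S ⧸ P) := Ideal.Quotient.isDomain _
  have hinj : Function.Injective (algebraMap (R ⧸ P.under R) (S ⧸ P)) :=
    FaithfulSMul.algebraMap_injective _ _
  have hflat : Module.Flat (R ⧸ P.under R) (S ⧸ P) := by
    rw [Module.Flat.flat_iff_torsion_eq_bot_of_valuationRing_localization_isMaximal
      (fun m _ => hR' m)]
    rw [eq_bot_iff]
    rintro m ⟨⟨r, hr⟩, h⟩
    have h3 : algebraMap (R ⧸ P.under R) (S ⧸ P) r * m = 0 := by
      rw [← Algebra.smul_def]; exact h
    rcases mul_eq_zero.1 h3 with h4 | h4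
    · exact absurd ((map_eq_zero_iff _ hinj).1 h4) (nonZeroDivisors.ne_zero hr)
    · exact h4
  have hQ' : (Q.map (Ideal.Quotient.mk P)).IsPrime := Ideal.isPrime_map_quotientMk_of_isPrime hPQ
  have hp₁' : (p₁.map (Ideal.Quotient.mk (P.under R))).IsPrime :=
    Ideal.isPrime_map_quotientMk_of_isPrime h1
  have hcm : ∀ a : R, algebraMap (R ⧸ P.under R) (S ⧸ P) (Ideal.Quotient.mk (P.under R) a) =
      Ideal.Quotient.mk P (algebraMap R S a) := fun a => rfl
  have hle : p₁.map (Ideal.Quotient.mk (P.under R)) ≤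
      (Q.map (Ideal.Quotient.mk P)).under (R ⧸ P.under R) := by
    intro x hx
    obtain ⟨a, ha, rfl⟩ := (Ideal.mem_map_iff_of_surjective _ Ideal.Quotient.mk_surjective).1 hx
    change algebraMap (R ⧸ P.under R) (S ⧸ P) (Ideal.Quotient.mk (P.under R) a) ∈
      Q.map (Ideal.Quotient.mk P)
    rw [hcm]
    exact Ideal.mem_map_of_mem _ (h2 ha)
  obtain ⟨P', hP'Q, hP'prime, hP'over⟩ := Ideal.exists_ideal_le_liesOver_of_le
    (p := p₁.map (Ideal.Quotient.mk (P.under R)))
    (q := (Q.map (Ideal.Quotient.mk P)).under (R ⧸ P.under R)) (Q.map (Ideal.Quotient.mk P)) hle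
  refine ⟨P'.comap (Ideal.Quotient.mk P), Ideal.comap_isPrime _ _, ?_, ?_, ?_⟩
  · intro x hx
    rw [Ideal.mem_comap, Ideal.Quotient.eq_zero_iff_mem.2 hx]
    exact P'.zero_mem
  · intro x hx
    have h3 : Ideal.Quotient.mk P x ∈ Q.map (Ideal.Quotient.mk P) := hP'Q hx
    have h4 : x ∈ (Q.map (Ideal.Quotient.mk P)).comap (Ideal.Quotient.mk P) := h3
    rw [Ideal.comap_map_of_surjective _ Ideal.Quotient.mk_surjective,
      ← RingHom.ker_eq_comap_bot, Ideal.mk_ker, sup_eq_left.2 hPQ] at h4
    exact h4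
  · ext a
    change Ideal.Quotient.mk P (algebraMap R S a) ∈ P' ↔ a ∈ p₁
    rw [← hcm]
    have h5 := hP'over.over
    have h6 : Ideal.Quotient.mk (P.under R) a ∈ p₁.map (Ideal.Quotient.mk (P.under R)) ↔
        algebraMap (R ⧸ P.under R) (S ⧸ P) (Ideal.Quotient.mk (P.under R) a) ∈ P' := by
      rw [h5]; rfl
    rw [← h6]
    constructor
    · intro h7
      have h8 : a ∈ (p₁.map (Ideal.Quotient.mk (P.under R))).comap
          (Ideal.Quotient.mk (P.under R)) := h7
      rw [Ideal.comap_map_of_surjective _ Ideal.Quotient.mk_surjective,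
        ← RingHom.ker_eq_comap_bot, Ideal.mk_ker, sup_eq_left.2 h1] at h8
      exact h8
    · intro h7
      exact Ideal.mem_map_of_mem _ h7

end GoingDown

section Main

variable (R : Type u) [CommRing R] [IsDomain R] {S : Type u} [CommRing S] [Algebra R S]

noncomputable def delta (x : PrimeSpectrum S) : ℤ :=
  (Cardinal.toNat (Algebra.trdeg (R ⧸ x.asIdeal.under R) (S ⧸ x.asIdeal)) : ℤ) -
    ((x.asIdeal.under R).height.toNat : ℤ)

variable {R}

theorem locallyOfFiniteType_SpecMap [Algebra.FiniteType R S] :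
    LocallyOfFiniteType (Spec.map (CommRingCat.ofHom (algebraMap R S))) := by
  rw [HasRingHomProperty.Spec_iff (P := @LocallyOfFiniteType)]
  exact RingHom.finiteType_algebraMap.mpr inferInstance

set_option backward.isDefEq.respectTransparency false in
theorem trdeg_eq_resTrdegNat [Algebra.FiniteType R S] (x : PrimeSpectrum S) :
    Algebra.trdeg (R ⧸ x.asIdeal.under R) (S ⧸ x.asIdeal) =
      (resTrdegNat (Spec.map (CommRingCat.ofHom (algebraMap R S))) x : Cardinal.{u}) := by
  have := locallyOfFiniteType_SpecMap (R := R) (S := S)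
  have h1 := resTrdeg_SpecMap (R := R) (R' := S) x (x.asIdeal.under R) x.asIdeal rfl
  rw [← h1, resTrdeg_eq_resTrdegNat]

theorem delta_eq [Algebra.FiniteType R S] (x : PrimeSpectrum S) :
    delta R x = (resTrdegNat (Spec.map (CommRingCat.ofHom (algebraMap R S))) x : ℤ) -
      ((x.asIdeal.under R).height.toNat : ℤ) := by
  unfold delta
  rw [trdeg_eq_resTrdegNat, Cardinal.toNat_natCast]

set_option backward.isDefEq.respectTransparency false in
theorem SpecMap_apply_eq (x : PrimeSpectrum S) :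
    (Spec.map (CommRingCat.ofHom (algebraMap R S))) x =
      (⟨x.asIdeal.under R, inferInstance⟩ : PrimeSpectrum R) := rfl

end Main

end Groth.Agent.Lib.Helper63.PruferDim
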