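import Mathlib
import Groth.Agent.Lib.Helper63.PruferDim2

set_option autoImplicit false
universe u

open AlgebraicGeometry CategoryTheory

namespace Groth.Agent.Lib.Helper63.PruferDim

open Groth.Agent.Lib.Helper73 Groth.Agent.Lib.Helper72.FibDimIrr

section Main

variable {R : Type u} [CommRing R] [IsDomain R] {S : Type u} [CommRing S] [Algebra R S]
  [Algebra.FiniteType R S]

theorem finiteRingKrullDim_of_lt_top (hdim : ringKrullDim R < ⊤) : FiniteRingKrullDim R := by
  refine finiteRingKrullDim_iff_ne_bot_and_top.mpr ⟨fun h0 => ?_, hdim.ne⟩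
  have h1 := ringKrullDim_nonneg_of_nontrivial (R := R)
  rw [h0] at h1
  exact absurd h1 (by decide)

theorem height_toNat_lt (hdim : ringKrullDim R < ⊤) (p q : Ideal R) [p.IsPrime] [q.IsPrime]
    (hpq : p < q) : p.height.toNat < q.height.toNat := by
  have := finiteRingKrullDim_of_lt_top hdim
  have h1 := Ideal.height_strict_mono_of_isPrime hpq
  have hp : p.height ≠ ⊤ := p.height_ne_top Ideal.IsPrime.ne_top'
  have hq : q.height ≠ ⊤ := q.height_ne_top Ideal.IsPrime.ne_top'
  obtain ⟨n, hn⟩ := ENat.ne_top_iff_exists.1 hp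
  obtain ⟨m, hm⟩ := ENat.ne_top_iff_exists.1 hq
  rw [← hn, ← hm] at h1 ⊢
  simp only [ENat.toNat_natCast]
  exact_mod_cast h1

theorem resTrdegNat_le_of_le
    (hR : ∀ (p : Ideal R) [p.IsPrime], ValuationRing (Localization.AtPrime p))
    {x y : PrimeSpectrum S} (h : x ≤ y) :
    resTrdegNat (Spec.map (CommRingCat.ofHom (algebraMap R S))) y ≤
      resTrdegNat (Spec.map (CommRingCat.ofHom (algebraMap R S))) x := by
  have h1 := trdeg_quotient_le_of_le hR (x.asIdeal.under R) (y.asIdeal.under R) x.asIdeal
    y.asIdeal h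
  rw [trdeg_eq_resTrdegNat, trdeg_eq_resTrdegNat] at h1
  exact_mod_cast h1

theorem delta_lt
    (hR : ∀ (p : Ideal R) [p.IsPrime], ValuationRing (Localization.AtPrime p))
    (hdim : ringKrullDim R < ⊤) {x y : PrimeSpectrum S} (h : x < y) :
    delta R y < delta R x := by
  have hft := locallyOfFiniteType_SpecMap (R := R) (S := S)
  rw [delta_eq, delta_eq]
  have hsp : x ⤳ y := (PrimeSpectrum.le_iff_specializes x y).1 h.le
  by_cases hpq : x.asIdeal.under R = y.asIdeal.under R
  · have hf : (Spec.map (CommRingCat.ofHom (algebraMap R S))) x =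
        (Spec.map (CommRingCat.ofHom (algebraMap R S))) y := by
      rw [SpecMap_apply_eq, SpecMap_apply_eq]
      exact PrimeSpectrum.ext hpq
    have h1 := resTrdegNat_lt_of_specializes_fiber
      (Spec.map (CommRingCat.ofHom (algebraMap R S))) y x hsp hf h.ne
    rw [hpq]
    omega
  · have hlt : x.asIdeal.under R < y.asIdeal.under R :=
      lt_of_le_of_ne (Ideal.comap_mono h.le) hpq
    have h1 := height_toNat_lt hdim _ _ hlt
    have h2 := resTrdegNat_le_of_le hR h.le
    omega

theorem exists_between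
    (hR : ∀ (p : Ideal R) [p.IsPrime], ValuationRing (Localization.AtPrime p))
    (hdim : ringKrullDim R < ⊤) {x y : PrimeSpectrum S} (h : x < y)
    (h2 : delta R y + 2 ≤ delta R x) : ∃ z : PrimeSpectrum S, x < z ∧ z < y := by
  have hft := locallyOfFiniteType_SpecMap (R := R) (S := S)
  rw [delta_eq, delta_eq] at h2
  have hsp : x ⤳ y := (PrimeSpectrum.le_iff_specializes x y).1 h.le
  by_cases hpq : x.asIdeal.under R = y.asIdeal.under R
  · by_contra hcon
    push Not at hcon
    have hf : (Spec.map (CommRingCat.ofHom (algebraMap R S))) x =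
        (Spec.map (CommRingCat.ofHom (algebraMap R S))) y := by
      rw [SpecMap_apply_eq, SpecMap_apply_eq]
      exact PrimeSpectrum.ext hpq
    have himm : ∀ s : PrimeSpectrum S, x ⤳ s → s ⤳ y → s = x ∨ s = y := by
      intro s h3 h4
      have h5 : x ≤ s := (PrimeSpectrum.le_iff_specializes x s).2 h3
      have h6 : s ≤ y := (PrimeSpectrum.le_iff_specializes s y).2 h4
      by_contra h7
      push Not at h7
      exact hcon s (lt_of_le_of_ne h5 (Ne.symm h7.1)) (lt_of_le_of_ne h6 h7.2)
    have h1 := resTrdegNat_eq_add_one_of_immediate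
      (Spec.map (CommRingCat.ofHom (algebraMap R S))) y x hsp hf h.ne himm
    rw [hpq] at h2
    omega
  · have hlt : x.asIdeal.under R < y.asIdeal.under R :=
      lt_of_le_of_ne (Ideal.comap_mono h.le) hpq
    have key : ∃ t : PrimeSpectrum S, x ⤳ t ∧ t ⤳ y ∧
        (Spec.map (CommRingCat.ofHom (algebraMap R S))) t =
          (Spec.map (CommRingCat.ofHom (algebraMap R S))) y ∧
        resTrdegNat (Spec.map (CommRingCat.ofHom (algebraMap R S))) x ≤
          resTrdegNat (Spec.map (CommRingCat.ofHom (algebraMap R S))) t :=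
      exists_generization_resTrdegNat_ge
        (Spec.map (CommRingCat.ofHom (algebraMap R S))) x y hsp
    obtain ⟨t, hxt, hty, hft', hle⟩ := key
    have hxt' : x ≤ t := (PrimeSpectrum.le_iff_specializes x t).2 hxt
    have hty' : t ≤ y := (PrimeSpectrum.le_iff_specializes t y).2 hty
    have htu : t.asIdeal.under R = y.asIdeal.under R := by
      rw [SpecMap_apply_eq, SpecMap_apply_eq] at hft'
      exact congrArg PrimeSpectrum.asIdeal hft'
    by_cases hty2 : t = y
    · subst hty2
      have h3 := resTrdegNat_le_of_le hR h.le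
      have hfr := finiteRingKrullDim_of_lt_top hdim
      have hp : (x.asIdeal.under R).height ≠ ⊤ :=
        (x.asIdeal.under R).height_ne_top Ideal.IsPrime.ne_top'
      obtain ⟨n, hn⟩ := ENat.ne_top_iff_exists.1 hp
      have hex : ∃ b : Ideal R, b.IsPrime ∧ x.asIdeal.under R ≤ b ∧ b ≤ t.asIdeal.under R ∧
          b ≠ x.asIdeal.under R ∧ b ≠ t.asIdeal.under R := by
        by_contra hcon
        push Not at hcon
        have h4 := height_le_add_one_of_covBy hR (x.asIdeal.under R) (t.asIdeal.under R) hlt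
          (fun b hb h5 h6 => by
            by_contra h7
            push Not at h7
            exact h7.2 (hcon b hb h5 h6 h7.1)) n hn.symm
        have hq : (t.asIdeal.under R).height ≠ ⊤ :=
          (t.asIdeal.under R).height_ne_top Ideal.IsPrime.ne_top'
        obtain ⟨m, hm⟩ := ENat.ne_top_iff_exists.1 hq
        rw [← hm] at h4
        have h4' : m ≤ n + 1 := by exact_mod_cast h4
        rw [← hn, ← hm] at h2
        simp only [ENat.toNat_natCast] at h2
        omega
      obtain ⟨b, hb, hb1, hb2, hb3, hb4⟩ := hex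
      obtain ⟨P₁, hP₁, hP₁1, hP₁2, hP₁3⟩ :=
        exists_prime_between_of_under hR x.asIdeal t.asIdeal h.le b hb1 hb2
      refine ⟨⟨P₁, hP₁⟩, lt_of_le_of_ne hP₁1 ?_, lt_of_le_of_ne hP₁2 ?_⟩
      · rintro rfl
        exact hb3 hP₁3.symm
      · rintro rfl
        exact hb4 hP₁3.symm
    · refine ⟨t, lt_of_le_of_ne hxt' ?_, lt_of_le_of_ne hty' hty2⟩
      rintro rfl
      exact hpq htu

theorem covBy_iff
    (hR : ∀ (p : Ideal R) [p.IsPrime], ValuationRing (Localization.AtPrime p))
    (hdim : ringKrullDim R < ⊤) {x y : PrimeSpectrum S} (h : x < y) :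
    x ⋖ y ↔ delta R x = delta R y + 1 := by
  constructor
  · intro hcov
    have h1 := delta_lt hR hdim h
    by_contra h2
    have h3 : delta R y + 2 ≤ delta R x := by omega
    obtain ⟨z, hz1, hz2⟩ := exists_between hR hdim h h3
    exact hcov.2 hz1 hz2
  · intro heq
    refine ⟨h, fun z hz1 hz2 => ?_⟩
    have h1 := delta_lt hR hdim hz1
    have h2 := delta_lt hR hdim hz2
    omega

end Main

end Groth.Agent.Lib.Helper63.PruferDim
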