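import Mathlib
import Groth.Agent.Lib.Helper63.PruferDim3
import Groth.Prelude.Def_Found

set_option autoImplicit false
universe u

open AlgebraicGeometry CategoryTheory

namespace Groth.Agent.Lib.Helper63.PruferDim

section OrderLemmas

variable {α : Type*} [PartialOrder α] (δ : α → ℤ)

theorem length_le_of_strictAnti (hδ : ∀ x y : α, x < y → δ y < δ x) (s : LTSeries α) :
    (s.length : ℤ) ≤ δ s.head - δ s.last := by
  have key : ∀ (n : ℕ) (hn : n < s.length + 1), (n : ℤ) ≤ δ s.head - δ (s ⟨n, hn⟩) := by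
    intro n
    induction n with
    | zero =>
      intro hn
      have : s ⟨0, hn⟩ = s.head := rfl
      rw [this]; simp
    | succ n ih =>
      intro hn
      have h1 := ih (by omega)
      have h2 : s ⟨n, by omega⟩ < s ⟨n + 1, hn⟩ := s.strictMono (by simp [Fin.lt_def])
      have := hδ _ _ h2
      push_cast
      omega
  exact key s.length (by omega)

theorem length_eq_of_saturated (hcov : ∀ x y : α, x ⋖ y → δ x = δ y + 1) (s : LTSeries α)
    (hs : ∀ i : Fin s.length, s (Fin.castSucc i) ⋖ s (Fin.succ i)) :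
    (s.length : ℤ) = δ s.head - δ s.last := by
  have key : ∀ (n : ℕ) (hn : n < s.length + 1), (n : ℤ) = δ s.head - δ (s ⟨n, hn⟩) := by
    intro n
    induction n with
    | zero =>
      intro hn
      have : s ⟨0, hn⟩ = s.head := rfl
      rw [this]; simp
    | succ n ih =>
      intro hn
      have h1 := ih (by omega)
      have h2 : s ⟨n, by omega⟩ ⋖ s ⟨n + 1, hn⟩ := hs ⟨n, by omega⟩
      have := hcov _ _ h2
      push_cast
      omega
  exact key s.length (by omega)

end OrderLemmas

section Catenary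

variable {A : Type u} [CommRing A] (δ : PrimeSpectrum A → ℤ)

theorem isCatenary_of_delta (h1 : ∀ x y : PrimeSpectrum A, x < y → δ y < δ x)
    (h2 : ∀ x y : PrimeSpectrum A, x ⋖ y → δ x = δ y + 1) : CAlg.IsCatenary A := by
  refine ⟨fun p q _ => ⟨(δ p - δ q).toNat, fun s hs1 hs2 => ?_⟩, fun s t hst1 hst2 hs ht => ?_⟩
  · have := length_le_of_strictAnti δ h1 s
    rw [hs1, hs2] at this
    omega
  · have e1 := length_eq_of_saturated δ h2 s hs
    have e2 := length_eq_of_saturated δ h2 t ht
    rw [hst1, hst2] at e1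
    omega

theorem ringKrullDim_lt_top_of_delta (h1 : ∀ x y : PrimeSpectrum A, x < y → δ y < δ x)
    (a b : ℤ) (hb : ∀ x, a ≤ δ x ∧ δ x ≤ b) : ringKrullDim A < ⊤ := by
  have h3 : ringKrullDim A ≤ (((b - a).toNat : ℕ) : WithBot ℕ∞) := by
    unfold ringKrullDim Order.krullDim
    refine iSup_le fun s => ?_
    have := length_le_of_strictAnti δ h1 s
    have h4 := hb s.head
    have h5 := hb s.last
    have h6 : s.length ≤ (b - a).toNat := by omega
    exact_mod_cast h6
  refine lt_of_le_of_lt h3 ?_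
  exact WithBot.coe_lt_coe.mpr (ENat.natCast_lt_top _)

end Catenary

section Bound

variable {R : Type u} [CommRing R] {S : Type u} [CommRing S] [Algebra R S]

theorem trdeg_quotient_le_card (G : Finset S) (hG : Algebra.adjoin R (G : Set S) = ⊤)
    (P : Ideal S) [P.IsPrime] :
    Algebra.trdeg (R ⧸ P.under R) (S ⧸ P) ≤ (G.card : Cardinal.{u}) := by
  classical
  have hdom : IsDomain (S ⧸ P) := Ideal.Quotient.isDomain _
  let s : Set (S ⧸ P) := (Ideal.Quotient.mk P) '' (G : Set S)
  have htop : Algebra.adjoin (R ⧸ P.under R) s = ⊤ := by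
    rw [eq_top_iff]
    rintro y -
    obtain ⟨x, rfl⟩ := Ideal.Quotient.mk_surjective y
    have hx : x ∈ Algebra.adjoin R (G : Set S) := by rw [hG]; trivial
    induction hx using Algebra.adjoin_induction with
    | mem x hx => exact Algebra.subset_adjoin ⟨x, hx, rfl⟩
    | algebraMap r =>
      have : Ideal.Quotient.mk P (algebraMap R S r) =
          algebraMap (R ⧸ P.under R) (S ⧸ P) (Ideal.Quotient.mk (P.under R) r) := rfl
      rw [this]
      exact Subalgebra.algebraMap_mem _ _
    | add x y _ _ hx hy => rw [map_add]; exact Subalgebra.add_mem _ hx hy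
    | mul x y _ _ hx hy => rw [map_mul]; exact Subalgebra.mul_mem _ hx hy
  have halg : Algebra.IsAlgebraic (Algebra.adjoin (R ⧸ P.under R) s) (S ⧸ P) := by
    refine ⟨fun a => ?_⟩
    have ha : a ∈ Algebra.adjoin (R ⧸ P.under R) s := by rw [htop]; trivial
    exact isAlgebraic_algebraMap (⟨a, ha⟩ : Algebra.adjoin (R ⧸ P.under R) s)
  have h1 := Algebra.IsAlgebraic.trdeg_le_cardinalMk (R ⧸ P.under R) s
  refine h1.trans ?_
  refine (Cardinal.mk_image_le).trans ?_
  exact (Cardinal.mk_coe_finset (s := G)).le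

end Bound

section Final

variable {R : Type u} [CommRing R] [IsDomain R] {S : Type u} [CommRing S] [Algebra R S]
  [Algebra.FiniteType R S]

theorem exists_delta_bounds (hdim : ringKrullDim R < ⊤) :
    ∃ a b : ℤ, ∀ x : PrimeSpectrum S, a ≤ delta R x ∧ delta R x ≤ b := by
  obtain ⟨G, hG⟩ := (inferInstance : Algebra.FiniteType R S).out
  have hfr := finiteRingKrullDim_of_lt_top hdim
  have hne : ringKrullDim R ≠ ⊤ := hdim.ne
  have hnb : ringKrullDim R ≠ ⊥ := ringKrullDim_ne_bot
  obtain ⟨d', hd'⟩ := WithBot.ne_bot_iff_exists.1 hnb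
  have hd'top : d' ≠ ⊤ := by
    rintro rfl
    exact hne hd'.symm
  obtain ⟨d, hd⟩ := ENat.ne_top_iff_exists.1 hd'top
  refine ⟨-(d : ℤ), (G.card : ℤ), fun x => ?_⟩
  have h1 := trdeg_quotient_le_card G hG x.asIdeal
  rw [trdeg_eq_resTrdegNat] at h1
  have h1' : Groth.Agent.Lib.Helper73.resTrdegNat
      (Spec.map (CommRingCat.ofHom (algebraMap R S))) x ≤ G.card := by exact_mod_cast h1
  have h2 : ((x.asIdeal.under R).height : WithBot ℕ∞) ≤ ringKrullDim R :=
    Ideal.height_le_ringKrullDim_of_ne_top Ideal.IsPrime.ne_top'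
  rw [← hd', ← hd] at h2
  have hp : (x.asIdeal.under R).height ≠ ⊤ :=
    (x.asIdeal.under R).height_ne_top Ideal.IsPrime.ne_top'
  obtain ⟨n, hn⟩ := ENat.ne_top_iff_exists.1 hp
  rw [← hn] at h2
  have h2' : n ≤ d := by exact_mod_cast h2
  rw [delta_eq, ← hn]
  simp only [ENat.toNat_natCast]
  omega

theorem isCatenary_and_dim
    (hR : ∀ (p : Ideal R) [p.IsPrime], ValuationRing (Localization.AtPrime p))
    (hdim : ringKrullDim R < ⊤) : CAlg.IsCatenary S ∧ ringKrullDim S < ⊤ := by
  obtain ⟨a, b, hab⟩ := exists_delta_bounds (R := R) (S := S) hdim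
  exact ⟨isCatenary_of_delta (delta R) (fun x y h => delta_lt hR hdim h)
      (fun x y h => (covBy_iff hR hdim h.lt).1 h),
    ringKrullDim_lt_top_of_delta (delta R) (fun x y h => delta_lt hR hdim h) a b hab⟩

theorem isCatenary_and_dim_localization
    (hR : ∀ (p : Ideal R) [p.IsPrime], ValuationRing (Localization.AtPrime p))
    (hdim : ringKrullDim R < ⊤)
    (M : Submonoid S) (T : Type u) [CommRing T] [Algebra S T] [IsLocalization M T] :
    CAlg.IsCatenary T ∧ ringKrullDim T < ⊤ := by
  obtain ⟨a, b, hab⟩ := exists_delta_bounds (R := R) (S := S) hdim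
  let φ : PrimeSpectrum T → PrimeSpectrum S := PrimeSpectrum.comap (algebraMap S T)
  have hφlt : ∀ x y : PrimeSpectrum T, x < y → φ x < φ y := by
    intro x y h
    exact (IsLocalization.orderEmbedding M T).lt_iff_lt.2 h
  have hφle : ∀ x y : PrimeSpectrum T, φ x ≤ φ y → x ≤ y := by
    intro x y h
    exact (IsLocalization.orderEmbedding M T).le_iff_le.1 h
  have hφcov : ∀ x y : PrimeSpectrum T, x ⋖ y → φ x ⋖ φ y := by
    intro x y h
    refine ⟨hφlt x y h.lt, fun z hz1 hz2 => ?_⟩
    have hdisj : Disjoint (M : Set S) (z.asIdeal : Set S) := by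
      have h3 := ((IsLocalization.isPrime_iff_isPrime_disjoint M T y.asIdeal).1 y.isPrime).2
      exact Set.disjoint_of_subset_right (show (z.asIdeal : Set S) ⊆ _ from hz2.le) h3
    have hw : (z.asIdeal.map (algebraMap S T)).IsPrime :=
      IsLocalization.isPrime_of_isPrime_disjoint M T z.asIdeal z.isPrime hdisj
    have hwz : φ ⟨z.asIdeal.map (algebraMap S T), hw⟩ = z :=
      PrimeSpectrum.ext (IsLocalization.under_map_of_isPrime_disjoint M T z.isPrime hdisj)
    have h4 : x < ⟨z.asIdeal.map (algebraMap S T), hw⟩ := by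
      refine lt_of_le_of_ne (hφle _ _ (by rw [hwz]; exact hz1.le)) ?_
      rintro rfl
      rw [hwz] at hz1
      exact lt_irrefl _ hz1
    have h5 : (⟨z.asIdeal.map (algebraMap S T), hw⟩ : PrimeSpectrum T) < y := by
      refine lt_of_le_of_ne (hφle _ _ (by rw [hwz]; exact hz2.le)) ?_
      intro e
      rw [← e, hwz] at hz2
      exact lt_irrefl _ hz2
    exact h.2 h4 h5
  exact ⟨isCatenary_of_delta (fun x => delta R (φ x))
      (fun x y h => delta_lt hR hdim (hφlt x y h))
      (fun x y h => (covBy_iff hR hdim (hφlt x y h.lt)).1 (hφcov x y h)),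
    ringKrullDim_lt_top_of_delta (fun x => delta R (φ x))
      (fun x y h => delta_lt hR hdim (hφlt x y h)) a b (fun x => hab (φ x))⟩

end Final

end Groth.Agent.Lib.Helper63.PruferDim
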