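import Groth.Agent.Lib.Helper93.SerreVan
import Groth.Agent.Lib.Helper35.FinLocFreeSum
import Groth.Agent.Lib.Helper2.FinLocFreeAff
import Groth.Agent.Lib.Helper53.Graded

/-!
# helper63: Serre vanishing on `P^n_R` for finitely presented modules, given that kernels of
epimorphisms of finitely presented modules are finitely presented
-/

set_option autoImplicit false
universe u
open CategoryTheory CategoryTheory.Limits AlgebraicGeometry TopologicalSpace Opposite MvPolynomial

namespace Groth.Agent.Lib.Helper63.PruferSerre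

open Groth.Agent.Lib.Helper93.PnCoh Groth.Agent.Lib.Helper93.PnFin
open Groth.Agent.Lib.Helper93.SerreVan
open Groth.Agent.Lib.Helper97.TwistExact

variable (n : ℕ) (R : Type u) [CommRing R]

local notation "𝒜" => CohB1.polyGrading n R

theorem irrelevant_fg : (HomogeneousIdeal.irrelevant 𝒜).toIdeal.FG := by
  classical
  refine ⟨Finset.univ.image (fun i : Fin (n + 1) => (X i : MvPolynomial (Fin (n + 1)) R)), ?_⟩
  apply le_antisymm
  · rw [Ideal.span_le]
    intro p hp
    simp only [Finset.coe_image, Finset.coe_univ, Set.image_univ, Set.mem_range] at hp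
    obtain ⟨i, rfl⟩ := hp
    change X i ∈ (HomogeneousIdeal.irrelevant 𝒜)
    rw [HomogeneousIdeal.mem_irrelevant_iff]
    rw [GradedRing.proj_apply, DirectSum.decompose_of_mem_ne (hx := isHomogeneous_X R i)]
    exact one_ne_zero
  · intro p hp
    change p ∈ (HomogeneousIdeal.irrelevant 𝒜) at hp
    rw [HomogeneousIdeal.mem_irrelevant_iff, GradedRing.proj_apply] at hp
    rw [p.as_sum]
    refine Ideal.sum_mem _ (fun s hs => ?_)
    by_cases h0 : s = 0
    · exfalso
      subst h0
      have h1 : coeff 0 p = 0 := by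
        have h4 : ((DirectSum.decompose 𝒜 p) 0 : MvPolynomial (Fin (n + 1)) R) =
            homogeneousComponent 0 p := MvPolynomial.decomposition.decompose'_apply p 0
        have h2 := congrArg (coeff 0) hp
        rw [h4, coeff_homogeneousComponent] at h2
        simpa using h2
      exact (mem_support_iff.1 hs) h1
    · obtain ⟨i, hi⟩ : ∃ i, s i ≠ 0 := by
        by_contra hcon
        push Not at hcon
        exact h0 (Finsupp.ext hcon)
      have hle : Finsupp.single i 1 ≤ s := by
        rw [Finsupp.le_def]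
        intro j
        by_cases hj : j = i
        · subst hj
          simp only [Finsupp.single_eq_same]
          omega
        · rw [Finsupp.single_eq_of_ne hj]
          exact Nat.zero_le _
      have h3 : monomial s (coeff s p) =
          X i * monomial (s - Finsupp.single i 1) (coeff s p) := by
        rw [X, monomial_mul, one_mul, add_tsub_cancel_of_le hle]
      rw [h3]
      exact Ideal.mul_mem_right _ _ (Ideal.subset_span (by simp))

theorem isFP_sigma_twist {r : ℕ} (a : Fin r → ℤ) :
    CohB1.IsFP (∐ fun j : Fin r => Twist.twist 𝒜 (a j)) := by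
  haveI : (∐ fun j : Fin r => Twist.twist 𝒜 (a j)).IsQuasicoherent :=
    (isCoh_sigma _ (fun j => isCoh_twist n R (a j))).1
  exact Groth.Agent.Lib.Helper2.FinLocFreeAff.isFP_of_isFinLocFree _
    (Groth.Agent.Lib.Helper35.FinLocFreeSum.isFinLocFree_sigma _
      (fun j => Groth.Agent.Lib.Helper35.FinLocFreeSum.isFinLocFree_of_isInvertible
        (isInvertible_twist n R (a j))))

theorem isCoh_of_isFP {X : Scheme.{u}} (F : X.Modules) (hF : CohB1.IsFP F) : Coh.IsCoh F := by
  haveI := hF
  exact ⟨inferInstance, inferInstance⟩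

/-- **Serre vanishing on `P^n_R`** for finitely presented modules, by descending induction on the
cohomological degree -/
theorem serre_vanishing_aux
    (hker : ∀ {M N : (CohB1.ProjSpace n R).Modules} (φ : M ⟶ N) [Epi φ],
      CohB1.IsFP M → CohB1.IsFP N → CohB1.IsFP (kernel φ)) :
    ∀ (k i : ℕ), 0 < i → n + 1 ≤ i + k → ∀ (F : (CohB1.ProjSpace n R).Modules), CohB1.IsFP F →
      ∃ d₀ : ℤ, ∀ d : ℤ, d₀ ≤ d → Subsingleton (Coh.HH (CohB1.ProjSpace n R)
        (CohB1.tensorMod F (Twist.twistProjSpace n R d)) i)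
  | 0, i, _, hik, F, hF => by
    refine ⟨0, fun d _ => ?_⟩
    haveI : F.IsQuasicoherent := (isCoh_of_isFP F hF).1
    haveI : Coh.IsQCoh (CohB1.tensorMod F (Twist.twistProjSpace n R d)) :=
      Groth.Agent.Lib.Lead.Inv.isQuasicoherent_tensorMod_right F (isInvertible_twist n R d)
    exact Groth.Agent.S0022.result n R _ i (by omega)
  | k + 1, i, hi, hik, F, hF => by
    obtain ⟨r, a, φ, hφ⟩ := Groth.Agent.Lib.Helper35.ProjRes.exists_epi_sigma_twist
      (irrelevant_fg n R) F (isCoh_of_isFP F hF)
    have hE : CohB1.IsFP (∐ fun j : Fin r => Twist.twist 𝒜 (a j)) := isFP_sigma_twist n R a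
    let S : ShortComplex (CohB1.ProjSpace n R).Modules :=
      ShortComplex.mk (kernel.ι φ) φ (kernel.condition φ)
    have hS : S.ShortExact :=
      { exact := ShortComplex.exact_kernel φ
        mono_f := inferInstanceAs (Mono (kernel.ι φ))
        epi_g := hφ }
    have hK : CohB1.IsFP (kernel φ) := @hker _ _ φ hφ hE hF
    obtain ⟨d₁, hd₁⟩ := serre_vanishing_aux hker k (i + 1) (by omega) (by omega) (kernel φ) hK
    obtain ⟨d₂, hd₂⟩ : ∃ d₂ : ℤ, ∀ d : ℤ, d₂ ≤ d → ∀ j, -((n : ℤ) + 1) < a j + d := by
      refine ⟨(Finset.univ.sup' ⟨0, Finset.mem_univ _⟩ (fun j : Fin (r + 1) =>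
        if h : (j : ℕ) < r then -(a ⟨j, h⟩) else 0)) - n, fun d hd j => ?_⟩
      have h1 := Finset.le_sup' (fun j : Fin (r + 1) =>
        if h : (j : ℕ) < r then -(a ⟨j, h⟩) else 0) (Finset.mem_univ (Fin.castSucc j))
      simp only [Fin.val_castSucc, j.isLt, dite_true, Fin.eta] at h1
      omega
    refine ⟨max d₁ d₂, fun d hd => ?_⟩
    have hT := shortExact_twist (Twist.twistProjSpace n R d) (isFlat_twist n R d) S hS
    exact subsingleton_HH_X₃ hT i
      (subsingleton_HH_sigma_twist n R a d i hi (hd₂ d (le_trans (le_max_right _ _) hd)))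
      (hd₁ d (le_trans (le_max_left _ _) hd))

/-- **Serre vanishing on `P^n_R`** for finitely presented modules (uniform in the degree) -/
theorem serre_vanishing
    (hker : ∀ {M N : (CohB1.ProjSpace n R).Modules} (φ : M ⟶ N) [Epi φ],
      CohB1.IsFP M → CohB1.IsFP N → CohB1.IsFP (kernel φ))
    (F : (CohB1.ProjSpace n R).Modules) (hF : CohB1.IsFP F) :
    ∃ d₀ : ℤ, ∀ d : ℤ, d₀ ≤ d → ∀ i : ℕ, 0 < i → Subsingleton (Coh.HH (CohB1.ProjSpace n R)
        (CohB1.tensorMod F (Twist.twistProjSpace n R d)) i) := by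
  choose D hD using fun i : Fin (n + 1) =>
    serre_vanishing_aux n R hker (n + 1) ((i : ℕ) + 1) (by omega) (by omega) F hF
  refine ⟨Finset.univ.sup' ⟨0, Finset.mem_univ _⟩ D, fun d hd i hi => ?_⟩
  by_cases hin : i ≤ n + 1
  · obtain ⟨j, rfl⟩ : ∃ j, i = j + 1 := ⟨i - 1, by omega⟩
    have hj : j < n + 1 := by omega
    exact hD ⟨j, hj⟩ d (le_trans (Finset.le_sup' D (Finset.mem_univ _)) hd)
  · have : F.IsQuasicoherent := (isCoh_of_isFP F hF).1
    have : Coh.IsQCoh (CohB1.tensorMod F (Twist.twistProjSpace n R d)) :=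
      Groth.Agent.Lib.Lead.Inv.isQuasicoherent_tensorMod_right F (isInvertible_twist n R d)
    exact Groth.Agent.S0022.result n R _ i (by omega)

end Groth.Agent.Lib.Helper63.PruferSerre
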