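import Groth.Agent.Lib.Helper63.PruferSerre
import Groth.Agent.Lib.Helper35.PbTensor
import Groth.Agent.Lib.Helper35.PbAmple
import Groth.Agent.Lib.Helper60.TensorMod
import Groth.Agent.Lib.Helper69.PruferSerreT1
import Groth.Agent.Lib.Helper25.PruferSerreT3
import Groth.Agent.Lib.Helper97.PruferSerreT4
import Groth.Agent.Lib.Helper56.PruferSerreT2

/-!
# helper63: Serre vanishing for closed subschemes of `P^n_R` over a Prüfer domain `R`
-/

set_option autoImplicit false
universe u
open CategoryTheory CategoryTheory.Limits AlgebraicGeometry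

namespace Groth.Agent.Lib.Helper63.PruferSerre2

open Groth.Agent.Lib.Helper93.SerreVan Groth.Agent.Lib.Helper63.PruferSerre in
/-- Serre vanishing on a closed subscheme `X` of `P^n_R`, `R` a Prüfer domain, for a quasi-coherent
module whose pushforward to `P^n_R` is finitely presented -/
theorem core (R : Type u) [CommRing R] [IsDomain R]
    (hR : ∀ (p : Ideal R) [p.IsPrime], ValuationRing (Localization.AtPrime p)) (n : ℕ)
    (X : Scheme.{u}) (ι : X ⟶ CohB1.ProjSpace n R) [IsClosedImmersion ι]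
    (F : X.Modules) [F.IsQuasicoherent]
    (hG : CohB1.IsFP ((Scheme.Modules.pushforward ι).obj F)) :
    ∃ N : ℕ, ∀ k : ℕ, N ≤ k → ∀ q : ℕ, 1 ≤ q →
      Subsingleton (Coh.HH X (CohB1.tensorMod F (CohB1.tensorPow
        ((Scheme.Modules.pullback ι).obj (Twist.twistProjSpace n R 1)) k)) q) := by
  have hker : ∀ {M N : (CohB1.ProjSpace n R).Modules} (φ : M ⟶ N) [Epi φ],
      CohB1.IsFP M → CohB1.IsFP N → CohB1.IsFP (kernel φ) :=
    fun φ _ hM hN => Groth.Agent.Lib.Helper69.PruferSerreT1.isFP_kernel φ hM hN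
      (fun x => Groth.Agent.Lib.Helper56.PruferSerreT2.coherent_chart R hR n x)
  obtain ⟨d₀, hd₀⟩ := serre_vanishing n R hker _ hG
  refine ⟨d₀.toNat, fun k hk q hq => ?_⟩
  have hL1 : PicF.IsInvertible (Twist.twistProjSpace n R 1) := isInvertible_twist n R 1
  obtain ⟨e1⟩ := Groth.Agent.Lib.Helper35.PbTensor.nonempty_pullback_tensorPow ι hL1 k
  obtain ⟨e2⟩ := Groth.Agent.Lib.Helper35.ProjRes.tensorPow_twist_iso (𝒜 := CohB1.polyGrading n R)
    (d := 1) (fun j => by simpa using hasGens n R (j * 1)) k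
  have hLk : PicF.IsInvertible (Twist.twistProjSpace n R ((k : ℤ) * 1)) :=
    isInvertible_twist n R _
  let e3 : CohB1.tensorPow ((Scheme.Modules.pullback ι).obj (Twist.twistProjSpace n R 1)) k ≅
      (Scheme.Modules.pullback ι).obj (Twist.twistProjSpace n R ((k : ℤ) * 1)) :=
    e1.symm ≪≫ (Scheme.Modules.pullback ι).mapIso e2
  obtain ⟨e4⟩ := Groth.Agent.Lib.Helper97.PruferSerreT4.projection ι F _ hLk
  have h1 : Subsingleton (Coh.HH (CohB1.ProjSpace n R)
      (CohB1.tensorMod ((Scheme.Modules.pushforward ι).obj F)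
        (Twist.twistProjSpace n R ((k : ℤ) * 1))) q) :=
    hd₀ _ (by have := Int.toNat_le.1 hk; omega) q (by omega)
  have h2 := Groth.Agent.Lib.Helper97.TwistExact.subsingleton_HH_of_iso' e4.symm q h1
  have : (CohB1.tensorMod F ((Scheme.Modules.pullback ι).obj
      (Twist.twistProjSpace n R ((k : ℤ) * 1)))).IsQuasicoherent :=
    Groth.Agent.Lib.Lead.Inv.isQuasicoherent_tensorMod_right F
      (Groth.Agent.Lib.Helper35.PbInv.isInvertible_pullback ι hLk)
  have h3 := Groth.Agent.Lib.Helper25.PruferSerreT3.transfer ι _ q h2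
  exact Groth.Agent.Lib.Helper97.TwistExact.subsingleton_HH_of_iso'
    (Groth.Agent.Lib.Helper60.TensorLib.tensorModCongrRight F e3).symm q h3

end Groth.Agent.Lib.Helper63.PruferSerre2
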