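import Groth.Agent.Lib.Helper75.Fitting8
import Mathlib

set_option autoImplicit false
universe u

namespace Groth.Agent.Lib.Helper63.PureSpread

open TensorProduct Groth.Agent.Lib.Helper75.Fitting

theorem exists_notMem_smul_eq_zero {A : Type u} [CommRing A] {M : Type u} [AddCommGroup M]
    [Module A M] {ι : Type*} [Fintype ι] (y : ι → M) (𝔪 : Ideal A) [𝔪.IsMaximal]
    (hy : ∀ c : ι → A, ∑ i, c i • y i ∈ 𝔪 • (⊤ : Submodule A M) → ∀ i, c i ∈ 𝔪)
    {Q : Type u} [AddCommGroup Q] [Module A Q] (q : ι → Q)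
    (k : ℕ) (a : ι → Fin k → A) (z : Fin k → M) (hyz : ∀ i, y i = ∑ j, a i j • z j)
    (haq : ∀ j, ∑ i, a i j • q i = 0) : ∃ d : A, d ∉ 𝔪 ∧ ∀ i, d • q i = 0 := by
  classical
  let K := A ⧸ 𝔪
  let _ : Field K := Ideal.Quotient.field 𝔪
  let mk := Ideal.Quotient.mk 𝔪
  let abar : Matrix ι (Fin k) K := fun i j => mk (a i j)
  let L : (ι → K) →ₗ[K] (Fin k → K) := abar.vecMulLinear
  have hL : LinearMap.ker L = ⊥ := by
    rw [LinearMap.ker_eq_bot']
    intro cbar hc
    choose c hcc using fun i => Ideal.Quotient.mk_surjective (I := 𝔪) (cbar i)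
    have h1 : ∀ j, ∑ i, c i * a i j ∈ 𝔪 := by
      intro j
      rw [← Ideal.Quotient.eq_zero_iff_mem, map_sum]
      have := congrFun hc j
      simp only [L, Matrix.vecMulLinear_apply, Matrix.vecMul, dotProduct, Pi.zero_apply] at this
      rw [← this]
      apply Finset.sum_congr rfl
      intro i _
      rw [map_mul, hcc i]
    have h2 : ∑ i, c i • y i ∈ 𝔪 • (⊤ : Submodule A M) := by
      have : ∑ i, c i • y i = ∑ j, (∑ i, c i * a i j) • z j := by
        simp_rw [hyz, Finset.smul_sum, Finset.sum_smul, mul_smul]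
        rw [Finset.sum_comm]
      rw [this]
      exact Submodule.sum_mem _ fun j _ => Submodule.smul_mem_smul (h1 j) trivial
    have h3 := hy c h2
    funext i
    rw [← hcc i]
    exact Ideal.Quotient.eq_zero_iff_mem.mpr (h3 i)
  obtain ⟨g, hg⟩ := LinearMap.exists_leftInverse_of_injective L hL
  choose b hb using fun (j : Fin k) (l : ι) =>
    Ideal.Quotient.mk_surjective (I := 𝔪) (g (Pi.single j 1) l)
  let U : Matrix ι ι A := Matrix.of fun i l => ∑ j, a i j * b j l
  have hUapp : ∀ i l, U i l = ∑ j, a i j * b j l := fun _ _ => rfl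
  have hU : U.map mk = 1 := by
    ext i l
    have h1 : L (Pi.single i 1) = ∑ j, abar i j • (Pi.single j 1 : Fin k → K) := by
      funext j'
      simp [L, Matrix.vecMulLinear_apply, Finset.sum_apply, Pi.single_apply]
    have h2 : g (L (Pi.single i 1)) = Pi.single i 1 := LinearMap.congr_fun hg _
    rw [h1, map_sum] at h2
    have h3 := congrFun h2 l
    simp only [map_smul, Finset.sum_apply, Pi.smul_apply, smul_eq_mul] at h3
    rw [Matrix.map_apply, hUapp, map_sum, Matrix.one_apply]
    have h4 : ∑ j, mk (a i j * b j l) = ∑ x, abar i x * g (Pi.single x 1) l := by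
      apply Finset.sum_congr rfl
      intro j _
      rw [map_mul, hb]
    rw [h4, h3, Pi.single_apply]
    simp [eq_comm]
  refine ⟨U.transpose.det, ?_, fun i => ?_⟩
  · rw [← Ideal.Quotient.eq_zero_iff_mem, Matrix.det_transpose, RingHom.map_det,
      RingHom.mapMatrix_apply, hU, Matrix.det_one]
    exact one_ne_zero
  · apply det_smul_eq_zero q U.transpose
    intro l
    unfold IsRel
    simp only [Matrix.transpose_apply, hUapp, Finset.sum_smul, mul_smul]
    rw [Finset.sum_comm]
    apply Finset.sum_eq_zero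
    intro j _
    simp_rw [smul_comm (a _ j) (b j l)]
    rw [← Finset.smul_sum, haq j, smul_zero]

theorem eq_zero_of_sum_tmul_eq_zero {A : Type u} [CommRing A] {M : Type u} [AddCommGroup M]
    [Module A M] [Module.Flat A M] {ι : Type*} [Fintype ι] (y : ι → M)
    (hy : ∀ (𝔪 : Ideal A) [𝔪.IsMaximal] (c : ι → A),
      ∑ i, c i • y i ∈ 𝔪 • (⊤ : Submodule A M) → ∀ i, c i ∈ 𝔪)
    {Q : Type u} [AddCommGroup Q] [Module A Q] (q : ι → Q)
    (h : ∑ i, q i ⊗ₜ[A] y i = 0) : ∀ i, q i = 0 := by
  obtain ⟨k, a, z, hyz, haq⟩ :=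
    TensorProduct.vanishesTrivially_of_sum_tmul_eq_zero_of_rTensor_injective A
      (Module.Flat.rTensor_preserves_injective_linearMap _ (Submodule.injective_subtype _)) h
  let Ann : Ideal A := (Submodule.span A (Set.range q)).annihilator
  have hAnn : Ann = ⊤ := by
    by_contra hne
    obtain ⟨𝔪, h𝔪, hle⟩ := Ideal.exists_le_maximal Ann hne
    obtain ⟨d, hd, hdq⟩ := exists_notMem_smul_eq_zero y 𝔪 (hy 𝔪) q k a z hyz haq
    apply hd
    apply hle
    rw [Submodule.mem_annihilator_span]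
    rintro ⟨_, i, rfl⟩
    exact hdq i
  intro i
  have h1 : (1 : A) ∈ Ann := by rw [hAnn]; trivial
  rw [Submodule.mem_annihilator_span] at h1
  simpa using h1 ⟨q i, i, rfl⟩

end Groth.Agent.Lib.Helper63.PureSpread
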