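import Groth.Agent.Lib.Helper63.PureSpread1

set_option autoImplicit false
universe u

namespace Groth.Agent.Lib.Helper63.PureSpread

open TensorProduct

section
variable {A : Type u} [CommRing A]

theorem flat_prod (M N : Type u) [AddCommGroup M] [AddCommGroup N] [Module A M] [Module A N]
    [Module.Flat A M] [Module.Flat A N] : Module.Flat A (M × N) := by
  rw [Module.Flat.iff_rTensor_preserves_injective_linearMap]
  intro P P' _ _ _ _ f hf
  have hnat : (TensorProduct.prodRight A A P' M N).toLinearMap ∘ₗ f.rTensor (M × N) =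
      (LinearMap.prodMap (f.rTensor M) (f.rTensor N)) ∘ₗ
        (TensorProduct.prodRight A A P M N).toLinearMap := by
    apply TensorProduct.ext'
    intro p x
    simp
  have h2 : ∀ x, TensorProduct.prodRight A A P' M N (f.rTensor (M × N) x) =
      Prod.map (f.rTensor M) (f.rTensor N) (TensorProduct.prodRight A A P M N x) :=
    fun x => LinearMap.congr_fun hnat x
  intro x y hxy
  have h3 := h2 x
  rw [hxy, h2 y] at h3
  have h4 := Function.Injective.prodMap
      (Module.Flat.rTensor_preserves_injective_linearMap (M := M) f hf)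
      (Module.Flat.rTensor_preserves_injective_linearMap (M := N) f hf) h3
  exact ((TensorProduct.prodRight A A P M N).injective h4).symm

theorem one_tmul_eq_zero_of_mem (I : Ideal A) {M : Type u} [AddCommGroup M] [Module A M]
    (y : M) (hy : y ∈ I • (⊤ : Submodule A M)) : (1 : A ⧸ I) ⊗ₜ[A] y = 0 := by
  refine Submodule.smul_induction_on hy ?_ ?_
  · intro a ha m _
    rw [← TensorProduct.smul_tmul, Algebra.smul_def, mul_one, Ideal.Quotient.algebraMap_eq,
      Ideal.Quotient.eq_zero_iff_mem.mpr ha, zero_tmul]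
  · intro x y hx hy
    rw [tmul_add, hx, hy, add_zero]

theorem lTensor_prod_eq_zero {F M N : Type u} [AddCommGroup F] [AddCommGroup M] [AddCommGroup N]
    [Module A F] [Module A M] [Module A N] (v1 : F →ₗ[A] M) (v2 : F →ₗ[A] N)
    (Q : Type u) [AddCommGroup Q] [Module A Q] (z : Q ⊗[A] F) :
    (v1.prod v2).lTensor Q z = 0 ↔ v1.lTensor Q z = 0 ∧ v2.lTensor Q z = 0 := by
  have hnat : (TensorProduct.prodRight A A Q M N).toLinearMap ∘ₗ (v1.prod v2).lTensor Q =
      (v1.lTensor Q).prod (v2.lTensor Q) := by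
    apply TensorProduct.ext'
    intro q x
    simp
  have h1 : TensorProduct.prodRight A A Q M N ((v1.prod v2).lTensor Q z) =
      (v1.lTensor Q z, v2.lTensor Q z) := LinearMap.congr_fun hnat z
  constructor
  · intro h
    rw [h, map_zero] at h1
    exact ⟨(congrArg Prod.fst h1).symm, (congrArg Prod.snd h1).symm⟩
  · rintro ⟨h2, h3⟩
    rw [h2, h3] at h1
    exact (TensorProduct.prodRight A A Q M N).injective (by rw [h1, map_zero]; rfl)

theorem univInj_of_free {F M : Type u} [AddCommGroup F] [AddCommGroup M] [Module A F]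
    [Module A M] [Module.Free A F] [Module.Flat A M] (u : F →ₗ[A] M)
    (hu : ∀ (𝔪 : Ideal A) [𝔪.IsMaximal], Function.Injective (u.lTensor (A ⧸ 𝔪)))
    (Q : Type u) [AddCommGroup Q] [Module A Q] : Function.Injective (u.lTensor Q) := by
  classical
  let e := Module.Free.chooseBasis A F
  rw [injective_iff_map_eq_zero]
  intro z hz
  obtain ⟨f, rfl⟩ := (TensorProduct.equivFinsuppOfBasisRight e).symm.surjective z
  rw [TensorProduct.equivFinsuppOfBasisRight_symm_apply] at hz ⊢
  have hsum : ∑ i : f.support, f i ⊗ₜ[A] u (e i) = 0 := by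
    rw [Finset.sum_coe_sort f.support (fun i => f i ⊗ₜ[A] u (e i))]
    rw [Finsupp.sum, map_sum] at hz
    simpa using hz
  have hy : ∀ (𝔪 : Ideal A) [𝔪.IsMaximal] (c : f.support → A),
      ∑ i, c i • u (e i) ∈ 𝔪 • (⊤ : Submodule A M) → ∀ i, c i ∈ 𝔪 := by
    intro 𝔪 _ c hc
    let c' : Module.Free.ChooseBasisIndex A F → A ⧸ 𝔪 :=
      fun i => if h : i ∈ f.support then Ideal.Quotient.mk 𝔪 (c ⟨i, h⟩) else 0
    let b : Module.Free.ChooseBasisIndex A F →₀ A ⧸ 𝔪 := Finsupp.onFinset f.support c' (by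
      intro i hi
      by_contra hn
      exact hi (dif_neg hn))
    have hb : (b.sum fun i m => m ⊗ₜ[A] e i) = 0 := by
      apply hu 𝔪
      rw [map_zero, Finsupp.onFinset_sum _ (by simp), map_sum]
      have h1 : ∀ i ∈ f.support, (u.lTensor (A ⧸ 𝔪)) (c' i ⊗ₜ[A] e i) =
          (1 : A ⧸ 𝔪) ⊗ₜ[A] ((if h : i ∈ f.support then c ⟨i, h⟩ else 0) • u (e i)) := by
        intro i hi
        simp only [c', hi, dite_true, LinearMap.lTensor_tmul]
        rw [← TensorProduct.smul_tmul, Algebra.smul_def, mul_one]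
        rfl
      rw [Finset.sum_congr rfl h1, ← tmul_sum]
      apply one_tmul_eq_zero_of_mem
      have h2 : ∑ i ∈ f.support, (if h : i ∈ f.support then c ⟨i, h⟩ else 0) • u (e i) =
          ∑ i : f.support, c i • u (e i) := by
        rw [← Finset.sum_coe_sort f.support]
        apply Finset.sum_congr rfl
        intro i _
        simp
      rw [h2]
      exact hc
    have hb0 := TensorProduct.sum_tmul_basis_right_eq_zero e b hb
    intro i
    have h3 : b i = 0 := by rw [hb0]; rfl
    simp only [b, Finsupp.onFinset_apply, c', i.2, dite_true] at h3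
    exact Ideal.Quotient.eq_zero_iff_mem.mp h3
  have hq := eq_zero_of_sum_tmul_eq_zero (fun i : f.support => u (e i)) hy
    (fun i : f.support => f i) hsum
  have hf : f = 0 := by
    ext i
    by_cases hi : i ∈ f.support
    · exact hq ⟨i, hi⟩
    · simpa using hi
  rw [hf]
  simp

theorem univInj_of_projective {P M : Type u} [AddCommGroup P] [AddCommGroup M] [Module A P]
    [Module A M] [Module.Projective A P] [Module.Flat A M] (u : P →ₗ[A] M)
    (hu : ∀ (𝔪 : Ideal A) [𝔪.IsMaximal], Function.Injective (u.lTensor (A ⧸ 𝔪)))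
    (Q : Type u) [AddCommGroup Q] [Module A Q] : Function.Injective (u.lTensor Q) := by
  obtain ⟨s, hs⟩ := Module.projective_def'.mp (inferInstance : Module.Projective A P)
  let π : (P →₀ A) →ₗ[A] P := Finsupp.linearCombination A id
  let v1 : (P →₀ A) →ₗ[A] M := u ∘ₗ π
  let v2 : (P →₀ A) →ₗ[A] (P →₀ A) := LinearMap.id - s ∘ₗ π
  have hflat : Module.Flat A (M × (P →₀ A)) := flat_prod M (P →₀ A)
  have hπs : ∀ (Q : Type u) [AddCommGroup Q] [Module A Q] (z : Q ⊗[A] P),
      π.lTensor Q (s.lTensor Q z) = z := by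
    intro Q _ _ z
    rw [← LinearMap.comp_apply, ← LinearMap.lTensor_comp, hs, LinearMap.lTensor_id,
      LinearMap.id_apply]
  have hv : ∀ (𝔪 : Ideal A) [𝔪.IsMaximal],
      Function.Injective ((v1.prod v2).lTensor (A ⧸ 𝔪)) := by
    intro 𝔪 _
    rw [injective_iff_map_eq_zero]
    intro w hw
    obtain ⟨h1, h2⟩ := (lTensor_prod_eq_zero v1 v2 (A ⧸ 𝔪) w).mp hw
    have h3 : π.lTensor (A ⧸ 𝔪) w = 0 := by
      apply hu 𝔪
      rw [map_zero, ← LinearMap.comp_apply, ← LinearMap.lTensor_comp]
      exact h1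
    have h4 : w - s.lTensor (A ⧸ 𝔪) (π.lTensor (A ⧸ 𝔪) w) = 0 := by
      rw [← LinearMap.comp_apply, ← LinearMap.lTensor_comp]
      have : v2.lTensor (A ⧸ 𝔪) w = w - (s ∘ₗ π).lTensor (A ⧸ 𝔪) w := by
        simp only [v2, LinearMap.lTensor_sub, LinearMap.lTensor_id, LinearMap.sub_apply,
          LinearMap.id_apply]
      rw [← this]
      exact h2
    rw [h3, map_zero, sub_zero] at h4
    exact h4
  have hvQ := univInj_of_free (v1.prod v2) hv Q
  rw [injective_iff_map_eq_zero]
  intro z hz
  have h1 : (v1.prod v2).lTensor Q (s.lTensor Q z) = 0 := by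
    rw [lTensor_prod_eq_zero]
    constructor
    · simp only [v1, LinearMap.lTensor_comp, LinearMap.comp_apply]
      rw [hπs Q z, hz]
    · simp only [v2, LinearMap.lTensor_sub, LinearMap.lTensor_id, LinearMap.sub_apply,
        LinearMap.id_apply, LinearMap.lTensor_comp, LinearMap.comp_apply]
      rw [hπs Q z, sub_self]
  have h2 : s.lTensor Q z = 0 := hvQ (by rw [h1, map_zero])
  rw [← hπs Q z, h2, map_zero]

end

end Groth.Agent.Lib.Helper63.PureSpread
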