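import Groth.Agent.Lib.Helper63.PureSpread2
import Groth.Prelude.Def_FlatCA

set_option autoImplicit false
universe u

namespace Groth.Agent.Lib.Helper63.PureSpread

open TensorProduct

section content
variable {A : Type u} [CommRing A]

theorem apply_mem_of_mem {P : Type u} [AddCommGroup P] [Module A P] (φ : P →ₗ[A] A) (J : Ideal A)
    (x : P) (hx : x ∈ J • (⊤ : Submodule A P)) : φ x ∈ J := by
  refine Submodule.smul_induction_on hx ?_ ?_
  · intro a ha m _
    rw [map_smul, smul_eq_mul]
    exact Ideal.mul_mem_right _ _ ha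
  · intro x y hx hy
    rw [map_add]
    exact Ideal.add_mem _ hx hy

theorem exists_content_of_projective {P : Type u} [AddCommGroup P] [Module A P]
    [Module.Projective A P] (x : P) :
    ∃ I : Ideal A, x ∈ I • (⊤ : Submodule A P) ∧
      ∀ J : Ideal A, x ∈ J • (⊤ : Submodule A P) → I ≤ J := by
  obtain ⟨s, hs⟩ := Module.projective_def'.mp (inferInstance : Module.Projective A P)
  refine ⟨Ideal.span (Set.range (s x)), ?_, ?_⟩
  · have h1 : Finsupp.linearCombination A id (s x) = x := LinearMap.congr_fun hs x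
    suffices h : Finsupp.linearCombination A id (s x) ∈
        Ideal.span (Set.range (s x)) • (⊤ : Submodule A P) by rwa [h1] at h
    rw [Finsupp.linearCombination_apply, Finsupp.sum]
    apply Submodule.sum_mem
    intro p _
    exact Submodule.smul_mem_smul (Ideal.subset_span ⟨p, rfl⟩) trivial
  · intro J hJ
    rw [Ideal.span_le]
    rintro _ ⟨p, rfl⟩
    exact apply_mem_of_mem ((Finsupp.lapply p).comp s) J x hJ

theorem map_mem_smul_top {P P' : Type u} [AddCommGroup P] [Module A P] [AddCommGroup P']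
    [Module A P'] (f : P →ₗ[A] P') (J : Ideal A) (x : P)
    (hx : x ∈ J • (⊤ : Submodule A P)) : f x ∈ J • (⊤ : Submodule A P') := by
  refine Submodule.smul_induction_on hx ?_ ?_
  · intro a ha m _
    rw [map_smul]
    exact Submodule.smul_mem_smul ha trivial
  · intro x y hx hy
    rw [map_add]
    exact Submodule.add_mem _ hx hy

theorem mem_of_map_mem {P P' : Type u} [AddCommGroup P] [Module A P] [AddCommGroup P']
    [Module A P'] (f : P →ₗ[A] P') (hf : FlatCA.UnivInj A f) (J : Ideal A) (x : P)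
    (hx : f x ∈ J • (⊤ : Submodule A P')) : x ∈ J • (⊤ : Submodule A P) := by
  have h1 : (f.lTensor (A ⧸ J)) ((1 : A ⧸ J) ⊗ₜ[A] x) = 0 := by
    rw [LinearMap.lTensor_tmul]
    exact one_tmul_eq_zero_of_mem J _ hx
  have h2 : (1 : A ⧸ J) ⊗ₜ[A] x = 0 := hf (A ⧸ J) (by rw [h1, map_zero])
  have h3 := congrArg (TensorProduct.quotTensorEquivQuotSMul P J) h2
  rw [TensorProduct.quotTensorEquivQuotSMul_mk_one_tmul, map_zero,
    Submodule.Quotient.mk_eq_zero] at h3
  exact h3

end content

section spread
variable {A B : Type u} [CommRing A] [CommRing B] [Algebra A B] (T : Submonoid B)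
  {N : Type u} [AddCommGroup N] [Module (Localization T) N] [Module A N]
  [IsScalarTower A (Localization T) N]
  {C : Type u} [CommRing C] [Algebra B C] [Algebra A C] [IsScalarTower A B C]
  [Algebra C (Localization T)] [IsScalarTower B C (Localization T)]
  [IsScalarTower A C (Localization T)]
  [Module C N] [IsScalarTower C (Localization T) N] [IsScalarTower A C N]
  {N' : Type u} [AddCommGroup N'] [Module C N'] [Module A N'] [IsScalarTower A C N']
  (g : N' →ₗ[C] N)

include T in
theorem smul_mem_smul_top (J : Ideal A) (l : Localization T) (x : N)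
    (hx : x ∈ J • (⊤ : Submodule A N)) : l • x ∈ J • (⊤ : Submodule A N) := by
  refine Submodule.smul_induction_on hx ?_ ?_
  · intro a ha m _
    rw [smul_comm]
    exact Submodule.smul_mem_smul ha trivial
  · intro x y hx hy
    rw [smul_add]
    exact Submodule.add_mem _ hx hy

theorem exists_smul_eq (hg : IsBaseChange (Localization T) g) (x : N) :
    ∃ (t : T) (x' : N'), algebraMap B (Localization T) t • x = g x' := by
  have hC : ∀ (c : B) (n : N), algebraMap B C c • n = algebraMap B (Localization T) c • n := by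
    intro c n
    rw [← algebraMap_smul (Localization T) (algebraMap B C c) n,
      ← IsScalarTower.algebraMap_apply]
  refine hg.inductionOn x
    (fun x => ∃ (t : T) (x' : N'), algebraMap B (Localization T) t • x = g x') ?_ ?_ ?_ ?_
  · exact ⟨1, 0, by simp⟩
  · intro m
    exact ⟨1, m, by simp⟩
  · rintro s n ⟨t₁, x', h⟩
    obtain ⟨⟨b, t₂⟩, rfl⟩ := IsLocalization.mk'_surjective T s
    refine ⟨t₁ * t₂, algebraMap B C b • x', ?_⟩
    rw [map_smul, ← h, hC, smul_smul, smul_smul, Submonoid.coe_mul, map_mul, mul_assoc,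
      IsLocalization.mk'_spec', mul_comm]
  · rintro n₁ n₂ ⟨t₁, x₁, h₁⟩ ⟨t₂, x₂, h₂⟩
    refine ⟨t₁ * t₂, algebraMap B C t₂ • x₁ + algebraMap B C t₁ • x₂, ?_⟩
    rw [map_add, map_smul, map_smul, ← h₁, ← h₂, hC, hC, smul_smul, smul_smul, smul_add,
      Submonoid.coe_mul, map_mul, mul_comm]

variable (A) in
noncomputable def G (t : T) : N' →ₗ[A] N :=
  (DistribSMul.toLinearMap A N (IsLocalization.mk' (Localization T) (1 : B) t)) ∘ₗ
    (g.restrictScalars A)

theorem G_apply (t : T) (x' : N') :
    G A T g t x' = IsLocalization.mk' (Localization T) (1 : B) t • g x' := rfl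

theorem G_univInj (hinj : FlatCA.UnivInj A (g.restrictScalars A)) (t : T) :
    FlatCA.UnivInj A (G A T g t) := by
  intro Q _ _
  unfold G
  rw [LinearMap.lTensor_comp, LinearMap.coe_comp]
  refine Function.Injective.comp ?_ (hinj Q)
  apply Function.LeftInverse.injective
    (g := (DistribSMul.toLinearMap A N (algebraMap B (Localization T) t)).lTensor Q)
  intro z
  rw [← LinearMap.comp_apply, ← LinearMap.lTensor_comp]
  have : (DistribSMul.toLinearMap A N (algebraMap B (Localization T) t)) ∘ₗ
      (DistribSMul.toLinearMap A N (IsLocalization.mk' (Localization T) (1 : B) t)) =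
      LinearMap.id := by
    ext n
    change algebraMap B (Localization T) t •
      (IsLocalization.mk' (Localization T) (1 : B) t • n) = n
    rw [smul_smul, IsLocalization.mk'_spec', map_one, one_smul]
  rw [this, LinearMap.lTensor_id, LinearMap.id_apply]

theorem G_mul (t₁ t₂ : T) (x' : N') :
    G A T g t₁ x' = G A T g (t₁ * t₂) (algebraMap B C t₂ • x') := by
  rw [G_apply, G_apply, map_smul, ← algebraMap_smul (Localization T) (algebraMap B C t₂) (g x'),
    ← IsScalarTower.algebraMap_apply, smul_smul]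
  congr 1
  rw [IsLocalization.mk'_eq_iff_eq_mul, mul_assoc, ← map_mul, mul_comm (t₂ : B) (t₁ : B),
    ← Submonoid.coe_mul, IsLocalization.mk'_spec]

theorem exists_rep (hg : IsBaseChange (Localization T) g) (Q : Type u) [AddCommGroup Q]
    [Module A Q] (z : Q ⊗[A] N) : ∃ (t : T) (z' : Q ⊗[A] N'), z = (G A T g t).lTensor Q z' := by
  induction z using TensorProduct.induction_on with
  | zero => exact ⟨1, 0, by simp⟩
  | tmul q x =>
    obtain ⟨t, x', h⟩ := exists_smul_eq T g hg x
    refine ⟨t, q ⊗ₜ x', ?_⟩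
    rw [LinearMap.lTensor_tmul, G_apply, ← h, smul_smul, IsLocalization.mk'_spec, map_one,
      one_smul]
  | add z₁ z₂ h₁ h₂ =>
    obtain ⟨t₁, z₁', rfl⟩ := h₁
    obtain ⟨t₂, z₂', rfl⟩ := h₂
    let τ : B → N' →ₗ[A] N' := fun s => DistribSMul.toLinearMap A N' (algebraMap B C s)
    refine ⟨t₁ * t₂, (τ t₂).lTensor Q z₁' + (τ t₁).lTensor Q z₂', ?_⟩
    have e1 : G A T g t₁ = (G A T g (t₁ * t₂)) ∘ₗ τ t₂ := by
      ext x'
      exact G_mul T g t₁ t₂ x'
    have e2 : G A T g t₂ = (G A T g (t₁ * t₂)) ∘ₗ τ t₁ := by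
      ext x'
      rw [mul_comm t₁ t₂]
      exact G_mul T g t₂ t₁ x'
    rw [map_add, ← LinearMap.comp_apply, ← LinearMap.comp_apply, ← LinearMap.lTensor_comp,
      ← LinearMap.lTensor_comp, ← e1, ← e2]

theorem exists_content (hg : IsBaseChange (Localization T) g) [Module.Projective A N']
    (hinj : FlatCA.UnivInj A (g.restrictScalars A)) (x : N) :
    ∃ I : Ideal A, x ∈ I • (⊤ : Submodule A N) ∧
      ∀ J : Ideal A, x ∈ J • (⊤ : Submodule A N) → I ≤ J := by
  obtain ⟨t, x', h⟩ := exists_smul_eq T g hg x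
  obtain ⟨I, hI, hmin⟩ := exists_content_of_projective (A := A) x'
  have hx : x = IsLocalization.mk' (Localization T) (1 : B) t • g x' := by
    rw [← h, smul_smul, IsLocalization.mk'_spec, map_one, one_smul]
  refine ⟨I, ?_, fun J hJ => hmin J ?_⟩
  · rw [hx]
    exact smul_mem_smul_top T I _ _ (map_mem_smul_top (g.restrictScalars A) I x' hI)
  · apply mem_of_map_mem (g.restrictScalars A) hinj J x'
    change g x' ∈ _
    rw [← h]
    exact smul_mem_smul_top T J _ _ hJ

theorem univInj_of_spread (hg : IsBaseChange (Localization T) g) [Module.Projective A N']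
    (hinj : FlatCA.UnivInj A (g.restrictScalars A))
    {M : Type u} [AddCommGroup M] [Module A M] [Module.Flat A M] (u : N →ₗ[A] M)
    (hu : ∀ (𝔪 : Ideal A) [𝔪.IsMaximal], Function.Injective (u.lTensor (A ⧸ 𝔪))) :
    FlatCA.UnivInj A u := by
  intro Q _ _
  rw [injective_iff_map_eq_zero]
  intro z hz
  obtain ⟨t, z', rfl⟩ := exists_rep T g hg Q z
  have h1 : ∀ (𝔪 : Ideal A) [𝔪.IsMaximal],
      Function.Injective ((u ∘ₗ G A T g t).lTensor (A ⧸ 𝔪)) := by
    intro 𝔪 _
    rw [LinearMap.lTensor_comp, LinearMap.coe_comp]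
    exact (hu 𝔪).comp (G_univInj T g hinj t (A ⧸ 𝔪))
  have h2 := univInj_of_projective (u ∘ₗ G A T g t) h1 Q
  have h3 : z' = 0 := h2 (by
    rw [map_zero, LinearMap.lTensor_comp, LinearMap.comp_apply]
    exact hz)
  rw [h3, map_zero]

end spread

end Groth.Agent.Lib.Helper63.PureSpread
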