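import Groth.Agent.Lib.Helper63.RigClosed2
import Mathlib.RingTheory.Unramified.LocalRing
import Mathlib.RingTheory.Unramified.Finite
import Mathlib.RingTheory.Etale.Basic

set_option autoImplicit false
set_option linter.unusedSectionVars false
universe u

namespace Groth.Agent.Lib.Helper63.RigUnram

open IsLocalRing Groth.Agent.Lib.Helper63.RigClosed

theorem formallyUnramified_of_quotient {R S : Type u} [CommRing R] [CommRing S] [Algebra R S]
    [Algebra.EssFiniteType R S] (J : Ideal R)
    (hJ : J.map (algebraMap R S) ≤ Ideal.jacobson ⊥)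
    [Algebra.FormallyUnramified R (S ⧸ J.map (algebraMap R S))] :
    Algebra.FormallyUnramified R S := by
  rw [Algebra.formallyUnramified_iff]
  set K : Ideal S := J.map (algebraMap R S) with hK
  have hsub : Subsingleton (TensorProduct S (S ⧸ K) Ω[S⁄R]) := by
    refine subsingleton_of_forall_eq 0 fun x => ?_
    have hΩ : Subsingleton Ω[(S ⧸ K)⁄R] := (Algebra.formallyUnramified_iff R (S ⧸ K)).mp inferInstance
    obtain ⟨x, rfl⟩ := (KaehlerDifferential.exact_kerCotangentToTensor_mapBaseChange R S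
      (S ⧸ K) Ideal.Quotient.mk_surjective x).mp (Subsingleton.elim _ _)
    obtain ⟨⟨x, hx⟩, rfl⟩ := Ideal.toCotangent_surjective _ x
    simp only [KaehlerDifferential.kerCotangentToTensor_toCotangent]
    replace hx : x ∈ Ideal.map (algebraMap R S) J := by
      have : RingHom.ker (algebraMap S (S ⧸ K)) = K := Ideal.mk_ker
      rw [this] at hx
      exact hx
    induction hx using Submodule.span_induction with
    | zero => simp
    | mem x h => obtain ⟨x, hx, rfl⟩ := h; simp
    | add x y hx hy _ _ => simp [*, TensorProduct.tmul_add]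
    | smul a x hx _ =>
      have : Ideal.Quotient.mk K x = 0 := Ideal.Quotient.eq_zero_iff_mem.mpr hx
      simp [*, TensorProduct.tmul_add, TensorProduct.smul_tmul', ← Algebra.algebraMap_eq_smul_one]
  have htop : (K • ⊤ : Submodule S Ω[S⁄R]) = ⊤ := by
    have e := TensorProduct.quotTensorEquivQuotSMul Ω[S⁄R] K
    have : Subsingleton (Ω[S⁄R] ⧸ (K • ⊤ : Submodule S Ω[S⁄R])) := e.symm.toEquiv.subsingleton
    exact Submodule.Quotient.subsingleton_iff.mp this
  have hbot : (⊤ : Submodule S Ω[S⁄R]) = ⊥ :=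
    Submodule.eq_bot_of_le_smul_of_le_jacobson_bot K ⊤ Module.Finite.fg_top htop.ge hJ
  exact (Submodule.subsingleton_iff S).mp (subsingleton_of_bot_eq_top hbot.symm)

theorem exists_mul_eq_zero_of_formallyUnramified {R S : Type u} [CommRing R] [IsDomain R]
    [CommRing S] [Algebra R S] [Algebra.EssFiniteType R S] [Algebra.FormallyUnramified R S]
    (Q : Ideal S) [Q.IsPrime] (hQ : Q.comap (algebraMap R S) = ⊥) (x : S) (hx : x ∈ Q) :
    ∃ s, s ∉ Q ∧ s * x = 0 := by
  have hbp : (⊥ : Ideal R).IsPrime := Ideal.isPrime_bot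
  have hlo : Q.LiesOver (⊥ : Ideal R) := ⟨hQ.symm⟩
  let _ := Localization.AtPrime.algebraOfLiesOver (⊥ : Ideal R) Q
  have hU : Algebra.IsUnramifiedAt R Q := by
    have : Algebra.FormallyUnramified S (Localization.AtPrime Q) :=
      Algebra.FormallyUnramified.of_isLocalization Q.primeCompl
    exact Algebra.FormallyUnramified.comp R S _
  have h := ((Algebra.isUnramifiedAt_iff_map_eq R (⊥ : Ideal R) Q).mp hU).2
  rw [Ideal.map_bot] at h
  have hx0 : algebraMap S (Localization.AtPrime Q) x = 0 := by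
    have hm : algebraMap S (Localization.AtPrime Q) x ∈ maximalIdeal (Localization.AtPrime Q) :=
      (IsLocalization.AtPrime.to_map_mem_maximal_iff _ Q x).mpr hx
    rw [← h] at hm
    exact hm
  obtain ⟨⟨s, hs⟩, hsx⟩ := (IsLocalization.map_eq_zero_iff Q.primeCompl _ x).mp hx0
  exact ⟨s, hs, hsx⟩

theorem exists_mul_mem_map_of_finite {A B : Type u} [CommRing A] [CommRing B] [Algebra A B]
    (p : Ideal A) [p.IsPrime] (q : Ideal B) [q.IsPrime] (hpq : q.comap (algebraMap A B) = p)
    (J : Ideal A) (hfin : Module.Finite A (B ⧸ p.map (algebraMap A B)))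
    (hJ : J.map (algebraMap A B) ≤ Ideal.jacobson ⊥)
    [Algebra.FormallyUnramified A (B ⧸ J.map (algebraMap A B))]
    (x : B) (hx : x ∈ q) : ∃ s, s ∉ q ∧ s * x ∈ p.map (algebraMap A B) := by
  have hPq : p.map (algebraMap A B) ≤ q := by
    rw [← hpq]
    exact Ideal.map_le_iff_le_comap.mpr le_rfl
  have hfin' : Module.Finite (A ⧸ p) (B ⧸ p.map (algebraMap A B)) :=
    Module.Finite.of_restrictScalars_finite A _ _
  have hdom : IsDomain (A ⧸ p) := Ideal.Quotient.isDomain _
  have hcomm : (algebraMap (A ⧸ p) (B ⧸ p.map (algebraMap A B))).comp (Ideal.Quotient.mk p) =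
      (Ideal.Quotient.mk (p.map (algebraMap A B))).comp (algebraMap A B) := by
    ext a
    rfl
  have hJmap : (J.map (Ideal.Quotient.mk p)).map
      (algebraMap (A ⧸ p) (B ⧸ p.map (algebraMap A B))) =
      (J.map (algebraMap A B)).map (Ideal.Quotient.mk (p.map (algebraMap A B))) := by
    rw [Ideal.map_map, Ideal.map_map, hcomm]
  have hJjac : (J.map (Ideal.Quotient.mk p)).map
      (algebraMap (A ⧸ p) (B ⧸ p.map (algebraMap A B))) ≤ Ideal.jacobson ⊥ := by
    rw [hJmap, Ideal.map_le_iff_le_comap]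
    intro b hb
    rw [Ideal.mem_comap, Ideal.mem_jacobson_bot]
    intro y
    obtain ⟨y, rfl⟩ := Ideal.Quotient.mk_surjective y
    have := (Ideal.mem_jacobson_bot.mp (hJ hb)) y
    rw [← map_mul, ← map_one (Ideal.Quotient.mk (p.map (algebraMap A B))), ← map_add]
    exact this.map _
  have hU : Algebra.FormallyUnramified (A ⧸ p) ((B ⧸ p.map (algebraMap A B)) ⧸
      (J.map (Ideal.Quotient.mk p)).map (algebraMap (A ⧸ p) (B ⧸ p.map (algebraMap A B)))) := by
    have hker : ∀ a ∈ J.map (algebraMap A B),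
        ((Ideal.Quotient.mkₐ A ((J.map (Ideal.Quotient.mk p)).map
          (algebraMap (A ⧸ p) (B ⧸ p.map (algebraMap A B))))).comp
          (Ideal.Quotient.mkₐ A (p.map (algebraMap A B)))) a = 0 := by
      intro a ha
      change Ideal.Quotient.mk _ (Ideal.Quotient.mk _ a) = 0
      rw [Ideal.Quotient.eq_zero_iff_mem, hJmap]
      exact Ideal.mem_map_of_mem _ ha
    have hsurj : Function.Surjective (Ideal.Quotient.liftₐ (J.map (algebraMap A B)) _ hker) := by
      intro y
      obtain ⟨y, rfl⟩ := Ideal.Quotient.mk_surjective y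
      obtain ⟨y, rfl⟩ := Ideal.Quotient.mk_surjective y
      exact ⟨Ideal.Quotient.mk _ y, rfl⟩
    have h1 : Algebra.FormallyUnramified A ((B ⧸ p.map (algebraMap A B)) ⧸
        (J.map (Ideal.Quotient.mk p)).map (algebraMap (A ⧸ p) (B ⧸ p.map (algebraMap A B)))) :=
      Algebra.FormallyUnramified.of_surjective _ hsurj
    exact Algebra.FormallyUnramified.of_restrictScalars A _ _
  have hU' : Algebra.FormallyUnramified (A ⧸ p) (B ⧸ p.map (algebraMap A B)) :=
    formallyUnramified_of_quotient (J.map (Ideal.Quotient.mk p)) hJjac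
  have hQp : (q.map (Ideal.Quotient.mk (p.map (algebraMap A B)))).IsPrime := by
    refine Ideal.map_isPrime_of_surjective Ideal.Quotient.mk_surjective ?_
    rw [Ideal.mk_ker]
    exact hPq
  have hcm : Ideal.comap (Ideal.Quotient.mk (p.map (algebraMap A B)))
      (q.map (Ideal.Quotient.mk (p.map (algebraMap A B)))) = q := by
    rw [Ideal.comap_map_of_surjective _ Ideal.Quotient.mk_surjective, ← RingHom.ker_eq_comap_bot,
      Ideal.mk_ker, sup_eq_left.mpr hPq]
  have hQ : (q.map (Ideal.Quotient.mk (p.map (algebraMap A B)))).comap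
      (algebraMap (A ⧸ p) (B ⧸ p.map (algebraMap A B))) = ⊥ := by
    rw [eq_bot_iff]
    intro a ha
    obtain ⟨a, rfl⟩ := Ideal.Quotient.mk_surjective a
    rw [Ideal.mem_comap] at ha
    have h2 : algebraMap A B a ∈ Ideal.comap (Ideal.Quotient.mk (p.map (algebraMap A B)))
        (q.map (Ideal.Quotient.mk (p.map (algebraMap A B)))) := ha
    rw [hcm] at h2
    rw [Ideal.mem_bot, Ideal.Quotient.eq_zero_iff_mem, ← hpq]
    exact h2
  obtain ⟨s, hs, hsx⟩ := exists_mul_eq_zero_of_formallyUnramified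
    (q.map (Ideal.Quotient.mk (p.map (algebraMap A B)))) hQ
    (Ideal.Quotient.mk _ x) (Ideal.mem_map_of_mem _ hx)
  obtain ⟨s, rfl⟩ := Ideal.Quotient.mk_surjective s
  refine ⟨s, fun hsq => hs (Ideal.mem_map_of_mem _ hsq), ?_⟩
  rw [← map_mul] at hsx
  exact Ideal.Quotient.eq_zero_iff_mem.mp hsx

variable (A : Type u) [CommRing A] [IsNoetherianRing A] (I : Ideal A) [IsAdicComplete I A]
  (B : Type u) [CommRing B] [Algebra A B] [IsNoetherianRing B]
  [IsAdicComplete (I.map (algebraMap A B)) B]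

theorem finite_quotient_of_finite_sup (𝔞 : Ideal B)
    (h : Module.Finite A (B ⧸ (𝔞 ⊔ I.map (algebraMap A B)))) : Module.Finite A (B ⧸ 𝔞) := by
  have hH : IsHausdorff I (B ⧸ 𝔞) := by
    have h1 : IsAdicComplete (I.map (algebraMap A B)) (B ⧸ 𝔞) :=
      Groth.Agent.S3866.result B (I.map (algebraMap A B)) (B ⧸ 𝔞)
    exact (IsHausdorff.map_algebraMap_iff (R := A) (S := B) (I := I)
      (M := B ⧸ 𝔞)).mp h1.toIsHausdorff
  have hle : 𝔞 ≤ 𝔞 ⊔ I.map (algebraMap A B) := le_sup_left
  refine finite_of_finite_quotient I (Ideal.Quotient.factorₐ A hle).toLinearMap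
    (Ideal.Quotient.factor_surjective hle) ?_
  intro y hy
  obtain ⟨x, rfl⟩ := Ideal.Quotient.mk_surjective y
  have hx : x ∈ 𝔞 ⊔ I.map (algebraMap A B) := by
    have : Ideal.Quotient.mk (𝔞 ⊔ I.map (algebraMap A B)) x = 0 := hy
    exact Ideal.Quotient.eq_zero_iff_mem.mp this
  obtain ⟨u, hu, v, hv, rfl⟩ := Submodule.mem_sup.mp hx
  rw [map_add, Ideal.Quotient.eq_zero_iff_mem.mpr hu, zero_add]
  rw [Ideal.smul_top_eq_map]
  change Ideal.Quotient.mk 𝔞 v ∈ Ideal.map (algebraMap A (B ⧸ 𝔞)) I
  rw [IsScalarTower.algebraMap_eq A B (B ⧸ 𝔞), ← Ideal.map_map]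
  exact Ideal.mem_map_of_mem _ hv

theorem finite_quotient_map_of_formallyUnramified
    (hft : Algebra.FiniteType A (B ⧸ (I.map (algebraMap A B))))
    [Algebra.FormallyUnramified (A ⧸ I) (B ⧸ (I.map (algebraMap A B)))]
    (p : PrimeSpectrum A) (hp : IsRig I p) (n : Ideal A) (hn : n.IsPrime)
    (hpn : p.asIdeal ≤ n) (hIn : I ≤ n) :
    Module.Finite A (B ⧸ p.asIdeal.map (algebraMap A B)) := by
  obtain ⟨hnmax, hnrad⟩ := isMaximal_and_le_radical I p hp n hn hpn hIn
  have hInB : I.map (algebraMap A B) ≤ n.map (algebraMap A B) := Ideal.map_mono hIn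
  have hUA : Algebra.FormallyUnramified A (B ⧸ (I.map (algebraMap A B))) :=
    Algebra.FormallyUnramified.comp A (A ⧸ I) _
  have hUn : Algebra.FormallyUnramified A (B ⧸ (n.map (algebraMap A B))) :=
    Algebra.FormallyUnramified.of_surjective (Ideal.Quotient.factorₐ A hInB)
      (Ideal.Quotient.factor_surjective hInB)
  have hftn : Algebra.FiniteType A (B ⧸ (n.map (algebraMap A B))) :=
    Algebra.FiniteType.of_surjective (Ideal.Quotient.factorₐ A hInB)
      (Ideal.Quotient.factor_surjective hInB)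
  let _ : Field (A ⧸ n) := Ideal.Quotient.field n
  have hUk : Algebra.FormallyUnramified (A ⧸ n) (B ⧸ (n.map (algebraMap A B))) :=
    Algebra.FormallyUnramified.of_restrictScalars A _ _
  have hftk : Algebra.FiniteType (A ⧸ n) (B ⧸ (n.map (algebraMap A B))) :=
    Algebra.FiniteType.of_restrictScalars_finiteType A _ _
  have hfink : Module.Finite (A ⧸ n) (B ⧸ (n.map (algebraMap A B))) :=
    Algebra.FormallyUnramified.finite_of_free _ _
  have hfinn : Module.Finite A (B ⧸ (n.map (algebraMap A B))) :=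
    Module.Finite.trans (A ⧸ n) _
  have hK : p.asIdeal.map (algebraMap A B) ⊔ I.map (algebraMap A B) ≤ n.map (algebraMap A B) :=
    sup_le (Ideal.map_mono hpn) hInB
  have hfinK : Module.Finite A
      (B ⧸ (p.asIdeal.map (algebraMap A B) ⊔ I.map (algebraMap A B))) := by
    refine Module.finite_of_surjective_of_ker_le_nilradical (Ideal.Quotient.factorₐ A hK)
      (Ideal.Quotient.factor_surjective hK) ?_ (IsNoetherian.noetherian _)
    intro y hy
    obtain ⟨x, rfl⟩ := Ideal.Quotient.mk_surjective y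
    have hxm : x ∈ n.map (algebraMap A B) := by
      have : Ideal.Quotient.mk (n.map (algebraMap A B)) x = 0 := hy
      exact Ideal.Quotient.eq_zero_iff_mem.mp this
    have hrad : n.map (algebraMap A B) ≤
        (p.asIdeal.map (algebraMap A B) ⊔ I.map (algebraMap A B)).radical := by
      rw [← Ideal.map_sup]
      exact (Ideal.map_mono hnrad).trans (Ideal.map_radical_le _)
    obtain ⟨k, hk⟩ := hrad hxm
    refine ⟨k, ?_⟩
    rw [← map_pow]
    exact Ideal.Quotient.eq_zero_iff_mem.mpr hk
  exact finite_quotient_of_finite_sup A I B _ hfinK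

theorem map_map_eq_maximalIdeal
    (hft : Algebra.FiniteType A (B ⧸ (I.map (algebraMap A B))))
    [Algebra.FormallyUnramified (A ⧸ I) (B ⧸ (I.map (algebraMap A B)))]
    (q : PrimeSpectrum B) (hp : IsRig I (PrimeSpectrum.comap (algebraMap A B) q)) :
    ((PrimeSpectrum.comap (algebraMap A B) q).asIdeal.map (algebraMap A B)).map
      (algebraMap B (Localization.AtPrime q.asIdeal)) =
      IsLocalRing.maximalIdeal (Localization.AtPrime q.asIdeal) := by
  have hqp : q.asIdeal.IsPrime := q.isPrime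
  obtain ⟨M, hM, hqM⟩ := Ideal.exists_le_maximal q.asIdeal hqp.ne_top
  have hIM := le_of_isMaximal A I B M hM
  have hnp : (M.comap (algebraMap A B)).IsPrime := Ideal.comap_isPrime _ _
  have hpp : (PrimeSpectrum.comap (algebraMap A B) q).asIdeal.IsPrime :=
    (PrimeSpectrum.comap (algebraMap A B) q).isPrime
  have hpq : q.asIdeal.comap (algebraMap A B) =
      (PrimeSpectrum.comap (algebraMap A B) q).asIdeal := rfl
  have hpn : (PrimeSpectrum.comap (algebraMap A B) q).asIdeal ≤ M.comap (algebraMap A B) :=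
    Ideal.comap_mono hqM
  have hIn : I ≤ M.comap (algebraMap A B) := Ideal.map_le_iff_le_comap.mp hIM
  have hfin : Module.Finite A
      (B ⧸ (PrimeSpectrum.comap (algebraMap A B) q).asIdeal.map (algebraMap A B)) :=
    finite_quotient_map_of_formallyUnramified A I B hft _ hp _ hnp hpn hIn
  have hJ : I.map (algebraMap A B) ≤ Ideal.jacobson ⊥ := IsAdicComplete.le_jacobson_bot _
  have hUA : Algebra.FormallyUnramified A (B ⧸ (I.map (algebraMap A B))) :=
    Algebra.FormallyUnramified.comp A (A ⧸ I) _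
  have key := exists_mul_mem_map_of_finite (PrimeSpectrum.comap (algebraMap A B) q).asIdeal
    q.asIdeal hpq I hfin hJ
  rw [← Localization.AtPrime.map_eq_maximalIdeal]
  refine le_antisymm (Ideal.map_mono ?_) ?_
  · rw [← hpq]
    exact Ideal.map_le_iff_le_comap.mpr le_rfl
  · rw [Ideal.map_le_iff_le_comap]
    intro x hx
    obtain ⟨s, hs, hsx⟩ := key x hx
    rw [Ideal.mem_comap]
    have hu : IsUnit (algebraMap B (Localization.AtPrime q.asIdeal) s) :=
      IsLocalization.map_units (M := q.asIdeal.primeCompl) _ ⟨s, hs⟩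
    have hmem : algebraMap B (Localization.AtPrime q.asIdeal) (s * x) ∈
        ((PrimeSpectrum.comap (algebraMap A B) q).asIdeal.map (algebraMap A B)).map
          (algebraMap B (Localization.AtPrime q.asIdeal)) := Ideal.mem_map_of_mem _ hsx
    rw [map_mul] at hmem
    exact (Ideal.unit_mul_mem_iff_mem _ hu).mp hmem

end Groth.Agent.Lib.Helper63.RigUnram
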