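import Groth.Agent.Lib.Helper63.RigPt
import Groth.Agent.Lib.Helper63.RigUnram
import Groth.Agent.Lib.Helper6.LocalFlat2

set_option autoImplicit false
set_option linter.unusedSectionVars false
universe u

namespace Groth.Agent.Lib.Helper63.RigBC

open IsLocalRing TensorProduct Groth.Agent.Lib.Helper63.ComplRing
  Groth.Agent.Lib.Helper63.RigClosed Groth.Agent.Lib.Helper63.RigPoly
  Groth.Agent.Lib.Helper63.RigFlat Groth.Agent.Lib.Helper63.RigComp
  Groth.Agent.Lib.Helper63.RigPt

theorem isRig_comap_of_finite' (A : Type u) [CommRing A] [IsNoetherianRing A]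
    (B : Type u) [CommRing B] [Algebra A B] [IsNoetherianRing B] (IB : Ideal B)
    [IsAdicComplete IB B]
    (B' : Type u) [CommRing B'] [Algebra A B'] [Algebra B B'] [IsScalarTower A B B']
    [IsNoetherianRing B'] (IB' : Ideal B') (hIB' : IB.map (algebraMap B B') = IB')
    [IsAdicComplete IB' B'] (q' : PrimeSpectrum B') (hq' : IsRig IB' q')
    (hfin : Module.Finite A (B' ⧸ q'.asIdeal)) :
    IsRig IB (PrimeSpectrum.comap (algebraMap B B') q') := by
  subst hIB'
  have hfinB : Module.Finite B (B' ⧸ q'.asIdeal) := Module.Finite.of_restrictScalars_finite A B _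
  exact isRig_comap_of_finite B IB B' q' hq' hfinB

theorem naive_of_both (A : Type u) [CommRing A] [IsNoetherianRing A] (I : Ideal A)
    [IsAdicComplete I A]
    (B : Type u) [CommRing B] [Algebra A B] [IsNoetherianRing B]
    [IsAdicComplete (I.map (algebraMap A B)) B]
    (A' : Type u) [CommRing A'] [Algebra A A'] [IsNoetherianRing A']
    [IsAdicComplete (I.map (algebraMap A A')) A']
    (hftA' : Algebra.FiniteType A (A' ⧸ (I.map (algebraMap A A'))))
    (B' : Type u) [CommRing B'] [Algebra A B'] [Algebra B B'] [Algebra A' B']
    [IsScalarTower A B B'] [IsScalarTower A A' B'] [IsNoetherianRing B']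
    [IsAdicComplete (I.map (algebraMap A B')) B']
    (hftB'A : Algebra.FiniteType A (B' ⧸ (I.map (algebraMap A B'))))
    [Module.Flat B B']
    [hU : Algebra.FormallyUnramified A (A' ⧸ (I.map (algebraMap A A')))]
    (hnaive : ∀ q : PrimeSpectrum B, IsRig (I.map (algebraMap A B)) q →
      Module.Flat A (Localization.AtPrime q.asIdeal))
    (q' : PrimeSpectrum B') (hq' : IsRig (I.map (algebraMap A B')) q')
    (hp : IsRig I (PrimeSpectrum.comap (algebraMap A B') q')) :
    Module.Flat A' (Localization.AtPrime q'.asIdeal) := by
  have hq'p : q'.asIdeal.IsPrime := q'.isPrime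
  have hfinA : Module.Finite A (B' ⧸ q'.asIdeal) :=
    ((tfae_rig_closed_comap A I B' hftB'A q' hq').out 1 2).mp hp
  have hIBB' : (I.map (algebraMap A B)).map (algebraMap B B') = I.map (algebraMap A B') := by
    rw [Ideal.map_map, ← IsScalarTower.algebraMap_eq]
  have hIA'B' : (I.map (algebraMap A A')).map (algebraMap A' B') = I.map (algebraMap A B') := by
    rw [Ideal.map_map, ← IsScalarTower.algebraMap_eq]
  have hqrig : IsRig (I.map (algebraMap A B)) (PrimeSpectrum.comap (algebraMap B B') q') :=
    isRig_comap_of_finite' A B _ B' _ hIBB' q' hq' hfinA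
  have hp'rig : IsRig (I.map (algebraMap A A')) (PrimeSpectrum.comap (algebraMap A' B') q') :=
    isRig_comap_of_finite' A A' _ B' _ hIA'B' q' hq' hfinA
  have hcc : PrimeSpectrum.comap (algebraMap A A') (PrimeSpectrum.comap (algebraMap A' B') q') =
      PrimeSpectrum.comap (algebraMap A B') q' := by
    refine PrimeSpectrum.ext ?_
    show Ideal.comap (algebraMap A A') (Ideal.comap (algebraMap A' B') q'.asIdeal) =
      Ideal.comap (algebraMap A B') q'.asIdeal
    rw [Ideal.comap_comap, ← IsScalarTower.algebraMap_eq]
  have hUq : Algebra.FormallyUnramified (A ⧸ I) (A' ⧸ (I.map (algebraMap A A'))) :=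
    Algebra.FormallyUnramified.of_restrictScalars A (A ⧸ I) _
  have hp2 : IsRig I (PrimeSpectrum.comap (algebraMap A A')
      (PrimeSpectrum.comap (algebraMap A' B') q')) := by rw [hcc]; exact hp
  have hgen := Groth.Agent.Lib.Helper63.RigUnram.map_map_eq_maximalIdeal A I A' hftA'
    (PrimeSpectrum.comap (algebraMap A' B') q') hp2
  have hpp : (PrimeSpectrum.comap (algebraMap A B') q').asIdeal.IsPrime :=
    (PrimeSpectrum.comap (algebraMap A B') q').isPrime
  have hp'p : (PrimeSpectrum.comap (algebraMap A' B') q').asIdeal.IsPrime :=
    (PrimeSpectrum.comap (algebraMap A' B') q').isPrime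
  have hqp : (PrimeSpectrum.comap (algebraMap B B') q').asIdeal.IsPrime :=
    (PrimeSpectrum.comap (algebraMap B B') q').isPrime
  have hlo1 : q'.asIdeal.LiesOver (PrimeSpectrum.comap (algebraMap B B') q').asIdeal := ⟨rfl⟩
  have hlo2 : q'.asIdeal.LiesOver (PrimeSpectrum.comap (algebraMap A' B') q').asIdeal := ⟨rfl⟩
  have hlo3 : q'.asIdeal.LiesOver (PrimeSpectrum.comap (algebraMap A B') q').asIdeal := ⟨rfl⟩
  have hlo4 : (PrimeSpectrum.comap (algebraMap A' B') q').asIdeal.LiesOver
      (PrimeSpectrum.comap (algebraMap A B') q').asIdeal :=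
    ⟨congrArg PrimeSpectrum.asIdeal hcc.symm⟩
  have hSA : Module.Flat A (Localization.AtPrime q'.asIdeal) := by
    have h0 := hnaive _ hqrig
    let _ := Localization.AtPrime.algebraOfLiesOver
      (PrimeSpectrum.comap (algebraMap B B') q').asIdeal q'.asIdeal
    have h1 : Module.Flat (Localization.AtPrime (PrimeSpectrum.comap (algebraMap B B') q').asIdeal)
        (Localization.AtPrime q'.asIdeal) := inferInstance
    exact Module.Flat.trans A
      (Localization.AtPrime (PrimeSpectrum.comap (algebraMap B B') q').asIdeal) _
  let _ := Localization.AtPrime.algebraOfLiesOver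
    (PrimeSpectrum.comap (algebraMap A' B') q').asIdeal q'.asIdeal
  let _ := Localization.AtPrime.algebraOfLiesOver
    (PrimeSpectrum.comap (algebraMap A B') q').asIdeal q'.asIdeal
  let _ := Localization.AtPrime.algebraOfLiesOver
    (PrimeSpectrum.comap (algebraMap A B') q').asIdeal
    (PrimeSpectrum.comap (algebraMap A' B') q').asIdeal
  have hfR : Module.Flat (Localization.AtPrime (PrimeSpectrum.comap (algebraMap A B') q').asIdeal)
      (Localization.AtPrime q'.asIdeal) :=
    (Module.flat_iff_of_isLocalization
      (Localization.AtPrime (PrimeSpectrum.comap (algebraMap A B') q').asIdeal)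
      (PrimeSpectrum.comap (algebraMap A B') q').asIdeal.primeCompl
      (Localization.AtPrime q'.asIdeal)).mpr hSA
  have hN1 : IsNoetherianRing
      (Localization.AtPrime (PrimeSpectrum.comap (algebraMap A' B') q').asIdeal) :=
    IsLocalization.isNoetherianRing
      (PrimeSpectrum.comap (algebraMap A' B') q').asIdeal.primeCompl _ inferInstance
  have hN2 : IsNoetherianRing (Localization.AtPrime q'.asIdeal) :=
    IsLocalization.isNoetherianRing q'.asIdeal.primeCompl _ inferInstance
  have hloc1 : IsLocalHom (algebraMap
      (Localization.AtPrime (PrimeSpectrum.comap (algebraMap A B') q').asIdeal)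
      (Localization.AtPrime (PrimeSpectrum.comap (algebraMap A' B') q').asIdeal)) :=
    Localization.isLocalHom_localRingHom _ _ _ _
  have hloc2 : IsLocalHom (algebraMap
      (Localization.AtPrime (PrimeSpectrum.comap (algebraMap A' B') q').asIdeal)
      (Localization.AtPrime q'.asIdeal)) :=
    Localization.isLocalHom_localRingHom _ _ _ _
  have hgen2 : (maximalIdeal
      (Localization.AtPrime (PrimeSpectrum.comap (algebraMap A B') q').asIdeal)).map
      (algebraMap _ (Localization.AtPrime (PrimeSpectrum.comap (algebraMap A' B') q').asIdeal)) =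
      maximalIdeal (Localization.AtPrime (PrimeSpectrum.comap (algebraMap A' B') q').asIdeal) := by
    rw [← Localization.AtPrime.map_eq_maximalIdeal, Ideal.map_map,
      ← IsScalarTower.algebraMap_eq, ← hgen, Ideal.map_map, ← IsScalarTower.algebraMap_eq, hcc]
  have hmax : ((maximalIdeal
      (Localization.AtPrime (PrimeSpectrum.comap (algebraMap A B') q').asIdeal)).map
      (algebraMap _ (Localization.AtPrime
        (PrimeSpectrum.comap (algebraMap A' B') q').asIdeal))).IsMaximal := by
    rw [hgen2]
    infer_instance
  let _ : Field (Localization.AtPrime (PrimeSpectrum.comap (algebraMap A' B') q').asIdeal ⧸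
      (maximalIdeal (Localization.AtPrime (PrimeSpectrum.comap (algebraMap A B') q').asIdeal)).map
      (algebraMap _ (Localization.AtPrime
        (PrimeSpectrum.comap (algebraMap A' B') q').asIdeal))) := Ideal.Quotient.field _
  have hfR' : Module.Flat (Localization.AtPrime (PrimeSpectrum.comap (algebraMap A' B') q').asIdeal)
      (Localization.AtPrime q'.asIdeal) :=
    Groth.Agent.Lib.Helper6.LocalFlat.flat_of_fibre
      (R := Localization.AtPrime (PrimeSpectrum.comap (algebraMap A B') q').asIdeal)
      (S := Localization.AtPrime (PrimeSpectrum.comap (algebraMap A' B') q').asIdeal)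
      (Localization.AtPrime q'.asIdeal) (M := Localization.AtPrime q'.asIdeal)
      (by
        have : Module.Free (Localization.AtPrime (PrimeSpectrum.comap (algebraMap A' B') q').asIdeal ⧸
            (maximalIdeal (Localization.AtPrime
              (PrimeSpectrum.comap (algebraMap A B') q').asIdeal)).map
            (algebraMap _ (Localization.AtPrime
              (PrimeSpectrum.comap (algebraMap A' B') q').asIdeal)))
            ((Localization.AtPrime (PrimeSpectrum.comap (algebraMap A' B') q').asIdeal ⧸
            (maximalIdeal (Localization.AtPrime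
              (PrimeSpectrum.comap (algebraMap A B') q').asIdeal)).map
            (algebraMap _ (Localization.AtPrime
              (PrimeSpectrum.comap (algebraMap A' B') q').asIdeal))) ⊗[Localization.AtPrime
              (PrimeSpectrum.comap (algebraMap A' B') q').asIdeal]
              Localization.AtPrime q'.asIdeal) := Module.Free.of_divisionRing _ _
        exact Module.Flat.of_free)
  exact Module.Flat.trans A'
    (Localization.AtPrime (PrimeSpectrum.comap (algebraMap A' B') q').asIdeal) _

theorem formallyUnramified_completion_away (A : Type u) [CommRing A] (I : Ideal A)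
    (A' : Type u) [CommRing A'] [Algebra A A'] [IsNoetherianRing A']
    [hU : Algebra.FormallyUnramified A (A' ⧸ (I.map (algebraMap A A')))] (x : A')
    (J : Ideal (Localization.Away x)) (hJ : J = I.map (algebraMap A (Localization.Away x))) :
    Algebra.FormallyUnramified A (AdicCompletion J (Localization.Away x) ⧸
      I.map (algebraMap A (AdicCompletion J (Localization.Away x)))) := by
  have hNT : IsNoetherianRing (Localization.Away x) :=
    IsLocalization.isNoetherianRing (Submonoid.powers x) _ inferInstance
  have hJfg : J.FG := IsNoetherian.noetherian J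
  have hK : J.map (algebraMap (Localization.Away x) (AdicCompletion J (Localization.Away x))) =
      I.map (algebraMap A (AdicCompletion J (Localization.Away x))) := by
    rw [hJ, Ideal.map_map, ← IsScalarTower.algebraMap_eq]
  have hzero : ∀ a : A', a ∈ I.map (algebraMap A A') →
      (IsScalarTower.toAlgHom A A' (AdicCompletion J (Localization.Away x) ⧸
        I.map (algebraMap A (AdicCompletion J (Localization.Away x))))) a = 0 := by
    intro a ha
    rw [IsScalarTower.coe_toAlgHom',
      IsScalarTower.algebraMap_apply A' (AdicCompletion J (Localization.Away x)) (_ ⧸ _),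
      Ideal.Quotient.algebraMap_eq, Ideal.Quotient.eq_zero_iff_mem]
    have h1 : algebraMap A' (AdicCompletion J (Localization.Away x)) a ∈
        (I.map (algebraMap A A')).map (algebraMap A' (AdicCompletion J (Localization.Away x))) :=
      Ideal.mem_map_of_mem _ ha
    rw [Ideal.map_map, ← IsScalarTower.algebraMap_eq] at h1
    exact h1
  let g₀ : (A' ⧸ (I.map (algebraMap A A'))) →ₐ[A] (AdicCompletion J (Localization.Away x) ⧸
      I.map (algebraMap A (AdicCompletion J (Localization.Away x)))) :=
    Ideal.Quotient.liftₐ (I.map (algebraMap A A')) (IsScalarTower.toAlgHom A A' _) hzero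
  have hg₀ : ∀ a : A', g₀ (Ideal.Quotient.mk _ a) = Ideal.Quotient.mk _
      (algebraMap A' (AdicCompletion J (Localization.Away x)) a) := by
    intro a
    rfl
  have hxu : IsUnit (Ideal.Quotient.mk (I.map (algebraMap A (AdicCompletion J (Localization.Away x))))
      (algebraMap A' (AdicCompletion J (Localization.Away x)) x)) := by
    rw [IsScalarTower.algebraMap_apply A' (Localization.Away x)]
    exact ((IsLocalization.Away.algebraMap_isUnit x).map _).map _
  have hunit : ∀ y : Submonoid.powers (Ideal.Quotient.mk (I.map (algebraMap A A')) x),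
      IsUnit (g₀ y) := by
    rintro ⟨_, n, rfl⟩
    rw [map_pow, hg₀]
    exact hxu.pow n
  let G : Localization.Away (Ideal.Quotient.mk (I.map (algebraMap A A')) x) →ₐ[A]
      (AdicCompletion J (Localization.Away x) ⧸
      I.map (algebraMap A (AdicCompletion J (Localization.Away x)))) :=
    IsLocalization.liftAlgHom hunit
  have hG : ∀ s, G (algebraMap _ _ s) = g₀ s := fun s => IsLocalization.lift_eq _ s
  have hsurj : Function.Surjective G := by
    intro y
    obtain ⟨z, rfl⟩ := Ideal.Quotient.mk_surjective y
    obtain ⟨t, ht⟩ := exists_sub_mem J hJfg z 1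
    rw [pow_one, hK] at ht
    obtain ⟨n, a, hta⟩ := IsLocalization.Away.surj x t
    have h1 : Ideal.Quotient.mk (I.map (algebraMap A (AdicCompletion J (Localization.Away x)))) z =
        Ideal.Quotient.mk _ (algebraMap (Localization.Away x) _ t) := Ideal.Quotient.eq.mpr ht
    have h2 : Ideal.Quotient.mk (I.map (algebraMap A (AdicCompletion J (Localization.Away x))))
        (algebraMap (Localization.Away x) _ t) *
        (Ideal.Quotient.mk _ (algebraMap A' (AdicCompletion J (Localization.Away x)) x)) ^ n =
        Ideal.Quotient.mk _ (algebraMap A' (AdicCompletion J (Localization.Away x)) a) := by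
      have e1 : ∀ c : A', algebraMap A' (AdicCompletion J (Localization.Away x)) c =
          algebraMap (Localization.Away x) (AdicCompletion J (Localization.Away x))
            (algebraMap A' (Localization.Away x) c) :=
        fun c => IsScalarTower.algebraMap_apply A' (Localization.Away x) _ c
      rw [e1 x, e1 a, ← hta, map_mul, map_mul, map_pow, map_pow]
    refine ⟨algebraMap _ _ (Ideal.Quotient.mk (I.map (algebraMap A A')) a) *
      (IsLocalization.Away.invSelf (Ideal.Quotient.mk (I.map (algebraMap A A')) x)) ^ n, ?_⟩
    have h3 : G (IsLocalization.Away.invSelf (Ideal.Quotient.mk (I.map (algebraMap A A')) x)) *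
        Ideal.Quotient.mk _ (algebraMap A' (AdicCompletion J (Localization.Away x)) x) = 1 := by
      rw [← hg₀, ← hG, ← map_mul, mul_comm, IsLocalization.Away.mul_invSelf, map_one]
    rw [map_mul, map_pow, hG, hg₀, ← h2, h1, mul_assoc, ← mul_pow, mul_comm _ (G _), h3, one_pow,
      mul_one]
  exact Algebra.FormallyUnramified.of_surjective G hsurj

theorem ft_trans (A : Type u) [CommRing A] (I : Ideal A) (B : Type u) [CommRing B] [Algebra A B]
    (Y : Type u) [CommRing Y] [Algebra A Y] [Algebra B Y] [IsScalarTower A B Y]
    (hft : Algebra.FiniteType A (B ⧸ (I.map (algebraMap A B))))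
    (hftY : Algebra.FiniteType B (Y ⧸ (I.map (algebraMap A Y)))) :
    Algebra.FiniteType A (Y ⧸ (I.map (algebraMap A Y))) := by
  have hideal : (I.map (algebraMap A B)).map (algebraMap B Y) = I.map (algebraMap A Y) := by
    rw [Ideal.map_map, ← IsScalarTower.algebraMap_eq]
  have h1 : Algebra.FiniteType B (Y ⧸ (I.map (algebraMap A B)).map (algebraMap B Y)) :=
    Algebra.FiniteType.of_surjective (Ideal.quotientEquivAlgOfEq B hideal.symm).toAlgHom
      (Ideal.quotientEquivAlgOfEq B hideal.symm).surjective
  have h2 : Algebra.FiniteType (B ⧸ (I.map (algebraMap A B)))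
      (Y ⧸ (I.map (algebraMap A B)).map (algebraMap B Y)) :=
    Algebra.FiniteType.of_restrictScalars_finiteType B _ _
  have h3 : IsScalarTower A (B ⧸ (I.map (algebraMap A B)))
      (Y ⧸ (I.map (algebraMap A B)).map (algebraMap B Y)) :=
    IsScalarTower.of_algebraMap_eq (fun a => by
      rw [IsScalarTower.algebraMap_apply A Y (Y ⧸ _), IsScalarTower.algebraMap_apply A B Y]
      rfl)
  have h4 : Algebra.FiniteType A (Y ⧸ (I.map (algebraMap A B)).map (algebraMap B Y)) :=
    Algebra.FiniteType.trans (R := A) (S := B ⧸ (I.map (algebraMap A B)))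
      (A := Y ⧸ (I.map (algebraMap A B)).map (algebraMap B Y)) hft h2
  exact Algebra.FiniteType.of_surjective (Ideal.quotientEquivAlgOfEq A hideal).toAlgHom
    (Ideal.quotientEquivAlgOfEq A hideal).surjective

section P1

variable (A : Type u) [CommRing A] [IsNoetherianRing A] (I : Ideal A) [IsAdicComplete I A]
  (X : Type u) [CommRing X] [Algebra A X] [IsNoetherianRing X]
  (hftX : Algebra.FiniteType A (X ⧸ (I.map (algebraMap A X)))) (x : X)
  (J : Ideal (Localization.Away x)) (hJ : J = I.map (algebraMap A (Localization.Away x)))

include hftX hJ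

theorem ft_away : Algebra.FiniteType A (Localization.Away x ⧸ J) := by
  subst hJ
  have h1 : Algebra.FiniteType X (Localization.Away x ⧸
      (I.map (algebraMap A X)).map (algebraMap X (Localization.Away x))) := inferInstance
  have hideal : (I.map (algebraMap A X)).map (algebraMap X (Localization.Away x)) =
      I.map (algebraMap A (Localization.Away x)) := by
    rw [Ideal.map_map, ← IsScalarTower.algebraMap_eq]
  have h2 : Algebra.FiniteType X (Localization.Away x ⧸ I.map (algebraMap A (Localization.Away x))) :=
    Algebra.FiniteType.of_surjective (Ideal.quotientEquivAlgOfEq X hideal).toAlgHom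
      (Ideal.quotientEquivAlgOfEq X hideal).surjective
  exact ft_trans A I X (Localization.Away x) hftX h2

theorem ft_compl : Algebra.FiniteType A (AdicCompletion J (Localization.Away x) ⧸
    I.map (algebraMap A (AdicCompletion J (Localization.Away x)))) := by
  have hNT : IsNoetherianRing (Localization.Away x) :=
    IsLocalization.isNoetherianRing (Submonoid.powers x) _ inferInstance
  exact finiteType_completion_quotient' A I (Localization.Away x) J hJ (ft_away A I X hftX x J hJ)

omit hftX in
theorem complete_compl : IsAdicComplete (I.map (algebraMap A (AdicCompletion J (Localization.Away x))))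
    (AdicCompletion J (Localization.Away x)) := by
  have hNT : IsNoetherianRing (Localization.Away x) :=
    IsLocalization.isNoetherianRing (Submonoid.powers x) _ inferInstance
  exact isAdicComplete_completion' A I (Localization.Away x) J hJ

omit hftX hJ in
theorem flat_compl : Module.Flat X (AdicCompletion J (Localization.Away x)) := by
  have hNT : IsNoetherianRing (Localization.Away x) :=
    IsLocalization.isNoetherianRing (Submonoid.powers x) _ inferInstance
  have h1 : Module.Flat X (Localization.Away x) := IsLocalization.flat _ (Submonoid.powers x)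
  exact Module.Flat.trans X (Localization.Away x) _

end P1

section P2

variable (A : Type u) [CommRing A] (I : Ideal A) (A₁ : Type u) [CommRing A₁] [Algebra A A₁]
  (Y : Type u) [CommRing Y] [Algebra A Y] [Algebra A₁ Y] [IsScalarTower A A₁ Y]

theorem map_map_tower : (I.map (algebraMap A A₁)).map (algebraMap A₁ Y) = I.map (algebraMap A Y) := by
  rw [Ideal.map_map, ← IsScalarTower.algebraMap_eq]

theorem complete_tower (h : IsAdicComplete (I.map (algebraMap A Y)) Y) :
    IsAdicComplete ((I.map (algebraMap A A₁)).map (algebraMap A₁ Y)) Y := by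
  rw [map_map_tower]
  exact h

theorem ft_tower (h : Algebra.FiniteType A (Y ⧸ I.map (algebraMap A Y))) :
    Algebra.FiniteType A₁ (Y ⧸ (I.map (algebraMap A A₁)).map (algebraMap A₁ Y)) := by
  have h1 : Algebra.FiniteType A (Y ⧸ (I.map (algebraMap A A₁)).map (algebraMap A₁ Y)) :=
    Algebra.FiniteType.of_surjective
      (Ideal.quotientEquivAlgOfEq A (map_map_tower A I A₁ Y).symm).toAlgHom
      (Ideal.quotientEquivAlgOfEq A (map_map_tower A I A₁ Y).symm).surjective
  exact Algebra.FiniteType.of_restrictScalars_finiteType A _ _

theorem unram_tower (h : Algebra.FormallyUnramified A (Y ⧸ I.map (algebraMap A Y))) :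
    Algebra.FormallyUnramified A₁ (Y ⧸ (I.map (algebraMap A A₁)).map (algebraMap A₁ Y)) := by
  have h1 : Algebra.FormallyUnramified A (Y ⧸ (I.map (algebraMap A A₁)).map (algebraMap A₁ Y)) :=
    Algebra.FormallyUnramified.of_equiv
      (Ideal.quotientEquivAlgOfEq A (map_map_tower A I A₁ Y).symm)
  exact Algebra.FormallyUnramified.of_restrictScalars A A₁ _

end P2

end Groth.Agent.Lib.Helper63.RigBC
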