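import Groth.Agent.Lib.Helper63.RigComp

set_option autoImplicit false
universe u

namespace Groth.Agent.Lib.Helper63.RigDesc

open IsLocalRing TensorProduct Groth.Agent.Lib.Helper63.ComplRing
  Groth.Agent.Lib.Helper63.RigClosed Groth.Agent.Lib.Helper63.RigPoly
  Groth.Agent.Lib.Helper63.RigFlat Groth.Agent.Lib.Helper63.RigComp

theorem flat_awayLift {R S : Type u} [CommRing R] [CommRing S] [Algebra R S] [Module.Flat R S]
    (x : R) (y : S) (hxy : algebraMap R S x = y) :
    (awayLift (algebraMap R S) x y hxy).Flat := by
  let _ : Algebra (Localization.Away x) (Localization.Away y) :=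
    (awayLift (algebraMap R S) x y hxy).toAlgebra
  have hST : IsScalarTower R (Localization.Away x) (Localization.Away y) := by
    refine IsScalarTower.of_algebraMap_eq (fun r => ?_)
    have h1 := RingHom.congr_fun (awayLift_comp (algebraMap R S) x y hxy) r
    rw [RingHom.comp_apply, RingHom.comp_apply] at h1
    rw [IsScalarTower.algebraMap_apply R S (Localization.Away y)]
    exact h1.symm
  have h2 : Module.Flat S (Localization.Away y) := IsLocalization.flat _ (Submonoid.powers y)
  have h3 : Module.Flat R (Localization.Away y) := Module.Flat.trans R S (Localization.Away y)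
  show Module.Flat (Localization.Away x) (Localization.Away y)
  exact (Module.flat_iff_of_isLocalization (Localization.Away x) (Submonoid.powers x)
    (Localization.Away y)).mpr h3

theorem exists_prime_awayLift {R S : Type u} [CommRing R] [CommRing S] [Algebra R S]
    [Module.FaithfullyFlat R S] (x : R) (y : S) (hxy : algebraMap R S x = y)
    (P : Ideal (Localization.Away x)) (hP : P.IsPrime) :
    ∃ P' : Ideal (Localization.Away y), P'.IsPrime ∧
      P'.comap (awayLift (algebraMap R S) x y hxy) = P := by
  have hp : (P.comap (algebraMap R (Localization.Away x))).IsPrime := Ideal.comap_isPrime _ _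
  obtain ⟨p', hp'prime, hp'over⟩ := Ideal.exists_isPrime_liesOver_of_faithfullyFlat (B := S)
    (P.comap (algebraMap R (Localization.Away x)))
  have hp'eq : p'.comap (algebraMap R S) = P.comap (algebraMap R (Localization.Away x)) :=
    hp'over.over.symm
  have hxP : algebraMap R (Localization.Away x) x ∉ P := by
    intro h
    exact hP.ne_top (Ideal.eq_top_of_isUnit_mem _ h (IsLocalization.Away.algebraMap_isUnit x))
  have hyp' : y ∉ p' := by
    intro h
    have : x ∈ p'.comap (algebraMap R S) := by rw [Ideal.mem_comap, hxy]; exact h
    rw [hp'eq] at this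
    exact hxP this
  have hdisj : Disjoint (Submonoid.powers y : Set S) (p' : Set S) := by
    rw [Set.disjoint_left]
    rintro z ⟨n, rfl⟩ hz
    exact hyp' (hp'prime.mem_of_pow_mem n hz)
  refine ⟨p'.map (algebraMap S (Localization.Away y)),
    IsLocalization.isPrime_of_isPrime_disjoint (Submonoid.powers y) _ p' hp'prime hdisj, ?_⟩
  have h1 : (p'.map (algebraMap S (Localization.Away y))).comap (algebraMap S _) = p' :=
    IsLocalization.under_map_of_isPrime_disjoint (Submonoid.powers y) _ hp'prime hdisj
  have h2 : ((p'.map (algebraMap S (Localization.Away y))).comap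
      (awayLift (algebraMap R S) x y hxy)).comap (algebraMap R (Localization.Away x)) =
      P.comap (algebraMap R (Localization.Away x)) := by
    rw [Ideal.comap_comap, awayLift_comp, ← Ideal.comap_comap, h1, hp'eq]
  have e1 := IsLocalization.map_under (Submonoid.powers x) (Localization.Away x)
    ((p'.map (algebraMap S (Localization.Away y))).comap (awayLift (algebraMap R S) x y hxy))
  have e2 := IsLocalization.map_under (Submonoid.powers x) (Localization.Away x) P
  rw [← e1, ← e2]
  exact congrArg (Ideal.map _) h2

theorem comap_surjective_complMap {T T' : Type u} [CommRing T] [CommRing T'] [IsNoetherianRing T]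
    [IsNoetherianRing T'] (J : Ideal T) (J' : Ideal T') (γ : T →+* T') (hγ : γ.Flat)
    (hsurj : ∀ p : Ideal T, p.IsPrime → ∃ p' : Ideal T', p'.IsPrime ∧ p'.comap γ = p)
    (hJ : J.map γ = J') (h : J.map γ ≤ J') :
    (FSch.complMap J J' γ h).Flat ∧
      ∀ q : PrimeSpectrum (AdicCompletion J T), ∃ q' : PrimeSpectrum (AdicCompletion J' T'),
        PrimeSpectrum.comap (FSch.complMap J J' γ h) q' = q := by
  have hfl : (FSch.complMap J J' γ h).Flat :=
    Groth.Agent.Lib.Helper54.ComplFlat.flat_complMap J J' γ hγ hJ h
  refine ⟨hfl, ?_⟩
  have hJfg : J.FG := IsNoetherian.noetherian J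
  have hJ'fg : J'.FG := IsNoetherian.noetherian J'
  let _ : Algebra (AdicCompletion J T) (AdicCompletion J' T') := (FSch.complMap J J' γ h).toAlgebra
  have hflat : Module.Flat (AdicCompletion J T) (AdicCompletion J' T') := hfl
  have hff : Module.FaithfullyFlat (AdicCompletion J T) (AdicCompletion J' T') := by
    refine ⟨fun m hm => ?_⟩
    have hmprime : m.IsPrime := hm.isPrime
    have hKm : J.map (algebraMap T (AdicCompletion J T)) ≤ m := by
      refine (map_le_jacobson J hJfg).trans ?_
      exact (Ideal.jacobson_mono bot_le).trans (le_of_eq Ideal.jacobson_eq_self_of_isMaximal)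
    have hm₀ : (m.comap (algebraMap T (AdicCompletion J T))).IsPrime := Ideal.comap_isPrime _ _
    obtain ⟨m₀', hm₀'prime, hm₀'eq⟩ := hsurj _ hm₀
    have hJm₀ : J ≤ m.comap (algebraMap T (AdicCompletion J T)) :=
      Ideal.map_le_iff_le_comap.mp hKm
    have hJ'm₀' : J' ≤ m₀' := by
      rw [← hJ, Ideal.map_le_iff_le_comap, hm₀'eq]
      exact hJm₀
    obtain ⟨ρ, hρdef⟩ : ∃ ρ : AdicCompletion J' T' →+* T' ⧸ m₀', ∀ z, ρ z =
        Ideal.Quotient.factor hJ'm₀' ((AdicCompletion.evalOneₐ J').toRingHom z) :=
      ⟨(Ideal.Quotient.factor hJ'm₀').comp (AdicCompletion.evalOneₐ J').toRingHom, fun z => rfl⟩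
    have hρι : ∀ t' : T', ρ (algebraMap T' (AdicCompletion J' T') t') = Ideal.Quotient.mk m₀' t' := by
      intro t'
      have := RingHom.congr_fun (AdicCompletion.evalOneₐ_comp_algebraMap_eq_mk J') t'
      rw [RingHom.comp_apply] at this
      rw [hρdef, this]
      rfl
    have hρK : J'.map (algebraMap T' (AdicCompletion J' T')) ≤ RingHom.ker ρ := by
      rw [Ideal.map_le_iff_le_comap]
      intro j hj
      rw [Ideal.mem_comap, RingHom.mem_ker, hρι, Ideal.Quotient.eq_zero_iff_mem]
      exact hJ'm₀' hj
    have hker : (RingHom.ker ρ).IsPrime := RingHom.ker_isPrime ρ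
    have hle : m.map (algebraMap (AdicCompletion J T) (AdicCompletion J' T')) ≤ RingHom.ker ρ := by
      rw [Ideal.map_le_iff_le_comap]
      intro x hx
      rw [Ideal.mem_comap]
      obtain ⟨t, ht⟩ := exists_sub_mem J hJfg x 1
      rw [pow_one] at ht
      have hιt : algebraMap T (AdicCompletion J T) t ∈ m := by
        have := Ideal.sub_mem m hx (hKm ht)
        rwa [sub_sub_cancel] at this
      have htm₀ : γ t ∈ m₀' := by
        have : t ∈ m₀'.comap γ := by rw [hm₀'eq]; exact hιt
        exact this
      have h1 : FSch.complMap J J' γ h (x - algebraMap T (AdicCompletion J T) t) ∈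
          J'.map (algebraMap T' (AdicCompletion J' T')) := by
        have h2 : FSch.complMap J J' γ h (x - algebraMap T (AdicCompletion J T) t) ∈
            (J.map (algebraMap T (AdicCompletion J T))).map (FSch.complMap J J' γ h) :=
          Ideal.mem_map_of_mem _ ht
        rw [Ideal.map_map] at h2
        have h3 : (FSch.complMap J J' γ h).comp (algebraMap T (AdicCompletion J T)) =
            (algebraMap T' (AdicCompletion J' T')).comp γ :=
          RingHom.ext fun t => Groth.Agent.Lib.Helper54.ComplFlat.complMap_algebraMap J J' γ h t
        rw [h3, ← Ideal.map_map] at h2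
        exact Ideal.map_mono h h2
      have h4 : ρ (FSch.complMap J J' γ h (algebraMap T (AdicCompletion J T) t)) = 0 := by
        rw [Groth.Agent.Lib.Helper54.ComplFlat.complMap_algebraMap J J' γ h t, hρι,
          Ideal.Quotient.eq_zero_iff_mem]
        exact htm₀
      have h5 : ρ (FSch.complMap J J' γ h (x - algebraMap T (AdicCompletion J T) t)) = 0 :=
        hρK h1
      rw [map_sub, map_sub, h4, sub_zero] at h5
      exact h5
    rw [Ideal.smul_top_eq_map]
    intro htop
    rw [Submodule.restrictScalars_eq_top_iff] at htop
    rw [htop, top_le_iff] at hle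
    exact hker.ne_top hle
  intro q
  exact PrimeSpectrum.comap_surjective_of_faithfullyFlat q

theorem desc_aux {Ah Bh A'h B'h : Type u} [CommRing Ah] [CommRing Bh] [CommRing A'h]
    [CommRing B'h] [IsNoetherianRing B'h]
    (ψ : Ah →+* Bh) (α : Ah →+* A'h) (β : Bh →+* B'h) (ψ' : A'h →+* B'h)
    (hcomm : β.comp ψ = ψ'.comp α) (hα : α.Flat) (hβ : β.Flat)
    (hβsurj : ∀ q : PrimeSpectrum Bh, ∃ q' : PrimeSpectrum B'h, PrimeSpectrum.comap β q' = q)
    (KB : Ideal Bh) (KB' : Ideal B'h) (hK : KB.map β ≤ KB')
    (H1 : ∀ q₁ : PrimeSpectrum B'h, IsRig KB' q₁ →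
      ((algebraMap B'h (Localization.AtPrime q₁.asIdeal)).comp ψ').Flat)
    (q : PrimeSpectrum Bh) (hq : ¬ KB ≤ q.asIdeal) :
    ((algebraMap Bh (Localization.AtPrime q.asIdeal)).comp ψ).Flat := by
  obtain ⟨q', hq'⟩ := hβsurj q
  subst hq'
  have hq'p : q'.asIdeal.IsPrime := q'.isPrime
  have hqp : (PrimeSpectrum.comap β q').asIdeal.IsPrime := (PrimeSpectrum.comap β q').isPrime
  have hq'K : ¬ KB' ≤ q'.asIdeal := by
    intro hle
    exact hq ((Ideal.map_le_iff_le_comap.mp hK).trans (Ideal.comap_mono hle))
  obtain ⟨q₁, hle, hrig⟩ := exists_isRig_ge KB' q' hq'K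
  have hq₁p : q₁.asIdeal.IsPrime := q₁.isPrime
  have hf1 := flat_atPrime_of_le ψ' q'.asIdeal q₁.asIdeal hle (H1 q₁ hrig)
  have hf2 : ((algebraMap B'h (Localization.AtPrime q'.asIdeal)).comp (β.comp ψ)).Flat := by
    rw [hcomm, ← RingHom.comp_assoc]
    exact RingHom.Flat.comp hα hf1
  let _ : Algebra Ah Bh := ψ.toAlgebra
  let _ : Algebra Bh B'h := β.toAlgebra
  let _ : Algebra Ah B'h := (β.comp ψ).toAlgebra
  have hST : IsScalarTower Ah Bh B'h := IsScalarTower.of_algebraMap_eq' rfl
  have hflβ : Module.Flat Bh B'h := hβ
  have e3 : (algebraMap B'h (Localization.AtPrime q'.asIdeal)).comp (β.comp ψ) =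
      algebraMap Ah (Localization.AtPrime q'.asIdeal) :=
    (IsScalarTower.algebraMap_eq Ah B'h _).symm
  have e1 : (algebraMap Bh (Localization.AtPrime (PrimeSpectrum.comap β q').asIdeal)).comp ψ =
      algebraMap Ah (Localization.AtPrime (PrimeSpectrum.comap β q').asIdeal) :=
    (IsScalarTower.algebraMap_eq Ah Bh _).symm
  rw [e3, RingHom.flat_algebraMap_iff] at hf2
  rw [e1, RingHom.flat_algebraMap_iff]
  have hlo : q'.asIdeal.LiesOver (PrimeSpectrum.comap β q').asIdeal := ⟨rfl⟩
  let _ := Localization.AtPrime.algebraOfLiesOver (PrimeSpectrum.comap β q').asIdeal q'.asIdeal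
  have hloc : IsLocalHom (algebraMap (Localization.AtPrime (PrimeSpectrum.comap β q').asIdeal)
      (Localization.AtPrime q'.asIdeal)) := by
    rw [RingHom.algebraMap_toAlgebra]
    exact Localization.isLocalHom_localRingHom (PrimeSpectrum.comap β q').asIdeal q'.asIdeal
      (algebraMap Bh B'h) Ideal.LiesOver.over
  have hff : Module.FaithfullyFlat (Localization.AtPrime (PrimeSpectrum.comap β q').asIdeal)
      (Localization.AtPrime q'.asIdeal) := Module.FaithfullyFlat.of_flat_of_isLocalHom
  exact Groth.Agent.Lib.Helper54.ComplFlat.flat_of_faithfullyFlat_of_flat Ah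
    (Localization.AtPrime (PrimeSpectrum.comap β q').asIdeal) (Localization.AtPrime q'.asIdeal)

theorem flat_cAwayLift {R S : Type u} [CommRing R] [CommRing S] [Algebra R S]
    [IsNoetherianRing R] [IsNoetherianRing S] [Module.Flat R S] (K : Ideal R) (L : Ideal S)
    (hKL : K.map (algebraMap R S) = L) (x : R) (y : S) (hxy : algebraMap R S x = y) :
    (cAwayLift K L (algebraMap R S) (le_of_eq hKL) x y hxy).Flat := by
  have hNR : IsNoetherianRing (Localization.Away x) :=
    IsLocalization.isNoetherianRing (Submonoid.powers x) _ inferInstance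
  have hNS : IsNoetherianRing (Localization.Away y) :=
    IsLocalization.isNoetherianRing (Submonoid.powers y) _ inferInstance
  refine Groth.Agent.Lib.Helper54.ComplFlat.flat_complMap _ _ _ (flat_awayLift x y hxy) ?_ _
  rw [← hKL]
  exact map_four _ _ _ _ (awayLift_comp (algebraMap R S) x y hxy) K

theorem descent (A : Type u) [CommRing A] [IsNoetherianRing A] (I : Ideal A)
    (B : Type u) [CommRing B] [Algebra A B] [IsNoetherianRing B]
    (A' : Type u) [CommRing A'] [Algebra A A'] [IsNoetherianRing A']
    (B' : Type u) [CommRing B'] [Algebra A B'] [Algebra B B'] [Algebra A' B']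
    [IsScalarTower A B B'] [IsScalarTower A A' B'] [IsNoetherianRing B']
    [Module.Flat A A'] [Module.FaithfullyFlat B B']
    (hA'B' : RigFlat A' (I.map (algebraMap A A')) B'
      ((I.map (algebraMap A A')).map (algebraMap A' B'))) :
    RigFlat A I B (I.map (algebraMap A B)) := by
  intro f ψf hψf qf hqf
  have hgg' : algebraMap B B' (algebraMap A B f) = algebraMap A' B' (algebraMap A A' f) := by
    rw [← IsScalarTower.algebraMap_apply, ← IsScalarTower.algebraMap_apply]
  have hIB : (I.map (algebraMap A B)).map (algebraMap B B') =
      (I.map (algebraMap A A')).map (algebraMap A' B') := by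
    rw [Ideal.map_map, Ideal.map_map, ← IsScalarTower.algebraMap_eq, ← IsScalarTower.algebraMap_eq]
  have hNA : IsNoetherianRing (Localization.Away f) :=
    IsLocalization.isNoetherianRing (Submonoid.powers f) _ inferInstance
  have hNB : IsNoetherianRing (Localization.Away (algebraMap A B f)) :=
    IsLocalization.isNoetherianRing (Submonoid.powers (algebraMap A B f)) _ inferInstance
  have hNA' : IsNoetherianRing (Localization.Away (algebraMap A A' f)) :=
    IsLocalization.isNoetherianRing (Submonoid.powers (algebraMap A A' f)) _ inferInstance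
  have hNB' : IsNoetherianRing (Localization.Away (algebraMap A' B' (algebraMap A A' f))) :=
    IsLocalization.isNoetherianRing (Submonoid.powers (algebraMap A' B' (algebraMap A A' f))) _
      inferInstance
  have hNB'h : IsNoetherianRing (AdicCompletion
      (((I.map (algebraMap A A')).map (algebraMap A' B')).map
        (algebraMap B' (Localization.Away (algebraMap A' B' (algebraMap A A' f)))))
      (Localization.Away (algebraMap A' B' (algebraMap A A' f)))) := Groth.Agent.S0543.result _ _
  have hα := flat_cAwayLift I (I.map (algebraMap A A')) rfl f (algebraMap A A' f) rfl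
  have hflBB' : Module.Flat B B' := inferInstance
  have hJ : ((I.map (algebraMap A B)).map (algebraMap B (Localization.Away (algebraMap A B f)))).map
      (awayLift (algebraMap B B') (algebraMap A B f) (algebraMap A' B' (algebraMap A A' f)) hgg') =
      ((I.map (algebraMap A A')).map (algebraMap A' B')).map
        (algebraMap B' (Localization.Away (algebraMap A' B' (algebraMap A A' f)))) := by
    rw [← hIB]
    exact map_four _ _ _ _ (awayLift_comp (algebraMap B B') (algebraMap A B f) _ hgg') _
  obtain ⟨hβ, hβsurj⟩ := comap_surjective_complMap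
    ((I.map (algebraMap A B)).map (algebraMap B (Localization.Away (algebraMap A B f))))
    (((I.map (algebraMap A A')).map (algebraMap A' B')).map
        (algebraMap B' (Localization.Away (algebraMap A' B' (algebraMap A A' f)))))
    (awayLift (algebraMap B B') (algebraMap A B f) (algebraMap A' B' (algebraMap A A' f)) hgg')
    (flat_awayLift _ _ hgg') (exists_prime_awayLift _ _ hgg') hJ (le_of_eq hJ)
  have cα := cAwayLift_comp I (I.map (algebraMap A A')) (algebraMap A A') le_rfl f
    (algebraMap A A' f) rfl
  have cβ := cAwayLift_comp (I.map (algebraMap A B))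
    ((I.map (algebraMap A A')).map (algebraMap A' B')) (algebraMap B B') (le_of_eq hIB)
    (algebraMap A B f) (algebraMap A' B' (algebraMap A A' f)) hgg'
  have cψ' := cAwayLift_comp (I.map (algebraMap A A'))
    ((I.map (algebraMap A A')).map (algebraMap A' B')) (algebraMap A' B') le_rfl
    (algebraMap A A' f) (algebraMap A' B' (algebraMap A A' f)) rfl
  have cψ'' := cψ'
  rw [awayLift_eq_awayMap] at cψ''
  have H1 := hA'B' (algebraMap A A' f) _ cψ''
  have aα := awayLift_comp (algebraMap A A') f (algebraMap A A' f) rfl
  have aβ := awayLift_comp (algebraMap B B') (algebraMap A B f)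
    (algebraMap A' B' (algebraMap A A' f)) hgg'
  have aψ' := awayLift_comp (algebraMap A' B') (algebraMap A A' f)
    (algebraMap A' B' (algebraMap A A' f)) rfl
  have hloc : (awayLift (algebraMap B B') (algebraMap A B f)
      (algebraMap A' B' (algebraMap A A' f)) hgg').comp (Localization.awayMap (algebraMap A B) f) =
      (awayLift (algebraMap A' B') (algebraMap A A' f)
        (algebraMap A' B' (algebraMap A A' f)) rfl).comp
        (awayLift (algebraMap A A') f (algebraMap A A' f) rfl) := by
    refine IsLocalization.ringHom_ext (Submonoid.powers f) ?_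
    refine RingHom.ext fun a => ?_
    have h1 : Localization.awayMap (algebraMap A B) f (algebraMap A (Localization.Away f) a) =
        algebraMap B (Localization.Away (algebraMap A B f)) (algebraMap A B a) :=
      IsLocalization.map_eq _ a
    have h2 := RingHom.congr_fun aβ (algebraMap A B a)
    have h3 := RingHom.congr_fun aα a
    have h4 := RingHom.congr_fun aψ' (algebraMap A A' a)
    simp only [RingHom.comp_apply] at h2 h3 h4 ⊢
    have e5 : algebraMap B B' (algebraMap A B a) = algebraMap A' B' (algebraMap A A' a) := by
      rw [← IsScalarTower.algebraMap_apply, ← IsScalarTower.algebraMap_apply]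
    rw [h1, h2, h3, h4, e5]
  have hHaus := isHausdorff_completion (((I.map (algebraMap A A')).map (algebraMap A' B')).map
        (algebraMap B' (Localization.Away (algebraMap A' B' (algebraMap A A' f)))))
  have hcomm : (cAwayLift (I.map (algebraMap A B))
      ((I.map (algebraMap A A')).map (algebraMap A' B')) (algebraMap B B') (le_of_eq hIB)
      (algebraMap A B f) (algebraMap A' B' (algebraMap A A' f)) hgg').comp ψf =
      (cAwayLift (I.map (algebraMap A A'))
        ((I.map (algebraMap A A')).map (algebraMap A' B')) (algebraMap A' B') le_rfl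
        (algebraMap A A' f) (algebraMap A' B' (algebraMap A A' f)) rfl).comp
      (cAwayLift I (I.map (algebraMap A A')) (algebraMap A A') le_rfl f (algebraMap A A' f) rfl) := by
    refine ringHom_ext_of_comp_algebraMap (I.map (algebraMap A (Localization.Away f)))
      (IsNoetherian.noetherian _) ((((I.map (algebraMap A A')).map (algebraMap A' B')).map
        (algebraMap B' (Localization.Away (algebraMap A' B' (algebraMap A A' f))))).map
        (algebraMap (Localization.Away (algebraMap A' B' (algebraMap A A' f)))
          (AdicCompletion (((I.map (algebraMap A A')).map (algebraMap A' B')).map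
            (algebraMap B' (Localization.Away (algebraMap A' B' (algebraMap A A' f)))))
            (Localization.Away (algebraMap A' B' (algebraMap A A' f)))))) _ _ ?_ ?_
    · refine RingHom.ext fun t => ?_
      have h1 := RingHom.congr_fun hψf t
      have h2 := RingHom.congr_fun cβ (Localization.awayMap (algebraMap A B) f t)
      have h3 := RingHom.congr_fun cα t
      have h4 := RingHom.congr_fun cψ' (awayLift (algebraMap A A') f (algebraMap A A' f) rfl t)
      have h5 := RingHom.congr_fun hloc t
      simp only [RingHom.comp_apply] at h1 h2 h3 h4 h5 ⊢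
      rw [h1, h2, h3, h4, h5]
    · have hcomp : ((cAwayLift (I.map (algebraMap A B))
          ((I.map (algebraMap A A')).map (algebraMap A' B')) (algebraMap B B') (le_of_eq hIB)
          (algebraMap A B f) (algebraMap A' B' (algebraMap A A' f)) hgg').comp ψf).comp
          (algebraMap (Localization.Away f)
            (AdicCompletion (I.map (algebraMap A (Localization.Away f))) (Localization.Away f))) =
          (algebraMap (Localization.Away (algebraMap A' B' (algebraMap A A' f)))
            (AdicCompletion (((I.map (algebraMap A A')).map (algebraMap A' B')).map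
              (algebraMap B' (Localization.Away (algebraMap A' B' (algebraMap A A' f)))))
              (Localization.Away (algebraMap A' B' (algebraMap A A' f))))).comp
          ((awayLift (algebraMap B B') (algebraMap A B f)
            (algebraMap A' B' (algebraMap A A' f)) hgg').comp
            (Localization.awayMap (algebraMap A B) f)) := by
        refine RingHom.ext fun t => ?_
        have h1 := RingHom.congr_fun hψf t
        have h2 := RingHom.congr_fun cβ (Localization.awayMap (algebraMap A B) f t)
        simp only [RingHom.comp_apply] at h1 h2 ⊢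
        rw [h1, h2]
      have e7 : ((awayLift (algebraMap B B') (algebraMap A B f)
          (algebraMap A' B' (algebraMap A A' f)) hgg').comp
          (Localization.awayMap (algebraMap A B) f)).comp (algebraMap A (Localization.Away f)) =
          (algebraMap B' (Localization.Away (algebraMap A' B' (algebraMap A A' f)))).comp
            ((algebraMap B B').comp (algebraMap A B)) := by
        refine RingHom.ext fun a => ?_
        have h1 : Localization.awayMap (algebraMap A B) f (algebraMap A (Localization.Away f) a) =
            algebraMap B (Localization.Away (algebraMap A B f)) (algebraMap A B a) :=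
          IsLocalization.map_eq _ a
        have h2 := RingHom.congr_fun aβ (algebraMap A B a)
        simp only [RingHom.comp_apply] at h2 ⊢
        rw [h1, h2]
      have e6 : (I.map (algebraMap A (Localization.Away f))).map
          ((awayLift (algebraMap B B') (algebraMap A B f)
            (algebraMap A' B' (algebraMap A A' f)) hgg').comp
            (Localization.awayMap (algebraMap A B) f)) =
          ((I.map (algebraMap A A')).map (algebraMap A' B')).map
            (algebraMap B' (Localization.Away (algebraMap A' B' (algebraMap A A' f)))) := by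
        rw [Ideal.map_map, e7, ← Ideal.map_map, ← Ideal.map_map, hIB]
      rw [hcomp, ← Ideal.map_map, e6]
  have hKK := (map_four _ _ _ _ cβ ((I.map (algebraMap A B)).map
    (algebraMap B (Localization.Away (algebraMap A B f))))).trans
    (congrArg (Ideal.map (algebraMap (Localization.Away (algebraMap A' B' (algebraMap A A' f)))
      (AdicCompletion (((I.map (algebraMap A A')).map (algebraMap A' B')).map
        (algebraMap B' (Localization.Away (algebraMap A' B' (algebraMap A A' f)))))
        (Localization.Away (algebraMap A' B' (algebraMap A A' f)))))) hJ)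
  exact desc_aux ψf _ _ _ hcomm hα hβ hβsurj _ _ (le_of_eq hKK) H1 qf hqf.1

end Groth.Agent.Lib.Helper63.RigDesc
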