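import Groth.Agent.Lib.Helper63.RigBC
import Groth.Agent.Lib.Helper63.RigDesc

set_option autoImplicit false
set_option linter.unusedSectionVars false
universe u

namespace Groth.Agent.Lib.Helper63.RigBC

open IsLocalRing TensorProduct Groth.Agent.Lib.Helper63.ComplRing
  Groth.Agent.Lib.Helper63.RigClosed Groth.Agent.Lib.Helper63.RigPoly
  Groth.Agent.Lib.Helper63.RigFlat Groth.Agent.Lib.Helper63.RigComp
  Groth.Agent.Lib.Helper63.RigPt Groth.Agent.Lib.Helper63.RigDesc

theorem cAwayLift_trans {R S U : Type u} [CommRing R] [CommRing S] [CommRing U]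
    [IsNoetherianRing R] [IsNoetherianRing U]
    (K : Ideal R) (L : Ideal S) (N : Ideal U) (φ : R →+* S) (χ : S →+* U) (ω : R →+* U)
    (hω : ω = χ.comp φ) (hKL : K.map φ ≤ L) (hLN : L.map χ ≤ N) (hKN : K.map ω ≤ N)
    (x : R) (y : S) (z : U) (hxy : φ x = y) (hyz : χ y = z) (hxz : ω x = z) :
    (cAwayLift L N χ hLN y z hyz).comp (cAwayLift K L φ hKL x y hxy) =
      cAwayLift K N ω hKN x z hxz := by
  have hNR : IsNoetherianRing (Localization.Away x) :=
    IsLocalization.isNoetherianRing (Submonoid.powers x) _ inferInstance
  have hNU : IsNoetherianRing (Localization.Away z) :=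
    IsLocalization.isNoetherianRing (Submonoid.powers z) _ inferInstance
  have hHaus := isHausdorff_completion (N.map (algebraMap U (Localization.Away z)))
  have c1 := cAwayLift_comp K L φ hKL x y hxy
  have c2 := cAwayLift_comp L N χ hLN y z hyz
  have c3 := cAwayLift_comp K N ω hKN x z hxz
  have a1 := awayLift_comp φ x y hxy
  have a2 := awayLift_comp χ y z hyz
  have a3 := awayLift_comp ω x z hxz
  have hloc : (awayLift χ y z hyz).comp (awayLift φ x y hxy) = awayLift ω x z hxz := by
    refine IsLocalization.ringHom_ext (Submonoid.powers x) ?_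
    refine RingHom.ext fun a => ?_
    have h1 := RingHom.congr_fun a1 a
    have h2 := RingHom.congr_fun a2 (φ a)
    have h3 := RingHom.congr_fun a3 a
    simp only [RingHom.comp_apply] at h1 h2 h3 ⊢
    rw [h1, h2, h3, hω]
    rfl
  refine ringHom_ext_of_comp_algebraMap (K.map (algebraMap R (Localization.Away x)))
    (IsNoetherian.noetherian _) ((N.map (algebraMap U (Localization.Away z))).map
      (algebraMap (Localization.Away z)
        (AdicCompletion (N.map (algebraMap U (Localization.Away z))) (Localization.Away z))))
    _ _ ?_ ?_
  · refine RingHom.ext fun t => ?_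
    have h1 := RingHom.congr_fun c1 t
    have h2 := RingHom.congr_fun c2 (awayLift φ x y hxy t)
    have h3 := RingHom.congr_fun c3 t
    have h4 := RingHom.congr_fun hloc t
    simp only [RingHom.comp_apply] at h1 h2 h3 h4 ⊢
    rw [h1, h2, h3, h4]
  · have hcomp : ((cAwayLift L N χ hLN y z hyz).comp (cAwayLift K L φ hKL x y hxy)).comp
        (algebraMap (Localization.Away x)
          (AdicCompletion (K.map (algebraMap R (Localization.Away x))) (Localization.Away x))) =
        (algebraMap (Localization.Away z)
          (AdicCompletion (N.map (algebraMap U (Localization.Away z))) (Localization.Away z))).comp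
          (awayLift ω x z hxz) := by
      refine RingHom.ext fun t => ?_
      have h1 := RingHom.congr_fun c1 t
      have h2 := RingHom.congr_fun c2 (awayLift φ x y hxy t)
      have h4 := RingHom.congr_fun hloc t
      simp only [RingHom.comp_apply] at h1 h2 h4 ⊢
      rw [h1, h2, h4]
    rw [hcomp, ← Ideal.map_map]
    exact Ideal.map_mono (map_awayLift_le K N ω hKN x z hxz)

theorem naive_abs (A : Type u) [CommRing A] [IsNoetherianRing A] (I : Ideal A)
    [IsAdicComplete I A]
    (A' : Type u) [CommRing A'] [Algebra A A']
    (B' : Type u) [CommRing B'] [Algebra A B'] [Algebra A' B'] [IsScalarTower A A' B']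
    [IsNoetherianRing B'] [IsAdicComplete (I.map (algebraMap A B')) B']
    (A₁ : Type u) [CommRing A₁] [Algebra A A₁] [IsNoetherianRing A₁]
    (hCA₁ : IsAdicComplete (I.map (algebraMap A A₁)) A₁)
    (B₁ : Type u) [CommRing B₁] [Algebra A B₁] [Algebra A₁ B₁] [IsScalarTower A A₁ B₁]
    [IsNoetherianRing B₁] (hCB₁ : IsAdicComplete (I.map (algebraMap A B₁)) B₁)
    (A'₁ : Type u) [CommRing A'₁] [Algebra A A'₁] [Algebra A' A'₁] [IsScalarTower A A' A'₁]
    [Algebra A₁ A'₁] [IsScalarTower A A₁ A'₁] [IsNoetherianRing A'₁]
    (hCA'₁ : IsAdicComplete (I.map (algebraMap A A'₁)) A'₁)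
    (hftA'₁ : Algebra.FiniteType A (A'₁ ⧸ I.map (algebraMap A A'₁)))
    (hU₁ : Algebra.FormallyUnramified A (A'₁ ⧸ I.map (algebraMap A A'₁)))
    [Module.Flat A' A'₁]
    (B'₁ : Type u) [CommRing B'₁] [Algebra A B'₁] [Algebra B' B'₁] [IsScalarTower A B' B'₁]
    [Algebra A₁ B'₁] [IsScalarTower A A₁ B'₁] [Algebra B₁ B'₁] [IsScalarTower A₁ B₁ B'₁]
    [Algebra A'₁ B'₁] [IsScalarTower A₁ A'₁ B'₁] [Algebra A' B'₁] [IsScalarTower A' B' B'₁]
    [IsScalarTower A' A'₁ B'₁] [IsNoetherianRing B'₁]
    (hCB'₁ : IsAdicComplete (I.map (algebraMap A B'₁)) B'₁)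
    (hftB'₁ : Algebra.FiniteType A (B'₁ ⧸ I.map (algebraMap A B'₁)))
    [Module.Flat B₁ B'₁] [Module.Flat B' B'₁]
    (hnaive₁ : ∀ q : PrimeSpectrum B₁, IsRig (I.map (algebraMap A B₁)) q →
      Module.Flat A₁ (Localization.AtPrime q.asIdeal))
    (q' : PrimeSpectrum B') (hq' : IsRig (I.map (algebraMap A B')) q')
    (F1 : ∀ z : B'₁, ∃ b : B', z - algebraMap B' B'₁ b ∈ q'.asIdeal.map (algebraMap B' B'₁))
    (F2 : ∀ b : B', algebraMap B' B'₁ b ∈ q'.asIdeal.map (algebraMap B' B'₁) → b ∈ q'.asIdeal)
    (hp'' : ∀ hP : (q'.asIdeal.map (algebraMap B' B'₁)).IsPrime,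
      IsRig (I.map (algebraMap A A₁)) (PrimeSpectrum.comap (algebraMap A₁ B'₁)
        ⟨q'.asIdeal.map (algebraMap B' B'₁), hP⟩)) :
    Module.Flat A' (Localization.AtPrime q'.asIdeal) := by
  have hq'p : q'.asIdeal.IsPrime := q'.isPrime
  have hP := isPrime_map_of_F B' B'₁ q'.asIdeal hq'p F1 F2
  have hrig0 := isRig_map_of_F A I B' B'₁ q' hq' F1 F2 hP
  have hrig1 : IsRig ((I.map (algebraMap A A₁)).map (algebraMap A₁ B'₁))
      ⟨q'.asIdeal.map (algebraMap B' B'₁), hP⟩ := by
    rw [map_map_tower A I A₁ B'₁, ← map_map_tower A I B' B'₁]
    exact hrig0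
  have i1 : IsAdicComplete ((I.map (algebraMap A A₁)).map (algebraMap A₁ B₁)) B₁ :=
    complete_tower A I A₁ B₁ hCB₁
  have i2 : IsAdicComplete ((I.map (algebraMap A A₁)).map (algebraMap A₁ A'₁)) A'₁ :=
    complete_tower A I A₁ A'₁ hCA'₁
  have i3 : IsAdicComplete ((I.map (algebraMap A A₁)).map (algebraMap A₁ B'₁)) B'₁ :=
    complete_tower A I A₁ B'₁ hCB'₁
  have i4 : Algebra.FormallyUnramified A₁
      (A'₁ ⧸ (I.map (algebraMap A A₁)).map (algebraMap A₁ A'₁)) := unram_tower A I A₁ A'₁ hU₁
  have hn : ∀ q : PrimeSpectrum B₁, IsRig ((I.map (algebraMap A A₁)).map (algebraMap A₁ B₁)) q →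
      Module.Flat A₁ (Localization.AtPrime q.asIdeal) := by
    intro q hq
    rw [map_map_tower A I A₁ B₁] at hq
    exact hnaive₁ q hq
  have hflat1 := naive_of_both A₁ (I.map (algebraMap A A₁)) B₁ A'₁ (ft_tower A I A₁ A'₁ hftA'₁)
    B'₁ (ft_tower A I A₁ B'₁ hftB'₁) hn ⟨q'.asIdeal.map (algebraMap B' B'₁), hP⟩ hrig1 (hp'' hP)
  have hST1 : IsScalarTower A' A'₁ (Localization.AtPrime (q'.asIdeal.map (algebraMap B' B'₁))) := by
    refine IsScalarTower.of_algebraMap_eq (fun a => ?_)
    rw [IsScalarTower.algebraMap_apply A' B'₁ (Localization.AtPrime _),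
      IsScalarTower.algebraMap_apply A' A'₁ B'₁,
      ← IsScalarTower.algebraMap_apply A'₁ B'₁ (Localization.AtPrime _)]
  have hflat2 : Module.Flat A' (Localization.AtPrime (q'.asIdeal.map (algebraMap B' B'₁))) :=
    Module.Flat.trans A' A'₁ _
  have hlo : (q'.asIdeal.map (algebraMap B' B'₁)).LiesOver q'.asIdeal := by
    refine ⟨le_antisymm Ideal.le_comap_map (fun b hb => F2 b hb)⟩
  let _ := Localization.AtPrime.algebraOfLiesOver q'.asIdeal (q'.asIdeal.map (algebraMap B' B'₁))
  have hloc : IsLocalHom (algebraMap (Localization.AtPrime q'.asIdeal)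
      (Localization.AtPrime (q'.asIdeal.map (algebraMap B' B'₁)))) :=
    Localization.isLocalHom_localRingHom _ _ _ _
  have hff : Module.FaithfullyFlat (Localization.AtPrime q'.asIdeal)
      (Localization.AtPrime (q'.asIdeal.map (algebraMap B' B'₁))) :=
    Module.FaithfullyFlat.of_flat_of_isLocalHom
  exact Groth.Agent.Lib.Helper54.ComplFlat.flat_of_faithfullyFlat_of_flat A'
    (Localization.AtPrime q'.asIdeal) (Localization.AtPrime (q'.asIdeal.map (algebraMap B' B'₁)))

theorem map_map_away (A : Type u) [CommRing A] (I : Ideal A) (X : Type u) [CommRing X]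
    [Algebra A X] (x : X) :
    (I.map (algebraMap A X)).map (algebraMap X (Localization.Away x)) =
      I.map (algebraMap A (Localization.Away x)) := by
  rw [Ideal.map_map, ← IsScalarTower.algebraMap_eq]

theorem cAwayLift_algebraMap_base (A : Type u) [CommRing A] {R S : Type u} [CommRing R]
    [CommRing S] [Algebra R S] [Algebra A R] [Algebra A S] [IsScalarTower A R S]
    (K : Ideal R) (L : Ideal S) (hKL : K.map (algebraMap R S) ≤ L) (x : R) (y : S)
    (hxy : algebraMap R S x = y) (a : A) :
    algebraMap A (AdicCompletion (L.map (algebraMap S (Localization.Away y)))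
      (Localization.Away y)) a =
    cAwayLift K L (algebraMap R S) hKL x y hxy
      (algebraMap A (AdicCompletion (K.map (algebraMap R (Localization.Away x)))
        (Localization.Away x)) a) := by
  rw [IsScalarTower.algebraMap_apply A R (AdicCompletion (K.map (algebraMap R (Localization.Away x)))
    (Localization.Away x)), cAwayLift_algebraMap, ← IsScalarTower.algebraMap_apply A R S,
    ← IsScalarTower.algebraMap_apply A S]

theorem naive_of_rigFlat (A : Type u) [CommRing A] [IsNoetherianRing A] (I : Ideal A)
    [IsAdicComplete I A]
    (B : Type u) [CommRing B] [Algebra A B] [IsNoetherianRing B]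
    [IsAdicComplete (I.map (algebraMap A B)) B]
    (hftB : Algebra.FiniteType A (B ⧸ (I.map (algebraMap A B))))
    (A' : Type u) [CommRing A'] [Algebra A A'] [IsNoetherianRing A']
    [IsAdicComplete (I.map (algebraMap A A')) A']
    (hftA' : Algebra.FiniteType A (A' ⧸ (I.map (algebraMap A A'))))
    (B' : Type u) [CommRing B'] [Algebra A B'] [Algebra B B'] [Algebra A' B']
    [IsScalarTower A B B'] [IsScalarTower A A' B'] [IsNoetherianRing B']
    [IsAdicComplete (I.map (algebraMap A B')) B']
    (hftB'A : Algebra.FiniteType A (B' ⧸ (I.map (algebraMap A B'))))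
    [Module.Flat B B']
    (hU : Algebra.FormallyUnramified A (A' ⧸ (I.map (algebraMap A A'))))
    (hAB : RigFlat A I B (I.map (algebraMap A B)))
    (q' : PrimeSpectrum B') (hq' : IsRig (I.map (algebraMap A B')) q') :
    Module.Flat A' (Localization.AtPrime q'.asIdeal) := by
  obtain ⟨f, hunit, hS⟩ := Groth.Agent.Lib.Helper63.RigPt.main A I B' hftB'A q' hq'
  obtain ⟨v, hv⟩ := hunit.exists_left_inv
  obtain ⟨u, rfl⟩ := Ideal.Quotient.mk_surjective v
  have hu : u * algebraMap A B' f - 1 ∈ q'.asIdeal := by
    rw [← Ideal.Quotient.eq_zero_iff_mem, map_sub, map_mul, hv, map_one, sub_self]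
  have hNTA : IsNoetherianRing (Localization.Away f) :=
    IsLocalization.isNoetherianRing (Submonoid.powers f) _ inferInstance
  have hNTB : IsNoetherianRing (Localization.Away (algebraMap A B f)) :=
    IsLocalization.isNoetherianRing (Submonoid.powers (algebraMap A B f)) _ inferInstance
  have hNTA' : IsNoetherianRing (Localization.Away (algebraMap A A' f)) :=
    IsLocalization.isNoetherianRing (Submonoid.powers (algebraMap A A' f)) _ inferInstance
  have hNTB' : IsNoetherianRing (Localization.Away (algebraMap A B' f)) :=
    IsLocalization.isNoetherianRing (Submonoid.powers (algebraMap A B' f)) _ inferInstance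
  have hNA₁ : IsNoetherianRing (AdicCompletion (I.map (algebraMap A (Localization.Away f)))
      (Localization.Away f)) := Groth.Agent.S0543.result _ _
  have hNB₁ : IsNoetherianRing (AdicCompletion ((I.map (algebraMap A B)).map
      (algebraMap B (Localization.Away (algebraMap A B f))))
      (Localization.Away (algebraMap A B f))) := Groth.Agent.S0543.result _ _
  have hNA'₁ : IsNoetherianRing (AdicCompletion ((I.map (algebraMap A A')).map
      (algebraMap A' (Localization.Away (algebraMap A A' f))))
      (Localization.Away (algebraMap A A' f))) := Groth.Agent.S0543.result _ _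
  have hNB'₁ : IsNoetherianRing (AdicCompletion ((I.map (algebraMap A B')).map
      (algebraMap B' (Localization.Away (algebraMap A B' f))))
      (Localization.Away (algebraMap A B' f))) := Groth.Agent.S0543.result _ _
  have hBB' : (I.map (algebraMap A B)).map (algebraMap B B') = I.map (algebraMap A B') :=
    map_map_tower A I B B'
  have hA'B' : (I.map (algebraMap A A')).map (algebraMap A' B') = I.map (algebraMap A B') :=
    map_map_tower A I A' B'
  have hxBB' : algebraMap B B' (algebraMap A B f) = algebraMap A B' f :=
    (IsScalarTower.algebraMap_apply A B B' f).symm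
  have hxA'B' : algebraMap A' B' (algebraMap A A' f) = algebraMap A B' f :=
    (IsScalarTower.algebraMap_apply A A' B' f).symm
  let _ : Algebra (AdicCompletion (I.map (algebraMap A (Localization.Away f)))
      (Localization.Away f)) (AdicCompletion ((I.map (algebraMap A B)).map
      (algebraMap B (Localization.Away (algebraMap A B f))))
      (Localization.Away (algebraMap A B f))) :=
    (cAwayLift I (I.map (algebraMap A B)) (algebraMap A B) le_rfl f (algebraMap A B f)
      rfl).toAlgebra
  let _ : Algebra (AdicCompletion (I.map (algebraMap A (Localization.Away f)))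
      (Localization.Away f)) (AdicCompletion ((I.map (algebraMap A A')).map
      (algebraMap A' (Localization.Away (algebraMap A A' f))))
      (Localization.Away (algebraMap A A' f))) :=
    (cAwayLift I (I.map (algebraMap A A')) (algebraMap A A') le_rfl f (algebraMap A A' f)
      rfl).toAlgebra
  let _ : Algebra (AdicCompletion (I.map (algebraMap A (Localization.Away f)))
      (Localization.Away f)) (AdicCompletion ((I.map (algebraMap A B')).map
      (algebraMap B' (Localization.Away (algebraMap A B' f))))
      (Localization.Away (algebraMap A B' f))) :=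
    (cAwayLift I (I.map (algebraMap A B')) (algebraMap A B') le_rfl f (algebraMap A B' f)
      rfl).toAlgebra
  let _ : Algebra (AdicCompletion ((I.map (algebraMap A B)).map
      (algebraMap B (Localization.Away (algebraMap A B f))))
      (Localization.Away (algebraMap A B f))) (AdicCompletion ((I.map (algebraMap A B')).map
      (algebraMap B' (Localization.Away (algebraMap A B' f))))
      (Localization.Away (algebraMap A B' f))) :=
    (cAwayLift (I.map (algebraMap A B)) (I.map (algebraMap A B')) (algebraMap B B')
      (le_of_eq hBB') (algebraMap A B f) (algebraMap A B' f) hxBB').toAlgebra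
  let _ : Algebra (AdicCompletion ((I.map (algebraMap A A')).map
      (algebraMap A' (Localization.Away (algebraMap A A' f))))
      (Localization.Away (algebraMap A A' f))) (AdicCompletion ((I.map (algebraMap A B')).map
      (algebraMap B' (Localization.Away (algebraMap A B' f))))
      (Localization.Away (algebraMap A B' f))) :=
    (cAwayLift (I.map (algebraMap A A')) (I.map (algebraMap A B')) (algebraMap A' B')
      (le_of_eq hA'B') (algebraMap A A' f) (algebraMap A B' f) hxA'B').toAlgebra
  have t1 : IsScalarTower A (AdicCompletion (I.map (algebraMap A (Localization.Away f)))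
      (Localization.Away f)) (AdicCompletion ((I.map (algebraMap A B)).map
      (algebraMap B (Localization.Away (algebraMap A B f))))
      (Localization.Away (algebraMap A B f))) :=
    IsScalarTower.of_algebraMap_eq (fun a => cAwayLift_algebraMap_base A I
      (I.map (algebraMap A B)) le_rfl f (algebraMap A B f) rfl a)
  have t2 : IsScalarTower A (AdicCompletion (I.map (algebraMap A (Localization.Away f)))
      (Localization.Away f)) (AdicCompletion ((I.map (algebraMap A A')).map
      (algebraMap A' (Localization.Away (algebraMap A A' f))))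
      (Localization.Away (algebraMap A A' f))) :=
    IsScalarTower.of_algebraMap_eq (fun a => cAwayLift_algebraMap_base A I
      (I.map (algebraMap A A')) le_rfl f (algebraMap A A' f) rfl a)
  have t3 : IsScalarTower A (AdicCompletion (I.map (algebraMap A (Localization.Away f)))
      (Localization.Away f)) (AdicCompletion ((I.map (algebraMap A B')).map
      (algebraMap B' (Localization.Away (algebraMap A B' f))))
      (Localization.Away (algebraMap A B' f))) :=
    IsScalarTower.of_algebraMap_eq (fun a => cAwayLift_algebraMap_base A I
      (I.map (algebraMap A B')) le_rfl f (algebraMap A B' f) rfl a)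
  have t4 : IsScalarTower (AdicCompletion (I.map (algebraMap A (Localization.Away f)))
      (Localization.Away f)) (AdicCompletion ((I.map (algebraMap A B)).map
      (algebraMap B (Localization.Away (algebraMap A B f))))
      (Localization.Away (algebraMap A B f))) (AdicCompletion ((I.map (algebraMap A B')).map
      (algebraMap B' (Localization.Away (algebraMap A B' f))))
      (Localization.Away (algebraMap A B' f))) :=
    IsScalarTower.of_algebraMap_eq' (cAwayLift_trans I (I.map (algebraMap A B))
      (I.map (algebraMap A B')) (algebraMap A B) (algebraMap B B') (algebraMap A B')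
      (IsScalarTower.algebraMap_eq A B B') le_rfl (le_of_eq hBB') le_rfl f (algebraMap A B f)
      (algebraMap A B' f) rfl hxBB' rfl).symm
  have t5 : IsScalarTower (AdicCompletion (I.map (algebraMap A (Localization.Away f)))
      (Localization.Away f)) (AdicCompletion ((I.map (algebraMap A A')).map
      (algebraMap A' (Localization.Away (algebraMap A A' f))))
      (Localization.Away (algebraMap A A' f))) (AdicCompletion ((I.map (algebraMap A B')).map
      (algebraMap B' (Localization.Away (algebraMap A B' f))))
      (Localization.Away (algebraMap A B' f))) :=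
    IsScalarTower.of_algebraMap_eq' (cAwayLift_trans I (I.map (algebraMap A A'))
      (I.map (algebraMap A B')) (algebraMap A A') (algebraMap A' B') (algebraMap A B')
      (IsScalarTower.algebraMap_eq A A' B') le_rfl (le_of_eq hA'B') le_rfl f (algebraMap A A' f)
      (algebraMap A B' f) rfl hxA'B' rfl).symm
  have t6 : IsScalarTower A' (AdicCompletion ((I.map (algebraMap A A')).map
      (algebraMap A' (Localization.Away (algebraMap A A' f))))
      (Localization.Away (algebraMap A A' f))) (AdicCompletion ((I.map (algebraMap A B')).map
      (algebraMap B' (Localization.Away (algebraMap A B' f))))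
      (Localization.Away (algebraMap A B' f))) :=
    IsScalarTower.of_algebraMap_eq (fun a => cAwayLift_algebraMap_base A'
      (I.map (algebraMap A A')) (I.map (algebraMap A B')) (le_of_eq hA'B') (algebraMap A A' f)
      (algebraMap A B' f) hxA'B' a)
  have hCA₁ := complete_compl A I A f (I.map (algebraMap A (Localization.Away f))) rfl
  have hCB₁ := complete_compl A I B (algebraMap A B f) _ (map_map_away A I B (algebraMap A B f))
  have hCA'₁ := complete_compl A I A' (algebraMap A A' f) _
    (map_map_away A I A' (algebraMap A A' f))
  have hCB'₁ := complete_compl A I B' (algebraMap A B' f) _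
    (map_map_away A I B' (algebraMap A B' f))
  have hftA'₁ := ft_compl A I A' hftA' (algebraMap A A' f) _
    (map_map_away A I A' (algebraMap A A' f))
  have hftB'₁ := ft_compl A I B' hftB'A (algebraMap A B' f) _
    (map_map_away A I B' (algebraMap A B' f))
  have hU₁ := formallyUnramified_completion_away A I A' (algebraMap A A' f) _
    (map_map_away A I A' (algebraMap A A' f))
  have hfl1 : Module.Flat A' (AdicCompletion ((I.map (algebraMap A A')).map
      (algebraMap A' (Localization.Away (algebraMap A A' f))))
      (Localization.Away (algebraMap A A' f))) := flat_compl A' (algebraMap A A' f) _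
  have hfl2 : Module.Flat B' (AdicCompletion ((I.map (algebraMap A B')).map
      (algebraMap B' (Localization.Away (algebraMap A B' f))))
      (Localization.Away (algebraMap A B' f))) := flat_compl B' (algebraMap A B' f) _
  have hfl3 : Module.Flat (AdicCompletion ((I.map (algebraMap A B)).map
      (algebraMap B (Localization.Away (algebraMap A B f))))
      (Localization.Away (algebraMap A B f))) (AdicCompletion ((I.map (algebraMap A B')).map
      (algebraMap B' (Localization.Away (algebraMap A B' f))))
      (Localization.Away (algebraMap A B' f))) :=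
    flat_cAwayLift (I.map (algebraMap A B)) (I.map (algebraMap A B')) hBB' (algebraMap A B f)
      (algebraMap A B' f) hxBB'
  have hnaive₁ : ∀ q : PrimeSpectrum (AdicCompletion ((I.map (algebraMap A B)).map
      (algebraMap B (Localization.Away (algebraMap A B f))))
      (Localization.Away (algebraMap A B f))),
      IsRig (I.map (algebraMap A (AdicCompletion ((I.map (algebraMap A B)).map
      (algebraMap B (Localization.Away (algebraMap A B f))))
      (Localization.Away (algebraMap A B f))))) q →
      Module.Flat (AdicCompletion (I.map (algebraMap A (Localization.Away f)))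
        (Localization.Away f)) (Localization.AtPrime q.asIdeal) := by
    intro q hq
    have c1 := cAwayLift_comp I (I.map (algebraMap A B)) (algebraMap A B) le_rfl f
      (algebraMap A B f) rfl
    rw [awayLift_eq_awayMap] at c1
    have hq2 : IsRig (((I.map (algebraMap A B)).map
        (algebraMap B (Localization.Away (algebraMap A B f)))).map
        (algebraMap (Localization.Away (algebraMap A B f))
          (AdicCompletion ((I.map (algebraMap A B)).map
            (algebraMap B (Localization.Away (algebraMap A B f))))
            (Localization.Away (algebraMap A B f))))) q := by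
      rw [map_map_eq' A I (Localization.Away (algebraMap A B f)) _
        (map_map_away A I B (algebraMap A B f))]
      exact hq
    have h := hAB f _ c1 q hq2
    have hqp : q.asIdeal.IsPrime := q.isPrime
    have h' : (algebraMap (AdicCompletion (I.map (algebraMap A (Localization.Away f)))
        (Localization.Away f)) (Localization.AtPrime q.asIdeal)).Flat := by
      rw [IsScalarTower.algebraMap_eq (AdicCompletion (I.map (algebraMap A (Localization.Away f)))
        (Localization.Away f)) (AdicCompletion ((I.map (algebraMap A B)).map
        (algebraMap B (Localization.Away (algebraMap A B f))))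
        (Localization.Away (algebraMap A B f))) (Localization.AtPrime q.asIdeal)]
      exact h
    exact RingHom.flat_algebraMap_iff.mp h'
  have F1' := F1 (I.map (algebraMap A B')) (algebraMap A B' f) u
    (Localization.Away (algebraMap A B' f)) q'.asIdeal hu
  have F2' := F2 (I.map (algebraMap A B')) (algebraMap A B' f) u
    (Localization.Away (algebraMap A B' f)) q'.asIdeal hu
  have hp'' : ∀ hP : (q'.asIdeal.map (algebraMap B' (AdicCompletion ((I.map (algebraMap A B')).map
      (algebraMap B' (Localization.Away (algebraMap A B' f))))
      (Localization.Away (algebraMap A B' f))))).IsPrime,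
      IsRig (I.map (algebraMap A (AdicCompletion (I.map (algebraMap A (Localization.Away f)))
        (Localization.Away f)))) (PrimeSpectrum.comap (algebraMap
        (AdicCompletion (I.map (algebraMap A (Localization.Away f))) (Localization.Away f))
        (AdicCompletion ((I.map (algebraMap A B')).map
        (algebraMap B' (Localization.Away (algebraMap A B' f))))
        (Localization.Away (algebraMap A B' f)))) ⟨_, hP⟩) := by
    intro hP
    have c3 := cAwayLift_comp I (I.map (algebraMap A B')) (algebraMap A B') le_rfl f
      (algebraMap A B' f) rfl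
    rw [awayLift_eq_awayMap] at c3
    obtain ⟨-, h2, h3⟩ := hS _ c3
    exact ⟨h2, fun y hy hIy => PrimeSpectrum.ext (h3 y hy hIy)⟩
  exact naive_abs A I A' B' _ hCA₁ _ hCB₁ _ hCA'₁ hftA'₁ hU₁ _ hCB'₁ hftB'₁ hnaive₁ q' hq'
    F1' F2' hp''

theorem baseChange (A : Type u) [CommRing A] [IsNoetherianRing A] (I : Ideal A)
    [IsAdicComplete I A]
    (B : Type u) [CommRing B] [Algebra A B] [IsNoetherianRing B]
    [IsAdicComplete (I.map (algebraMap A B)) B]
    (hftB : Algebra.FiniteType A (B ⧸ (I.map (algebraMap A B))))
    (A' : Type u) [CommRing A'] [Algebra A A'] [IsNoetherianRing A']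
    [IsAdicComplete (I.map (algebraMap A A')) A']
    (hftA' : Algebra.FiniteType A (A' ⧸ (I.map (algebraMap A A'))))
    (B' : Type u) [CommRing B'] [Algebra A B'] [Algebra B B'] [Algebra A' B']
    [IsScalarTower A B B'] [IsScalarTower A A' B'] [IsNoetherianRing B']
    [IsAdicComplete (I.map (algebraMap A B')) B']
    (hftB'B : Algebra.FiniteType B (B' ⧸ (I.map (algebraMap A B'))))
    [Module.Flat B B'] [Algebra.Etale (A ⧸ I) (A' ⧸ (I.map (algebraMap A A')))]
    (hAB : RigFlat A I B (I.map (algebraMap A B))) :
    RigFlat A' (I.map (algebraMap A A')) B' ((I.map (algebraMap A A')).map (algebraMap A' B')) := by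
  intro f' ψ hψ q hq
  have hftB'A : Algebra.FiniteType A (B' ⧸ (I.map (algebraMap A B'))) :=
    ft_trans A I B B' hftB hftB'B
  have hU0 : Algebra.FormallyUnramified (A ⧸ I) (A' ⧸ (I.map (algebraMap A A'))) := inferInstance
  have hU : Algebra.FormallyUnramified A (A' ⧸ (I.map (algebraMap A A'))) :=
    Algebra.FormallyUnramified.comp A (A ⧸ I) _
  have hNTA' : IsNoetherianRing (Localization.Away f') :=
    IsLocalization.isNoetherianRing (Submonoid.powers f') _ inferInstance
  have hNTB' : IsNoetherianRing (Localization.Away (algebraMap A' B' f')) :=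
    IsLocalization.isNoetherianRing (Submonoid.powers (algebraMap A' B' f')) _ inferInstance
  have hNA'' : IsNoetherianRing (AdicCompletion ((I.map (algebraMap A A')).map
      (algebraMap A' (Localization.Away f'))) (Localization.Away f')) :=
    Groth.Agent.S0543.result _ _
  have hNB'' : IsNoetherianRing (AdicCompletion (((I.map (algebraMap A A')).map
      (algebraMap A' B')).map (algebraMap B' (Localization.Away (algebraMap A' B' f'))))
      (Localization.Away (algebraMap A' B' f'))) := Groth.Agent.S0543.result _ _
  have hJ'' : ((I.map (algebraMap A A')).map (algebraMap A' B')).map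
      (algebraMap B' (Localization.Away (algebraMap A' B' f'))) =
      I.map (algebraMap A (Localization.Away (algebraMap A' B' f'))) := by
    rw [map_map_tower A I A' B', map_map_away]
  have hCA'' := complete_compl A I A' f' _ (map_map_away A I A' f')
  have hCB'' := complete_compl A I B' (algebraMap A' B' f') _ hJ''
  have hftA'' := ft_compl A I A' hftA' f' _ (map_map_away A I A' f')
  have hftB'' := ft_compl A I B' hftB'A (algebraMap A' B' f') _ hJ''
  have hU'' := formallyUnramified_completion_away A I A' f' _ (map_map_away A I A' f')
  have hfl1 : Module.Flat B' (AdicCompletion (((I.map (algebraMap A A')).map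
      (algebraMap A' B')).map (algebraMap B' (Localization.Away (algebraMap A' B' f'))))
      (Localization.Away (algebraMap A' B' f'))) := flat_compl B' (algebraMap A' B' f') _
  have hfl2 : Module.Flat B (AdicCompletion (((I.map (algebraMap A A')).map
      (algebraMap A' B')).map (algebraMap B' (Localization.Away (algebraMap A' B' f'))))
      (Localization.Away (algebraMap A' B' f'))) := Module.Flat.trans B B' _
  let _ : Algebra (AdicCompletion ((I.map (algebraMap A A')).map
      (algebraMap A' (Localization.Away f'))) (Localization.Away f'))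
      (AdicCompletion (((I.map (algebraMap A A')).map
      (algebraMap A' B')).map (algebraMap B' (Localization.Away (algebraMap A' B' f'))))
      (Localization.Away (algebraMap A' B' f'))) := ψ.toAlgebra
  have hψ' : ∀ a' : A', ψ (algebraMap A' (AdicCompletion ((I.map (algebraMap A A')).map
      (algebraMap A' (Localization.Away f'))) (Localization.Away f')) a') =
      algebraMap A' (AdicCompletion (((I.map (algebraMap A A')).map
      (algebraMap A' B')).map (algebraMap B' (Localization.Away (algebraMap A' B' f'))))
      (Localization.Away (algebraMap A' B' f'))) a' := by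
    intro a'
    have h0 := RingHom.congr_fun hψ (algebraMap A' (Localization.Away f') a')
    rw [RingHom.comp_apply, RingHom.comp_apply] at h0
    have h1 : Localization.awayMap (algebraMap A' B') f' (algebraMap A' (Localization.Away f') a') =
        algebraMap B' (Localization.Away (algebraMap A' B' f')) (algebraMap A' B' a') :=
      IsLocalization.map_eq _ a'
    rw [IsScalarTower.algebraMap_apply A' (Localization.Away f')
      (AdicCompletion ((I.map (algebraMap A A')).map
      (algebraMap A' (Localization.Away f'))) (Localization.Away f')), h0, h1]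
    rfl
  have t1 : IsScalarTower A (AdicCompletion ((I.map (algebraMap A A')).map
      (algebraMap A' (Localization.Away f'))) (Localization.Away f'))
      (AdicCompletion (((I.map (algebraMap A A')).map
      (algebraMap A' B')).map (algebraMap B' (Localization.Away (algebraMap A' B' f'))))
      (Localization.Away (algebraMap A' B' f'))) := by
    refine IsScalarTower.of_algebraMap_eq (fun a => ?_)
    show _ = ψ _
    rw [IsScalarTower.algebraMap_apply A A' (AdicCompletion ((I.map (algebraMap A A')).map
      (algebraMap A' (Localization.Away f'))) (Localization.Away f')), hψ']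
    exact IsScalarTower.algebraMap_apply A A' _ a
  have hq2 : IsRig (I.map (algebraMap A (AdicCompletion (((I.map (algebraMap A A')).map
      (algebraMap A' B')).map (algebraMap B' (Localization.Away (algebraMap A' B' f'))))
      (Localization.Away (algebraMap A' B' f'))))) q := by
    rw [← map_map_eq' A I (Localization.Away (algebraMap A' B' f')) _ hJ'']
    exact hq
  have hflat := naive_of_rigFlat A I B hftB _ hftA'' _ hftB'' hU'' hAB q hq2
  have hqp : q.asIdeal.IsPrime := q.isPrime
  have h' : (algebraMap (AdicCompletion ((I.map (algebraMap A A')).map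
      (algebraMap A' (Localization.Away f'))) (Localization.Away f'))
      (Localization.AtPrime q.asIdeal)).Flat := RingHom.flat_algebraMap_iff.mpr hflat
  rw [IsScalarTower.algebraMap_eq (AdicCompletion ((I.map (algebraMap A A')).map
      (algebraMap A' (Localization.Away f'))) (Localization.Away f'))
      (AdicCompletion (((I.map (algebraMap A A')).map
      (algebraMap A' B')).map (algebraMap B' (Localization.Away (algebraMap A' B' f'))))
      (Localization.Away (algebraMap A' B' f'))) (Localization.AtPrime q.asIdeal)] at h'
  exact h'

end Groth.Agent.Lib.Helper63.RigBC
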