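import Groth.Agent.Lib.Helper63.RigBC2
import Groth.Agent.Lib.Helper63.CTensor

set_option autoImplicit false
set_option linter.unusedSectionVars false
universe u

namespace Groth.Agent.Lib.Helper63.RigCP

open TensorProduct Groth.Agent.Lib.Helper63.RigComp Groth.Agent.Lib.Helper63.CTensor

def IsCU {X Y : Type u} [CommRing X] [CommRing Y] (ι : X →+* Y) (K : Ideal X) (U : Set X) :
    Prop :=
  (∀ u ∈ U, IsUnit (ι u)) ∧
  ∀ (S : Type u) [CommRing S] (φ : X →+* S), IsAdicComplete (K.map φ) S →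
    (∀ u ∈ U, IsUnit (φ u)) → ∃! φ' : Y →+* S, φ'.comp ι = φ

theorem IsCU.completion {T : Type u} [CommRing T] (J : Ideal T) (hJ : J.FG) :
    IsCU (algebraMap T (AdicCompletion J T)) J ∅ := by
  refine ⟨fun u hu => absurd hu (Set.notMem_empty u), fun S _ φ hS _ => ?_⟩
  have hS' : IsAdicComplete (J.map φ) S := hS
  have hH : IsHausdorff (J.map φ) S := hS.toIsHausdorff
  have h0 : (Psi J φ).comp (algebraMap T (AdicCompletion J T)) = φ :=
    RingHom.ext fun t => Psi_of J φ t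
  refine ⟨Psi J φ, h0, fun ψ hψ => ?_⟩
  refine ringHom_ext_of_comp_algebraMap J hJ (J.map φ) ψ (Psi J φ) ?_ ?_
  · rw [hψ, h0]
  · rw [hψ]

theorem IsCU.away {X : Type u} [CommRing X] (K : Ideal X) (x : X) :
    IsCU (algebraMap X (Localization.Away x)) K {x} := by
  refine ⟨fun u hu => ?_, fun S _ φ _ hU => ?_⟩
  · rw [Set.mem_singleton_iff] at hu
    subst hu
    exact IsLocalization.Away.algebraMap_isUnit u
  · have hx : IsUnit (φ x) := hU x rfl
    refine ⟨IsLocalization.Away.lift x hx, IsLocalization.Away.lift_comp x hx, fun ψ hψ => ?_⟩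
    refine IsLocalization.ringHom_ext (Submonoid.powers x) ?_
    rw [hψ, IsLocalization.Away.lift_comp]

theorem IsCU.comp {X Y Z : Type u} [CommRing X] [CommRing Y] [CommRing Z] {ι₁ : X →+* Y}
    {ι₂ : Y →+* Z} {K : Ideal X} {U₁ U₂ : Set X} (h₁ : IsCU ι₁ K U₁)
    (h₂ : IsCU ι₂ (K.map ι₁) (ι₁ '' U₂)) : IsCU (ι₂.comp ι₁) K (U₁ ∪ U₂) := by
  refine ⟨fun u hu => ?_, fun S _ φ hS hU => ?_⟩
  · rcases hu with hu | hu
    · exact (h₁.1 u hu).map ι₂
    · exact h₂.1 (ι₁ u) ⟨u, hu, rfl⟩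
  · obtain ⟨φ₁, hφ₁, hu₁⟩ := h₁.2 S φ hS (fun u hu => hU u (Or.inl hu))
    have e : (K.map ι₁).map φ₁ = K.map φ := by rw [Ideal.map_map, hφ₁]
    have hS' : IsAdicComplete ((K.map ι₁).map φ₁) S := by rw [e]; exact hS
    have hun : ∀ v ∈ ι₁ '' U₂, IsUnit (φ₁ v) := by
      rintro v ⟨u, hu, rfl⟩
      have h3 : φ₁ (ι₁ u) = φ u := RingHom.congr_fun hφ₁ u
      rw [h3]
      exact hU u (Or.inr hu)
    obtain ⟨φ₂, hφ₂, hu₂⟩ := h₂.2 S φ₁ hS' hun
    refine ⟨φ₂, by show φ₂.comp (ι₂.comp ι₁) = φ; rw [← RingHom.comp_assoc, hφ₂, hφ₁],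
      fun ψ hψ => ?_⟩
    have h3 : ψ.comp ι₂ = φ₁ := hu₁ _ (by
      show (ψ.comp ι₂).comp ι₁ = φ
      rw [RingHom.comp_assoc]; exact hψ)
    exact hu₂ ψ h3

theorem IsCU.id {X : Type u} [CommRing X] (K : Ideal X) (U : Set X) (hU : ∀ u ∈ U, IsUnit u) :
    IsCU (RingHom.id X) K U :=
  ⟨fun u hu => hU u hu, fun S _ φ _ _ =>
    ⟨φ, RingHom.comp_id φ, fun ψ hψ => by rw [← hψ, RingHom.comp_id]⟩⟩

theorem IsCU.cAway {X : Type u} [CommRing X] (K : Ideal X) (x : X)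
    (J : Ideal (Localization.Away x)) (hJ : J = K.map (algebraMap X (Localization.Away x)))
    (hfg : J.FG) :
    IsCU (algebraMap X (AdicCompletion J (Localization.Away x))) K {x} := by
  have h1 := IsCU.away K x
  have h2 : IsCU (algebraMap (Localization.Away x) (AdicCompletion J (Localization.Away x)))
      (K.map (algebraMap X (Localization.Away x)))
      ((algebraMap X (Localization.Away x)) '' ∅) := by
    rw [Set.image_empty, ← hJ]
    exact IsCU.completion J hfg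
  have h3 := h1.comp h2
  rw [Set.union_empty, ← IsScalarTower.algebraMap_eq] at h3
  exact h3

def IsCP {A₀ C' B' D' : Type u} [CommRing A₀] [CommRing C'] [CommRing B'] [CommRing D']
    (I₀ : Ideal A₀) (aC : A₀ →+* C') (aB : A₀ →+* B') (γ : C' →+* D') (β : B' →+* D') : Prop :=
  γ.comp aC = β.comp aB ∧
  ∀ (S : Type u) [CommRing S] (γ' : C' →+* S) (β' : B' →+* S), γ'.comp aC = β'.comp aB →
    IsAdicComplete (I₀.map (γ'.comp aC)) S → ∃! δ : D' →+* S, δ.comp γ = γ' ∧ δ.comp β = β'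

section CP

variable {A₀ C' B' D' : Type u} [CommRing A₀] [CommRing C'] [CommRing B'] [CommRing D']
  {I₀ : Ideal A₀} {aC : A₀ →+* C'} {aB : A₀ →+* B'} {γ : C' →+* D'} {β : B' →+* D'}

theorem IsCP.symm (h : IsCP I₀ aC aB γ β) : IsCP I₀ aB aC β γ := by
  refine ⟨h.1.symm, fun S _ β' γ' hc hS => ?_⟩
  have hS' : IsAdicComplete (I₀.map (γ'.comp aC)) S := by rw [← hc]; exact hS
  obtain ⟨δ, ⟨h1, h2⟩, hu⟩ := h.2 S γ' β' hc.symm hS'
  exact ⟨δ, ⟨h2, h1⟩, fun ψ hψ => hu ψ ⟨hψ.2, hψ.1⟩⟩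

theorem IsCP.step (hcp : IsCP I₀ aC aB γ β) {C'' D'' : Type u} [CommRing C''] [CommRing D'']
    {U : Set C'} (c : C' →+* C'') (hc : IsCU c (I₀.map aC) U) (d : D' →+* D'')
    (hd : IsCU d (I₀.map (γ.comp aC)) (γ '' U)) (γ'' : C'' →+* D'')
    (hγ : γ''.comp c = d.comp γ) :
    IsCP I₀ (c.comp aC) aB γ'' (d.comp β) := by
  refine ⟨?_, fun S _ γ₁ β₁ hcompat hS => ?_⟩
  · rw [← RingHom.comp_assoc, hγ, RingHom.comp_assoc, hcp.1, RingHom.comp_assoc]
  · have hcompat' : (γ₁.comp c).comp aC = β₁.comp aB := by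
      rw [RingHom.comp_assoc]; exact hcompat
    have hS' : IsAdicComplete (I₀.map ((γ₁.comp c).comp aC)) S := by
      rw [RingHom.comp_assoc]; exact hS
    obtain ⟨δ', ⟨hδ'1, hδ'2⟩, hδ'u⟩ := hcp.2 S (γ₁.comp c) β₁ hcompat' hS'
    have e : (I₀.map (γ.comp aC)).map δ' = I₀.map (γ₁.comp (c.comp aC)) := by
      rw [Ideal.map_map, ← RingHom.comp_assoc, hδ'1, RingHom.comp_assoc]
    have hS'' : IsAdicComplete ((I₀.map (γ.comp aC)).map δ') S := by rw [e]; exact hS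
    have hunits : ∀ v ∈ γ '' U, IsUnit (δ' v) := by
      rintro v ⟨u, hu, rfl⟩
      have h3 : δ' (γ u) = γ₁ (c u) := RingHom.congr_fun hδ'1 u
      rw [h3]
      exact (hc.1 u hu).map γ₁
    obtain ⟨δ, hδ, hδu⟩ := hd.2 S δ' hS'' hunits
    have e2 : (I₀.map aC).map (γ₁.comp c) = I₀.map (γ₁.comp (c.comp aC)) := by
      rw [Ideal.map_map, RingHom.comp_assoc]
    have hS3 : IsAdicComplete ((I₀.map aC).map (γ₁.comp c)) S := by rw [e2]; exact hS
    have hunits2 : ∀ u ∈ U, IsUnit ((γ₁.comp c) u) := fun u hu => (hc.1 u hu).map γ₁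
    obtain ⟨χ, -, hχu⟩ := hc.2 S (γ₁.comp c) hS3 hunits2
    have h1 : δ.comp γ'' = γ₁ := by
      have a1 : δ.comp γ'' = χ := hχu _ (by
        show (δ.comp γ'').comp c = γ₁.comp c
        rw [RingHom.comp_assoc, hγ, ← RingHom.comp_assoc, hδ, hδ'1])
      have a2 : γ₁ = χ := hχu _ rfl
      rw [a1, a2]
    refine ⟨δ, ⟨h1, by rw [← RingHom.comp_assoc, hδ, hδ'2]⟩, fun ψ hψ => ?_⟩
    have h2 : ψ.comp d = δ' := hδ'u _ ⟨by
      rw [RingHom.comp_assoc, ← hγ, ← RingHom.comp_assoc, hψ.1], by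
      rw [RingHom.comp_assoc]; exact hψ.2⟩
    exact hδu ψ h2

theorem IsCP.base (hcp : IsCP I₀ aC aB γ β) {A₁ : Type u} [CommRing A₁] (a : A₀ →+* A₁)
    {U : Set A₀} (ha : IsCU a I₀ U) (αC : A₁ →+* C') (αB : A₁ →+* B')
    (hC : αC.comp a = aC) (hB : αB.comp a = aB)
    (hD : IsAdicComplete (I₀.map (γ.comp aC)) D') :
    IsCP (I₀.map a) αC αB γ β := by
  refine ⟨?_, fun S _ γ' β' hcompat hS => ?_⟩
  · have hun : ∀ u ∈ U, IsUnit ((γ.comp aC) u) := by
      intro u hu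
      have h3 : (γ.comp aC) u = γ (αC (a u)) := by rw [← hC]; rfl
      rw [h3]
      exact ((ha.1 u hu).map αC).map γ
    obtain ⟨χ, -, hχu⟩ := ha.2 D' (γ.comp aC) hD hun
    have a1 : γ.comp αC = χ := hχu _ (by
      show (γ.comp αC).comp a = γ.comp aC
      rw [RingHom.comp_assoc, hC])
    have a2 : β.comp αB = χ := hχu _ (by
      show (β.comp αB).comp a = γ.comp aC
      rw [RingHom.comp_assoc, hB, hcp.1])
    rw [a1, a2]
  · have hcompat' : γ'.comp aC = β'.comp aB := by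
      rw [← hC, ← hB, ← RingHom.comp_assoc, ← RingHom.comp_assoc, hcompat]
    have e : (I₀.map a).map (γ'.comp αC) = I₀.map (γ'.comp aC) := by
      rw [Ideal.map_map, RingHom.comp_assoc, hC]
    have hS' : IsAdicComplete (I₀.map (γ'.comp aC)) S := by rw [← e]; exact hS
    exact hcp.2 S γ' β' hcompat' hS'

end CP

end Groth.Agent.Lib.Helper63.RigCP
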