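import Groth.Agent.Lib.Helper63.RigCP
import Groth.Agent.S0542

set_option autoImplicit false
set_option linter.unusedSectionVars false
universe u

namespace Groth.Agent.Lib.Helper63.RigCP

open TensorProduct Groth.Agent.Lib.Helper63.RigComp Groth.Agent.Lib.Helper63.CTensor
  Groth.Agent.Lib.Helper63.ComplRing

section Tensor

variable (A : Type u) [CommRing A] (I : Ideal A) (C B : Type u) [CommRing C] [CommRing B]
  [Algebra A C] [Algebra A B]

theorem tmul_eq_mul (c : C) (b : B) : (c ⊗ₜ[A] b : C ⊗[A] B) = (c ⊗ₜ 1) * (1 ⊗ₜ b) := by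
  rw [Algebra.TensorProduct.tmul_mul_tmul, mul_one, one_mul]

theorem algebraMap_tmul_one (a : A) :
    ((algebraMap A C a) ⊗ₜ[A] (1 : B) : C ⊗[A] B) = 1 ⊗ₜ (algebraMap A B a) := by
  rw [Algebra.algebraMap_eq_smul_one, Algebra.algebraMap_eq_smul_one, TensorProduct.smul_tmul]

variable (J : Ideal (C ⊗[A] B)) (hJ : J = I.map (algebraMap A (C ⊗[A] B))) (hfg : J.FG)

include hJ hfg in
theorem isCP_tensor : IsCP I (algebraMap A C) (algebraMap A B)
    (algebraMap C (AdicCompletion J (C ⊗[A] B)))
    ((algebraMap (C ⊗[A] B) (AdicCompletion J (C ⊗[A] B))).comp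
      (Algebra.TensorProduct.includeRight : B →ₐ[A] C ⊗[A] B).toRingHom) := by
  have hγ : ∀ c : C, algebraMap C (AdicCompletion J (C ⊗[A] B)) c =
      algebraMap (C ⊗[A] B) (AdicCompletion J (C ⊗[A] B)) (c ⊗ₜ 1) := by
    intro c
    rw [IsScalarTower.algebraMap_apply C (C ⊗[A] B) (AdicCompletion J (C ⊗[A] B)),
      Algebra.TensorProduct.algebraMap_apply, Algebra.algebraMap_self, RingHom.id_apply]
  refine ⟨?_, fun S _ γ' β' hcompat hS => ?_⟩
  · refine RingHom.ext fun a => ?_
    simp only [RingHom.comp_apply]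
    rw [hγ, algebraMap_tmul_one]
    rfl
  · let _ : Algebra A S := (γ'.comp (algebraMap A C)).toAlgebra
    let γa : C →ₐ[A] S := { γ' with commutes' := fun a => rfl }
    let βa : B →ₐ[A] S := { β' with commutes' := fun a => (RingHom.congr_fun hcompat a).symm }
    let τ : C ⊗[A] B →ₐ[A] S := Algebra.TensorProduct.productMap γa βa
    have hτ : J.map τ.toRingHom = I.map (γ'.comp (algebraMap A C)) := by
      rw [hJ, Ideal.map_map]
      congr 1
      exact τ.comp_algebraMap
    have hS' : IsAdicComplete (J.map τ.toRingHom) S := by rw [hτ]; exact hS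
    have hΨ : ∀ t, Psi J τ.toRingHom (algebraMap (C ⊗[A] B) (AdicCompletion J (C ⊗[A] B)) t) =
        τ t := fun t => Psi_of J τ.toRingHom t
    refine ⟨Psi J τ.toRingHom, ⟨?_, ?_⟩, ?_⟩
    · refine RingHom.ext fun c => ?_
      rw [RingHom.comp_apply, hγ, hΨ]
      exact Algebra.TensorProduct.productMap_left_apply γa βa c
    · refine RingHom.ext fun b => ?_
      rw [RingHom.comp_apply, RingHom.comp_apply, hΨ]
      exact Algebra.TensorProduct.productMap_right_apply γa βa b
    · intro ψ hψ
      have hH : IsHausdorff (J.map τ.toRingHom) S := hS'.toIsHausdorff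
      have h1 : ψ.comp (algebraMap (C ⊗[A] B) (AdicCompletion J (C ⊗[A] B))) = τ.toRingHom := by
        refine RingHom.ext fun t => ?_
        induction t using TensorProduct.induction_on with
        | zero => rw [map_zero, map_zero]
        | add x y hx hy => rw [map_add, map_add, hx, hy]
        | tmul c b =>
          have e1 : ψ (algebraMap (C ⊗[A] B) (AdicCompletion J (C ⊗[A] B)) (c ⊗ₜ 1)) = γ' c := by
            rw [← hγ]
            exact RingHom.congr_fun hψ.1 c
          have e2 : ψ (algebraMap (C ⊗[A] B) (AdicCompletion J (C ⊗[A] B)) (1 ⊗ₜ b)) = β' b :=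
            RingHom.congr_fun hψ.2 b
          have e3 : τ.toRingHom (c ⊗ₜ 1) = γ' c :=
            Algebra.TensorProduct.productMap_left_apply γa βa c
          have e4 : τ.toRingHom (1 ⊗ₜ b) = β' b :=
            Algebra.TensorProduct.productMap_right_apply γa βa b
          rw [RingHom.comp_apply, tmul_eq_mul, map_mul, map_mul, map_mul, e1, e2, e3, e4]
      refine ringHom_ext_of_comp_algebraMap J hfg (J.map τ.toRingHom) ψ (Psi J τ.toRingHom) ?_ ?_
      · rw [h1]
        exact (RingHom.ext fun t => hΨ t).symm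
      · rw [h1]

theorem ft_tensor (hftC : Algebra.FiniteType A (C ⧸ I.map (algebraMap A C)))
    (hftB : Algebra.FiniteType A (B ⧸ I.map (algebraMap A B))) :
    Algebra.FiniteType A ((C ⊗[A] B) ⧸ I.map (algebraMap A (C ⊗[A] B))) := by
  have h0 : Algebra.FiniteType A ((C ⧸ I.map (algebraMap A C)) ⊗[A] (B ⧸ I.map (algebraMap A B))) :=
    Algebra.FiniteType.trans hftC inferInstance
  have hk1 : ∀ x ∈ I.map (algebraMap A C),
      ((Ideal.Quotient.mkₐ A (I.map (algebraMap A (C ⊗[A] B)))).comp
        (Algebra.TensorProduct.includeLeft : C →ₐ[A] C ⊗[A] B)) x = 0 := by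
    intro x hx
    rw [AlgHom.comp_apply, Ideal.Quotient.mkₐ_eq_mk, Ideal.Quotient.eq_zero_iff_mem]
    have h1 : (Algebra.TensorProduct.includeLeft : C →ₐ[A] C ⊗[A] B) x ∈
        (I.map (algebraMap A C)).map
          (Algebra.TensorProduct.includeLeft : C →ₐ[A] C ⊗[A] B).toRingHom :=
      Ideal.mem_map_of_mem _ hx
    have e : (Algebra.TensorProduct.includeLeft : C →ₐ[A] C ⊗[A] B).toRingHom.comp
        (algebraMap A C) = algebraMap A (C ⊗[A] B) :=
      RingHom.ext fun a => (Algebra.TensorProduct.includeLeft : C →ₐ[A] C ⊗[A] B).commutes a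
    rw [Ideal.map_map, e] at h1
    exact h1
  have hk2 : ∀ x ∈ I.map (algebraMap A B),
      ((Ideal.Quotient.mkₐ A (I.map (algebraMap A (C ⊗[A] B)))).comp
        (Algebra.TensorProduct.includeRight : B →ₐ[A] C ⊗[A] B)) x = 0 := by
    intro x hx
    rw [AlgHom.comp_apply, Ideal.Quotient.mkₐ_eq_mk, Ideal.Quotient.eq_zero_iff_mem]
    have h1 : (Algebra.TensorProduct.includeRight : B →ₐ[A] C ⊗[A] B) x ∈
        (I.map (algebraMap A B)).map
          (Algebra.TensorProduct.includeRight : B →ₐ[A] C ⊗[A] B).toRingHom :=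
      Ideal.mem_map_of_mem _ hx
    have e : (Algebra.TensorProduct.includeRight : B →ₐ[A] C ⊗[A] B).toRingHom.comp
        (algebraMap A B) = algebraMap A (C ⊗[A] B) :=
      RingHom.ext fun a => (Algebra.TensorProduct.includeRight : B →ₐ[A] C ⊗[A] B).commutes a
    rw [Ideal.map_map, e] at h1
    exact h1
  let χ := Algebra.TensorProduct.productMap
    (Ideal.Quotient.liftₐ (I.map (algebraMap A C)) _ hk1)
    (Ideal.Quotient.liftₐ (I.map (algebraMap A B)) _ hk2)
  refine Algebra.FiniteType.of_surjective χ ?_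
  intro y
  obtain ⟨t, rfl⟩ := Ideal.Quotient.mk_surjective y
  induction t using TensorProduct.induction_on with
  | zero => exact ⟨0, by rw [map_zero, map_zero]⟩
  | add x y hx hy =>
    obtain ⟨x', hx'⟩ := hx
    obtain ⟨y', hy'⟩ := hy
    exact ⟨x' + y', by rw [map_add, map_add, hx', hy']⟩
  | tmul c b =>
    refine ⟨(Ideal.Quotient.mk _ c) ⊗ₜ (Ideal.Quotient.mk _ b), ?_⟩
    rw [Algebra.TensorProduct.productMap_apply_tmul, tmul_eq_mul, map_mul]
    rfl

end Tensor

section ComplNN

variable (A : Type u) [CommRing A] (I : Ideal A)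
  (T : Type u) [CommRing T] [Algebra A T] (J : Ideal T) (hJ : J = I.map (algebraMap A T))
  (hfg : J.FG)

include hJ in
theorem map_map_eqNN : J.map (algebraMap T (AdicCompletion J T)) =
    I.map (algebraMap A (AdicCompletion J T)) := by
  subst hJ
  rw [Ideal.map_map]
  rfl

include hJ hfg in
theorem isAdicComplete_completionNN :
    IsAdicComplete (I.map (algebraMap A (AdicCompletion J T))) (AdicCompletion J T) := by
  have h1 : IsAdicComplete J (AdicCompletion J T) := AdicCompletion.isAdicComplete hfg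
  have h2 := (IsAdicComplete.map_algebraMap_iff (S := AdicCompletion J T) J
    (AdicCompletion J T)).mpr h1
  rw [map_map_eqNN A I T J hJ] at h2
  exact h2

include hJ hfg in
theorem finiteType_completion_quotientNN (hft : Algebra.FiniteType A (T ⧸ J)) :
    Algebra.FiniteType A (AdicCompletion J T ⧸ I.map (algebraMap A (AdicCompletion J T))) := by
  have hle : J ≤ Ideal.comap (IsScalarTower.toAlgHom A T (AdicCompletion J T))
      (I.map (algebraMap A (AdicCompletion J T))) := by
    rw [← map_map_eqNN A I T J hJ]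
    exact Ideal.le_comap_map
  refine Algebra.FiniteType.of_surjective (Ideal.quotientMapₐ _ _ hle) ?_
  intro y
  obtain ⟨b, rfl⟩ := Ideal.Quotient.mk_surjective y
  obtain ⟨t, ht⟩ := exists_sub_mem J hfg b 1
  refine ⟨Ideal.Quotient.mk _ t, ?_⟩
  rw [pow_one, map_map_eqNN A I T J hJ] at ht
  rw [Ideal.quotient_map_mkₐ]
  symm
  exact (Ideal.Quotient.eq).mpr ht

end ComplNN

end Groth.Agent.Lib.Helper63.RigCP
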