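import Groth.Agent.Lib.Helper63.RigCP2

set_option autoImplicit false
set_option linter.unusedSectionVars false
universe u

namespace Groth.Agent.Lib.Helper63.RigCP

open TensorProduct Groth.Agent.Lib.Helper63.RigComp Groth.Agent.Lib.Helper63.CTensor
  Groth.Agent.Lib.Helper63.ComplRing

attribute [local instance] Algebra.TensorProduct.rightAlgebra

section rightmod

variable (R M N : Type u) [CommRing R] [CommRing M] [CommRing N] [Algebra R M] [Algebra R N]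

noncomputable def commR : M ⊗[R] N ≃ₗ[N] N ⊗[R] M :=
  { (Algebra.TensorProduct.comm R M N).toLinearEquiv with
    map_smul' := by
      intro b x
      change (Algebra.TensorProduct.comm R M N) (b • x) = b • (Algebra.TensorProduct.comm R M N) x
      rw [Algebra.smul_def, Algebra.smul_def, map_mul]
      congr 1 }

theorem finite_right' [Module.Finite R M] : Module.Finite N (M ⊗[R] N) :=
  Module.Finite.equiv (commR R M N).symm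

end rightmod

theorem isAdicComplete_of_finite (Y : Type u) [CommRing Y] [IsNoetherianRing Y] (K : Ideal Y)
    [IsAdicComplete K Y] (Z : Type u) [CommRing Z] [Algebra Y Z] [Module.Finite Y Z] :
    IsAdicComplete (K.map (algebraMap Y Z)) Z := by
  have h1 : IsAdicComplete K Z := Groth.Agent.S3866.result Y K Z
  exact (IsAdicComplete.map_algebraMap_iff (S := Z) K Z).mpr h1

section Key

variable (A₁ : Type u) [CommRing A₁] (I₁ : Ideal A₁)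
  (B₁ C₂ D₂ : Type u) [CommRing B₁] [CommRing C₂] [CommRing D₂]
  [Algebra A₁ B₁] [Algebra A₁ C₂] [Algebra B₁ D₂] [Algebra C₂ D₂] [Algebra A₁ D₂]
  [IsScalarTower A₁ B₁ D₂] [IsScalarTower A₁ C₂ D₂]
  (𝔠 : Ideal C₂)

noncomputable def gB : B₁ →ₐ[A₁] (C₂ ⧸ 𝔠) ⊗[C₂] D₂ :=
  ((Algebra.TensorProduct.includeRight : D₂ →ₐ[C₂] (C₂ ⧸ 𝔠) ⊗[C₂] D₂).restrictScalars A₁).comp
    (IsScalarTower.toAlgHom A₁ B₁ D₂)

noncomputable def theta : (C₂ ⧸ 𝔠) ⊗[A₁] B₁ →ₐ[C₂ ⧸ 𝔠] (C₂ ⧸ 𝔠) ⊗[C₂] D₂ :=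
  Algebra.TensorProduct.lift (Algebra.ofId (C₂ ⧸ 𝔠) ((C₂ ⧸ 𝔠) ⊗[C₂] D₂)) (gB A₁ B₁ C₂ D₂ 𝔠)
    (fun _ _ => Commute.all _ _)

theorem theta_tmul (r : C₂ ⧸ 𝔠) (b : B₁) :
    theta A₁ B₁ C₂ D₂ 𝔠 (r ⊗ₜ b) = r ⊗ₜ (algebraMap B₁ D₂ b) := by
  rw [theta, Algebra.TensorProduct.lift_tmul]
  change (algebraMap (C₂ ⧸ 𝔠) ((C₂ ⧸ 𝔠) ⊗[C₂] D₂) r) * ((1 : C₂ ⧸ 𝔠) ⊗ₜ[C₂] (algebraMap B₁ D₂ b)) = _
  rw [Algebra.TensorProduct.algebraMap_apply, Algebra.algebraMap_self, RingHom.id_apply,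
    Algebra.TensorProduct.tmul_mul_tmul, mul_one, one_mul]

theorem algebraMap_right_comp :
    (algebraMap C₂ ((C₂ ⧸ 𝔠) ⊗[A₁] B₁)).comp (algebraMap A₁ C₂) =
      (algebraMap B₁ ((C₂ ⧸ 𝔠) ⊗[A₁] B₁)).comp (algebraMap A₁ B₁) := by
  refine RingHom.ext fun a => ?_
  simp only [RingHom.comp_apply]
  rw [Algebra.TensorProduct.right_algebraMap_apply, Algebra.TensorProduct.algebraMap_apply,
    ← IsScalarTower.algebraMap_apply A₁ C₂ (C₂ ⧸ 𝔠), algebraMap_tmul_one]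

theorem algebraMap_E_comp (c : C₂) :
    algebraMap D₂ ((C₂ ⧸ 𝔠) ⊗[C₂] D₂) (algebraMap C₂ D₂ c) =
      algebraMap C₂ ((C₂ ⧸ 𝔠) ⊗[C₂] D₂) c := by
  rw [Algebra.TensorProduct.right_algebraMap_apply, Algebra.TensorProduct.algebraMap_apply,
    algebraMap_tmul_one]

variable [IsNoetherianRing B₁] [IsNoetherianRing D₂]

theorem theta_bijective
    (hCB : IsAdicComplete (I₁.map (algebraMap A₁ B₁)) B₁)
    (hCD : IsAdicComplete (I₁.map (algebraMap A₁ D₂)) D₂)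
    (hcp : IsCP I₁ (algebraMap A₁ C₂) (algebraMap A₁ B₁) (algebraMap C₂ D₂) (algebraMap B₁ D₂))
    [Module.Finite A₁ (C₂ ⧸ 𝔠)] :
    Function.Bijective (theta A₁ B₁ C₂ D₂ 𝔠) := by
  have hfinS : Module.Finite B₁ ((C₂ ⧸ 𝔠) ⊗[A₁] B₁) := finite_right' A₁ (C₂ ⧸ 𝔠) B₁
  have hcS := isAdicComplete_of_finite B₁ (I₁.map (algebraMap A₁ B₁)) ((C₂ ⧸ 𝔠) ⊗[A₁] B₁)
  have hcompat := algebraMap_right_comp A₁ B₁ C₂ 𝔠
  have eS : (I₁.map (algebraMap A₁ B₁)).map (algebraMap B₁ ((C₂ ⧸ 𝔠) ⊗[A₁] B₁)) =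
      I₁.map ((algebraMap C₂ ((C₂ ⧸ 𝔠) ⊗[A₁] B₁)).comp (algebraMap A₁ C₂)) := by
    rw [Ideal.map_map, hcompat]
  have hS : IsAdicComplete (I₁.map ((algebraMap C₂ ((C₂ ⧸ 𝔠) ⊗[A₁] B₁)).comp
      (algebraMap A₁ C₂))) ((C₂ ⧸ 𝔠) ⊗[A₁] B₁) := by rw [← eS]; exact hcS
  obtain ⟨δ, ⟨hδ1, hδ2⟩, -⟩ := hcp.2 ((C₂ ⧸ 𝔠) ⊗[A₁] B₁)
    (algebraMap C₂ ((C₂ ⧸ 𝔠) ⊗[A₁] B₁)) (algebraMap B₁ ((C₂ ⧸ 𝔠) ⊗[A₁] B₁)) hcompat hS
  let δa : D₂ →ₐ[C₂] (C₂ ⧸ 𝔠) ⊗[A₁] B₁ :=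
    { δ with commutes' := fun c => RingHom.congr_fun hδ1 c }
  let δbar : (C₂ ⧸ 𝔠) ⊗[C₂] D₂ →ₐ[C₂ ⧸ 𝔠] (C₂ ⧸ 𝔠) ⊗[A₁] B₁ :=
    Algebra.TensorProduct.lift (Algebra.ofId (C₂ ⧸ 𝔠) ((C₂ ⧸ 𝔠) ⊗[A₁] B₁)) δa
      (fun _ _ => Commute.all _ _)
  have hδbar : ∀ (r : C₂ ⧸ 𝔠) (d : D₂), δbar (r ⊗ₜ d) = (r ⊗ₜ 1) * δ d := by
    intro r d
    rw [Algebra.TensorProduct.lift_tmul]
    change (algebraMap (C₂ ⧸ 𝔠) ((C₂ ⧸ 𝔠) ⊗[A₁] B₁) r) * δ d = _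
    rw [Algebra.TensorProduct.algebraMap_apply, Algebra.algebraMap_self, RingHom.id_apply]
  have hfinE : Module.Finite D₂ ((C₂ ⧸ 𝔠) ⊗[C₂] D₂) := finite_right' C₂ (C₂ ⧸ 𝔠) D₂
  have hcE := isAdicComplete_of_finite D₂ (I₁.map (algebraMap A₁ D₂)) ((C₂ ⧸ 𝔠) ⊗[C₂] D₂)
  have hcompatE : (algebraMap C₂ ((C₂ ⧸ 𝔠) ⊗[C₂] D₂)).comp (algebraMap A₁ C₂) =
      (gB A₁ B₁ C₂ D₂ 𝔠).toRingHom.comp (algebraMap A₁ B₁) := by
    refine RingHom.ext fun a => ?_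
    simp only [RingHom.comp_apply]
    change _ = algebraMap D₂ ((C₂ ⧸ 𝔠) ⊗[C₂] D₂) (algebraMap B₁ D₂ (algebraMap A₁ B₁ a))
    rw [← IsScalarTower.algebraMap_apply A₁ B₁ D₂, IsScalarTower.algebraMap_apply A₁ C₂ D₂,
      algebraMap_E_comp]
  have eE : (I₁.map (algebraMap A₁ D₂)).map (algebraMap D₂ ((C₂ ⧸ 𝔠) ⊗[C₂] D₂)) =
      I₁.map ((algebraMap C₂ ((C₂ ⧸ 𝔠) ⊗[C₂] D₂)).comp (algebraMap A₁ C₂)) := by
    rw [Ideal.map_map]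
    congr 1
    refine RingHom.ext fun a => ?_
    simp only [RingHom.comp_apply]
    rw [IsScalarTower.algebraMap_apply A₁ C₂ D₂, algebraMap_E_comp]
  have hE : IsAdicComplete (I₁.map ((algebraMap C₂ ((C₂ ⧸ 𝔠) ⊗[C₂] D₂)).comp
      (algebraMap A₁ C₂))) ((C₂ ⧸ 𝔠) ⊗[C₂] D₂) := by rw [← eE]; exact hcE
  obtain ⟨δE, -, hδEu⟩ := hcp.2 ((C₂ ⧸ 𝔠) ⊗[C₂] D₂)
    (algebraMap C₂ ((C₂ ⧸ 𝔠) ⊗[C₂] D₂)) (gB A₁ B₁ C₂ D₂ 𝔠).toRingHom hcompatE hE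
  have hθδ : ∀ d : D₂, theta A₁ B₁ C₂ D₂ 𝔠 (δ d) = (1 : C₂ ⧸ 𝔠) ⊗ₜ d := by
    intro d
    have a1 : (theta A₁ B₁ C₂ D₂ 𝔠).toRingHom.comp δ = δE := hδEu _ ⟨by
      refine RingHom.ext fun c => ?_
      have h3 : δ (algebraMap C₂ D₂ c) = algebraMap C₂ ((C₂ ⧸ 𝔠) ⊗[A₁] B₁) c :=
        RingHom.congr_fun hδ1 c
      simp only [RingHom.comp_apply]
      rw [h3, IsScalarTower.algebraMap_apply C₂ (C₂ ⧸ 𝔠) ((C₂ ⧸ 𝔠) ⊗[A₁] B₁)]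
      change (theta A₁ B₁ C₂ D₂ 𝔠) (algebraMap (C₂ ⧸ 𝔠) _ (algebraMap C₂ (C₂ ⧸ 𝔠) c)) = _
      rw [AlgHom.commutes, ← IsScalarTower.algebraMap_apply C₂ (C₂ ⧸ 𝔠)], by
      refine RingHom.ext fun b => ?_
      have h3 : δ (algebraMap B₁ D₂ b) = algebraMap B₁ ((C₂ ⧸ 𝔠) ⊗[A₁] B₁) b :=
        RingHom.congr_fun hδ2 b
      simp only [RingHom.comp_apply]
      rw [h3, Algebra.TensorProduct.right_algebraMap_apply]
      change (theta A₁ B₁ C₂ D₂ 𝔠) ((1 : C₂ ⧸ 𝔠) ⊗ₜ b) = _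
      rw [theta_tmul]
      rfl⟩
    have a2 : (algebraMap D₂ ((C₂ ⧸ 𝔠) ⊗[C₂] D₂)) = δE := hδEu _ ⟨by
      refine RingHom.ext fun c => ?_
      simp only [RingHom.comp_apply]
      exact algebraMap_E_comp C₂ D₂ 𝔠 c, by
      refine RingHom.ext fun b => ?_
      rfl⟩
    have a3 := RingHom.congr_fun (a1.trans a2.symm) d
    exact a3
  refine Function.bijective_iff_has_inverse.mpr ⟨δbar, fun x => ?_, fun y => ?_⟩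
  · induction x using TensorProduct.induction_on with
    | zero => rw [map_zero, map_zero]
    | add x y hx hy => rw [map_add, map_add, hx, hy]
    | tmul r b =>
      have h3 : δ (algebraMap B₁ D₂ b) = algebraMap B₁ ((C₂ ⧸ 𝔠) ⊗[A₁] B₁) b :=
        RingHom.congr_fun hδ2 b
      rw [theta_tmul, hδbar, h3, Algebra.TensorProduct.right_algebraMap_apply,
        Algebra.TensorProduct.tmul_mul_tmul, mul_one, one_mul]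
  · induction y using TensorProduct.induction_on with
    | zero => rw [map_zero, map_zero]
    | add x y hx hy => rw [map_add, map_add, hx, hy]
    | tmul r d =>
      have h4 : theta A₁ B₁ C₂ D₂ 𝔠 ((r ⊗ₜ[A₁] (1 : B₁))) = r ⊗ₜ 1 := by
        rw [theta_tmul, map_one]
      rw [hδbar, map_mul, hθδ, h4, Algebra.TensorProduct.tmul_mul_tmul, mul_one, one_mul]

end Key

end Groth.Agent.Lib.Helper63.RigCP
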