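import Groth.Agent.Lib.Helper63.RigCP3
import Groth.Agent.Lib.Helper24.LocalCritPow

set_option autoImplicit false
set_option linter.unusedSectionVars false
universe u

namespace Groth.Agent.Lib.Helper63.RigCP

open TensorProduct

theorem flat_of_equiv_of_isLocalization (A₁ B₁ Rq : Type u) [CommRing A₁] [CommRing B₁]
    [CommRing Rq] [Algebra A₁ B₁] [Algebra A₁ Rq] (P : Ideal B₁) [P.IsPrime]
    (hflat : Module.Flat A₁ (Localization.AtPrime P))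
    (E : Type u) [CommRing E] [Algebra Rq E] (θ : Rq ⊗[A₁] B₁ ≃ₐ[Rq] E)
    (L : Type u) [CommRing L] [Algebra E L] [Algebra Rq L] [IsScalarTower Rq E L]
    (T : Submonoid E) [IsLocalization T L]
    (hT : ∀ s ∈ P.primeCompl, θ ((1 : Rq) ⊗ₜ s) ∈ T) :
    Module.Flat Rq L := by
  let e : Rq ⊗[A₁] B₁ ≃+* E := θ.toRingEquiv
  let _ : Algebra (Rq ⊗[A₁] B₁) L := ((algebraMap E L).comp e.toRingHom).toAlgebra
  have hST1 : IsScalarTower Rq (Rq ⊗[A₁] B₁) L := by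
    refine IsScalarTower.of_algebraMap_eq (fun r => ?_)
    change _ = algebraMap E L (θ (algebraMap Rq (Rq ⊗[A₁] B₁) r))
    rw [AlgEquiv.commutes, ← IsScalarTower.algebraMap_apply]
  have hM : (T.comap e).map e = T := Submonoid.map_comap_eq_of_surjective e.surjective T
  have hloc : IsLocalization (T.comap e) L :=
    IsLocalization.of_ringEquiv_left e hM (fun x => rfl)
  let Sg : Submonoid (Rq ⊗[A₁] B₁) :=
    P.primeCompl.map (Algebra.TensorProduct.includeRight (R := A₁) (A := Rq))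
  have hle : Sg ≤ T.comap e := by
    rintro _ ⟨s, hs, rfl⟩
    exact hT s hs
  have hflat2 : Module.Flat Rq (Rq ⊗[A₁] (Localization.AtPrime P)) := inferInstance
  let eq1 := IsLocalization.tensorProductEquivOfMapIncludeRight A₁ Rq P.primeCompl
    (Localization.AtPrime P) (Localization Sg)
  have hflat3 : Module.Flat Rq (Localization Sg) :=
    Module.Flat.of_linearEquiv eq1.symm.toLinearEquiv
  let _ : Algebra (Localization Sg) L :=
    IsLocalization.localizationAlgebraOfSubmonoidLe (Localization Sg) L Sg (T.comap e) hle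
  have hST2 : IsScalarTower (Rq ⊗[A₁] B₁) (Localization Sg) L :=
    IsLocalization.localization_isScalarTower_of_submonoid_le (Localization Sg) L Sg (T.comap e) hle
  have hloc2 : IsLocalization ((T.comap e).map (algebraMap (Rq ⊗[A₁] B₁) (Localization Sg))) L :=
    IsLocalization.isLocalization_of_submonoid_le (Localization Sg) L Sg (T.comap e) hle
  have hflat4 : Module.Flat (Localization Sg) L :=
    IsLocalization.flat L ((T.comap e).map (algebraMap (Rq ⊗[A₁] B₁) (Localization Sg)))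
  have hST3 : IsScalarTower Rq (Localization Sg) L := by
    refine IsScalarTower.of_algebraMap_eq (R := Rq) (S := Localization Sg) (A := L) (fun r => ?_)
    rw [IsScalarTower.algebraMap_apply Rq (Rq ⊗[A₁] B₁) L,
      IsScalarTower.algebraMap_apply (Rq ⊗[A₁] B₁) (Localization Sg) L,
      ← IsScalarTower.algebraMap_apply Rq (Rq ⊗[A₁] B₁) (Localization Sg)]
  exact Module.Flat.trans Rq (Localization Sg) L

section StepA

variable (A₁ : Type u) [CommRing A₁]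
  (B₁ C₂ D₂ : Type u) [CommRing B₁] [CommRing C₂] [CommRing D₂]
  [Algebra A₁ B₁] [Algebra A₁ C₂] [Algebra B₁ D₂] [Algebra C₂ D₂] [Algebra A₁ D₂]
  [IsScalarTower A₁ B₁ D₂] [IsScalarTower A₁ C₂ D₂]
  [IsNoetherianRing C₂] [IsNoetherianRing D₂]

theorem flat_atPrime_of_key (q₂ : Ideal D₂) [q₂.IsPrime] (𝔭₂ : Ideal C₂)
    (h𝔭 : 𝔭₂ ≤ q₂.comap (algebraMap C₂ D₂))
    (hflatB : Module.Flat A₁ (Localization.AtPrime (q₂.comap (algebraMap B₁ D₂))))
    (hkey : ∀ n : ℕ, 0 < n → Function.Bijective (theta A₁ B₁ C₂ D₂ (𝔭₂ ^ n))) :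
    Module.Flat C₂ (Localization.AtPrime q₂) := by
  have hNN : IsNoetherianRing (Localization.AtPrime q₂) :=
    IsLocalization.isNoetherianRing q₂.primeCompl _ inferInstance
  refine Groth.Agent.Lib.Helper24.LocalCritPow.flat_of_forall_flat_quotient_pow C₂
    (Localization.AtPrime q₂) (Localization.AtPrime q₂) 𝔭₂ ?_ ?_
  · rw [IsLocalRing.jacobson_eq_maximalIdeal ⊥ bot_ne_top, Ideal.map_le_iff_le_comap]
    intro x hx
    rw [Ideal.mem_comap, IsScalarTower.algebraMap_apply C₂ D₂ (Localization.AtPrime q₂),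
      IsLocalization.AtPrime.to_map_mem_maximal_iff (Localization.AtPrime q₂) q₂]
    exact h𝔭 hx
  · intro n hn
    let θ : (C₂ ⧸ 𝔭₂ ^ n) ⊗[A₁] B₁ ≃ₐ[C₂ ⧸ 𝔭₂ ^ n] (C₂ ⧸ 𝔭₂ ^ n) ⊗[C₂] D₂ :=
      AlgEquiv.ofBijective (theta A₁ B₁ C₂ D₂ (𝔭₂ ^ n)) (hkey n hn)
    let _ : Algebra ((C₂ ⧸ 𝔭₂ ^ n) ⊗[C₂] D₂) ((C₂ ⧸ 𝔭₂ ^ n) ⊗[C₂] (Localization.AtPrime q₂)) :=
      (Algebra.TensorProduct.map (AlgHom.id C₂ (C₂ ⧸ 𝔭₂ ^ n))
        (IsScalarTower.toAlgHom C₂ D₂ (Localization.AtPrime q₂))).toRingHom.toAlgebra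
    have hST : IsScalarTower (C₂ ⧸ 𝔭₂ ^ n) ((C₂ ⧸ 𝔭₂ ^ n) ⊗[C₂] D₂)
        ((C₂ ⧸ 𝔭₂ ^ n) ⊗[C₂] (Localization.AtPrime q₂)) :=
      IsScalarTower.of_algebraMap_eq (R := C₂ ⧸ 𝔭₂ ^ n) (S := (C₂ ⧸ 𝔭₂ ^ n) ⊗[C₂] D₂)
        (A := (C₂ ⧸ 𝔭₂ ^ n) ⊗[C₂] (Localization.AtPrime q₂)) <| by
        intro r
        have e1 : algebraMap (C₂ ⧸ 𝔭₂ ^ n) ((C₂ ⧸ 𝔭₂ ^ n) ⊗[C₂] D₂) r = r ⊗ₜ 1 := by
          rw [Algebra.TensorProduct.algebraMap_apply, Algebra.algebraMap_self, RingHom.id_apply]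
        have e2 : algebraMap (C₂ ⧸ 𝔭₂ ^ n) ((C₂ ⧸ 𝔭₂ ^ n) ⊗[C₂] (Localization.AtPrime q₂)) r =
            r ⊗ₜ 1 := by
          rw [Algebra.TensorProduct.algebraMap_apply, Algebra.algebraMap_self, RingHom.id_apply]
        rw [e1, e2]
        change _ = (Algebra.TensorProduct.map (AlgHom.id C₂ (C₂ ⧸ 𝔭₂ ^ n))
          (IsScalarTower.toAlgHom C₂ D₂ (Localization.AtPrime q₂))) (r ⊗ₜ 1)
        rw [Algebra.TensorProduct.map_tmul, map_one]
        rfl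
    have hloc : IsLocalization (q₂.primeCompl.map
        (Algebra.TensorProduct.includeRight (R := C₂) (A := C₂ ⧸ 𝔭₂ ^ n)))
        ((C₂ ⧸ 𝔭₂ ^ n) ⊗[C₂] (Localization.AtPrime q₂)) :=
      IsLocalization.tensorProduct_tensorProduct_right C₂ (C₂ ⧸ 𝔭₂ ^ n) q₂.primeCompl
        (Localization.AtPrime q₂) (by ext; simp [RingHom.algebraMap_toAlgebra])
    have hcp : (q₂.comap (algebraMap B₁ D₂)).IsPrime := Ideal.comap_isPrime _ _
    refine flat_of_equiv_of_isLocalization A₁ B₁ (C₂ ⧸ 𝔭₂ ^ n) (q₂.comap (algebraMap B₁ D₂))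
      hflatB ((C₂ ⧸ 𝔭₂ ^ n) ⊗[C₂] D₂) θ ((C₂ ⧸ 𝔭₂ ^ n) ⊗[C₂] (Localization.AtPrime q₂))
      (q₂.primeCompl.map (Algebra.TensorProduct.includeRight (R := C₂) (A := C₂ ⧸ 𝔭₂ ^ n))) ?_
    intro s hs
    refine ⟨algebraMap B₁ D₂ s, hs, ?_⟩
    change _ = theta A₁ B₁ C₂ D₂ (𝔭₂ ^ n) ((1 : C₂ ⧸ 𝔭₂ ^ n) ⊗ₜ s)
    rw [theta_tmul]
    rfl

end StepA

end Groth.Agent.Lib.Helper63.RigCP
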