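import Groth.Agent.Lib.Helper63.RigCP4

set_option autoImplicit false
set_option linter.unusedSectionVars false
universe u

namespace Groth.Agent.Lib.Helper63.RigCP

open TensorProduct Groth.Agent.Lib.Helper63.RigClosed Groth.Agent.Lib.Helper63.RigBC
  Groth.Agent.Lib.Helper63.RigPt

theorem finite_quotient_pow (A₁ C₂ : Type u) [CommRing A₁] [CommRing C₂] [Algebra A₁ C₂]
    [IsNoetherianRing C₂] (𝔭 : Ideal C₂) [Module.Finite A₁ (C₂ ⧸ 𝔭)] (n : ℕ) (hn : 0 < n) :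
    Module.Finite A₁ (C₂ ⧸ 𝔭 ^ n) := by
  have hle : 𝔭 ^ n ≤ 𝔭 := Ideal.pow_le_self hn.ne'
  refine Module.finite_of_surjective_of_ker_le_nilradical (Ideal.Quotient.factorₐ A₁ hle)
    (Ideal.Quotient.factor_surjective hle) ?_ (IsNoetherian.noetherian _)
  intro y hy
  obtain ⟨x, rfl⟩ := Ideal.Quotient.mk_surjective y
  have hx : x ∈ 𝔭 := by
    have : Ideal.Quotient.mk 𝔭 x = 0 := hy
    exact Ideal.Quotient.eq_zero_iff_mem.mp this
  refine ⟨n, ?_⟩
  rw [← map_pow]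
  exact Ideal.Quotient.eq_zero_iff_mem.mpr (Ideal.pow_mem_pow hx n)

theorem abs_main (A : Type u) [CommRing A] [IsNoetherianRing A] (I : Ideal A)
    [IsAdicComplete I A]
    (A₁ : Type u) [CommRing A₁] [Algebra A A₁] [IsNoetherianRing A₁]
    (hCA₁ : IsAdicComplete (I.map (algebraMap A A₁)) A₁)
    (B₁ : Type u) [CommRing B₁] [Algebra A B₁] [Algebra A₁ B₁] [IsScalarTower A A₁ B₁]
    [IsNoetherianRing B₁] (hCB₁ : IsAdicComplete (I.map (algebraMap A B₁)) B₁)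
    (C₂ : Type u) [CommRing C₂] [Algebra A C₂] [Algebra A₁ C₂] [IsScalarTower A A₁ C₂]
    [IsNoetherianRing C₂] (hCC₂ : IsAdicComplete (I.map (algebraMap A C₂)) C₂)
    (hftC₂ : Algebra.FiniteType A (C₂ ⧸ I.map (algebraMap A C₂)))
    (D₂ : Type u) [CommRing D₂] [Algebra A D₂] [Algebra A₁ D₂] [Algebra B₁ D₂] [Algebra C₂ D₂]
    [IsScalarTower A A₁ D₂] [IsScalarTower A₁ B₁ D₂] [IsScalarTower A₁ C₂ D₂]
    [IsNoetherianRing D₂] (hCD₂ : IsAdicComplete (I.map (algebraMap A D₂)) D₂)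
    (hftD₂ : Algebra.FiniteType A (D₂ ⧸ I.map (algebraMap A D₂)))
    (hnaive₁ : ∀ q : PrimeSpectrum B₁, IsRig (I.map (algebraMap A B₁)) q →
      Module.Flat A₁ (Localization.AtPrime q.asIdeal))
    (hcp : IsCP (I.map (algebraMap A A₁)) (algebraMap A₁ C₂) (algebraMap A₁ B₁)
      (algebraMap C₂ D₂) (algebraMap B₁ D₂))
    (q₂ : PrimeSpectrum D₂) (hq₂ : IsRig (I.map (algebraMap A D₂)) q₂)
    (hrigA : IsRig (I.map (algebraMap A A₁)) (PrimeSpectrum.comap (algebraMap A₁ D₂) q₂)) :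
    Module.Flat C₂ (Localization.AtPrime q₂.asIdeal) := by
  have hq₂p : q₂.asIdeal.IsPrime := q₂.isPrime
  have tB : IsScalarTower A B₁ D₂ := by
    refine IsScalarTower.of_algebraMap_eq (fun a => ?_)
    rw [IsScalarTower.algebraMap_apply A A₁ D₂, IsScalarTower.algebraMap_apply A₁ B₁ D₂,
      ← IsScalarTower.algebraMap_apply A A₁ B₁]
  have tC : IsScalarTower A C₂ D₂ := by
    refine IsScalarTower.of_algebraMap_eq (fun a => ?_)
    rw [IsScalarTower.algebraMap_apply A A₁ D₂, IsScalarTower.algebraMap_apply A₁ C₂ D₂,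
      ← IsScalarTower.algebraMap_apply A A₁ C₂]
  have i1 : IsAdicComplete (I.map (algebraMap A A₁)) A₁ := hCA₁
  have i2 : IsAdicComplete ((I.map (algebraMap A A₁)).map (algebraMap A₁ D₂)) D₂ :=
    complete_tower A I A₁ D₂ hCD₂
  have i3 : IsAdicComplete (I.map (algebraMap A C₂)) C₂ := hCC₂
  have i4 : IsAdicComplete ((I.map (algebraMap A C₂)).map (algebraMap C₂ D₂)) D₂ :=
    complete_tower A I C₂ D₂ hCD₂
  have i5 : IsAdicComplete (I.map (algebraMap A B₁)) B₁ := hCB₁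
  have i6 : IsAdicComplete ((I.map (algebraMap A B₁)).map (algebraMap B₁ D₂)) D₂ :=
    complete_tower A I B₁ D₂ hCD₂
  have i7 : IsAdicComplete ((I.map (algebraMap A A₁)).map (algebraMap A₁ C₂)) C₂ :=
    complete_tower A I A₁ C₂ hCC₂
  have i8 : IsAdicComplete ((I.map (algebraMap A A₁)).map (algebraMap A₁ B₁)) B₁ :=
    complete_tower A I A₁ B₁ hCB₁
  have hqA : IsRig ((I.map (algebraMap A A₁)).map (algebraMap A₁ D₂)) q₂ := by
    rw [map_map_tower A I A₁ D₂]; exact hq₂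
  have hqC : IsRig ((I.map (algebraMap A C₂)).map (algebraMap C₂ D₂)) q₂ := by
    rw [map_map_tower A I C₂ D₂]; exact hq₂
  have hqB : IsRig ((I.map (algebraMap A B₁)).map (algebraMap B₁ D₂)) q₂ := by
    rw [map_map_tower A I B₁ D₂]; exact hq₂
  have hfinD : Module.Finite A₁ (D₂ ⧸ q₂.asIdeal) :=
    ((tfae_rig_closed_comap A₁ (I.map (algebraMap A A₁)) D₂ (ft_tower A I A₁ D₂ hftD₂) q₂
      hqA).out 1 2).mp hrigA
  have hfinDC : Module.Finite C₂ (D₂ ⧸ q₂.asIdeal) :=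
    Module.Finite.of_restrictScalars_finite A₁ C₂ (D₂ ⧸ q₂.asIdeal)
  have hfinDB : Module.Finite B₁ (D₂ ⧸ q₂.asIdeal) :=
    Module.Finite.of_restrictScalars_finite A₁ B₁ (D₂ ⧸ q₂.asIdeal)
  have h𝔭rig : IsRig (I.map (algebraMap A C₂)) (PrimeSpectrum.comap (algebraMap C₂ D₂) q₂) :=
    ((tfae_rig_closed_comap C₂ (I.map (algebraMap A C₂)) D₂ (ft_tower A I C₂ D₂ hftD₂) q₂
      hqC).out 2 1).mp hfinDC
  have hqBrig : IsRig (I.map (algebraMap A B₁)) (PrimeSpectrum.comap (algebraMap B₁ D₂) q₂) :=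
    ((tfae_rig_closed_comap B₁ (I.map (algebraMap A B₁)) D₂ (ft_tower A I B₁ D₂ hftD₂) q₂
      hqB).out 2 1).mp hfinDB
  have hflatB : Module.Flat A₁ (Localization.AtPrime (q₂.asIdeal.comap (algebraMap B₁ D₂))) :=
    hnaive₁ _ hqBrig
  have h𝔭rig' : IsRig ((I.map (algebraMap A A₁)).map (algebraMap A₁ C₂))
      (PrimeSpectrum.comap (algebraMap C₂ D₂) q₂) := by
    rw [map_map_tower A I A₁ C₂]; exact h𝔭rig
  have hcomap : PrimeSpectrum.comap (algebraMap A₁ C₂) (PrimeSpectrum.comap (algebraMap C₂ D₂) q₂) =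
      PrimeSpectrum.comap (algebraMap A₁ D₂) q₂ := by
    apply PrimeSpectrum.ext
    change (q₂.asIdeal.comap (algebraMap C₂ D₂)).comap (algebraMap A₁ C₂) =
      q₂.asIdeal.comap (algebraMap A₁ D₂)
    rw [Ideal.comap_comap, ← IsScalarTower.algebraMap_eq]
  have hfinC : Module.Finite A₁ (C₂ ⧸ (q₂.asIdeal.comap (algebraMap C₂ D₂))) :=
    ((tfae_rig_closed_comap A₁ (I.map (algebraMap A A₁)) C₂ (ft_tower A I A₁ C₂ hftC₂)
      (PrimeSpectrum.comap (algebraMap C₂ D₂) q₂) h𝔭rig').out 1 2).mp (by rw [hcomap]; exact hrigA)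
  have hkey : ∀ n : ℕ, 0 < n → Function.Bijective
      (theta A₁ B₁ C₂ D₂ ((q₂.asIdeal.comap (algebraMap C₂ D₂)) ^ n)) := by
    intro n hn
    have := finite_quotient_pow A₁ C₂ (q₂.asIdeal.comap (algebraMap C₂ D₂)) n hn
    exact theta_bijective A₁ (I.map (algebraMap A A₁)) B₁ C₂ D₂ _ i8 i2 hcp
  exact flat_atPrime_of_key A₁ B₁ C₂ D₂ q₂.asIdeal (q₂.asIdeal.comap (algebraMap C₂ D₂)) le_rfl
    hflatB hkey

theorem abs_desc (C₁ D₁ C₂ D₂ : Type u) [CommRing C₁] [CommRing D₁] [CommRing C₂] [CommRing D₂]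
    [Algebra C₁ D₁] [Algebra C₁ C₂] [Algebra D₁ D₂] [Algebra C₂ D₂] [Algebra C₁ D₂]
    [IsScalarTower C₁ D₁ D₂] [IsScalarTower C₁ C₂ D₂] [Module.Flat C₁ C₂] [Module.Flat D₁ D₂]
    (q : Ideal D₁) [q.IsPrime]
    (F2 : ∀ b : D₁, algebraMap D₁ D₂ b ∈ q.map (algebraMap D₁ D₂) → b ∈ q)
    [hP : (q.map (algebraMap D₁ D₂)).IsPrime]
    (h : Module.Flat C₂ (Localization.AtPrime (q.map (algebraMap D₁ D₂)))) :
    Module.Flat C₁ (Localization.AtPrime q) := by
  have hST1 : IsScalarTower C₁ C₂ (Localization.AtPrime (q.map (algebraMap D₁ D₂))) := by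
    refine IsScalarTower.of_algebraMap_eq (fun a => ?_)
    rw [IsScalarTower.algebraMap_apply C₁ D₂ (Localization.AtPrime _),
      IsScalarTower.algebraMap_apply C₁ C₂ D₂,
      ← IsScalarTower.algebraMap_apply C₂ D₂ (Localization.AtPrime _)]
  have hflat2 : Module.Flat C₁ (Localization.AtPrime (q.map (algebraMap D₁ D₂))) :=
    Module.Flat.trans C₁ C₂ _
  have hlo : (q.map (algebraMap D₁ D₂)).LiesOver q := by
    refine ⟨le_antisymm Ideal.le_comap_map (fun b hb => F2 b hb)⟩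
  let _ := Localization.AtPrime.algebraOfLiesOver q (q.map (algebraMap D₁ D₂))
  have hloc : IsLocalHom (algebraMap (Localization.AtPrime q)
      (Localization.AtPrime (q.map (algebraMap D₁ D₂)))) :=
    Localization.isLocalHom_localRingHom _ _ _ _
  have hff : Module.FaithfullyFlat (Localization.AtPrime q)
      (Localization.AtPrime (q.map (algebraMap D₁ D₂))) :=
    Module.FaithfullyFlat.of_flat_of_isLocalHom
  exact Groth.Agent.Lib.Helper54.ComplFlat.flat_of_faithfullyFlat_of_flat C₁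
    (Localization.AtPrime q) (Localization.AtPrime (q.map (algebraMap D₁ D₂)))

end Groth.Agent.Lib.Helper63.RigCP
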