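import Groth.Agent.Lib.Helper63.RigCP5

set_option autoImplicit false
set_option linter.unusedSectionVars false
universe u

namespace Groth.Agent.Lib.Helper63.RigCP

open IsLocalRing TensorProduct Groth.Agent.Lib.Helper63.ComplRing
  Groth.Agent.Lib.Helper63.RigClosed Groth.Agent.Lib.Helper63.RigPoly
  Groth.Agent.Lib.Helper63.RigFlat Groth.Agent.Lib.Helper63.RigComp
  Groth.Agent.Lib.Helper63.RigPt Groth.Agent.Lib.Helper63.RigDesc
  Groth.Agent.Lib.Helper63.RigBC

theorem naive_of_cp (A : Type u) [CommRing A] [IsNoetherianRing A] (I : Ideal A)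
    [IsAdicComplete I A]
    (B : Type u) [CommRing B] [Algebra A B] [IsNoetherianRing B]
    [IsAdicComplete (I.map (algebraMap A B)) B]
    (hAB : RigFlat A I B (I.map (algebraMap A B)))
    (C₁ : Type u) [CommRing C₁] [Algebra A C₁] [IsNoetherianRing C₁]
    [IsAdicComplete (I.map (algebraMap A C₁)) C₁]
    (hftC₁ : Algebra.FiniteType A (C₁ ⧸ (I.map (algebraMap A C₁))))
    (D₁ : Type u) [CommRing D₁] [Algebra A D₁] [IsNoetherianRing D₁]
    [IsAdicComplete (I.map (algebraMap A D₁)) D₁]
    (hftD₁ : Algebra.FiniteType A (D₁ ⧸ (I.map (algebraMap A D₁))))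
    (ψ₁ : C₁ →+* D₁) (hψ₁ : ψ₁.comp (algebraMap A C₁) = algebraMap A D₁)
    (βD : B →+* D₁) (hβD : βD.comp (algebraMap A B) = algebraMap A D₁)
    (hcp : IsCP I (algebraMap A C₁) (algebraMap A B) ψ₁ βD)
    (q : PrimeSpectrum D₁) (hq : IsRig (I.map (algebraMap A D₁)) q) :
    ((algebraMap D₁ (Localization.AtPrime q.asIdeal)).comp ψ₁).Flat := by
  obtain ⟨f, hunit, hS⟩ := Groth.Agent.Lib.Helper63.RigPt.main A I D₁ hftD₁ q hq
  obtain ⟨v, hv⟩ := hunit.exists_left_inv
  obtain ⟨u, rfl⟩ := Ideal.Quotient.mk_surjective v
  have hu : u * algebraMap A D₁ f - 1 ∈ q.asIdeal := by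
    rw [← Ideal.Quotient.eq_zero_iff_mem, map_sub, map_mul, hv, map_one, sub_self]
  have hqp : q.asIdeal.IsPrime := q.isPrime
  have hNTA : IsNoetherianRing (Localization.Away f) :=
    IsLocalization.isNoetherianRing (Submonoid.powers f) _ inferInstance
  have hNTB : IsNoetherianRing (Localization.Away (algebraMap A B f)) :=
    IsLocalization.isNoetherianRing (Submonoid.powers (algebraMap A B f)) _ inferInstance
  have hNTC : IsNoetherianRing (Localization.Away (algebraMap A C₁ f)) :=
    IsLocalization.isNoetherianRing (Submonoid.powers (algebraMap A C₁ f)) _ inferInstance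
  have hNTD : IsNoetherianRing (Localization.Away (algebraMap A D₁ f)) :=
    IsLocalization.isNoetherianRing (Submonoid.powers (algebraMap A D₁ f)) _ inferInstance
  have hNA₁ : IsNoetherianRing (AdicCompletion (I.map (algebraMap A (Localization.Away f)))
      (Localization.Away f)) := Groth.Agent.S0543.result _ _
  have hNB₁ : IsNoetherianRing (AdicCompletion ((I.map (algebraMap A B)).map
      (algebraMap B (Localization.Away (algebraMap A B f))))
      (Localization.Away (algebraMap A B f))) := Groth.Agent.S0543.result _ _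
  have hNC₂ : IsNoetherianRing (AdicCompletion ((I.map (algebraMap A C₁)).map
      (algebraMap C₁ (Localization.Away (algebraMap A C₁ f))))
      (Localization.Away (algebraMap A C₁ f))) := Groth.Agent.S0543.result _ _
  have hND₂ : IsNoetherianRing (AdicCompletion ((I.map (algebraMap A D₁)).map
      (algebraMap D₁ (Localization.Away (algebraMap A D₁ f))))
      (Localization.Away (algebraMap A D₁ f))) := Groth.Agent.S0543.result _ _
  have hKCD : (I.map (algebraMap A C₁)).map ψ₁ = I.map (algebraMap A D₁) := by
    rw [Ideal.map_map, hψ₁]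
  have hKBD : (I.map (algebraMap A B)).map βD = I.map (algebraMap A D₁) := by
    rw [Ideal.map_map, hβD]
  have hxCD : ψ₁ (algebraMap A C₁ f) = algebraMap A D₁ f := RingHom.congr_fun hψ₁ f
  have hxBD : βD (algebraMap A B f) = algebraMap A D₁ f := RingHom.congr_fun hβD f
  let _ : Algebra (AdicCompletion (I.map (algebraMap A (Localization.Away f))) (Localization.Away f)) (AdicCompletion ((I.map (algebraMap A B)).map (algebraMap B (Localization.Away (algebraMap A B f)))) (Localization.Away (algebraMap A B f))) := (cAwayLift I (I.map (algebraMap A B)) (algebraMap A B) le_rfl f (algebraMap A B f) rfl).toAlgebra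
  let _ : Algebra (AdicCompletion (I.map (algebraMap A (Localization.Away f))) (Localization.Away f)) (AdicCompletion ((I.map (algebraMap A C₁)).map (algebraMap C₁ (Localization.Away (algebraMap A C₁ f)))) (Localization.Away (algebraMap A C₁ f))) := (cAwayLift I (I.map (algebraMap A C₁)) (algebraMap A C₁) le_rfl f (algebraMap A C₁ f) rfl).toAlgebra
  let _ : Algebra (AdicCompletion (I.map (algebraMap A (Localization.Away f))) (Localization.Away f)) (AdicCompletion ((I.map (algebraMap A D₁)).map (algebraMap D₁ (Localization.Away (algebraMap A D₁ f)))) (Localization.Away (algebraMap A D₁ f))) := (cAwayLift I (I.map (algebraMap A D₁)) (algebraMap A D₁) le_rfl f (algebraMap A D₁ f) rfl).toAlgebra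
  let _ : Algebra (AdicCompletion ((I.map (algebraMap A C₁)).map (algebraMap C₁ (Localization.Away (algebraMap A C₁ f)))) (Localization.Away (algebraMap A C₁ f))) (AdicCompletion ((I.map (algebraMap A D₁)).map (algebraMap D₁ (Localization.Away (algebraMap A D₁ f)))) (Localization.Away (algebraMap A D₁ f))) := (cAwayLift (I.map (algebraMap A C₁)) (I.map (algebraMap A D₁)) ψ₁ (le_of_eq hKCD) (algebraMap A C₁ f) (algebraMap A D₁ f) hxCD).toAlgebra
  let _ : Algebra (AdicCompletion ((I.map (algebraMap A B)).map (algebraMap B (Localization.Away (algebraMap A B f)))) (Localization.Away (algebraMap A B f))) (AdicCompletion ((I.map (algebraMap A D₁)).map (algebraMap D₁ (Localization.Away (algebraMap A D₁ f)))) (Localization.Away (algebraMap A D₁ f))) := (cAwayLift (I.map (algebraMap A B)) (I.map (algebraMap A D₁)) βD (le_of_eq hKBD) (algebraMap A B f) (algebraMap A D₁ f) hxBD).toAlgebra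
  have t1 : IsScalarTower A (AdicCompletion (I.map (algebraMap A (Localization.Away f))) (Localization.Away f)) (AdicCompletion ((I.map (algebraMap A B)).map (algebraMap B (Localization.Away (algebraMap A B f)))) (Localization.Away (algebraMap A B f))) :=
    IsScalarTower.of_algebraMap_eq (fun a => cAwayLift_algebraMap_base A I
      (I.map (algebraMap A B)) le_rfl f (algebraMap A B f) rfl a)
  have t2 : IsScalarTower A (AdicCompletion (I.map (algebraMap A (Localization.Away f))) (Localization.Away f)) (AdicCompletion ((I.map (algebraMap A C₁)).map (algebraMap C₁ (Localization.Away (algebraMap A C₁ f)))) (Localization.Away (algebraMap A C₁ f))) :=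
    IsScalarTower.of_algebraMap_eq (fun a => cAwayLift_algebraMap_base A I
      (I.map (algebraMap A C₁)) le_rfl f (algebraMap A C₁ f) rfl a)
  have t3 : IsScalarTower A (AdicCompletion (I.map (algebraMap A (Localization.Away f))) (Localization.Away f)) (AdicCompletion ((I.map (algebraMap A D₁)).map (algebraMap D₁ (Localization.Away (algebraMap A D₁ f)))) (Localization.Away (algebraMap A D₁ f))) :=
    IsScalarTower.of_algebraMap_eq (fun a => cAwayLift_algebraMap_base A I
      (I.map (algebraMap A D₁)) le_rfl f (algebraMap A D₁ f) rfl a)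
  have t4 : IsScalarTower (AdicCompletion (I.map (algebraMap A (Localization.Away f))) (Localization.Away f)) (AdicCompletion ((I.map (algebraMap A B)).map (algebraMap B (Localization.Away (algebraMap A B f)))) (Localization.Away (algebraMap A B f))) (AdicCompletion ((I.map (algebraMap A D₁)).map (algebraMap D₁ (Localization.Away (algebraMap A D₁ f)))) (Localization.Away (algebraMap A D₁ f))) :=
    IsScalarTower.of_algebraMap_eq' (cAwayLift_trans I (I.map (algebraMap A B))
      (I.map (algebraMap A D₁)) (algebraMap A B) βD (algebraMap A D₁) hβD.symm le_rfl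
      (le_of_eq hKBD) le_rfl f (algebraMap A B f) (algebraMap A D₁ f) rfl hxBD rfl).symm
  have t5 : IsScalarTower (AdicCompletion (I.map (algebraMap A (Localization.Away f))) (Localization.Away f)) (AdicCompletion ((I.map (algebraMap A C₁)).map (algebraMap C₁ (Localization.Away (algebraMap A C₁ f)))) (Localization.Away (algebraMap A C₁ f))) (AdicCompletion ((I.map (algebraMap A D₁)).map (algebraMap D₁ (Localization.Away (algebraMap A D₁ f)))) (Localization.Away (algebraMap A D₁ f))) :=
    IsScalarTower.of_algebraMap_eq' (cAwayLift_trans I (I.map (algebraMap A C₁))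
      (I.map (algebraMap A D₁)) (algebraMap A C₁) ψ₁ (algebraMap A D₁) hψ₁.symm le_rfl
      (le_of_eq hKCD) le_rfl f (algebraMap A C₁ f) (algebraMap A D₁ f) rfl hxCD rfl).symm
  have hCA₁ := complete_compl A I A f (I.map (algebraMap A (Localization.Away f))) rfl
  have hCB₁ := complete_compl A I B (algebraMap A B f) _ (map_map_away A I B (algebraMap A B f))
  have hCC₂ := complete_compl A I C₁ (algebraMap A C₁ f) _ (map_map_away A I C₁ (algebraMap A C₁ f))
  have hCD₂ := complete_compl A I D₁ (algebraMap A D₁ f) _ (map_map_away A I D₁ (algebraMap A D₁ f))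
  have hftC₂ := ft_compl A I C₁ hftC₁ (algebraMap A C₁ f) _ (map_map_away A I C₁ (algebraMap A C₁ f))
  have hftD₂ := ft_compl A I D₁ hftD₁ (algebraMap A D₁ f) _ (map_map_away A I D₁ (algebraMap A D₁ f))
  have hfg : ∀ (X : Type u) [CommRing X] [IsNoetherianRing X] (J : Ideal X), J.FG :=
    fun X _ _ J => IsNoetherian.noetherian J
  have hc₂ : IsCU (algebraMap C₁ (AdicCompletion ((I.map (algebraMap A C₁)).map (algebraMap C₁ (Localization.Away (algebraMap A C₁ f)))) (Localization.Away (algebraMap A C₁ f)))) (I.map (algebraMap A C₁)) {(algebraMap A C₁ f)} :=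
    IsCU.cAway (I.map (algebraMap A C₁)) (algebraMap A C₁ f) _ rfl (hfg _ _)
  have hd₂0 : IsCU (algebraMap D₁ (AdicCompletion ((I.map (algebraMap A D₁)).map (algebraMap D₁ (Localization.Away (algebraMap A D₁ f)))) (Localization.Away (algebraMap A D₁ f)))) (I.map (algebraMap A D₁)) {(algebraMap A D₁ f)} :=
    IsCU.cAway (I.map (algebraMap A D₁)) (algebraMap A D₁ f) _ rfl (hfg _ _)
  have hd₂ : IsCU (algebraMap D₁ (AdicCompletion ((I.map (algebraMap A D₁)).map (algebraMap D₁ (Localization.Away (algebraMap A D₁ f)))) (Localization.Away (algebraMap A D₁ f)))) (I.map (ψ₁.comp (algebraMap A C₁)))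
      (ψ₁ '' {(algebraMap A C₁ f)}) := by
    rw [hψ₁, Set.image_singleton, hxCD]
    exact hd₂0
  have hγ₂ : (cAwayLift (I.map (algebraMap A C₁)) (I.map (algebraMap A D₁)) ψ₁ (le_of_eq hKCD) (algebraMap A C₁ f) (algebraMap A D₁ f) hxCD).comp (algebraMap C₁ (AdicCompletion ((I.map (algebraMap A C₁)).map (algebraMap C₁ (Localization.Away (algebraMap A C₁ f)))) (Localization.Away (algebraMap A C₁ f)))) = (algebraMap D₁ (AdicCompletion ((I.map (algebraMap A D₁)).map (algebraMap D₁ (Localization.Away (algebraMap A D₁ f)))) (Localization.Away (algebraMap A D₁ f)))).comp ψ₁ :=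
    RingHom.ext fun c => cAwayLift_algebraMap (I.map (algebraMap A C₁)) (I.map (algebraMap A D₁))
      ψ₁ (le_of_eq hKCD) (algebraMap A C₁ f) (algebraMap A D₁ f) hxCD c
  have hcp2 := hcp.step (algebraMap C₁ (AdicCompletion ((I.map (algebraMap A C₁)).map (algebraMap C₁ (Localization.Away (algebraMap A C₁ f)))) (Localization.Away (algebraMap A C₁ f)))) hc₂ (algebraMap D₁ (AdicCompletion ((I.map (algebraMap A D₁)).map (algebraMap D₁ (Localization.Away (algebraMap A D₁ f)))) (Localization.Away (algebraMap A D₁ f)))) hd₂ (cAwayLift (I.map (algebraMap A C₁)) (I.map (algebraMap A D₁)) ψ₁ (le_of_eq hKCD) (algebraMap A C₁ f) (algebraMap A D₁ f) hxCD) hγ₂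
  have hb : IsCU (algebraMap B (AdicCompletion ((I.map (algebraMap A B)).map (algebraMap B (Localization.Away (algebraMap A B f)))) (Localization.Away (algebraMap A B f)))) (I.map (algebraMap A B)) {(algebraMap A B f)} :=
    IsCU.cAway (I.map (algebraMap A B)) (algebraMap A B f) _ rfl (hfg _ _)
  have hid : IsCU (RingHom.id (AdicCompletion ((I.map (algebraMap A D₁)).map (algebraMap D₁ (Localization.Away (algebraMap A D₁ f)))) (Localization.Away (algebraMap A D₁ f))))
      (I.map (((algebraMap D₁ (AdicCompletion ((I.map (algebraMap A D₁)).map (algebraMap D₁ (Localization.Away (algebraMap A D₁ f)))) (Localization.Away (algebraMap A D₁ f)))).comp βD).comp (algebraMap A B)))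
      (((algebraMap D₁ (AdicCompletion ((I.map (algebraMap A D₁)).map (algebraMap D₁ (Localization.Away (algebraMap A D₁ f)))) (Localization.Away (algebraMap A D₁ f)))).comp βD) '' {(algebraMap A B f)}) := by
    refine IsCU.id _ _ ?_
    rintro v ⟨w, hw, rfl⟩
    rw [Set.mem_singleton_iff] at hw
    subst hw
    rw [RingHom.comp_apply, hxBD]
    exact hd₂0.1 _ rfl
  have hβ₁ : (cAwayLift (I.map (algebraMap A B)) (I.map (algebraMap A D₁)) βD (le_of_eq hKBD) (algebraMap A B f) (algebraMap A D₁ f) hxBD).comp (algebraMap B (AdicCompletion ((I.map (algebraMap A B)).map (algebraMap B (Localization.Away (algebraMap A B f)))) (Localization.Away (algebraMap A B f)))) =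
      (RingHom.id (AdicCompletion ((I.map (algebraMap A D₁)).map (algebraMap D₁ (Localization.Away (algebraMap A D₁ f)))) (Localization.Away (algebraMap A D₁ f)))).comp ((algebraMap D₁ (AdicCompletion ((I.map (algebraMap A D₁)).map (algebraMap D₁ (Localization.Away (algebraMap A D₁ f)))) (Localization.Away (algebraMap A D₁ f)))).comp βD) :=
    RingHom.ext fun x => cAwayLift_algebraMap (I.map (algebraMap A B)) (I.map (algebraMap A D₁))
      βD (le_of_eq hKBD) (algebraMap A B f) (algebraMap A D₁ f) hxBD x
  have hcp3 := (hcp2.symm.step (algebraMap B (AdicCompletion ((I.map (algebraMap A B)).map (algebraMap B (Localization.Away (algebraMap A B f)))) (Localization.Away (algebraMap A B f)))) hb (RingHom.id (AdicCompletion ((I.map (algebraMap A D₁)).map (algebraMap D₁ (Localization.Away (algebraMap A D₁ f)))) (Localization.Away (algebraMap A D₁ f)))) hid (cAwayLift (I.map (algebraMap A B)) (I.map (algebraMap A D₁)) βD (le_of_eq hKBD) (algebraMap A B f) (algebraMap A D₁ f) hxBD) hβ₁).symm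
  rw [RingHom.id_comp] at hcp3
  have ha : IsCU (algebraMap A (AdicCompletion (I.map (algebraMap A (Localization.Away f))) (Localization.Away f))) I {f} :=
    IsCU.cAway I f _ rfl (hfg _ _)
  have hC : (cAwayLift I (I.map (algebraMap A C₁)) (algebraMap A C₁) le_rfl f (algebraMap A C₁ f) rfl).comp (algebraMap A (AdicCompletion (I.map (algebraMap A (Localization.Away f))) (Localization.Away f))) =
      (algebraMap C₁ (AdicCompletion ((I.map (algebraMap A C₁)).map (algebraMap C₁ (Localization.Away (algebraMap A C₁ f)))) (Localization.Away (algebraMap A C₁ f)))).comp (algebraMap A C₁) := by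
    refine RingHom.ext fun a => ?_
    rw [RingHom.comp_apply, RingHom.comp_apply, ← IsScalarTower.algebraMap_apply A C₁ (AdicCompletion ((I.map (algebraMap A C₁)).map (algebraMap C₁ (Localization.Away (algebraMap A C₁ f)))) (Localization.Away (algebraMap A C₁ f)))]
    exact (cAwayLift_algebraMap_base A I (I.map (algebraMap A C₁)) le_rfl f (algebraMap A C₁ f) rfl a).symm
  have hB : (cAwayLift I (I.map (algebraMap A B)) (algebraMap A B) le_rfl f (algebraMap A B f) rfl).comp (algebraMap A (AdicCompletion (I.map (algebraMap A (Localization.Away f))) (Localization.Away f))) =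
      (algebraMap B (AdicCompletion ((I.map (algebraMap A B)).map (algebraMap B (Localization.Away (algebraMap A B f)))) (Localization.Away (algebraMap A B f)))).comp (algebraMap A B) := by
    refine RingHom.ext fun a => ?_
    rw [RingHom.comp_apply, RingHom.comp_apply, ← IsScalarTower.algebraMap_apply A B (AdicCompletion ((I.map (algebraMap A B)).map (algebraMap B (Localization.Away (algebraMap A B f)))) (Localization.Away (algebraMap A B f)))]
    exact (cAwayLift_algebraMap_base A I (I.map (algebraMap A B)) le_rfl f (algebraMap A B f) rfl a).symm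
  have hDeq : (cAwayLift (I.map (algebraMap A C₁)) (I.map (algebraMap A D₁)) ψ₁ (le_of_eq hKCD) (algebraMap A C₁ f) (algebraMap A D₁ f) hxCD).comp ((algebraMap C₁ (AdicCompletion ((I.map (algebraMap A C₁)).map (algebraMap C₁ (Localization.Away (algebraMap A C₁ f)))) (Localization.Away (algebraMap A C₁ f)))).comp (algebraMap A C₁)) = algebraMap A (AdicCompletion ((I.map (algebraMap A D₁)).map (algebraMap D₁ (Localization.Away (algebraMap A D₁ f)))) (Localization.Away (algebraMap A D₁ f))) := by
    rw [← RingHom.comp_assoc, hγ₂, RingHom.comp_assoc, hψ₁, ← IsScalarTower.algebraMap_eq]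
  have hD : IsAdicComplete (I.map ((cAwayLift (I.map (algebraMap A C₁)) (I.map (algebraMap A D₁)) ψ₁ (le_of_eq hKCD) (algebraMap A C₁ f) (algebraMap A D₁ f) hxCD).comp ((algebraMap C₁ (AdicCompletion ((I.map (algebraMap A C₁)).map (algebraMap C₁ (Localization.Away (algebraMap A C₁ f)))) (Localization.Away (algebraMap A C₁ f)))).comp (algebraMap A C₁))))
      (AdicCompletion ((I.map (algebraMap A D₁)).map (algebraMap D₁ (Localization.Away (algebraMap A D₁ f)))) (Localization.Away (algebraMap A D₁ f))) := by
    rw [hDeq]; exact hCD₂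
  have hcp4 := hcp3.base (algebraMap A (AdicCompletion (I.map (algebraMap A (Localization.Away f))) (Localization.Away f))) ha (cAwayLift I (I.map (algebraMap A C₁)) (algebraMap A C₁) le_rfl f (algebraMap A C₁ f) rfl) (cAwayLift I (I.map (algebraMap A B)) (algebraMap A B) le_rfl f (algebraMap A B f) rfl) hC hB hD
  have hnaive₁ : ∀ qB : PrimeSpectrum (AdicCompletion ((I.map (algebraMap A B)).map (algebraMap B (Localization.Away (algebraMap A B f)))) (Localization.Away (algebraMap A B f))), IsRig (I.map (algebraMap A (AdicCompletion ((I.map (algebraMap A B)).map (algebraMap B (Localization.Away (algebraMap A B f)))) (Localization.Away (algebraMap A B f))))) qB →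
      Module.Flat (AdicCompletion (I.map (algebraMap A (Localization.Away f))) (Localization.Away f)) (Localization.AtPrime qB.asIdeal) := by
    intro qB hqB
    have c1 := cAwayLift_comp I (I.map (algebraMap A B)) (algebraMap A B) le_rfl f
      (algebraMap A B f) rfl
    rw [awayLift_eq_awayMap] at c1
    have hq2 : IsRig (((I.map (algebraMap A B)).map (algebraMap B (Localization.Away (algebraMap A B f)))).map
        (algebraMap (Localization.Away (algebraMap A B f)) (AdicCompletion ((I.map (algebraMap A B)).map (algebraMap B (Localization.Away (algebraMap A B f)))) (Localization.Away (algebraMap A B f))))) qB := by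
      rw [map_map_eq' A I (Localization.Away (algebraMap A B f)) _ (map_map_away A I B (algebraMap A B f))]
      exact hqB
    have h := hAB f _ c1 qB hq2
    have hqBp : qB.asIdeal.IsPrime := qB.isPrime
    have h' : (algebraMap (AdicCompletion (I.map (algebraMap A (Localization.Away f))) (Localization.Away f)) (Localization.AtPrime qB.asIdeal)).Flat := by
      rw [IsScalarTower.algebraMap_eq (AdicCompletion (I.map (algebraMap A (Localization.Away f))) (Localization.Away f)) (AdicCompletion ((I.map (algebraMap A B)).map (algebraMap B (Localization.Away (algebraMap A B f)))) (Localization.Away (algebraMap A B f))) (Localization.AtPrime qB.asIdeal)]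
      exact h
    exact RingHom.flat_algebraMap_iff.mp h'
  have F1' := F1 (I.map (algebraMap A D₁)) (algebraMap A D₁ f) u (Localization.Away (algebraMap A D₁ f)) q.asIdeal hu
  have F2' := F2 (I.map (algebraMap A D₁)) (algebraMap A D₁ f) u (Localization.Away (algebraMap A D₁ f)) q.asIdeal hu
  have hP := isPrime_map_of_F D₁ (AdicCompletion ((I.map (algebraMap A D₁)).map (algebraMap D₁ (Localization.Away (algebraMap A D₁ f)))) (Localization.Away (algebraMap A D₁ f))) q.asIdeal hqp F1' F2'
  have hrig0 := isRig_map_of_F A I D₁ (AdicCompletion ((I.map (algebraMap A D₁)).map (algebraMap D₁ (Localization.Away (algebraMap A D₁ f)))) (Localization.Away (algebraMap A D₁ f))) q hq F1' F2' hP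
  have hq₂ : IsRig (I.map (algebraMap A (AdicCompletion ((I.map (algebraMap A D₁)).map (algebraMap D₁ (Localization.Away (algebraMap A D₁ f)))) (Localization.Away (algebraMap A D₁ f)))))
      ⟨q.asIdeal.map (algebraMap D₁ (AdicCompletion ((I.map (algebraMap A D₁)).map (algebraMap D₁ (Localization.Away (algebraMap A D₁ f)))) (Localization.Away (algebraMap A D₁ f)))), hP⟩ := by
    rw [← map_map_tower A I D₁ (AdicCompletion ((I.map (algebraMap A D₁)).map (algebraMap D₁ (Localization.Away (algebraMap A D₁ f)))) (Localization.Away (algebraMap A D₁ f)))]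
    exact hrig0
  have hrigA : IsRig (I.map (algebraMap A (AdicCompletion (I.map (algebraMap A (Localization.Away f))) (Localization.Away f)))) (PrimeSpectrum.comap (algebraMap (AdicCompletion (I.map (algebraMap A (Localization.Away f))) (Localization.Away f)) (AdicCompletion ((I.map (algebraMap A D₁)).map (algebraMap D₁ (Localization.Away (algebraMap A D₁ f)))) (Localization.Away (algebraMap A D₁ f))))
      ⟨q.asIdeal.map (algebraMap D₁ (AdicCompletion ((I.map (algebraMap A D₁)).map (algebraMap D₁ (Localization.Away (algebraMap A D₁ f)))) (Localization.Away (algebraMap A D₁ f)))), hP⟩) := by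
    have c3 := cAwayLift_comp I (I.map (algebraMap A D₁)) (algebraMap A D₁) le_rfl f
      (algebraMap A D₁ f) rfl
    rw [awayLift_eq_awayMap] at c3
    obtain ⟨-, h2, h3⟩ := hS _ c3
    exact ⟨h2, fun y hy hIy => PrimeSpectrum.ext (h3 y hy hIy)⟩
  have hmain := abs_main A I (AdicCompletion (I.map (algebraMap A (Localization.Away f))) (Localization.Away f)) hCA₁ (AdicCompletion ((I.map (algebraMap A B)).map (algebraMap B (Localization.Away (algebraMap A B f)))) (Localization.Away (algebraMap A B f))) hCB₁ (AdicCompletion ((I.map (algebraMap A C₁)).map (algebraMap C₁ (Localization.Away (algebraMap A C₁ f)))) (Localization.Away (algebraMap A C₁ f))) hCC₂ hftC₂ (AdicCompletion ((I.map (algebraMap A D₁)).map (algebraMap D₁ (Localization.Away (algebraMap A D₁ f)))) (Localization.Away (algebraMap A D₁ f))) hCD₂ hftD₂ hnaive₁ hcp4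
    ⟨q.asIdeal.map (algebraMap D₁ (AdicCompletion ((I.map (algebraMap A D₁)).map (algebraMap D₁ (Localization.Away (algebraMap A D₁ f)))) (Localization.Away (algebraMap A D₁ f)))), hP⟩ hq₂ hrigA
  let _ : Algebra C₁ D₁ := ψ₁.toAlgebra
  have t7 : IsScalarTower C₁ (AdicCompletion ((I.map (algebraMap A C₁)).map (algebraMap C₁ (Localization.Away (algebraMap A C₁ f)))) (Localization.Away (algebraMap A C₁ f))) (AdicCompletion ((I.map (algebraMap A D₁)).map (algebraMap D₁ (Localization.Away (algebraMap A D₁ f)))) (Localization.Away (algebraMap A D₁ f))) := by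
    refine IsScalarTower.of_algebraMap_eq (fun c => ?_)
    rw [IsScalarTower.algebraMap_apply C₁ D₁ (AdicCompletion ((I.map (algebraMap A D₁)).map (algebraMap D₁ (Localization.Away (algebraMap A D₁ f)))) (Localization.Away (algebraMap A D₁ f)))]
    exact (RingHom.congr_fun hγ₂ c).symm
  have hfl1 : Module.Flat C₁ (AdicCompletion ((I.map (algebraMap A C₁)).map (algebraMap C₁ (Localization.Away (algebraMap A C₁ f)))) (Localization.Away (algebraMap A C₁ f))) := flat_compl C₁ (algebraMap A C₁ f) _
  have hfl2 : Module.Flat D₁ (AdicCompletion ((I.map (algebraMap A D₁)).map (algebraMap D₁ (Localization.Away (algebraMap A D₁ f)))) (Localization.Away (algebraMap A D₁ f))) := flat_compl D₁ (algebraMap A D₁ f) _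
  have hdesc := abs_desc C₁ D₁ (AdicCompletion ((I.map (algebraMap A C₁)).map (algebraMap C₁ (Localization.Away (algebraMap A C₁ f)))) (Localization.Away (algebraMap A C₁ f))) (AdicCompletion ((I.map (algebraMap A D₁)).map (algebraMap D₁ (Localization.Away (algebraMap A D₁ f)))) (Localization.Away (algebraMap A D₁ f))) q.asIdeal F2' hmain
  have h' : (algebraMap C₁ (Localization.AtPrime q.asIdeal)).Flat :=
    RingHom.flat_algebraMap_iff.mpr hdesc
  rw [IsScalarTower.algebraMap_eq C₁ D₁ (Localization.AtPrime q.asIdeal)] at h'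
  exact h'

end Groth.Agent.Lib.Helper63.RigCP
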