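import Groth.Agent.Lib.Helper63.RigCP6

set_option autoImplicit false
set_option linter.unusedSectionVars false
universe u

namespace Groth.Agent.Lib.Helper63.RigCP

open IsLocalRing TensorProduct Groth.Agent.Lib.Helper63.ComplRing
  Groth.Agent.Lib.Helper63.RigClosed Groth.Agent.Lib.Helper63.RigPoly
  Groth.Agent.Lib.Helper63.RigFlat Groth.Agent.Lib.Helper63.RigComp
  Groth.Agent.Lib.Helper63.RigPt Groth.Agent.Lib.Helper63.RigDesc
  Groth.Agent.Lib.Helper63.RigBC

theorem baseChangeCT_aux (A : Type u) [CommRing A] [IsNoetherianRing A] (I : Ideal A)
    [IsAdicComplete I A]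
    (B : Type u) [CommRing B] [Algebra A B] [IsNoetherianRing B]
    [IsAdicComplete (I.map (algebraMap A B)) B]
    (hAB : RigFlat A I B (I.map (algebraMap A B)))
    (C : Type u) [CommRing C] [Algebra A C] [IsNoetherianRing C]
    [IsAdicComplete (I.map (algebraMap A C)) C]
    (hftC : Algebra.FiniteType A (C ⧸ (I.map (algebraMap A C))))
    (D : Type u) [CommRing D] [Algebra A D] [Algebra C D] [IsScalarTower A C D]
    [IsNoetherianRing D] [IsAdicComplete (I.map (algebraMap A D)) D]
    (hftD : Algebra.FiniteType A (D ⧸ (I.map (algebraMap A D))))
    (β₀ : B →+* D) (hβ₀ : β₀.comp (algebraMap A B) = algebraMap A D)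
    (hcp0 : IsCP I (algebraMap A C) (algebraMap A B) (algebraMap C D) β₀) :
    RigFlat C (I.map (algebraMap A C)) D ((I.map (algebraMap A C)).map (algebraMap C D)) := by
  intro h ψh hψ q hq
  have hNTC : IsNoetherianRing (Localization.Away h) :=
    IsLocalization.isNoetherianRing (Submonoid.powers h) _ inferInstance
  have hNTD : IsNoetherianRing (Localization.Away (algebraMap C D h)) :=
    IsLocalization.isNoetherianRing (Submonoid.powers (algebraMap C D h)) _ inferInstance
  have hNC₁ : IsNoetherianRing (AdicCompletion ((I.map (algebraMap A C)).map
      (algebraMap C (Localization.Away h))) (Localization.Away h)) :=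
    Groth.Agent.S0543.result _ _
  have hND₁ : IsNoetherianRing (AdicCompletion (((I.map (algebraMap A C)).map
      (algebraMap C D)).map (algebraMap D (Localization.Away (algebraMap C D h))))
      (Localization.Away (algebraMap C D h))) := Groth.Agent.S0543.result _ _
  have hJC : (I.map (algebraMap A C)).map (algebraMap C (Localization.Away h)) =
      I.map (algebraMap A (Localization.Away h)) := map_map_away A I C h
  have hJD : ((I.map (algebraMap A C)).map (algebraMap C D)).map
      (algebraMap D (Localization.Away (algebraMap C D h))) =
      I.map (algebraMap A (Localization.Away (algebraMap C D h))) := by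
    rw [map_map_tower A I C D, map_map_away]
  have hCC₁ := complete_compl A I C h _ hJC
  have hCD₁ := complete_compl A I D (algebraMap C D h) _ hJD
  have hftC₁ := ft_compl A I C hftC h _ hJC
  have hftD₁ := ft_compl A I D hftD (algebraMap C D h) _ hJD
  have hψC : ∀ c : C, ψh (algebraMap C (AdicCompletion ((I.map (algebraMap A C)).map
      (algebraMap C (Localization.Away h))) (Localization.Away h)) c) =
      algebraMap D (AdicCompletion (((I.map (algebraMap A C)).map
      (algebraMap C D)).map (algebraMap D (Localization.Away (algebraMap C D h))))
      (Localization.Away (algebraMap C D h))) (algebraMap C D c) := by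
    intro c
    have h0 := RingHom.congr_fun hψ (algebraMap C (Localization.Away h) c)
    rw [RingHom.comp_apply, RingHom.comp_apply] at h0
    have h1 : Localization.awayMap (algebraMap C D) h (algebraMap C (Localization.Away h) c) =
        algebraMap D (Localization.Away (algebraMap C D h)) (algebraMap C D c) :=
      IsLocalization.map_eq _ c
    rw [IsScalarTower.algebraMap_apply C (Localization.Away h)
      (AdicCompletion ((I.map (algebraMap A C)).map
      (algebraMap C (Localization.Away h))) (Localization.Away h)), h0, h1]
    rfl
  have hψ₁ : ψh.comp (algebraMap A (AdicCompletion ((I.map (algebraMap A C)).map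
      (algebraMap C (Localization.Away h))) (Localization.Away h))) =
      algebraMap A (AdicCompletion (((I.map (algebraMap A C)).map
      (algebraMap C D)).map (algebraMap D (Localization.Away (algebraMap C D h))))
      (Localization.Away (algebraMap C D h))) := by
    refine RingHom.ext fun a => ?_
    rw [RingHom.comp_apply, IsScalarTower.algebraMap_apply A C (AdicCompletion
      ((I.map (algebraMap A C)).map (algebraMap C (Localization.Away h)))
      (Localization.Away h)), hψC, ← IsScalarTower.algebraMap_apply A C D,
      ← IsScalarTower.algebraMap_apply A D]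
  have hβD : ((algebraMap D (AdicCompletion (((I.map (algebraMap A C)).map
      (algebraMap C D)).map (algebraMap D (Localization.Away (algebraMap C D h))))
      (Localization.Away (algebraMap C D h)))).comp β₀).comp (algebraMap A B) =
      algebraMap A (AdicCompletion (((I.map (algebraMap A C)).map
      (algebraMap C D)).map (algebraMap D (Localization.Away (algebraMap C D h))))
      (Localization.Away (algebraMap C D h))) := by
    rw [RingHom.comp_assoc, hβ₀, ← IsScalarTower.algebraMap_eq]
  have hfg : ∀ (X : Type u) [CommRing X] [IsNoetherianRing X] (J : Ideal X), J.FG :=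
    fun X _ _ J => IsNoetherian.noetherian J
  have hc : IsCU (algebraMap C (AdicCompletion ((I.map (algebraMap A C)).map
      (algebraMap C (Localization.Away h))) (Localization.Away h)))
      (I.map (algebraMap A C)) {h} :=
    IsCU.cAway (I.map (algebraMap A C)) h _ rfl (hfg _ _)
  have hd0 : IsCU (algebraMap D (AdicCompletion (((I.map (algebraMap A C)).map
      (algebraMap C D)).map (algebraMap D (Localization.Away (algebraMap C D h))))
      (Localization.Away (algebraMap C D h))))
      ((I.map (algebraMap A C)).map (algebraMap C D)) {algebraMap C D h} :=
    IsCU.cAway ((I.map (algebraMap A C)).map (algebraMap C D)) (algebraMap C D h) _ rfl (hfg _ _)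
  have hd : IsCU (algebraMap D (AdicCompletion (((I.map (algebraMap A C)).map
      (algebraMap C D)).map (algebraMap D (Localization.Away (algebraMap C D h))))
      (Localization.Away (algebraMap C D h))))
      (I.map ((algebraMap C D).comp (algebraMap A C))) ((algebraMap C D) '' {h}) := by
    rw [Set.image_singleton, ← Ideal.map_map]
    exact hd0
  have hγ : ψh.comp (algebraMap C (AdicCompletion ((I.map (algebraMap A C)).map
      (algebraMap C (Localization.Away h))) (Localization.Away h))) =
      (algebraMap D (AdicCompletion (((I.map (algebraMap A C)).map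
      (algebraMap C D)).map (algebraMap D (Localization.Away (algebraMap C D h))))
      (Localization.Away (algebraMap C D h)))).comp (algebraMap C D) :=
    RingHom.ext hψC
  have hcp1 := hcp0.step _ hc _ hd ψh hγ
  rw [← IsScalarTower.algebraMap_eq A C] at hcp1
  have hq' : IsRig (I.map (algebraMap A (AdicCompletion (((I.map (algebraMap A C)).map
      (algebraMap C D)).map (algebraMap D (Localization.Away (algebraMap C D h))))
      (Localization.Away (algebraMap C D h))))) q := by
    rw [← map_map_eq' A I (Localization.Away (algebraMap C D h)) _ hJD]
    exact hq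
  exact naive_of_cp A I B hAB _ hftC₁ _ hftD₁ ψh hψ₁ _ hβD hcp1 q hq'

theorem baseChangeCT (A : Type u) [CommRing A] [IsNoetherianRing A] (I : Ideal A)
    [IsAdicComplete I A]
    (B : Type u) [CommRing B] [Algebra A B] [IsNoetherianRing B]
    [IsAdicComplete (I.map (algebraMap A B)) B]
    (hftB : Algebra.FiniteType A (B ⧸ (I.map (algebraMap A B))))
    (hAB : RigFlat A I B (I.map (algebraMap A B)))
    (C : Type u) [CommRing C] [Algebra A C] [IsNoetherianRing C]
    [IsAdicComplete (I.map (algebraMap A C)) C]
    (hftC : Algebra.FiniteType A (C ⧸ (I.map (algebraMap A C)))) :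
    RigFlat C (I.map (algebraMap A C))
      (AdicCompletion ((I.map (algebraMap A C)).map (algebraMap C (TensorProduct A C B)))
        (TensorProduct A C B))
      ((I.map (algebraMap A C)).map (algebraMap C
        (AdicCompletion ((I.map (algebraMap A C)).map (algebraMap C (TensorProduct A C B)))
          (TensorProduct A C B)))) := by
  have hJ : (I.map (algebraMap A C)).map (algebraMap C (TensorProduct A C B)) =
      I.map (algebraMap A (TensorProduct A C B)) := map_map_tower A I C (TensorProduct A C B)
  have hfg : ((I.map (algebraMap A C)).map (algebraMap C (TensorProduct A C B))).FG :=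
    Ideal.FG.map (Ideal.FG.map (IsNoetherian.noetherian I) _) _
  have hftT : Algebra.FiniteType A (TensorProduct A C B ⧸
      (I.map (algebraMap A C)).map (algebraMap C (TensorProduct A C B))) := by
    rw [hJ]
    exact ft_tensor A I C B hftC hftB
  have hNQ : IsNoetherianRing (TensorProduct A C B ⧸
      (I.map (algebraMap A C)).map (algebraMap C (TensorProduct A C B))) :=
    Algebra.FiniteType.isNoetherianRing A _
  have hND : IsNoetherianRing (AdicCompletion ((I.map (algebraMap A C)).map
      (algebraMap C (TensorProduct A C B))) (TensorProduct A C B)) :=
    Groth.Agent.S0542.result _ _ hfg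
  have hST : IsScalarTower A C (AdicCompletion ((I.map (algebraMap A C)).map
      (algebraMap C (TensorProduct A C B))) (TensorProduct A C B)) := by
    refine IsScalarTower.of_algebraMap_eq (fun a => ?_)
    rw [IsScalarTower.algebraMap_apply A (TensorProduct A C B) (AdicCompletion _ _),
      IsScalarTower.algebraMap_apply A C (TensorProduct A C B),
      ← IsScalarTower.algebraMap_apply C (TensorProduct A C B) (AdicCompletion _ _)]
  have hCD := isAdicComplete_completionNN A I (TensorProduct A C B) _ hJ hfg
  have hftD := finiteType_completion_quotientNN A I (TensorProduct A C B) _ hJ hfg hftT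
  have hβ₀ : ((algebraMap (TensorProduct A C B) (AdicCompletion ((I.map (algebraMap A C)).map
      (algebraMap C (TensorProduct A C B))) (TensorProduct A C B))).comp
      (Algebra.TensorProduct.includeRight : B →ₐ[A] TensorProduct A C B).toRingHom).comp
      (algebraMap A B) = algebraMap A (AdicCompletion ((I.map (algebraMap A C)).map
      (algebraMap C (TensorProduct A C B))) (TensorProduct A C B)) := by
    refine RingHom.ext fun a => ?_
    simp only [RingHom.comp_apply]
    rw [IsScalarTower.algebraMap_apply A (TensorProduct A C B) (AdicCompletion _ _)]
    congr 1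
    exact (Algebra.TensorProduct.includeRight : B →ₐ[A] TensorProduct A C B).commutes a
  have hcp0 := isCP_tensor A I C B _ hJ hfg
  exact baseChangeCT_aux A I B hAB C hftC _ hftD _ hβ₀ hcp0

end Groth.Agent.Lib.Helper63.RigCP
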