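import Groth.Agent.Lib.Helper63.RigFlat
import Groth.Agent.Lib.Helper54.ComplFlat

set_option autoImplicit false
universe u

namespace Groth.Agent.Lib.Helper63.RigComp


open IsLocalRing TensorProduct Groth.Agent.Lib.Helper63.ComplRing
  Groth.Agent.Lib.Helper63.RigClosed Groth.Agent.Lib.Helper63.RigPoly
  Groth.Agent.Lib.Helper63.RigFlat

theorem ringHom_ext_of_comp_algebraMap {T D : Type u} [CommRing T] [CommRing D] (J : Ideal T)
    (hJ : J.FG) (K : Ideal D) [IsHausdorff K D]
    (φ₁ φ₂ : AdicCompletion J T →+* D)
    (h : φ₁.comp (algebraMap T (AdicCompletion J T)) = φ₂.comp (algebraMap T (AdicCompletion J T)))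
    (hK : J.map (φ₁.comp (algebraMap T (AdicCompletion J T))) ≤ K) : φ₁ = φ₂ := by
  refine RingHom.ext fun x => ?_
  rw [← sub_eq_zero]
  refine IsHausdorff.haus ‹_› _ (fun n => ?_)
  rw [SModEq.zero, smul_eq_mul, Ideal.mul_top]
  obtain ⟨t, ht⟩ := exists_sub_mem J hJ x n
  have h1 : ∀ φ : AdicCompletion J T →+* D,
      J.map (φ.comp (algebraMap T (AdicCompletion J T))) ≤ K →
      φ (x - algebraMap T (AdicCompletion J T) t) ∈ K ^ n := by
    intro φ hφ
    have h2 : φ (x - algebraMap T (AdicCompletion J T) t) ∈
        ((J.map (algebraMap T (AdicCompletion J T))) ^ n).map φ := Ideal.mem_map_of_mem _ ht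
    rw [Ideal.map_pow, Ideal.map_map] at h2
    exact Ideal.pow_right_mono hφ n h2
  have hK2 : J.map (φ₂.comp (algebraMap T (AdicCompletion J T))) ≤ K := by rw [← h]; exact hK
  have e : φ₁ x - φ₂ x = φ₁ (x - algebraMap T (AdicCompletion J T) t) -
      φ₂ (x - algebraMap T (AdicCompletion J T) t) := by
    have h3 := RingHom.congr_fun h t
    rw [RingHom.comp_apply, RingHom.comp_apply] at h3
    rw [map_sub, map_sub, h3]
    ring
  rw [e]
  exact Ideal.sub_mem _ (h1 φ₁ hK) (h1 φ₂ hK2)

theorem exists_isRig_ge {Bh : Type u} [CommRing Bh] [IsNoetherianRing Bh] (K : Ideal Bh)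
    (q : PrimeSpectrum Bh) (hq : ¬ K ≤ q.asIdeal) :
    ∃ q₁ : PrimeSpectrum Bh, q ≤ q₁ ∧ IsRig K q₁ := by
  let S : Set (Ideal Bh) := {y | y.IsPrime ∧ q.asIdeal ≤ y ∧ ¬ K ≤ y}
  have hSne : S.Nonempty := ⟨q.asIdeal, q.isPrime, le_rfl, hq⟩
  obtain ⟨q₁, hq₁S, hq₁max⟩ := (wellFounded_gt (α := Ideal Bh)).has_min S hSne
  refine ⟨⟨q₁, hq₁S.1⟩, hq₁S.2.1, hq₁S.2.2, fun y hy hKy => ?_⟩
  have hyS : y.asIdeal ∈ S := ⟨y.isPrime, hq₁S.2.1.trans hy, hKy⟩
  have hnot := hq₁max y.asIdeal hyS
  have hle : q₁ ≤ y.asIdeal := hy
  have : y.asIdeal = q₁ := by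
    by_contra hne
    exact hnot (lt_of_le_of_ne hle (fun h => hne h.symm))
  exact PrimeSpectrum.ext this

theorem flat_atPrime_of_le {Ah Bh : Type u} [CommRing Ah] [CommRing Bh] (φ : Ah →+* Bh)
    (q q₁ : Ideal Bh) [q.IsPrime] [q₁.IsPrime] (hle : q ≤ q₁)
    (h : ((algebraMap Bh (Localization.AtPrime q₁)).comp φ).Flat) :
    ((algebraMap Bh (Localization.AtPrime q)).comp φ).Flat := by
  let _ : Algebra Ah Bh := φ.toAlgebra
  have e1 : (algebraMap Bh (Localization.AtPrime q₁)).comp φ =
      algebraMap Ah (Localization.AtPrime q₁) :=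
    (IsScalarTower.algebraMap_eq Ah Bh (Localization.AtPrime q₁)).symm
  have e2 : (algebraMap Bh (Localization.AtPrime q)).comp φ =
      algebraMap Ah (Localization.AtPrime q) :=
    (IsScalarTower.algebraMap_eq Ah Bh (Localization.AtPrime q)).symm
  rw [e1, RingHom.flat_algebraMap_iff] at h
  rw [e2, RingHom.flat_algebraMap_iff]
  have hcompl : q₁.primeCompl ≤ q.primeCompl := fun x hx hxq => hx (hle hxq)
  let ρ : Localization.AtPrime q₁ →+* Localization.AtPrime q :=
    IsLocalization.lift (M := q₁.primeCompl) (g := algebraMap Bh (Localization.AtPrime q))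
      (fun y => IsLocalization.map_units (M := q.primeCompl) _ ⟨y.1, hcompl y.2⟩)
  let _ : Algebra (Localization.AtPrime q₁) (Localization.AtPrime q) := ρ.toAlgebra
  have hST : IsScalarTower Bh (Localization.AtPrime q₁) (Localization.AtPrime q) :=
    IsScalarTower.of_algebraMap_eq (fun b => (IsLocalization.lift_eq _ b).symm)
  have hloc : IsLocalization (q.primeCompl.map (algebraMap Bh (Localization.AtPrime q₁)))
      (Localization.AtPrime q) :=
    IsLocalization.isLocalization_of_submonoid_le _ _ q₁.primeCompl q.primeCompl hcompl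
  have hfl : Module.Flat (Localization.AtPrime q₁) (Localization.AtPrime q) :=
    IsLocalization.flat _ (q.primeCompl.map (algebraMap Bh (Localization.AtPrime q₁)))
  have hST2 : IsScalarTower Ah (Localization.AtPrime q₁) (Localization.AtPrime q) := by
    refine IsScalarTower.of_algebraMap_eq (fun a => ?_)
    rw [IsScalarTower.algebraMap_apply Ah Bh (Localization.AtPrime q),
      IsScalarTower.algebraMap_apply Ah Bh (Localization.AtPrime q₁),
      ← IsScalarTower.algebraMap_apply Bh (Localization.AtPrime q₁) (Localization.AtPrime q)]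
  exact Module.Flat.trans Ah (Localization.AtPrime q₁) _

theorem flat_comp_atPrime {Ah Bh Ch : Type u} [CommRing Ah] [CommRing Bh] [CommRing Ch]
    [IsNoetherianRing Bh] (φ : Ah →+* Bh) (χ : Bh →+* Ch) (KB : Ideal Bh) (KC : Ideal Ch)
    (hK : KC ≤ KB.map χ)
    (H1 : ∀ q₁ : PrimeSpectrum Bh, IsRig KB q₁ →
      ((algebraMap Bh (Localization.AtPrime q₁.asIdeal)).comp φ).Flat)
    (r : PrimeSpectrum Ch) (hr : ¬ KC ≤ r.asIdeal)
    (H2 : ((algebraMap Ch (Localization.AtPrime r.asIdeal)).comp χ).Flat) :
    ((algebraMap Ch (Localization.AtPrime r.asIdeal)).comp (χ.comp φ)).Flat := by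
  have hrp : r.asIdeal.IsPrime := r.isPrime
  have hqp : (PrimeSpectrum.comap χ r).asIdeal.IsPrime := (PrimeSpectrum.comap χ r).isPrime
  have hq : ¬ KB ≤ (PrimeSpectrum.comap χ r).asIdeal := by
    intro hle
    exact hr (hK.trans (Ideal.map_le_iff_le_comap.mpr hle))
  obtain ⟨q₁, hqq₁, hq₁rig⟩ := exists_isRig_ge KB _ hq
  have hq₁p : q₁.asIdeal.IsPrime := q₁.isPrime
  have hfq := flat_atPrime_of_le φ (PrimeSpectrum.comap χ r).asIdeal q₁.asIdeal hqq₁
    (H1 q₁ hq₁rig)
  let _ : Algebra Ah Bh := φ.toAlgebra
  let _ : Algebra Bh Ch := χ.toAlgebra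
  let _ : Algebra Ah Ch := (χ.comp φ).toAlgebra
  have hST : IsScalarTower Ah Bh Ch := IsScalarTower.of_algebraMap_eq' rfl
  have e1 : (algebraMap Bh (Localization.AtPrime (PrimeSpectrum.comap χ r).asIdeal)).comp φ =
      algebraMap Ah (Localization.AtPrime (PrimeSpectrum.comap χ r).asIdeal) :=
    (IsScalarTower.algebraMap_eq Ah Bh _).symm
  have e2 : (algebraMap Ch (Localization.AtPrime r.asIdeal)).comp χ =
      algebraMap Bh (Localization.AtPrime r.asIdeal) :=
    (IsScalarTower.algebraMap_eq Bh Ch _).symm
  have e3 : (algebraMap Ch (Localization.AtPrime r.asIdeal)).comp (χ.comp φ) =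
      algebraMap Ah (Localization.AtPrime r.asIdeal) :=
    (IsScalarTower.algebraMap_eq Ah Ch _).symm
  rw [e1, RingHom.flat_algebraMap_iff] at hfq
  rw [e2, RingHom.flat_algebraMap_iff] at H2
  rw [e3, RingHom.flat_algebraMap_iff]
  have hlo : r.asIdeal.LiesOver (PrimeSpectrum.comap χ r).asIdeal := ⟨rfl⟩
  let _ := Localization.AtPrime.algebraOfLiesOver (PrimeSpectrum.comap χ r).asIdeal r.asIdeal
  have hfl : Module.Flat (Localization.AtPrime (PrimeSpectrum.comap χ r).asIdeal)
      (Localization.AtPrime r.asIdeal) :=
    (Module.flat_iff_of_isLocalization (Localization.AtPrime (PrimeSpectrum.comap χ r).asIdeal)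
      (PrimeSpectrum.comap χ r).asIdeal.primeCompl (Localization.AtPrime r.asIdeal)).mpr H2
  exact Module.Flat.trans Ah (Localization.AtPrime (PrimeSpectrum.comap χ r).asIdeal) _



section CA

variable {R S : Type u} [CommRing R] [CommRing S] (K : Ideal R) (L : Ideal S) (φ : R →+* S)
  (hKL : K.map φ ≤ L) (x : R) (y : S) (hxy : φ x = y)

include hxy in
theorem isUnit_awayLift : IsUnit ((algebraMap S (Localization.Away y)).comp φ x) := by
  rw [RingHom.comp_apply, hxy]
  exact IsLocalization.Away.algebraMap_isUnit y

noncomputable def awayLift : Localization.Away x →+* Localization.Away y :=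
  IsLocalization.Away.lift x (isUnit_awayLift φ x y hxy)

theorem awayLift_comp : (awayLift φ x y hxy).comp (algebraMap R (Localization.Away x)) =
    (algebraMap S (Localization.Away y)).comp φ :=
  IsLocalization.Away.lift_comp x (isUnit_awayLift φ x y hxy)

include hKL in
theorem map_awayLift_le : (K.map (algebraMap R (Localization.Away x))).map (awayLift φ x y hxy) ≤
    L.map (algebraMap S (Localization.Away y)) := by
  rw [Ideal.map_map, awayLift_comp, ← Ideal.map_map]
  exact Ideal.map_mono hKL

noncomputable def cAwayLift :
    AdicCompletion (K.map (algebraMap R (Localization.Away x))) (Localization.Away x) →+*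
    AdicCompletion (L.map (algebraMap S (Localization.Away y))) (Localization.Away y) :=
  FSch.complMap _ _ (awayLift φ x y hxy) (map_awayLift_le K L φ hKL x y hxy)

theorem cAwayLift_comp : (cAwayLift K L φ hKL x y hxy).comp
    (algebraMap (Localization.Away x)
      (AdicCompletion (K.map (algebraMap R (Localization.Away x))) (Localization.Away x))) =
    (algebraMap (Localization.Away y)
      (AdicCompletion (L.map (algebraMap S (Localization.Away y))) (Localization.Away y))).comp
      (awayLift φ x y hxy) :=
  RingHom.ext fun t => Groth.Agent.Lib.Helper54.ComplFlat.complMap_algebraMap _ _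
    (awayLift φ x y hxy) (map_awayLift_le K L φ hKL x y hxy) t

theorem cAwayLift_algebraMap (r : R) : cAwayLift K L φ hKL x y hxy
    (algebraMap R (AdicCompletion (K.map (algebraMap R (Localization.Away x)))
      (Localization.Away x)) r) =
    algebraMap S (AdicCompletion (L.map (algebraMap S (Localization.Away y)))
      (Localization.Away y)) (φ r) := by
  have h1 := RingHom.congr_fun (cAwayLift_comp K L φ hKL x y hxy)
    (algebraMap R (Localization.Away x) r)
  have h2 := RingHom.congr_fun (awayLift_comp φ x y hxy) r
  rw [RingHom.comp_apply, RingHom.comp_apply] at h1 h2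
  rw [IsScalarTower.algebraMap_apply R (Localization.Away x), h1, h2]
  rfl

end CA

theorem isHausdorff_completion {T : Type u} [CommRing T] [IsNoetherianRing T] (J : Ideal T) :
    IsHausdorff (J.map (algebraMap T (AdicCompletion J T))) (AdicCompletion J T) := by
  have hJ : J.FG := IsNoetherian.noetherian J
  have h1 : IsAdicComplete J (AdicCompletion J T) := AdicCompletion.isAdicComplete hJ
  have h2 : IsAdicComplete (J.map (algebraMap T (AdicCompletion J T))) (AdicCompletion J T) :=
    (IsAdicComplete.map_algebraMap_iff (S := AdicCompletion J T) J (AdicCompletion J T)).mpr h1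
  exact h2.toIsHausdorff

theorem map_four {R₁ R₂ R₃ R₄ : Type u} [CommRing R₁] [CommRing R₂] [CommRing R₃] [CommRing R₄]
    (f₁₂ : R₁ →+* R₂) (f₂₄ : R₂ →+* R₄) (f₁₃ : R₁ →+* R₃) (f₃₄ : R₃ →+* R₄)
    (h : f₂₄.comp f₁₂ = f₃₄.comp f₁₃) (I : Ideal R₁) :
    (I.map f₁₂).map f₂₄ = (I.map f₁₃).map f₃₄ := by
  rw [Ideal.map_map, Ideal.map_map, h]

theorem awayLift_eq_awayMap {R S : Type u} [CommRing R] [CommRing S] (φ : R →+* S) (x : R) :
    awayLift φ x (φ x) rfl = Localization.awayMap φ x := by
  refine IsLocalization.ringHom_ext (Submonoid.powers x) ?_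
  rw [awayLift_comp]
  exact (IsLocalization.map_comp _).symm

def RigFlat (A : Type u) [CommRing A] (I : Ideal A) (B : Type u) [CommRing B] [Algebra A B]
    (J : Ideal B) : Prop :=
  ∀ f : A, ∀ ψ : (AdicCompletion (I.map (algebraMap A (Localization.Away f)))
      (Localization.Away f)) →+*
      (AdicCompletion (J.map (algebraMap B (Localization.Away (algebraMap A B f))))
        (Localization.Away (algebraMap A B f))),
    ψ.comp (algebraMap (Localization.Away f)
      (AdicCompletion (I.map (algebraMap A (Localization.Away f))) (Localization.Away f))) =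
    (algebraMap (Localization.Away (algebraMap A B f))
      (AdicCompletion (J.map (algebraMap B (Localization.Away (algebraMap A B f))))
        (Localization.Away (algebraMap A B f)))).comp (Localization.awayMap (algebraMap A B) f) →
    ∀ q : PrimeSpectrum (AdicCompletion (J.map (algebraMap B (Localization.Away (algebraMap A B f))))
        (Localization.Away (algebraMap A B f))),
      IsRig ((J.map (algebraMap B (Localization.Away (algebraMap A B f)))).map
        (algebraMap (Localization.Away (algebraMap A B f))
          (AdicCompletion (J.map (algebraMap B (Localization.Away (algebraMap A B f))))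
            (Localization.Away (algebraMap A B f))))) q →
      ((algebraMap (AdicCompletion (J.map (algebraMap B (Localization.Away (algebraMap A B f))))
        (Localization.Away (algebraMap A B f))) (Localization.AtPrime q.asIdeal)).comp ψ).Flat

theorem comp_aux (A : Type u) [CommRing A] [IsNoetherianRing A] (I : Ideal A)
    (B : Type u) [CommRing B] [Algebra A B] [IsNoetherianRing B] (J : Ideal B)
    (hJ : J = I.map (algebraMap A B))
    (C : Type u) [CommRing C] [Algebra B C] [IsNoetherianRing C]
    (hAB : RigFlat A I B J) (hBC : RigFlat B J C (J.map (algebraMap B C)))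
    (e : A) (x : C) (hx : x = algebraMap B C (algebraMap A B e)) (K : Ideal C)
    (hK : K = J.map (algebraMap B C))
    (θ : Localization.Away e →+* Localization.Away x)
    (hθ : θ.comp (algebraMap A (Localization.Away e)) =
      (algebraMap C (Localization.Away x)).comp ((algebraMap B C).comp (algebraMap A B)))
    (ψe : AdicCompletion (I.map (algebraMap A (Localization.Away e))) (Localization.Away e) →+*
      AdicCompletion (K.map (algebraMap C (Localization.Away x))) (Localization.Away x))
    (hψe : ψe.comp (algebraMap (Localization.Away e)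
      (AdicCompletion (I.map (algebraMap A (Localization.Away e))) (Localization.Away e))) =
      (algebraMap (Localization.Away x)
        (AdicCompletion (K.map (algebraMap C (Localization.Away x))) (Localization.Away x))).comp θ)
    (qe : PrimeSpectrum (AdicCompletion (K.map (algebraMap C (Localization.Away x)))
      (Localization.Away x)))
    (hqe : IsRig ((K.map (algebraMap C (Localization.Away x))).map
      (algebraMap (Localization.Away x)
        (AdicCompletion (K.map (algebraMap C (Localization.Away x))) (Localization.Away x)))) qe) :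
    ((algebraMap (AdicCompletion (K.map (algebraMap C (Localization.Away x)))
      (Localization.Away x)) (Localization.AtPrime qe.asIdeal)).comp ψe).Flat := by
  subst hx hK
  have hNA : IsNoetherianRing (Localization.Away e) :=
    IsLocalization.isNoetherianRing (Submonoid.powers e) _ inferInstance
  have hNB : IsNoetherianRing (Localization.Away (algebraMap A B e)) :=
    IsLocalization.isNoetherianRing (Submonoid.powers (algebraMap A B e)) _ inferInstance
  have hNC : IsNoetherianRing (Localization.Away (algebraMap B C (algebraMap A B e))) :=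
    IsLocalization.isNoetherianRing (Submonoid.powers (algebraMap B C (algebraMap A B e))) _
      inferInstance
  have hNBh : IsNoetherianRing (AdicCompletion
      (J.map (algebraMap B (Localization.Away (algebraMap A B e))))
      (Localization.Away (algebraMap A B e))) := Groth.Agent.S0543.result _ _
  have hIJ : I.map (algebraMap A B) ≤ J := hJ ▸ le_rfl
  have c1 := cAwayLift_comp I J (algebraMap A B) hIJ e (algebraMap A B e) rfl
  have c2 := cAwayLift_comp J (J.map (algebraMap B C)) (algebraMap B C) le_rfl
    (algebraMap A B e) (algebraMap B C (algebraMap A B e)) rfl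
  have a1 := awayLift_comp (algebraMap A B) e (algebraMap A B e) rfl
  have a2 := awayLift_comp (algebraMap B C) (algebraMap A B e)
    (algebraMap B C (algebraMap A B e)) rfl
  have c1' := c1
  rw [awayLift_eq_awayMap] at c1'
  have c2' := c2
  rw [awayLift_eq_awayMap] at c2'
  have H1 := hAB e (cAwayLift I J (algebraMap A B) hIJ e (algebraMap A B e) rfl) c1'
  have H2 := hBC (algebraMap A B e) (cAwayLift J (J.map (algebraMap B C)) (algebraMap B C) le_rfl
    (algebraMap A B e) (algebraMap B C (algebraMap A B e)) rfl) c2' qe hqe
  have e1 : (J.map (algebraMap B (Localization.Away (algebraMap A B e)))).map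
      (awayLift (algebraMap B C) (algebraMap A B e) (algebraMap B C (algebraMap A B e)) rfl) =
      (J.map (algebraMap B C)).map (algebraMap C
        (Localization.Away (algebraMap B C (algebraMap A B e)))) :=
    map_four _ _ _ _ a2 J
  have e2 := map_four _ _ _ _ c2 (J.map (algebraMap B (Localization.Away (algebraMap A B e))))
  have hKK : (((J.map (algebraMap B C)).map (algebraMap C
      (Localization.Away (algebraMap B C (algebraMap A B e))))).map
      (algebraMap (Localization.Away (algebraMap B C (algebraMap A B e)))
        (AdicCompletion ((J.map (algebraMap B C)).map (algebraMap C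
          (Localization.Away (algebraMap B C (algebraMap A B e)))))
          (Localization.Away (algebraMap B C (algebraMap A B e)))))) ≤
      ((J.map (algebraMap B (Localization.Away (algebraMap A B e)))).map
        (algebraMap (Localization.Away (algebraMap A B e))
          (AdicCompletion (J.map (algebraMap B (Localization.Away (algebraMap A B e))))
            (Localization.Away (algebraMap A B e))))).map
        (cAwayLift J (J.map (algebraMap B C)) (algebraMap B C) le_rfl
          (algebraMap A B e) (algebraMap B C (algebraMap A B e)) rfl) :=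
    (Ideal.map_mono (le_of_eq e1.symm)).trans (le_of_eq e2.symm)
  have Hfl := flat_comp_atPrime (cAwayLift I J (algebraMap A B) hIJ e (algebraMap A B e) rfl)
    (cAwayLift J (J.map (algebraMap B C)) (algebraMap B C) le_rfl
      (algebraMap A B e) (algebraMap B C (algebraMap A B e)) rfl) _ _ hKK H1 qe hqe.1 H2
  have hθeq : θ = (awayLift (algebraMap B C) (algebraMap A B e)
      (algebraMap B C (algebraMap A B e)) rfl).comp
      (awayLift (algebraMap A B) e (algebraMap A B e) rfl) := by
    refine IsLocalization.ringHom_ext (Submonoid.powers e) ?_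
    rw [hθ]
    refine RingHom.ext fun a => ?_
    have h1 := RingHom.congr_fun a1 a
    have h2 := RingHom.congr_fun a2 (algebraMap A B a)
    simp only [RingHom.comp_apply] at h1 h2 ⊢
    rw [h1, h2]
  have hHaus := isHausdorff_completion ((J.map (algebraMap B C)).map (algebraMap C
      (Localization.Away (algebraMap B C (algebraMap A B e)))))
  have hψeq : ψe = (cAwayLift J (J.map (algebraMap B C)) (algebraMap B C) le_rfl
      (algebraMap A B e) (algebraMap B C (algebraMap A B e)) rfl).comp
      (cAwayLift I J (algebraMap A B) hIJ e (algebraMap A B e) rfl) := by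
    refine ringHom_ext_of_comp_algebraMap (I.map (algebraMap A (Localization.Away e)))
      (IsNoetherian.noetherian _) (((J.map (algebraMap B C)).map (algebraMap C
      (Localization.Away (algebraMap B C (algebraMap A B e))))).map
      (algebraMap (Localization.Away (algebraMap B C (algebraMap A B e)))
        (AdicCompletion ((J.map (algebraMap B C)).map (algebraMap C
          (Localization.Away (algebraMap B C (algebraMap A B e)))))
          (Localization.Away (algebraMap B C (algebraMap A B e)))))) _ _ ?_ ?_
    · refine RingHom.ext fun t => ?_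
      have h1 := RingHom.congr_fun hψe t
      have h2 := RingHom.congr_fun c1 t
      have h3 := RingHom.congr_fun c2 (awayLift (algebraMap A B) e (algebraMap A B e) rfl t)
      have h4 := RingHom.congr_fun hθeq t
      simp only [RingHom.comp_apply] at h1 h2 h3 h4 ⊢
      rw [h1, h2, h3, h4]
    · have e3 : (I.map (algebraMap A (Localization.Away e))).map θ =
          (J.map (algebraMap B C)).map (algebraMap C
            (Localization.Away (algebraMap B C (algebraMap A B e)))) := by
        rw [Ideal.map_map, hθ, hJ, ← Ideal.map_map, ← Ideal.map_map]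
      rw [hψe, ← Ideal.map_map, e3]
  rw [hψeq]
  exact Hfl

end Groth.Agent.Lib.Helper63.RigComp
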