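import Groth.Agent.Lib.Helper63.RigPoly
import Groth.Agent.Lib.Helper63.ComplFlat
import Groth.Agent.Lib.Helper24.LocalCritPow

set_option autoImplicit false
set_option linter.unusedSectionVars false
universe u

namespace Groth.Agent.Lib.Helper63.RigFlat

open IsLocalRing TensorProduct Groth.Agent.Lib.Helper63.ComplRing
  Groth.Agent.Lib.Helper63.RigClosed Groth.Agent.Lib.Helper63.RigPoly

theorem flat_of_flat_of_surj {R₀ R₁ S₁ : Type u} [CommRing R₀] [CommRing R₁] [CommRing S₁]
    [IsNoetherianRing R₁] [IsNoetherianRing S₁]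
    [Algebra R₀ R₁] [Algebra R₁ S₁] [Algebra R₀ S₁] [IsScalarTower R₀ R₁ S₁]
    (m₀ : Ideal R₀) (m₁ : Ideal R₁)
    (hgen : m₀.map (algebraMap R₀ R₁) = m₁)
    (hsurj : ∀ (n : ℕ) (y : R₁), ∃ x : R₀, y - algebraMap R₀ R₁ x ∈ m₁ ^ n)
    (hjac : m₁.map (algebraMap R₁ S₁) ≤ Ideal.jacobson ⊥)
    [Module.Flat R₀ S₁] : Module.Flat R₁ S₁ := by
  refine Groth.Agent.Lib.Helper24.LocalCritPow.flat_of_forall_flat_quotient_pow R₁ S₁ S₁ m₁ hjac ?_
  intro n _
  have hA : Function.Surjective (algebraMap R₀ (R₀ ⧸ m₀ ^ n)) := Ideal.Quotient.mk_surjective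
  have hA' : Function.Surjective (algebraMap R₀ (R₁ ⧸ m₁ ^ n)) := by
    intro y
    obtain ⟨y, rfl⟩ := Ideal.Quotient.mk_surjective y
    obtain ⟨x, hx⟩ := hsurj n y
    refine ⟨x, ?_⟩
    rw [IsScalarTower.algebraMap_apply R₀ R₁ (R₁ ⧸ m₁ ^ n)]
    symm
    exact Ideal.Quotient.eq.mpr hx
  have hker : RingHom.ker (algebraMap R₀ (R₀ ⧸ m₀ ^ n)) ≤
      RingHom.ker (algebraMap R₀ (R₁ ⧸ m₁ ^ n)) := by
    intro x hx
    rw [RingHom.mem_ker] at hx ⊢
    have hx' : x ∈ m₀ ^ n := Ideal.Quotient.eq_zero_iff_mem.mp hx
    rw [IsScalarTower.algebraMap_apply R₀ R₁ (R₁ ⧸ m₁ ^ n)]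
    refine Ideal.Quotient.eq_zero_iff_mem.mpr ?_
    rw [← hgen, ← Ideal.map_pow]
    exact Ideal.mem_map_of_mem _ hx'
  have hsm : (m₁ ^ n • (⊤ : Submodule R₁ S₁)).restrictScalars R₀ =
      m₀ ^ n • (⊤ : Submodule R₀ S₁) := by
    rw [← hgen, ← Ideal.map_pow, Ideal.smul_restrictScalars, Submodule.restrictScalars_top]
  let e : ((R₀ ⧸ m₀ ^ n) ⊗[R₀] S₁) ≃ₗ[R₀] ((R₁ ⧸ m₁ ^ n) ⊗[R₁] S₁) :=
    (TensorProduct.quotTensorEquivQuotSMul S₁ (m₀ ^ n)) ≪≫ₗ
    (Submodule.quotEquivOfEq _ _ hsm.symm) ≪≫ₗ
    ((TensorProduct.quotTensorEquivQuotSMul S₁ (m₁ ^ n)).restrictScalars R₀).symm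
  exact Groth.Agent.Lib.Helper63.ComplFlat.flat_of_surjective_of_equiv hA hA' hker e

section Compl

variable (A : Type u) [CommRing A] [IsNoetherianRing A] (I : Ideal A) [IsAdicComplete I A]
  (T : Type u) [CommRing T] [Algebra A T] [IsNoetherianRing T]

theorem gen_and_surj (hft : Algebra.FiniteType A (T ⧸ I.map (algebraMap A T)))
    (q : PrimeSpectrum (AdicCompletion (I.map (algebraMap A T)) T))
    (hq : IsRig (I.map (algebraMap A (AdicCompletion (I.map (algebraMap A T)) T))) q)
    (hp : IsRig I (PrimeSpectrum.comap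
      (algebraMap A (AdicCompletion (I.map (algebraMap A T)) T)) q)) :
    q.asIdeal = (PrimeSpectrum.comap
      (algebraMap T (AdicCompletion (I.map (algebraMap A T)) T)) q).asIdeal.map
      (algebraMap T (AdicCompletion (I.map (algebraMap A T)) T)) ∧
    ∀ s : AdicCompletion (I.map (algebraMap A T)) T, ∃ r : T,
      s - algebraMap T (AdicCompletion (I.map (algebraMap A T)) T) r ∈ q.asIdeal := by
  have hN : IsNoetherianRing (AdicCompletion (I.map (algebraMap A T)) T) :=
    Groth.Agent.S0543.result T _
  have hC := isAdicComplete_completion A I T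
  have hftB := finiteType_completion_quotient A I T hft
  have hfin : Module.Finite A (AdicCompletion (I.map (algebraMap A T)) T ⧸ q.asIdeal) :=
    ((tfae_rig_closed_comap A I (AdicCompletion (I.map (algebraMap A T)) T) hftB q hq).out 1 2).mp hp
  have hqp : q.asIdeal.IsPrime := q.isPrime
  have hq'p : (PrimeSpectrum.comap
      (algebraMap T (AdicCompletion (I.map (algebraMap A T)) T)) q).asIdeal.IsPrime :=
    (PrimeSpectrum.comap (algebraMap T (AdicCompletion (I.map (algebraMap A T)) T)) q).isPrime
  have hmem : ∀ t : T, t ∈ (PrimeSpectrum.comap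
      (algebraMap T (AdicCompletion (I.map (algebraMap A T)) T)) q).asIdeal ↔
      algebraMap T (AdicCompletion (I.map (algebraMap A T)) T) t ∈ q.asIdeal := fun t => Iff.rfl
  have hle : (PrimeSpectrum.comap
      (algebraMap T (AdicCompletion (I.map (algebraMap A T)) T)) q).asIdeal ≤
      Ideal.comap (IsScalarTower.toAlgHom A T (AdicCompletion (I.map (algebraMap A T)) T))
        q.asIdeal := fun t ht => ht
  have hinj : Function.Injective (Ideal.quotientMapₐ q.asIdeal
      (IsScalarTower.toAlgHom A T (AdicCompletion (I.map (algebraMap A T)) T)) hle) := by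
    rw [injective_iff_map_eq_zero]
    intro y hy
    obtain ⟨t, rfl⟩ := Ideal.Quotient.mk_surjective y
    rw [Ideal.quotient_map_mkₐ] at hy
    have h1 : algebraMap T (AdicCompletion (I.map (algebraMap A T)) T) t ∈ q.asIdeal :=
      Ideal.Quotient.eq_zero_iff_mem.mp hy
    exact Ideal.Quotient.eq_zero_iff_mem.mpr ((hmem t).mpr h1)
  have hNoeth : IsNoetherian A (AdicCompletion (I.map (algebraMap A T)) T ⧸ q.asIdeal) :=
    isNoetherian_of_isNoetherianRing_of_finite A _
  have hfinN : Module.Finite A (T ⧸ (PrimeSpectrum.comap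
      (algebraMap T (AdicCompletion (I.map (algebraMap A T)) T)) q).asIdeal) :=
    Module.Finite.of_injective (Ideal.quotientMapₐ q.asIdeal
      (IsScalarTower.toAlgHom A T (AdicCompletion (I.map (algebraMap A T)) T)) hle).toLinearMap hinj
  have hcompl : IsAdicComplete I (T ⧸ (PrimeSpectrum.comap
      (algebraMap T (AdicCompletion (I.map (algebraMap A T)) T)) q).asIdeal) :=
    Groth.Agent.S3866.result A I _
  have hprec : IsPrecomplete (I.map (algebraMap A T)) (T ⧸ (PrimeSpectrum.comap
      (algebraMap T (AdicCompletion (I.map (algebraMap A T)) T)) q).asIdeal) :=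
    (IsPrecomplete.map_algebraMap_iff (R := A) (S := T) (I := I)).mpr hcompl.toIsPrecomplete
  have hdec := exists_sub_mem_map (I.map (algebraMap A T)) _ hprec
  have hmapcomap : (PrimeSpectrum.comap
      (algebraMap T (AdicCompletion (I.map (algebraMap A T)) T)) q).asIdeal.map
      (algebraMap T (AdicCompletion (I.map (algebraMap A T)) T)) ≤ q.asIdeal :=
    Ideal.map_comap_le
  have hsurj : ∀ s : AdicCompletion (I.map (algebraMap A T)) T, ∃ r : T,
      s - algebraMap T (AdicCompletion (I.map (algebraMap A T)) T) r ∈ q.asIdeal := by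
    intro s
    obtain ⟨r, hr⟩ := hdec s
    exact ⟨r, hmapcomap hr⟩
  have hgen : q.asIdeal = (PrimeSpectrum.comap
      (algebraMap T (AdicCompletion (I.map (algebraMap A T)) T)) q).asIdeal.map
      (algebraMap T (AdicCompletion (I.map (algebraMap A T)) T)) := by
    refine le_antisymm (fun y hy => ?_) hmapcomap
    obtain ⟨r, hr⟩ := hdec y
    have h1 : algebraMap T (AdicCompletion (I.map (algebraMap A T)) T) r ∈ q.asIdeal := by
      have : algebraMap T (AdicCompletion (I.map (algebraMap A T)) T) r =
          y - (y - algebraMap T (AdicCompletion (I.map (algebraMap A T)) T) r) := by ring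
      rw [this]
      exact Ideal.sub_mem _ hy (hmapcomap hr)
    have h2 : y = (y - algebraMap T (AdicCompletion (I.map (algebraMap A T)) T) r) +
        algebraMap T (AdicCompletion (I.map (algebraMap A T)) T) r := by ring
    rw [h2]
    exact Ideal.add_mem _ hr (Ideal.mem_map_of_mem _ ((hmem r).mpr h1))
  exact ⟨hgen, hsurj⟩

variable (J : Ideal T) (hJ : J = I.map (algebraMap A T))

include hJ in
theorem map_map_eq' : J.map (algebraMap T (AdicCompletion J T)) =
    I.map (algebraMap A (AdicCompletion J T)) := by
  subst hJ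
  exact map_map_eq A I T

include hJ in
theorem isAdicComplete_completion' :
    IsAdicComplete (I.map (algebraMap A (AdicCompletion J T))) (AdicCompletion J T) := by
  subst hJ
  exact isAdicComplete_completion A I T

include hJ in
theorem finiteType_completion_quotient' (hft : Algebra.FiniteType A (T ⧸ J)) :
    Algebra.FiniteType A (AdicCompletion J T ⧸ I.map (algebraMap A (AdicCompletion J T))) := by
  subst hJ
  exact finiteType_completion_quotient A I T hft

include hJ in
theorem gen_and_surj' (hft : Algebra.FiniteType A (T ⧸ J))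
    (q : PrimeSpectrum (AdicCompletion J T))
    (hq : IsRig (I.map (algebraMap A (AdicCompletion J T))) q)
    (hp : IsRig I (PrimeSpectrum.comap (algebraMap A (AdicCompletion J T)) q)) :
    q.asIdeal = (PrimeSpectrum.comap (algebraMap T (AdicCompletion J T)) q).asIdeal.map
      (algebraMap T (AdicCompletion J T)) ∧
    ∀ s : AdicCompletion J T, ∃ r : T,
      s - algebraMap T (AdicCompletion J T) r ∈ q.asIdeal := by
  subst hJ
  exact gen_and_surj A I T hft q hq hp

end Compl

section Abs

variable (A : Type u) [CommRing A] [IsNoetherianRing A] (I : Ideal A) [IsAdicComplete I A]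
  (B : Type u) [CommRing B] [Algebra A B] [IsNoetherianRing B]
  [IsAdicComplete (I.map (algebraMap A B)) B]
  (Ah : Type u) [CommRing Ah] [Algebra A Ah] [IsNoetherianRing Ah]
  (Bh : Type u) [CommRing Bh] [Algebra B Bh] [Algebra A Bh] [IsScalarTower A B Bh]
  [IsNoetherianRing Bh]

theorem isRig_three
    (hft : Algebra.FiniteType A (B ⧸ (I.map (algebraMap A B))))
    (hJ : IsJacobsonRing (A ⧸ I))
    (hCA : IsAdicComplete (I.map (algebraMap A Ah)) Ah)
    (hftAh : Algebra.FiniteType A (Ah ⧸ I.map (algebraMap A Ah)))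
    (hCB : IsAdicComplete ((I.map (algebraMap A B)).map (algebraMap B Bh)) Bh)
    (hftBh : Algebra.FiniteType B (Bh ⧸ (I.map (algebraMap A B)).map (algebraMap B Bh)))
    (ψ : Ah →+* Bh) (hψ : ψ.comp (algebraMap A Ah) = algebraMap A Bh)
    (q' : PrimeSpectrum Bh)
    (hq' : IsRig ((I.map (algebraMap A B)).map (algebraMap B Bh)) q') :
    IsRig (I.map (algebraMap A B)) (PrimeSpectrum.comap (algebraMap B Bh) q') ∧
    IsRig (I.map (algebraMap A Ah)) (PrimeSpectrum.comap ψ q') ∧
    IsRig I (PrimeSpectrum.comap (algebraMap A Ah) (PrimeSpectrum.comap ψ q')) := by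
  have hftk : Algebra.FiniteType (A ⧸ I) (B ⧸ (I.map (algebraMap A B))) :=
    Algebra.FiniteType.of_restrictScalars_finiteType A _ _
  have hJB : IsJacobsonRing (B ⧸ (I.map (algebraMap A B))) :=
    isJacobsonRing_of_finiteType (A := A ⧸ I)
  have hqrig := isRig_comap_of_isJacobsonRing B (I.map (algebraMap A B)) Bh hftBh q' hq' hJB
  refine ⟨hqrig, ?_⟩
  have hftkA : Algebra.FiniteType (A ⧸ I) (Ah ⧸ I.map (algebraMap A Ah)) :=
    Algebra.FiniteType.of_restrictScalars_finiteType A _ _
  have hJAh : IsJacobsonRing (Ah ⧸ I.map (algebraMap A Ah)) :=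
    isJacobsonRing_of_finiteType (A := A ⧸ I)
  let _ : Algebra Ah Bh := ψ.toAlgebra
  have hST : IsScalarTower A Ah Bh :=
    IsScalarTower.of_algebraMap_eq (fun a => (RingHom.congr_fun hψ a).symm)
  have hideal : (I.map (algebraMap A Ah)).map (algebraMap Ah Bh) =
      (I.map (algebraMap A B)).map (algebraMap B Bh) := by
    rw [Ideal.map_map, Ideal.map_map, ← IsScalarTower.algebraMap_eq, ← IsScalarTower.algebraMap_eq]
  have hCAB : IsAdicComplete ((I.map (algebraMap A Ah)).map (algebraMap Ah Bh)) Bh := by
    rw [hideal]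
    exact hCB
  have hftABh : Algebra.FiniteType A (Bh ⧸ (I.map (algebraMap A B)).map (algebraMap B Bh)) := by
    have h2 : Algebra.FiniteType (B ⧸ (I.map (algebraMap A B)))
        (Bh ⧸ (I.map (algebraMap A B)).map (algebraMap B Bh)) :=
      Algebra.FiniteType.of_restrictScalars_finiteType B _ _
    have h3 : IsScalarTower A (B ⧸ (I.map (algebraMap A B)))
        (Bh ⧸ (I.map (algebraMap A B)).map (algebraMap B Bh)) :=
      IsScalarTower.of_algebraMap_eq (fun a => by
        rw [IsScalarTower.algebraMap_apply A Bh (Bh ⧸ _), IsScalarTower.algebraMap_apply A B Bh]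
        rfl)
    exact Algebra.FiniteType.trans (R := A) (S := B ⧸ (I.map (algebraMap A B)))
      (A := Bh ⧸ (I.map (algebraMap A B)).map (algebraMap B Bh)) hft h2
  have hftAhBh : Algebra.FiniteType Ah (Bh ⧸ (I.map (algebraMap A Ah)).map (algebraMap Ah Bh)) := by
    have h1 : Algebra.FiniteType A (Bh ⧸ (I.map (algebraMap A Ah)).map (algebraMap Ah Bh)) :=
      Algebra.FiniteType.of_surjective (Ideal.quotientEquivAlgOfEq A hideal.symm).toAlgHom
        (Ideal.quotientEquivAlgOfEq A hideal.symm).surjective
    exact Algebra.FiniteType.of_restrictScalars_finiteType A _ _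
  have hq'A : IsRig ((I.map (algebraMap A Ah)).map (algebraMap Ah Bh)) q' := by
    rw [hideal]
    exact hq'
  have hp'rig := isRig_comap_of_isJacobsonRing Ah (I.map (algebraMap A Ah)) Bh hftAhBh q' hq'A hJAh
  exact ⟨hp'rig, isRig_comap_of_isJacobsonRing A I Ah hftAh _ hp'rig hJ⟩

theorem flat_comp_of_naive
    (TA : Type u) [CommRing TA] [Algebra A TA] [Algebra TA Ah] [IsScalarTower A TA Ah]
    (MA : Submonoid A) [IsLocalization MA TA] [Module.Flat B Bh]
    (hgs : ∀ p' : PrimeSpectrum Ah, IsRig (I.map (algebraMap A Ah)) p' →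
      IsRig I (PrimeSpectrum.comap (algebraMap A Ah) p') →
      p'.asIdeal = (PrimeSpectrum.comap (algebraMap TA Ah) p').asIdeal.map (algebraMap TA Ah) ∧
        ∀ s : Ah, ∃ r : TA, s - algebraMap TA Ah r ∈ p'.asIdeal)
    (hft : Algebra.FiniteType A (B ⧸ (I.map (algebraMap A B))))
    (hJ : IsJacobsonRing (A ⧸ I))
    (hCA : IsAdicComplete (I.map (algebraMap A Ah)) Ah)
    (hftAh : Algebra.FiniteType A (Ah ⧸ I.map (algebraMap A Ah)))
    (hCB : IsAdicComplete ((I.map (algebraMap A B)).map (algebraMap B Bh)) Bh)
    (hftBh : Algebra.FiniteType B (Bh ⧸ (I.map (algebraMap A B)).map (algebraMap B Bh)))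
    (hnaive : ∀ q : PrimeSpectrum B, IsRig (I.map (algebraMap A B)) q →
      (algebraMap A (Localization.AtPrime q.asIdeal)).Flat)
    (ψ : Ah →+* Bh) (hψ : ψ.comp (algebraMap A Ah) = algebraMap A Bh)
    (q' : PrimeSpectrum Bh)
    (hq' : IsRig ((I.map (algebraMap A B)).map (algebraMap B Bh)) q') :
    ((algebraMap Bh (Localization.AtPrime q'.asIdeal)).comp ψ).Flat := by
  obtain ⟨hqrig, hp'rig, hprig⟩ :=
    isRig_three A I B Ah Bh hft hJ hCA hftAh hCB hftBh ψ hψ q' hq'
  obtain ⟨hgen, hsurj⟩ := hgs _ hp'rig hprig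
  have hqflat : Module.Flat A
      (Localization.AtPrime (PrimeSpectrum.comap (algebraMap B Bh) q').asIdeal) :=
    RingHom.flat_algebraMap_iff.mp (hnaive _ hqrig)
  have hq'p : q'.asIdeal.IsPrime := q'.isPrime
  have hqp : (PrimeSpectrum.comap (algebraMap B Bh) q').asIdeal.IsPrime :=
    (PrimeSpectrum.comap (algebraMap B Bh) q').isPrime
  have hlo1 : q'.asIdeal.LiesOver (PrimeSpectrum.comap (algebraMap B Bh) q').asIdeal := ⟨rfl⟩
  have hSA : Module.Flat A (Localization.AtPrime q'.asIdeal) := by
    let _ := Localization.AtPrime.algebraOfLiesOver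
      (PrimeSpectrum.comap (algebraMap B Bh) q').asIdeal q'.asIdeal
    have h1 : Module.Flat (Localization.AtPrime (PrimeSpectrum.comap (algebraMap B Bh) q').asIdeal)
        (Localization.AtPrime q'.asIdeal) := inferInstance
    exact Module.Flat.trans A
      (Localization.AtPrime (PrimeSpectrum.comap (algebraMap B Bh) q').asIdeal) _
  let _ : Algebra Ah Bh := ψ.toAlgebra
  have hST : IsScalarTower A Ah Bh :=
    IsScalarTower.of_algebraMap_eq (fun a => (RingHom.congr_fun hψ a).symm)
  have hp'p : (PrimeSpectrum.comap ψ q').asIdeal.IsPrime := (PrimeSpectrum.comap ψ q').isPrime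
  have hP₀p : (PrimeSpectrum.comap (algebraMap TA Ah) (PrimeSpectrum.comap ψ q')).asIdeal.IsPrime :=
    (PrimeSpectrum.comap (algebraMap TA Ah) (PrimeSpectrum.comap ψ q')).isPrime
  have hlo2 : q'.asIdeal.LiesOver (PrimeSpectrum.comap ψ q').asIdeal := ⟨rfl⟩
  have hlo3 : (PrimeSpectrum.comap ψ q').asIdeal.LiesOver
      (PrimeSpectrum.comap (algebraMap TA Ah) (PrimeSpectrum.comap ψ q')).asIdeal := ⟨rfl⟩
  let _ : Algebra (Localization.AtPrime (PrimeSpectrum.comap ψ q').asIdeal)
      (Localization.AtPrime q'.asIdeal) :=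
    Localization.AtPrime.algebraOfLiesOver (PrimeSpectrum.comap ψ q').asIdeal q'.asIdeal
  let _ : Algebra (Localization.AtPrime
      (PrimeSpectrum.comap (algebraMap TA Ah) (PrimeSpectrum.comap ψ q')).asIdeal)
      (Localization.AtPrime (PrimeSpectrum.comap ψ q').asIdeal) :=
    Localization.AtPrime.algebraOfLiesOver
      (PrimeSpectrum.comap (algebraMap TA Ah) (PrimeSpectrum.comap ψ q')).asIdeal
      (PrimeSpectrum.comap ψ q').asIdeal
  let _ : Algebra (Localization.AtPrime
      (PrimeSpectrum.comap (algebraMap TA Ah) (PrimeSpectrum.comap ψ q')).asIdeal)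
      (Localization.AtPrime q'.asIdeal) :=
    ((algebraMap (Localization.AtPrime (PrimeSpectrum.comap ψ q').asIdeal)
      (Localization.AtPrime q'.asIdeal)).comp
      (algebraMap (Localization.AtPrime
        (PrimeSpectrum.comap (algebraMap TA Ah) (PrimeSpectrum.comap ψ q')).asIdeal)
        (Localization.AtPrime (PrimeSpectrum.comap ψ q').asIdeal))).toAlgebra
  have hST2 : IsScalarTower (Localization.AtPrime
      (PrimeSpectrum.comap (algebraMap TA Ah) (PrimeSpectrum.comap ψ q')).asIdeal)
      (Localization.AtPrime (PrimeSpectrum.comap ψ q').asIdeal)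
      (Localization.AtPrime q'.asIdeal) := IsScalarTower.of_algebraMap_eq' rfl
  let _ : Algebra TA (Localization.AtPrime q'.asIdeal) :=
    ((algebraMap (Localization.AtPrime
        (PrimeSpectrum.comap (algebraMap TA Ah) (PrimeSpectrum.comap ψ q')).asIdeal)
        (Localization.AtPrime q'.asIdeal)).comp
      (algebraMap TA (Localization.AtPrime
        (PrimeSpectrum.comap (algebraMap TA Ah) (PrimeSpectrum.comap ψ q')).asIdeal))).toAlgebra
  have hST3 : IsScalarTower TA (Localization.AtPrime
      (PrimeSpectrum.comap (algebraMap TA Ah) (PrimeSpectrum.comap ψ q')).asIdeal)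
      (Localization.AtPrime q'.asIdeal) := IsScalarTower.of_algebraMap_eq' rfl
  have key1 : ∀ t : TA, algebraMap (Localization.AtPrime
      (PrimeSpectrum.comap (algebraMap TA Ah) (PrimeSpectrum.comap ψ q')).asIdeal)
      (Localization.AtPrime (PrimeSpectrum.comap ψ q').asIdeal)
      (algebraMap TA _ t) = algebraMap Ah _ (algebraMap TA Ah t) :=
    fun t => Localization.localRingHom_to_map _ _ _ _ t
  have key2 : ∀ x : Ah, algebraMap (Localization.AtPrime (PrimeSpectrum.comap ψ q').asIdeal)
      (Localization.AtPrime q'.asIdeal) (algebraMap Ah _ x) = algebraMap Bh _ (ψ x) :=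
    fun x => Localization.localRingHom_to_map _ _ _ _ x
  have hST4 : IsScalarTower A TA (Localization.AtPrime q'.asIdeal) := by
    refine IsScalarTower.of_algebraMap_eq (fun a => ?_)
    change _ = algebraMap (Localization.AtPrime (PrimeSpectrum.comap ψ q').asIdeal)
      (Localization.AtPrime q'.asIdeal) (algebraMap (Localization.AtPrime
      (PrimeSpectrum.comap (algebraMap TA Ah) (PrimeSpectrum.comap ψ q')).asIdeal)
      (Localization.AtPrime (PrimeSpectrum.comap ψ q').asIdeal)
      (algebraMap TA _ (algebraMap A TA a)))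
    rw [key1, key2, ← IsScalarTower.algebraMap_apply A TA Ah, ← RingHom.comp_apply ψ, hψ,
      ← IsScalarTower.algebraMap_apply A Bh]
  have hfTA : Module.Flat TA (Localization.AtPrime q'.asIdeal) :=
    (Module.flat_iff_of_isLocalization TA MA (Localization.AtPrime q'.asIdeal)).mpr hSA
  have hfR₀ : Module.Flat (Localization.AtPrime
      (PrimeSpectrum.comap (algebraMap TA Ah) (PrimeSpectrum.comap ψ q')).asIdeal)
      (Localization.AtPrime q'.asIdeal) :=
    (Module.flat_iff_of_isLocalization (Localization.AtPrime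
      (PrimeSpectrum.comap (algebraMap TA Ah) (PrimeSpectrum.comap ψ q')).asIdeal)
      (PrimeSpectrum.comap (algebraMap TA Ah) (PrimeSpectrum.comap ψ q')).asIdeal.primeCompl
      (Localization.AtPrime q'.asIdeal)).mpr hfTA
  have hN1 : IsNoetherianRing (Localization.AtPrime (PrimeSpectrum.comap ψ q').asIdeal) :=
    IsLocalization.isNoetherianRing (PrimeSpectrum.comap ψ q').asIdeal.primeCompl _ inferInstance
  have hN2 : IsNoetherianRing (Localization.AtPrime q'.asIdeal) :=
    IsLocalization.isNoetherianRing q'.asIdeal.primeCompl _ inferInstance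
  have hgen₁ : (maximalIdeal (Localization.AtPrime
      (PrimeSpectrum.comap (algebraMap TA Ah) (PrimeSpectrum.comap ψ q')).asIdeal)).map
      (algebraMap _ (Localization.AtPrime (PrimeSpectrum.comap ψ q').asIdeal)) =
      maximalIdeal (Localization.AtPrime (PrimeSpectrum.comap ψ q').asIdeal) :=
    map_maximalIdeal_eq _ _ rfl hgen
  have hsurj₁ : ∀ (n : ℕ) (y : Localization.AtPrime (PrimeSpectrum.comap ψ q').asIdeal),
      ∃ x : Localization.AtPrime
        (PrimeSpectrum.comap (algebraMap TA Ah) (PrimeSpectrum.comap ψ q')).asIdeal,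
      y - algebraMap _ _ x ∈
        maximalIdeal (Localization.AtPrime (PrimeSpectrum.comap ψ q').asIdeal) ^ n :=
    fun n y => exists_sub_mem_pow _ _ rfl hgen hsurj n y
  have hloc : IsLocalHom (algebraMap (Localization.AtPrime (PrimeSpectrum.comap ψ q').asIdeal)
      (Localization.AtPrime q'.asIdeal)) :=
    Localization.isLocalHom_localRingHom _ _ _ _
  have hjac : (maximalIdeal (Localization.AtPrime (PrimeSpectrum.comap ψ q').asIdeal)).map
      (algebraMap _ (Localization.AtPrime q'.asIdeal)) ≤ Ideal.jacobson ⊥ := by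
    rw [IsLocalRing.jacobson_eq_maximalIdeal ⊥ bot_ne_top]
    exact ((IsLocalRing.local_hom_TFAE (algebraMap
      (Localization.AtPrime (PrimeSpectrum.comap ψ q').asIdeal)
      (Localization.AtPrime q'.asIdeal))).out 0 2).mp hloc
  have hfR₁ : Module.Flat (Localization.AtPrime (PrimeSpectrum.comap ψ q').asIdeal)
      (Localization.AtPrime q'.asIdeal) :=
    flat_of_flat_of_surj _ _ hgen₁ hsurj₁ hjac
  have heq : (algebraMap Bh (Localization.AtPrime q'.asIdeal)).comp ψ =
      algebraMap Ah (Localization.AtPrime q'.asIdeal) :=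
    (IsScalarTower.algebraMap_eq Ah Bh (Localization.AtPrime q'.asIdeal)).symm
  rw [heq, RingHom.flat_algebraMap_iff]
  exact Module.Flat.trans Ah (Localization.AtPrime (PrimeSpectrum.comap ψ q').asIdeal) _

end Abs

theorem rigFlat_of_naive (A : Type u) [CommRing A] [IsNoetherianRing A] (I : Ideal A)
    [IsAdicComplete I A] (B : Type u) [CommRing B] [Algebra A B] [IsNoetherianRing B]
    [IsAdicComplete (I.map (algebraMap A B)) B]
    (hft : Algebra.FiniteType A (B ⧸ (I.map (algebraMap A B)))) (hJ : IsJacobsonRing (A ⧸ I))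
    (hnaive : ∀ q : PrimeSpectrum B, IsRig (I.map (algebraMap A B)) q →
      (algebraMap A (Localization.AtPrime q.asIdeal)).Flat) (f : A)
    (ψ : (AdicCompletion (I.map (algebraMap A (Localization.Away f))) (Localization.Away f)) →+*
      (AdicCompletion ((I.map (algebraMap A B)).map
        (algebraMap B (Localization.Away (algebraMap A B f))))
        (Localization.Away (algebraMap A B f))))
    (hψ : ψ.comp (algebraMap (Localization.Away f)
        (AdicCompletion (I.map (algebraMap A (Localization.Away f))) (Localization.Away f))) =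
      (algebraMap (Localization.Away (algebraMap A B f))
        (AdicCompletion ((I.map (algebraMap A B)).map
          (algebraMap B (Localization.Away (algebraMap A B f))))
          (Localization.Away (algebraMap A B f)))).comp
        (Localization.awayMap (algebraMap A B) f))
    (q' : PrimeSpectrum (AdicCompletion ((I.map (algebraMap A B)).map
        (algebraMap B (Localization.Away (algebraMap A B f))))
        (Localization.Away (algebraMap A B f))))
    (hq' : IsRig ((((I.map (algebraMap A B))).map
        (algebraMap B (Localization.Away (algebraMap A B f)))).map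
        (algebraMap (Localization.Away (algebraMap A B f))
          (AdicCompletion ((I.map (algebraMap A B)).map
            (algebraMap B (Localization.Away (algebraMap A B f))))
            (Localization.Away (algebraMap A B f))))) q') :
    ((algebraMap (AdicCompletion ((I.map (algebraMap A B)).map
        (algebraMap B (Localization.Away (algebraMap A B f))))
        (Localization.Away (algebraMap A B f))) (Localization.AtPrime q'.asIdeal)).comp ψ).Flat := by
  have hNTA : IsNoetherianRing (Localization.Away f) :=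
    IsLocalization.isNoetherianRing (Submonoid.powers f) _ inferInstance
  have hNTB : IsNoetherianRing (Localization.Away (algebraMap A B f)) :=
    IsLocalization.isNoetherianRing (Submonoid.powers (algebraMap A B f)) _ inferInstance
  have hNAh : IsNoetherianRing (AdicCompletion (I.map (algebraMap A (Localization.Away f)))
      (Localization.Away f)) := Groth.Agent.S0543.result _ _
  have hNBh : IsNoetherianRing (AdicCompletion ((I.map (algebraMap A B)).map
      (algebraMap B (Localization.Away (algebraMap A B f))))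
      (Localization.Away (algebraMap A B f))) := Groth.Agent.S0543.result _ _
  have hftA : Algebra.FiniteType A (Localization.Away f ⧸
      I.map (algebraMap A (Localization.Away f))) := inferInstance
  have hftTB : Algebra.FiniteType B (Localization.Away (algebraMap A B f) ⧸
      (I.map (algebraMap A B)).map (algebraMap B (Localization.Away (algebraMap A B f)))) :=
    inferInstance
  have hflatTB : Module.Flat B (Localization.Away (algebraMap A B f)) :=
    IsLocalization.flat _ (Submonoid.powers (algebraMap A B f))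
  have hflatBh : Module.Flat B (AdicCompletion ((I.map (algebraMap A B)).map
      (algebraMap B (Localization.Away (algebraMap A B f))))
      (Localization.Away (algebraMap A B f))) :=
    Module.Flat.trans B (Localization.Away (algebraMap A B f)) _
  have hψ' : ψ.comp (algebraMap A (AdicCompletion (I.map (algebraMap A (Localization.Away f)))
      (Localization.Away f))) = algebraMap A (AdicCompletion ((I.map (algebraMap A B)).map
      (algebraMap B (Localization.Away (algebraMap A B f))))
      (Localization.Away (algebraMap A B f))) := by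
    refine RingHom.ext fun a => ?_
    have h0 := RingHom.congr_fun hψ (algebraMap A (Localization.Away f) a)
    rw [RingHom.comp_apply, RingHom.comp_apply] at h0
    have h1 : Localization.awayMap (algebraMap A B) f (algebraMap A (Localization.Away f) a) =
        algebraMap B (Localization.Away (algebraMap A B f)) (algebraMap A B a) :=
      IsLocalization.map_eq _ a
    rw [RingHom.comp_apply, IsScalarTower.algebraMap_apply A (Localization.Away f)
      (AdicCompletion (I.map (algebraMap A (Localization.Away f))) (Localization.Away f)), h0, h1]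
    rfl
  have hq'' : IsRig ((I.map (algebraMap A B)).map (algebraMap B
      (AdicCompletion ((I.map (algebraMap A B)).map
        (algebraMap B (Localization.Away (algebraMap A B f))))
        (Localization.Away (algebraMap A B f))))) q' := by
    rw [← map_map_eq B (I.map (algebraMap A B)) (Localization.Away (algebraMap A B f))]
    exact hq'
  exact flat_comp_of_naive A I B _ _ (Localization.Away f) (Submonoid.powers f)
    (fun p' h1 h2 => gen_and_surj A I (Localization.Away f) hftA p' h1 h2)
    hft hJ (isAdicComplete_completion A I (Localization.Away f))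
    (finiteType_completion_quotient A I (Localization.Away f) hftA)
    (isAdicComplete_completion B (I.map (algebraMap A B)) (Localization.Away (algebraMap A B f)))
    (finiteType_completion_quotient B (I.map (algebraMap A B))
      (Localization.Away (algebraMap A B f)) hftTB)
    hnaive ψ hψ' q' hq''

end Groth.Agent.Lib.Helper63.RigFlat
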