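import Groth.Agent.Lib.Helper63.ComplRing
import Groth.Agent.Lib.Helper63.RigClosed2
import Mathlib.RingTheory.AdicCompletion.AsTensorProduct
import Mathlib.RingTheory.Flat.Localization
import Mathlib.RingTheory.Flat.FaithfullyFlat.Algebra
import Mathlib.RingTheory.Polynomial.Basic

set_option autoImplicit false
set_option linter.unusedSectionVars false
universe u

namespace Groth.Agent.Lib.Helper63.RigPoly

open IsLocalRing Groth.Agent.Lib.Helper63.ComplRing Groth.Agent.Lib.Helper63.RigClosed

section L

variable {R S : Type u} [CommRing R] [CommRing S] [Algebra R S]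
  (P : Ideal R) [P.IsPrime] (Q : Ideal S) [Q.IsPrime] (hPQ : P = Q.comap (algebraMap R S))

include hPQ in
theorem residue_surj (hsurj : ∀ s : S, ∃ r : R, s - algebraMap R S r ∈ Q)
    (y : Localization.AtPrime Q) :
    ∃ x : Localization.AtPrime P,
      y - Localization.localRingHom P Q (algebraMap R S) hPQ x ∈
        maximalIdeal (Localization.AtPrime Q) := by
  obtain ⟨a, ⟨t, ht⟩, rfl⟩ := IsLocalization.exists_mk'_eq Q.primeCompl y
  obtain ⟨a₀, ha₀⟩ := hsurj a
  obtain ⟨t₀, ht₀⟩ := hsurj t
  have hmem : ∀ r, r ∈ P ↔ algebraMap R S r ∈ Q := fun r => by rw [hPQ]; rfl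
  have ht₀P : t₀ ∈ P.primeCompl := by
    intro h
    have h' := (hmem t₀).mp h
    apply ht
    have : t = (t - algebraMap R S t₀) + algebraMap R S t₀ := by ring
    rw [this]
    exact Q.add_mem ht₀ h'
  have ht₀Q : algebraMap R S t₀ ∈ Q.primeCompl := by
    intro h
    exact ht₀P ((hmem t₀).mpr h)
  refine ⟨IsLocalization.mk' _ a₀ ⟨t₀, ht₀P⟩, ?_⟩
  rw [Localization.localRingHom_mk']
  have hu1 : IsUnit (algebraMap S (Localization.AtPrime Q) t) :=
    IsLocalization.map_units (M := Q.primeCompl) _ ⟨t, ht⟩
  have hu2 : IsUnit (algebraMap S (Localization.AtPrime Q) (algebraMap R S t₀)) :=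
    IsLocalization.map_units (M := Q.primeCompl) _ ⟨_, ht₀Q⟩
  rw [← Ideal.unit_mul_mem_iff_mem _ (hu1.mul hu2)]
  have e : algebraMap S (Localization.AtPrime Q) t *
      algebraMap S (Localization.AtPrime Q) (algebraMap R S t₀) *
      (IsLocalization.mk' (Localization.AtPrime Q) a ⟨t, ht⟩ -
        IsLocalization.mk' (Localization.AtPrime Q) (algebraMap R S a₀)
          ⟨algebraMap R S t₀, ht₀Q⟩) =
      algebraMap S (Localization.AtPrime Q)
        ((a - algebraMap R S a₀) * algebraMap R S t₀ -
          algebraMap R S a₀ * (t - algebraMap R S t₀)) := by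
    have h1 : algebraMap S (Localization.AtPrime Q) t *
        IsLocalization.mk' (Localization.AtPrime Q) a ⟨t, ht⟩ =
        algebraMap S (Localization.AtPrime Q) a := IsLocalization.mk'_spec'_mk _ a t ht
    have h2 : algebraMap S (Localization.AtPrime Q) (algebraMap R S t₀) *
        IsLocalization.mk' (Localization.AtPrime Q) (algebraMap R S a₀)
          ⟨algebraMap R S t₀, ht₀Q⟩ =
        algebraMap S (Localization.AtPrime Q) (algebraMap R S a₀) :=
      IsLocalization.mk'_spec'_mk _ _ _ ht₀Q
    simp only [map_sub, map_mul]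
    linear_combination (algebraMap S (Localization.AtPrime Q) (algebraMap R S t₀)) * h1 -
      (algebraMap S (Localization.AtPrime Q) t) * h2
  rw [e, IsLocalization.AtPrime.to_map_mem_maximal_iff _ Q]
  exact Q.sub_mem (Q.mul_mem_right _ ha₀) (Q.mul_mem_left _ ht₀)

include hPQ in
theorem map_maximalIdeal_eq (hgen : Q = P.map (algebraMap R S)) :
    (maximalIdeal (Localization.AtPrime P)).map
      (Localization.localRingHom P Q (algebraMap R S) hPQ) =
      maximalIdeal (Localization.AtPrime Q) := by
  have h1 : Ideal.map (algebraMap S (Localization.AtPrime Q)) Q =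
      Ideal.map (algebraMap S (Localization.AtPrime Q)) (P.map (algebraMap R S)) :=
    congrArg (fun J => Ideal.map (algebraMap S (Localization.AtPrime Q)) J) hgen
  rw [← Localization.AtPrime.map_eq_maximalIdeal, ← Localization.AtPrime.map_eq_maximalIdeal,
    Ideal.map_map, h1, Ideal.map_map]
  congr 1
  ext r
  simp [Localization.localRingHom_to_map]

include hPQ in
theorem mem_pow_of_map_mem_pow [Module.Flat R S] (hgen : Q = P.map (algebraMap R S)) (m : ℕ)
    (x : Localization.AtPrime P)
    (hx : Localization.localRingHom P Q (algebraMap R S) hPQ x ∈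
      maximalIdeal (Localization.AtPrime Q) ^ m) :
    x ∈ maximalIdeal (Localization.AtPrime P) ^ m := by
  have hlo : Q.LiesOver P := ⟨hPQ⟩
  let _ := Localization.AtPrime.algebraOfLiesOver P Q
  have hflat : Module.Flat (Localization.AtPrime P) (Localization.AtPrime Q) := inferInstance
  have hloc : IsLocalHom (algebraMap (Localization.AtPrime P) (Localization.AtPrime Q)) :=
    Localization.isLocalHom_localRingHom P Q (algebraMap R S) hPQ
  have hff : Module.FaithfullyFlat (Localization.AtPrime P) (Localization.AtPrime Q) :=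
    Module.FaithfullyFlat.of_flat_of_isLocalHom
  have h1 := Ideal.comap_map_eq_self_of_faithfullyFlat (B := Localization.AtPrime Q)
    (maximalIdeal (Localization.AtPrime P) ^ m)
  rw [← h1, Ideal.mem_comap, Ideal.map_pow]
  have h2 : (maximalIdeal (Localization.AtPrime P)).map
      (algebraMap (Localization.AtPrime P) (Localization.AtPrime Q)) =
      maximalIdeal (Localization.AtPrime Q) := map_maximalIdeal_eq P Q hPQ hgen
  rw [h2]
  exact hx

include hPQ in
theorem exists_sub_mem_pow (hgen : Q = P.map (algebraMap R S))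
    (hsurj : ∀ s : S, ∃ r : R, s - algebraMap R S r ∈ Q) (m : ℕ)
    (y : Localization.AtPrime Q) :
    ∃ x : Localization.AtPrime P,
      y - Localization.localRingHom P Q (algebraMap R S) hPQ x ∈
        maximalIdeal (Localization.AtPrime Q) ^ m := by
  set φ := Localization.localRingHom P Q (algebraMap R S) hPQ with hφ
  have hmap : ∀ k : ℕ, (maximalIdeal (Localization.AtPrime P) ^ k).map φ =
      maximalIdeal (Localization.AtPrime Q) ^ k := fun k => by
    rw [Ideal.map_pow, map_maximalIdeal_eq P Q hPQ hgen]
  have key : ∀ k : ℕ, ∀ z ∈ maximalIdeal (Localization.AtPrime Q) ^ k,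
      ∃ x' ∈ maximalIdeal (Localization.AtPrime P) ^ k,
        z - φ x' ∈ maximalIdeal (Localization.AtPrime Q) ^ (k + 1) := by
    intro k z hz
    have hz' := hz
    rw [← hmap k] at hz'
    induction hz' using Submodule.span_induction with
    | mem z h =>
      obtain ⟨c, hc, rfl⟩ := h
      exact ⟨c, hc, by simp⟩
    | zero => exact ⟨0, Ideal.zero_mem _, by simp⟩
    | add z w hz1 hw1 hz2 hw2 =>
      have hzk : z ∈ maximalIdeal (Localization.AtPrime Q) ^ k := by rw [← hmap k]; exact hz1
      have hwk : w ∈ maximalIdeal (Localization.AtPrime Q) ^ k := by rw [← hmap k]; exact hw1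
      obtain ⟨x1, hx1, h1⟩ := hz2 hzk
      obtain ⟨x2, hx2, h2⟩ := hw2 hwk
      refine ⟨x1 + x2, Ideal.add_mem _ hx1 hx2, ?_⟩
      have : z + w - φ (x1 + x2) = (z - φ x1) + (w - φ x2) := by rw [map_add]; ring
      rw [this]
      exact Ideal.add_mem _ h1 h2
    | smul s z hz1 hz2 =>
      have hzk : z ∈ maximalIdeal (Localization.AtPrime Q) ^ k := by rw [← hmap k]; exact hz1
      obtain ⟨x1, hx1, h1⟩ := hz2 hzk
      obtain ⟨r, hr⟩ := residue_surj P Q hPQ hsurj s
      refine ⟨r * x1, Ideal.mul_mem_left _ _ hx1, ?_⟩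
      have : s • z - φ (r * x1) = (s - φ r) * z + φ r * (z - φ x1) := by
        rw [map_mul, smul_eq_mul]; ring
      rw [this]
      refine Ideal.add_mem _ ?_ (Ideal.mul_mem_left _ _ h1)
      rw [pow_succ']
      exact Ideal.mul_mem_mul hr hzk
  induction m with
  | zero => exact ⟨0, by simp⟩
  | succ m ih =>
    obtain ⟨x, hx⟩ := ih
    obtain ⟨x', -, hx'⟩ := key m _ hx
    refine ⟨x + x', ?_⟩
    have : y - φ (x + x') = y - φ x - φ x' := by rw [map_add]; ring
    rw [this]
    exact hx'

end L

section C

variable {T : Type u} [CommRing T] [IsNoetherianRing T] (J : Ideal T)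

theorem mem_pow_of_algebraMap_mem (n : ℕ) (b : T)
    (h : algebraMap T (AdicCompletion J T) b ∈ (J.map (algebraMap T (AdicCompletion J T))) ^ n) :
    b ∈ J ^ n := by
  have hJ : J.FG := IsNoetherian.noetherian J
  rw [mem_map_pow_iff J hJ, AdicCompletion.algebraMap_apply, Algebra.algebraMap_self,
    RingHom.id_apply, AdicCompletion.evalₐ_of] at h
  exact Ideal.Quotient.eq_zero_iff_mem.mp h

theorem exists_sub_mem_map (K : Ideal T) (hK : IsPrecomplete J (T ⧸ K))
    (y : AdicCompletion J T) :
    ∃ x : T, y - algebraMap T (AdicCompletion J T) x ∈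
      K.map (algebraMap T (AdicCompletion J T)) := by
  have hJ : J.FG := IsNoetherian.noetherian J
  choose x hx using fun n => exists_sub_mem J hJ y n
  have hdiff : ∀ m n, m ≤ n → x n - x m ∈ J ^ m := by
    intro m n hmn
    apply mem_pow_of_algebraMap_mem J
    have h1 : algebraMap T (AdicCompletion J T) (x n - x m) =
        (y - algebraMap T (AdicCompletion J T) (x m)) -
          (y - algebraMap T (AdicCompletion J T) (x n)) := by
      rw [map_sub]; ring
    rw [h1]
    exact Ideal.sub_mem _ (hx m) (Ideal.pow_le_pow_right hmn (hx n))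
  have hsm : ∀ (n : ℕ) (t : T), Ideal.Quotient.mk K t ∈ (J ^ n • ⊤ : Submodule T (T ⧸ K)) ↔
      t ∈ K ⊔ J ^ n := by
    intro n t
    have h0 : (J ^ n • ⊤ : Submodule T (T ⧸ K)) =
        Submodule.map (Submodule.mkQ K) (J ^ n • (⊤ : Submodule T T)) := by
      rw [Submodule.map_smul'', Submodule.map_top, Submodule.range_mkQ]
    rw [h0, smul_eq_mul, Ideal.mul_top]
    constructor
    · rintro ⟨j, hj, hjt⟩
      have h1 : t - j ∈ K := by
        rw [← Ideal.Quotient.eq]
        exact hjt.symm
      have h2 : t = (t - j) + j := by ring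
      rw [h2]
      exact Ideal.add_mem _ (Ideal.mem_sup_left h1) (Ideal.mem_sup_right hj)
    · intro ht
      obtain ⟨u, hu, v, hv, rfl⟩ := Submodule.mem_sup.mp ht
      refine ⟨v, hv, ?_⟩
      change Ideal.Quotient.mk K v = Ideal.Quotient.mk K (u + v)
      rw [map_add, Ideal.Quotient.eq_zero_iff_mem.mpr hu, zero_add]
  obtain ⟨L, hL⟩ := hK.prec (f := fun n => Ideal.Quotient.mk K (x n)) (by
    intro m n hmn
    rw [SModEq.sub_mem, ← map_sub, hsm]
    exact Ideal.mem_sup_right (by
      have := hdiff m n hmn
      rw [← neg_sub]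
      exact Ideal.neg_mem_iff _ |>.mpr this))
  obtain ⟨x₀, rfl⟩ := Ideal.Quotient.mk_surjective L
  refine ⟨x₀, ?_⟩
  apply mem_of_forall_mem_sup J
  intro n
  have h1 := hL n
  rw [SModEq.sub_mem, ← map_sub, hsm] at h1
  have h2 : y - algebraMap T (AdicCompletion J T) x₀ =
      (y - algebraMap T (AdicCompletion J T) (x n)) +
        algebraMap T (AdicCompletion J T) (x n - x₀) := by
    rw [map_sub]; ring
  rw [h2]
  refine Ideal.add_mem _ (Ideal.mem_sup_right (hx n)) ?_
  have h3 : algebraMap T (AdicCompletion J T) (x n - x₀) ∈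
      (K ⊔ J ^ n).map (algebraMap T (AdicCompletion J T)) := Ideal.mem_map_of_mem _ h1
  rw [Ideal.map_sup, Ideal.map_pow] at h3
  exact h3

end C

section Main

variable (A : Type u) [CommRing A] [IsNoetherianRing A] (I : Ideal A) [IsAdicComplete I A]
  (T : Type u) [CommRing T] [Algebra A T] [IsNoetherianRing T]

theorem map_map_eq : (I.map (algebraMap A T)).map
    (algebraMap T (AdicCompletion (I.map (algebraMap A T)) T)) =
    I.map (algebraMap A (AdicCompletion (I.map (algebraMap A T)) T)) := by
  rw [Ideal.map_map]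
  rfl

theorem isAdicComplete_completion :
    IsAdicComplete (I.map (algebraMap A (AdicCompletion (I.map (algebraMap A T)) T)))
      (AdicCompletion (I.map (algebraMap A T)) T) := by
  have hJ : (I.map (algebraMap A T)).FG := IsNoetherian.noetherian _
  have h1 : IsAdicComplete (I.map (algebraMap A T)) (AdicCompletion (I.map (algebraMap A T)) T) :=
    AdicCompletion.isAdicComplete hJ
  have h2 := (IsAdicComplete.map_algebraMap_iff
    (S := AdicCompletion (I.map (algebraMap A T)) T) (I.map (algebraMap A T))
    (AdicCompletion (I.map (algebraMap A T)) T)).mpr h1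
  rw [map_map_eq] at h2
  exact h2

theorem finiteType_completion_quotient
    (hft : Algebra.FiniteType A (T ⧸ I.map (algebraMap A T))) :
    Algebra.FiniteType A (AdicCompletion (I.map (algebraMap A T)) T ⧸
      I.map (algebraMap A (AdicCompletion (I.map (algebraMap A T)) T))) := by
  have hJ : (I.map (algebraMap A T)).FG := IsNoetherian.noetherian _
  have hle : I.map (algebraMap A T) ≤ Ideal.comap
      (IsScalarTower.toAlgHom A T (AdicCompletion (I.map (algebraMap A T)) T))
      (I.map (algebraMap A (AdicCompletion (I.map (algebraMap A T)) T))) := by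
    rw [← map_map_eq]
    exact Ideal.le_comap_map
  refine Algebra.FiniteType.of_surjective (Ideal.quotientMapₐ _ _ hle) ?_
  intro y
  obtain ⟨b, rfl⟩ := Ideal.Quotient.mk_surjective y
  obtain ⟨t, ht⟩ := exists_sub_mem (I.map (algebraMap A T)) hJ b 1
  refine ⟨Ideal.Quotient.mk _ t, ?_⟩
  rw [pow_one, map_map_eq] at ht
  rw [Ideal.quotient_map_mkₐ]
  symm
  exact (Ideal.Quotient.eq).mpr ht

end Main

section Main2

variable (A : Type u) [CommRing A] [IsNoetherianRing A] (I : Ideal A) [IsAdicComplete I A]
  (T : Type u) [CommRing T] [Algebra A T] [IsNoetherianRing T]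

theorem main (hft : Algebra.FiniteType A (T ⧸ I.map (algebraMap A T)))
    (q : PrimeSpectrum (AdicCompletion (I.map (algebraMap A T)) T))
    (hq : IsRig (I.map (algebraMap A (AdicCompletion (I.map (algebraMap A T)) T))) q)
    (hp : IsRig I (PrimeSpectrum.comap
      (algebraMap A (AdicCompletion (I.map (algebraMap A T)) T)) q)) (m : ℕ) :
    (∀ x : Localization.AtPrime (PrimeSpectrum.comap
        (algebraMap T (AdicCompletion (I.map (algebraMap A T)) T)) q).asIdeal,
      Localization.localRingHom (PrimeSpectrum.comap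
        (algebraMap T (AdicCompletion (I.map (algebraMap A T)) T)) q).asIdeal q.asIdeal
        (algebraMap T (AdicCompletion (I.map (algebraMap A T)) T)) rfl x ∈
        maximalIdeal (Localization.AtPrime q.asIdeal) ^ m →
      x ∈ maximalIdeal (Localization.AtPrime (PrimeSpectrum.comap
        (algebraMap T (AdicCompletion (I.map (algebraMap A T)) T)) q).asIdeal) ^ m) ∧
    (∀ y : Localization.AtPrime q.asIdeal, ∃ x : Localization.AtPrime (PrimeSpectrum.comap
        (algebraMap T (AdicCompletion (I.map (algebraMap A T)) T)) q).asIdeal,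
      y - Localization.localRingHom (PrimeSpectrum.comap
        (algebraMap T (AdicCompletion (I.map (algebraMap A T)) T)) q).asIdeal q.asIdeal
        (algebraMap T (AdicCompletion (I.map (algebraMap A T)) T)) rfl x ∈
        maximalIdeal (Localization.AtPrime q.asIdeal) ^ m) := by
  have hN : IsNoetherianRing (AdicCompletion (I.map (algebraMap A T)) T) :=
    Groth.Agent.S0543.result T _
  have hC := isAdicComplete_completion A I T
  have hftB := finiteType_completion_quotient A I T hft
  have hfin : Module.Finite A (AdicCompletion (I.map (algebraMap A T)) T ⧸ q.asIdeal) :=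
    ((tfae_rig_closed_comap A I (AdicCompletion (I.map (algebraMap A T)) T) hftB q hq).out 1 2).mp hp
  have hqp : q.asIdeal.IsPrime := q.isPrime
  have hq'p : (PrimeSpectrum.comap
      (algebraMap T (AdicCompletion (I.map (algebraMap A T)) T)) q).asIdeal.IsPrime :=
    (PrimeSpectrum.comap (algebraMap T (AdicCompletion (I.map (algebraMap A T)) T)) q).isPrime
  have hmem : ∀ t : T, t ∈ (PrimeSpectrum.comap
      (algebraMap T (AdicCompletion (I.map (algebraMap A T)) T)) q).asIdeal ↔
      algebraMap T (AdicCompletion (I.map (algebraMap A T)) T) t ∈ q.asIdeal := fun t => Iff.rfl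
  have hle : (PrimeSpectrum.comap
      (algebraMap T (AdicCompletion (I.map (algebraMap A T)) T)) q).asIdeal ≤
      Ideal.comap (IsScalarTower.toAlgHom A T (AdicCompletion (I.map (algebraMap A T)) T))
        q.asIdeal := fun t ht => ht
  have hinj : Function.Injective (Ideal.quotientMapₐ q.asIdeal
      (IsScalarTower.toAlgHom A T (AdicCompletion (I.map (algebraMap A T)) T)) hle) := by
    rw [injective_iff_map_eq_zero]
    intro y hy
    obtain ⟨t, rfl⟩ := Ideal.Quotient.mk_surjective y
    rw [Ideal.quotient_map_mkₐ] at hy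
    have h1 : algebraMap T (AdicCompletion (I.map (algebraMap A T)) T) t ∈ q.asIdeal :=
      Ideal.Quotient.eq_zero_iff_mem.mp hy
    exact Ideal.Quotient.eq_zero_iff_mem.mpr ((hmem t).mpr h1)
  have hNoeth : IsNoetherian A (AdicCompletion (I.map (algebraMap A T)) T ⧸ q.asIdeal) :=
    isNoetherian_of_isNoetherianRing_of_finite A _
  have hfinN : Module.Finite A (T ⧸ (PrimeSpectrum.comap
      (algebraMap T (AdicCompletion (I.map (algebraMap A T)) T)) q).asIdeal) :=
    Module.Finite.of_injective (Ideal.quotientMapₐ q.asIdeal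
      (IsScalarTower.toAlgHom A T (AdicCompletion (I.map (algebraMap A T)) T)) hle).toLinearMap hinj
  have hcompl : IsAdicComplete I (T ⧸ (PrimeSpectrum.comap
      (algebraMap T (AdicCompletion (I.map (algebraMap A T)) T)) q).asIdeal) :=
    Groth.Agent.S3866.result A I _
  have hprec : IsPrecomplete (I.map (algebraMap A T)) (T ⧸ (PrimeSpectrum.comap
      (algebraMap T (AdicCompletion (I.map (algebraMap A T)) T)) q).asIdeal) :=
    (IsPrecomplete.map_algebraMap_iff (R := A) (S := T) (I := I)).mpr hcompl.toIsPrecomplete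
  have hdec := exists_sub_mem_map (I.map (algebraMap A T)) _ hprec
  have hmapcomap : (PrimeSpectrum.comap
      (algebraMap T (AdicCompletion (I.map (algebraMap A T)) T)) q).asIdeal.map
      (algebraMap T (AdicCompletion (I.map (algebraMap A T)) T)) ≤ q.asIdeal :=
    Ideal.map_comap_le
  have hsurj : ∀ s : AdicCompletion (I.map (algebraMap A T)) T, ∃ r : T,
      s - algebraMap T (AdicCompletion (I.map (algebraMap A T)) T) r ∈ q.asIdeal := by
    intro s
    obtain ⟨r, hr⟩ := hdec s
    exact ⟨r, hmapcomap hr⟩
  have hgen : q.asIdeal = (PrimeSpectrum.comap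
      (algebraMap T (AdicCompletion (I.map (algebraMap A T)) T)) q).asIdeal.map
      (algebraMap T (AdicCompletion (I.map (algebraMap A T)) T)) := by
    refine le_antisymm (fun y hy => ?_) hmapcomap
    obtain ⟨r, hr⟩ := hdec y
    have h1 : algebraMap T (AdicCompletion (I.map (algebraMap A T)) T) r ∈ q.asIdeal := by
      have : algebraMap T (AdicCompletion (I.map (algebraMap A T)) T) r =
          y - (y - algebraMap T (AdicCompletion (I.map (algebraMap A T)) T) r) := by ring
      rw [this]
      exact Ideal.sub_mem _ hy (hmapcomap hr)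
    have h2 : y = (y - algebraMap T (AdicCompletion (I.map (algebraMap A T)) T) r) +
        algebraMap T (AdicCompletion (I.map (algebraMap A T)) T) r := by ring
    rw [h2]
    exact Ideal.add_mem _ hr (Ideal.mem_map_of_mem _ ((hmem r).mpr h1))
  exact ⟨fun x hx => mem_pow_of_map_mem_pow _ _ rfl hgen m x hx,
    fun y => exists_sub_mem_pow _ _ rfl hgen hsurj m y⟩

end Main2

end Groth.Agent.Lib.Helper63.RigPoly
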