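import Groth.Agent.Lib.Helper63.RigComp
import Groth.Agent.Lib.Helper63.Chevalley

set_option autoImplicit false
set_option linter.unusedSectionVars false
universe u

namespace Groth.Agent.Lib.Helper63.RigPt

open IsLocalRing TensorProduct Groth.Agent.Lib.Helper63.ComplRing
  Groth.Agent.Lib.Helper63.RigClosed Groth.Agent.Lib.Helper63.RigPoly
  Groth.Agent.Lib.Helper63.RigFlat Groth.Agent.Lib.Helper63.RigComp

theorem exists_finite_away {A κ : Type u} [CommRing A] [Field κ] [Algebra A κ]
    [Algebra.FiniteType A κ] :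
    ∃ f : A, algebraMap A κ f ≠ 0 ∧ ∀ (Af : Type u) [CommRing Af] [Algebra A Af]
      [IsLocalization.Away f Af] [Algebra Af κ] [IsScalarTower A Af κ], Module.Finite Af κ := by
  have hker : (RingHom.ker (algebraMap A κ)).IsPrime := RingHom.ker_isPrime _
  let _ : Algebra (A ⧸ RingHom.ker (algebraMap A κ)) κ := (RingHom.kerLift (algebraMap A κ)).toAlgebra
  have hST : IsScalarTower A (A ⧸ RingHom.ker (algebraMap A κ)) κ :=
    IsScalarTower.of_algebraMap_eq (fun a => rfl)
  have hinj : Function.Injective (algebraMap (A ⧸ RingHom.ker (algebraMap A κ)) κ) :=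
    RingHom.kerLift_injective _
  have hfs : FaithfulSMul (A ⧸ RingHom.ker (algebraMap A κ)) κ :=
    (faithfulSMul_iff_algebraMap_injective _ _).mpr hinj
  let _ : Algebra (FractionRing (A ⧸ RingHom.ker (algebraMap A κ))) κ :=
    FractionRing.liftAlgebra _ _
  have hft0 : Algebra.FiniteType (A ⧸ RingHom.ker (algebraMap A κ)) κ :=
    Algebra.FiniteType.of_restrictScalars_finiteType A _ _
  have hftF : Algebra.FiniteType (FractionRing (A ⧸ RingHom.ker (algebraMap A κ))) κ :=
    Algebra.FiniteType.of_restrictScalars_finiteType (A ⧸ RingHom.ker (algebraMap A κ)) _ _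
  have hfinF : Module.Finite (FractionRing (A ⧸ RingHom.ker (algebraMap A κ))) κ :=
    finite_of_finite_type_of_isJacobsonRing _ _
  have halgF : Algebra.IsAlgebraic (FractionRing (A ⧸ RingHom.ker (algebraMap A κ))) κ :=
    Algebra.IsAlgebraic.of_finite _ _
  have halg0 : Algebra.IsAlgebraic (A ⧸ RingHom.ker (algebraMap A κ)) κ :=
    (IsFractionRing.comap_isAlgebraic_iff
      (K := FractionRing (A ⧸ RingHom.ker (algebraMap A κ)))).mpr halgF
  obtain ⟨s, hs⟩ := (inferInstance : Algebra.FiniteType A κ).out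
  obtain ⟨y, hy0, hy⟩ := Algebra.IsAlgebraic.exists_integral_multiples
    (A ⧸ RingHom.ker (algebraMap A κ)) s
  obtain ⟨f, rfl⟩ := Ideal.Quotient.mk_surjective y
  have hf0 : algebraMap A κ f ≠ 0 := by
    intro h
    apply hy0
    exact Ideal.Quotient.eq_zero_iff_mem.mpr (RingHom.mem_ker.mpr h)
  refine ⟨f, hf0, ?_⟩
  intro Af _ _ _ _ _
  have hsurj : Function.Surjective (algebraMap A (A ⧸ RingHom.ker (algebraMap A κ))) :=
    Ideal.Quotient.mk_surjective
  have hint0 : Algebra.IsIntegral A (A ⧸ RingHom.ker (algebraMap A κ)) :=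
    Algebra.isIntegral_of_surjective hsurj
  have hz : ∀ z ∈ s, IsIntegral Af z := by
    intro z hzs
    have h1 : IsIntegral A (Ideal.Quotient.mk (RingHom.ker (algebraMap A κ)) f • z) :=
      isIntegral_trans _ (hy z hzs)
    have h2 : IsIntegral Af (Ideal.Quotient.mk (RingHom.ker (algebraMap A κ)) f • z) :=
      h1.tower_top
    have h3 : z = algebraMap Af κ (IsLocalization.Away.invSelf f) *
        (Ideal.Quotient.mk (RingHom.ker (algebraMap A κ)) f • z) := by
      have h4 : Ideal.Quotient.mk (RingHom.ker (algebraMap A κ)) f • z =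
          algebraMap Af κ (algebraMap A Af f) * z := by
        rw [Algebra.smul_def, ← IsScalarTower.algebraMap_apply A Af κ]
        rfl
      have h5 : IsLocalization.Away.invSelf f * algebraMap A Af f = (1 : Af) := by
        rw [mul_comm]
        exact IsLocalization.Away.mul_invSelf f
      rw [h4, ← mul_assoc, ← map_mul, h5, map_one, one_mul]
    rw [h3]
    exact IsIntegral.mul isIntegral_algebraMap h2
  have hadj : Algebra.adjoin Af (s : Set κ) = ⊤ := by
    rw [eq_top_iff]
    intro x _
    have hx : x ∈ Algebra.adjoin A (s : Set κ) := by rw [hs]; trivial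
    have hle : Algebra.adjoin A (s : Set κ) ≤ (Algebra.adjoin Af (s : Set κ)).restrictScalars A :=
      Algebra.adjoin_le (fun z hz => Algebra.subset_adjoin hz)
    exact hle hx
  have hintAf : Algebra.IsIntegral Af κ := by
    refine ⟨fun x => ?_⟩
    have hx : x ∈ Algebra.adjoin Af (s : Set κ) := by rw [hadj]; trivial
    have hle : Algebra.adjoin Af (s : Set κ) ≤ integralClosure Af κ :=
      Algebra.adjoin_le (fun z hzs => hz z hzs)
    exact hle hx
  have hftAf : Algebra.FiniteType Af κ := Algebra.FiniteType.of_restrictScalars_finiteType A _ _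
  exact Algebra.IsIntegral.finite

section Loc

variable {B : Type u} [CommRing B] (g u : B) (T : Type u) [CommRing T] [Algebra B T]
  [IsLocalization.Away g T]

theorem pow_sub_one_mem (𝔞 : Ideal B) (h : u * g - 1 ∈ 𝔞) (k : ℕ) : (u * g) ^ k - 1 ∈ 𝔞 := by
  rw [← Ideal.Quotient.eq_zero_iff_mem] at h ⊢
  rw [map_sub, map_one, sub_eq_zero] at h
  rw [map_sub, map_pow, h, one_pow, map_one, sub_self]

theorem exists_sub_mem_of_unit (𝔞 : Ideal B) (h : u * g - 1 ∈ 𝔞) (t : T) :
    ∃ b : B, t - algebraMap B T b ∈ 𝔞.map (algebraMap B T) := by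
  obtain ⟨k, b, hb⟩ := IsLocalization.Away.surj g t
  refine ⟨b * u ^ k, ?_⟩
  have h1 : t - algebraMap B T (b * u ^ k) = - (t * algebraMap B T ((u * g) ^ k - 1)) := by
    simp only [map_mul, map_sub, map_pow, map_one]
    rw [← hb]
    ring
  rw [h1]
  exact neg_mem (Ideal.mul_mem_left _ _ (Ideal.mem_map_of_mem _ (pow_sub_one_mem g u 𝔞 h k)))

theorem mem_of_algebraMap_mem_map (𝔞 : Ideal B) (h : u * g - 1 ∈ 𝔞) (b : B)
    (hb : algebraMap B T b ∈ 𝔞.map (algebraMap B T)) : b ∈ 𝔞 := by
  rw [IsLocalization.mem_map_algebraMap_iff (Submonoid.powers g) T] at hb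
  obtain ⟨⟨a, ⟨s, k, rfl⟩⟩, hab⟩ := hb
  simp only at hab
  rw [← map_mul, IsLocalization.eq_iff_exists (Submonoid.powers g) T] at hab
  obtain ⟨⟨c, j, rfl⟩, hc⟩ := hab
  simp only at hc
  have h2 : g ^ (j + k) * b ∈ 𝔞 := by
    have : g ^ (j + k) * b = g ^ j * a := by rw [pow_add, mul_assoc, mul_comm (g ^ k) b, hc]
    rw [this]
    exact Ideal.mul_mem_left _ _ a.2
  have h3 : (u * g) ^ (j + k) * b ∈ 𝔞 := by
    rw [mul_pow, mul_assoc]
    exact Ideal.mul_mem_left _ _ h2
  have h4 := Ideal.mul_mem_right b 𝔞 (pow_sub_one_mem g u 𝔞 h (j + k))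
  have h5 : b = (u * g) ^ (j + k) * b - ((u * g) ^ (j + k) - 1) * b := by ring
  rw [h5]
  exact Ideal.sub_mem _ h3 h4

end Loc

section Compl

variable {B : Type u} [CommRing B] [IsNoetherianRing B] (K₀ : Ideal B) [IsAdicComplete K₀ B]
  (g u : B) (T : Type u) [CommRing T] [Algebra B T] [IsLocalization.Away g T] [IsNoetherianRing T]
  (q : Ideal B) (h : u * g - 1 ∈ q)

include h

theorem map_eq_map_map : q.map (algebraMap B (AdicCompletion (K₀.map (algebraMap B T)) T)) =
    (q.map (algebraMap B T)).map (algebraMap T (AdicCompletion (K₀.map (algebraMap B T)) T)) := by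
  rw [Ideal.map_map, ← IsScalarTower.algebraMap_eq]

theorem F1 (z : AdicCompletion (K₀.map (algebraMap B T)) T) :
    ∃ b : B, z - algebraMap B (AdicCompletion (K₀.map (algebraMap B T)) T) b ∈
      q.map (algebraMap B (AdicCompletion (K₀.map (algebraMap B T)) T)) := by
  have hsurj : Function.Surjective (Algebra.linearMap B (T ⧸ q.map (algebraMap B T))) := by
    intro y
    obtain ⟨t, rfl⟩ := Ideal.Quotient.mk_surjective y
    obtain ⟨b, hb⟩ := exists_sub_mem_of_unit g u T q h t
    refine ⟨b, ?_⟩
    rw [Algebra.linearMap_apply, IsScalarTower.algebraMap_apply B T (T ⧸ q.map (algebraMap B T))]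
    exact (Ideal.Quotient.eq.mpr hb).symm
  have hfin : Module.Finite B (T ⧸ q.map (algebraMap B T)) :=
    Module.Finite.of_surjective _ hsurj
  have hcompl : IsAdicComplete K₀ (T ⧸ q.map (algebraMap B T)) :=
    Groth.Agent.S3866.result B K₀ _
  have hprec : IsPrecomplete (K₀.map (algebraMap B T)) (T ⧸ q.map (algebraMap B T)) :=
    (IsPrecomplete.map_algebraMap_iff (R := B) (S := T) (I := K₀)).mpr hcompl.toIsPrecomplete
  obtain ⟨t, ht⟩ := exists_sub_mem_map (K₀.map (algebraMap B T)) _ hprec z
  obtain ⟨b, hb⟩ := exists_sub_mem_of_unit g u T q h t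
  refine ⟨b, ?_⟩
  rw [map_eq_map_map K₀ g u T q h]
  have e : z - algebraMap B (AdicCompletion (K₀.map (algebraMap B T)) T) b =
      (z - algebraMap T (AdicCompletion (K₀.map (algebraMap B T)) T) t) +
      algebraMap T (AdicCompletion (K₀.map (algebraMap B T)) T) (t - algebraMap B T b) := by
    rw [map_sub, ← IsScalarTower.algebraMap_apply]
    ring
  rw [e]
  exact Ideal.add_mem _ ht (Ideal.mem_map_of_mem _ hb)

theorem F2 (b : B)
    (hb : algebraMap B (AdicCompletion (K₀.map (algebraMap B T)) T) b ∈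
      q.map (algebraMap B (AdicCompletion (K₀.map (algebraMap B T)) T))) : b ∈ q := by
  have hJ : (K₀.map (algebraMap B T)).FG := IsNoetherian.noetherian _
  rw [map_eq_map_map K₀ g u T q h, IsScalarTower.algebraMap_apply B T] at hb
  refine Groth.Agent.Lib.Helper63.Chevalley.mem_of_forall_mem_sup_pow K₀ q
    (IsAdicComplete.le_jacobson_bot K₀) b (fun n => ?_)
  have h1 := mem_sup_of_map_mem_sup (K₀.map (algebraMap B T)) hJ (q.map (algebraMap B T)) n
    (algebraMap B T b) (Ideal.mem_sup_left hb)
  rw [← Ideal.map_pow, ← Ideal.map_sup] at h1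
  exact mem_of_algebraMap_mem_map g u T (q ⊔ K₀ ^ n) (Ideal.mem_sup_left h) b h1

end Compl

section Abs

variable (A : Type u) [CommRing A] [IsNoetherianRing A] (I : Ideal A) [IsAdicComplete I A]
  (B : Type u) [CommRing B] [Algebra A B] [IsNoetherianRing B]
  [IsAdicComplete (I.map (algebraMap A B)) B]
  (Ah : Type u) [CommRing Ah] [Algebra A Ah] [IsNoetherianRing Ah]
  (Bh : Type u) [CommRing Bh] [Algebra B Bh] [Algebra A Bh] [IsScalarTower A B Bh]
  [IsNoetherianRing Bh]

theorem isPrime_map_of_F (q : Ideal B) (hq : q.IsPrime)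
    (F1 : ∀ z : Bh, ∃ b : B, z - algebraMap B Bh b ∈ q.map (algebraMap B Bh))
    (F2 : ∀ b : B, algebraMap B Bh b ∈ q.map (algebraMap B Bh) → b ∈ q) :
    (q.map (algebraMap B Bh)).IsPrime := by
  refine ⟨?_, ?_⟩
  · intro htop
    have h1 : algebraMap B Bh 1 ∈ q.map (algebraMap B Bh) := by rw [htop]; trivial
    exact hq.ne_top ((Ideal.eq_top_iff_one _).mpr (F2 1 h1))
  · intro x y hxy
    obtain ⟨b, hb⟩ := F1 x
    obtain ⟨c, hc⟩ := F1 y
    have h1 : algebraMap B Bh (b * c) ∈ q.map (algebraMap B Bh) := by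
      have e : algebraMap B Bh (b * c) = x * y - (x - algebraMap B Bh b) * y -
          algebraMap B Bh b * (y - algebraMap B Bh c) := by
        rw [map_mul]; ring
      rw [e]
      exact Ideal.sub_mem _ (Ideal.sub_mem _ hxy (Ideal.mul_mem_right _ _ hb))
        (Ideal.mul_mem_left _ _ hc)
    rcases hq.mem_or_mem (F2 _ h1) with hbq | hcq
    · left
      have e : x = (x - algebraMap B Bh b) + algebraMap B Bh b := by ring
      rw [e]
      exact Ideal.add_mem _ hb (Ideal.mem_map_of_mem _ hbq)
    · right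
      have e : y = (y - algebraMap B Bh c) + algebraMap B Bh c := by ring
      rw [e]
      exact Ideal.add_mem _ hc (Ideal.mem_map_of_mem _ hcq)

theorem isRig_map_of_F (q : PrimeSpectrum B) (hq : IsRig (I.map (algebraMap A B)) q)
    (F1 : ∀ z : Bh, ∃ b : B, z - algebraMap B Bh b ∈ q.asIdeal.map (algebraMap B Bh))
    (F2 : ∀ b : B, algebraMap B Bh b ∈ q.asIdeal.map (algebraMap B Bh) → b ∈ q.asIdeal)
    (hp : (q.asIdeal.map (algebraMap B Bh)).IsPrime) :
    IsRig ((I.map (algebraMap A B)).map (algebraMap B Bh)) ⟨q.asIdeal.map (algebraMap B Bh), hp⟩ := by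
  refine ⟨fun hle => hq.1 (fun i hi => F2 i (hle (Ideal.mem_map_of_mem _ hi))), fun y hy hKy => ?_⟩
  have hy' : q.asIdeal.map (algebraMap B Bh) ≤ y.asIdeal := hy
  have h1 : q ≤ PrimeSpectrum.comap (algebraMap B Bh) y := by
    intro b hb
    exact hy' (Ideal.mem_map_of_mem _ hb)
  have h2 : ¬ I.map (algebraMap A B) ≤ (PrimeSpectrum.comap (algebraMap B Bh) y).asIdeal := by
    intro hle
    exact hKy (Ideal.map_le_iff_le_comap.mpr hle)
  have h3 := hq.2 _ h1 h2
  refine PrimeSpectrum.ext (le_antisymm (fun x hx => ?_) hy')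
  obtain ⟨b, hb⟩ := F1 x
  have h4 : algebraMap B Bh b ∈ y.asIdeal := by
    have e : algebraMap B Bh b = x - (x - algebraMap B Bh b) := by ring
    rw [e]
    exact Ideal.sub_mem _ hx (hy' hb)
  have h5 : b ∈ q.asIdeal := by
    have : b ∈ (PrimeSpectrum.comap (algebraMap B Bh) y).asIdeal := h4
    rw [h3] at this
    exact this
  have e : x = (x - algebraMap B Bh b) + algebraMap B Bh b := by ring
  show x ∈ q.asIdeal.map (algebraMap B Bh)
  rw [e]
  exact Ideal.add_mem _ hb (Ideal.mem_map_of_mem _ h5)

theorem core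
    (hft : Algebra.FiniteType A (B ⧸ (I.map (algebraMap A B))))
    (hCA : IsAdicComplete (I.map (algebraMap A Ah)) Ah)
    (hCB : IsAdicComplete ((I.map (algebraMap A B)).map (algebraMap B Bh)) Bh)
    (hftBh : Algebra.FiniteType B (Bh ⧸ (I.map (algebraMap A B)).map (algebraMap B Bh)))
    (q : PrimeSpectrum B) (hq : IsRig (I.map (algebraMap A B)) q)
    (F1 : ∀ z : Bh, ∃ b : B, z - algebraMap B Bh b ∈ q.asIdeal.map (algebraMap B Bh))
    (F2 : ∀ b : B, algebraMap B Bh b ∈ q.asIdeal.map (algebraMap B Bh) → b ∈ q.asIdeal)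
    (ψ : Ah →+* Bh) (hψ : ψ.comp (algebraMap A Ah) = algebraMap A Bh)
    (hfin : ∀ M : Ideal Bh, M.IsMaximal → q.asIdeal.map (algebraMap B Bh) ≤ M →
      ((Ideal.Quotient.mk M).comp ψ).Finite) :
    ((q.asIdeal.map (algebraMap B Bh)).comap ψ).IsPrime ∧
    ¬ I.map (algebraMap A Ah) ≤ (q.asIdeal.map (algebraMap B Bh)).comap ψ ∧
    ∀ y : PrimeSpectrum Ah, (q.asIdeal.map (algebraMap B Bh)).comap ψ ≤ y.asIdeal →
      ¬ I.map (algebraMap A Ah) ≤ y.asIdeal →
      y.asIdeal = (q.asIdeal.map (algebraMap B Bh)).comap ψ := by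
  have hqp : q.asIdeal.IsPrime := q.isPrime
  have hQ'p := isPrime_map_of_F B Bh q.asIdeal hqp F1 F2
  have hQ'rig := isRig_map_of_F A I B Bh q hq F1 F2 hQ'p
  let _ : Algebra Ah Bh := ψ.toAlgebra
  have hST : IsScalarTower A Ah Bh :=
    IsScalarTower.of_algebraMap_eq (fun a => (RingHom.congr_fun hψ a).symm)
  have hideal : (I.map (algebraMap A Ah)).map (algebraMap Ah Bh) =
      (I.map (algebraMap A B)).map (algebraMap B Bh) := by
    rw [Ideal.map_map, Ideal.map_map, ← IsScalarTower.algebraMap_eq, ← IsScalarTower.algebraMap_eq]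
  have hCAB : IsAdicComplete ((I.map (algebraMap A Ah)).map (algebraMap Ah Bh)) Bh := by
    rw [hideal]
    exact hCB
  have hftABh : Algebra.FiniteType A (Bh ⧸ (I.map (algebraMap A B)).map (algebraMap B Bh)) := by
    have h2 : Algebra.FiniteType (B ⧸ (I.map (algebraMap A B)))
        (Bh ⧸ (I.map (algebraMap A B)).map (algebraMap B Bh)) :=
      Algebra.FiniteType.of_restrictScalars_finiteType B _ _
    have h3 : IsScalarTower A (B ⧸ (I.map (algebraMap A B)))
        (Bh ⧸ (I.map (algebraMap A B)).map (algebraMap B Bh)) :=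
      IsScalarTower.of_algebraMap_eq (fun a => by
        rw [IsScalarTower.algebraMap_apply A Bh (Bh ⧸ _), IsScalarTower.algebraMap_apply A B Bh]
        rfl)
    exact Algebra.FiniteType.trans (R := A) (S := B ⧸ (I.map (algebraMap A B)))
      (A := Bh ⧸ (I.map (algebraMap A B)).map (algebraMap B Bh)) hft h2
  have hftAhBh : Algebra.FiniteType Ah (Bh ⧸ (I.map (algebraMap A Ah)).map (algebraMap Ah Bh)) := by
    have h1 : Algebra.FiniteType A (Bh ⧸ (I.map (algebraMap A Ah)).map (algebraMap Ah Bh)) :=
      Algebra.FiniteType.of_surjective (Ideal.quotientEquivAlgOfEq A hideal.symm).toAlgHom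
        (Ideal.quotientEquivAlgOfEq A hideal.symm).surjective
    exact Algebra.FiniteType.of_restrictScalars_finiteType A _ _
  have hQ'A : IsRig ((I.map (algebraMap A Ah)).map (algebraMap Ah Bh))
      ⟨q.asIdeal.map (algebraMap B Bh), hQ'p⟩ := by
    rw [hideal]
    exact hQ'rig
  have hfin' : ∀ M : Ideal Bh, M.IsMaximal →
      (⟨q.asIdeal.map (algebraMap B Bh), hQ'p⟩ : PrimeSpectrum Bh).asIdeal ≤ M →
      Module.Finite Ah (Bh ⧸ M) := by
    intro M hM hle
    exact RingHom.finite_algebraMap.mp (hfin M hM hle)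
  have hrig := ((tfae_rig_closed_comap Ah (I.map (algebraMap A Ah)) Bh hftAhBh
    ⟨q.asIdeal.map (algebraMap B Bh), hQ'p⟩ hQ'A).out 0 1).mp hfin'
  refine ⟨Ideal.comap_isPrime ψ _, hrig.1, fun y hy hIy => ?_⟩
  exact congrArg PrimeSpectrum.asIdeal (hrig.2 y hy hIy)

end Abs

theorem finite_mk_comp (A : Type u) [CommRing A] (B : Type u) [CommRing B] [Algebra A B]
    (Ah : Type u) [CommRing Ah] [Algebra A Ah]
    (Bh : Type u) [CommRing Bh] [Algebra B Bh] [Algebra A Bh] [IsScalarTower A B Bh]
    (TA : Type u) [CommRing TA] [Algebra A TA] [Algebra TA Ah] [IsScalarTower A TA Ah] (f : A)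
    [IsLocalization.Away f TA] (m : Ideal B)
    (hu : IsUnit (algebraMap A (B ⧸ m) f))
    (hZ : (IsLocalization.Away.lift (S := TA) f hu).Finite)
    (ψ : Ah →+* Bh) (hψ : ψ.comp (algebraMap A Ah) = algebraMap A Bh)
    (M : Ideal Bh) (hmM : m ≤ M.comap (algebraMap B Bh))
    (hsurj : ∀ z : Bh, ∃ b : B, z - algebraMap B Bh b ∈ M) :
    ((Ideal.Quotient.mk M).comp ψ).Finite := by
  have hρsurj : Function.Surjective (Ideal.quotientMap M (algebraMap B Bh) hmM) := by
    intro y
    obtain ⟨z, rfl⟩ := Ideal.Quotient.mk_surjective y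
    obtain ⟨b, hb⟩ := hsurj z
    refine ⟨Ideal.Quotient.mk m b, ?_⟩
    rw [Ideal.quotientMap_mk]
    exact (Ideal.Quotient.eq.mpr hb).symm
  have hρ : (Ideal.quotientMap M (algebraMap B Bh) hmM).Finite :=
    RingHom.Finite.of_surjective _ hρsurj
  have hcomp : (Ideal.quotientMap M (algebraMap B Bh) hmM).comp
      (IsLocalization.Away.lift (S := TA) f hu) =
      ((Ideal.Quotient.mk M).comp ψ).comp (algebraMap TA Ah) := by
    refine IsLocalization.ringHom_ext (Submonoid.powers f) ?_
    rw [RingHom.comp_assoc, IsLocalization.Away.lift_comp]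
    refine RingHom.ext fun a => ?_
    have h1 := RingHom.congr_fun hψ a
    simp only [RingHom.comp_apply] at h1 ⊢
    rw [← IsScalarTower.algebraMap_apply A TA Ah, h1,
      IsScalarTower.algebraMap_apply A B (B ⧸ m), Ideal.Quotient.algebraMap_eq,
      Ideal.quotientMap_mk, ← IsScalarTower.algebraMap_apply A B Bh]
  have h2 := RingHom.Finite.comp hρ hZ
  rw [hcomp] at h2
  exact RingHom.Finite.of_comp_finite h2

theorem main (A : Type u) [CommRing A] [IsNoetherianRing A] (I : Ideal A) [IsAdicComplete I A]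
    (B : Type u) [CommRing B] [Algebra A B] [IsNoetherianRing B]
    [IsAdicComplete (I.map (algebraMap A B)) B]
    (hft : Algebra.FiniteType A (B ⧸ (I.map (algebraMap A B)))) (q : PrimeSpectrum B)
    (hq : IsRig (I.map (algebraMap A B)) q) :
    ∃ f : A, IsUnit (Ideal.Quotient.mk q.asIdeal (algebraMap A B f)) ∧
    ∀ ψ : (AdicCompletion (I.map (algebraMap A (Localization.Away f))) (Localization.Away f)) →+*
      (AdicCompletion ((I.map (algebraMap A B)).map
        (algebraMap B (Localization.Away (algebraMap A B f))))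
        (Localization.Away (algebraMap A B f))),
    ψ.comp (algebraMap (Localization.Away f)
        (AdicCompletion (I.map (algebraMap A (Localization.Away f))) (Localization.Away f))) =
      (algebraMap (Localization.Away (algebraMap A B f))
        (AdicCompletion ((I.map (algebraMap A B)).map
          (algebraMap B (Localization.Away (algebraMap A B f))))
          (Localization.Away (algebraMap A B f)))).comp
        (Localization.awayMap (algebraMap A B) f) →
    (((q.asIdeal.map (algebraMap B (AdicCompletion ((I.map (algebraMap A B)).map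
        (algebraMap B (Localization.Away (algebraMap A B f))))
        (Localization.Away (algebraMap A B f))))).comap ψ).IsPrime ∧
    ¬ (I.map (algebraMap A (AdicCompletion (I.map (algebraMap A (Localization.Away f)))
        (Localization.Away f)))) ≤
      ((q.asIdeal.map (algebraMap B (AdicCompletion ((I.map (algebraMap A B)).map
        (algebraMap B (Localization.Away (algebraMap A B f))))
        (Localization.Away (algebraMap A B f))))).comap ψ) ∧
    ∀ y : PrimeSpectrum (AdicCompletion (I.map (algebraMap A (Localization.Away f)))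
        (Localization.Away f)),
      ((q.asIdeal.map (algebraMap B (AdicCompletion ((I.map (algebraMap A B)).map
        (algebraMap B (Localization.Away (algebraMap A B f))))
        (Localization.Away (algebraMap A B f))))).comap ψ) ≤ y.asIdeal →
      ¬ (I.map (algebraMap A (AdicCompletion (I.map (algebraMap A (Localization.Away f)))
        (Localization.Away f)))) ≤ y.asIdeal →
      y.asIdeal = ((q.asIdeal.map (algebraMap B (AdicCompletion ((I.map (algebraMap A B)).map
        (algebraMap B (Localization.Away (algebraMap A B f))))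
        (Localization.Away (algebraMap A B f))))).comap ψ)) := by
  have hqp : q.asIdeal.IsPrime := q.isPrime
  obtain ⟨m, hm, hqm⟩ := Ideal.exists_le_maximal q.asIdeal hqp.ne_top
  have hIm := le_of_isMaximal A I B m hm
  have huniq : ∀ m₂ : Ideal B, m₂.IsPrime → q.asIdeal ≤ m₂ → I.map (algebraMap A B) ≤ m₂ →
      m₂ = m := by
    intro m₂ hm₂ hq₂ hI₂
    obtain ⟨hmax₂, hrad₂⟩ :=
      isMaximal_and_le_radical (I.map (algebraMap A B)) q hq m₂ hm₂ hq₂ hI₂
    have hle : m₂ ≤ m :=
      hrad₂.trans ((Ideal.IsPrime.radical_le_iff hm.isPrime).mpr (sup_le hqm hIm))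
    exact hmax₂.eq_of_le hm.ne_top hle
  let _ : Field (B ⧸ m) := Ideal.Quotient.field m
  have hftm : Algebra.FiniteType A (B ⧸ m) :=
    Algebra.FiniteType.of_surjective (Ideal.Quotient.factorₐ A hIm)
      (Ideal.Quotient.factor_surjective hIm)
  obtain ⟨f, hf0, hZ⟩ := exists_finite_away (A := A) (κ := B ⧸ m)
  have hgm : algebraMap A B f ∉ m := by
    intro h
    apply hf0
    rw [IsScalarTower.algebraMap_apply A B (B ⧸ m)]
    exact Ideal.Quotient.eq_zero_iff_mem.mpr h
  have hunit : IsUnit (Ideal.Quotient.mk q.asIdeal (algebraMap A B f)) := by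
    by_contra hnu
    obtain ⟨Mb, hMb, hmem⟩ := exists_max_ideal_of_mem_nonunits hnu
    have hcm : (Mb.comap (Ideal.Quotient.mk q.asIdeal)).IsMaximal :=
      Ideal.comap_isMaximal_of_surjective _ Ideal.Quotient.mk_surjective
    have hqc : q.asIdeal ≤ Mb.comap (Ideal.Quotient.mk q.asIdeal) := by
      intro b hb
      rw [Ideal.mem_comap, Ideal.Quotient.eq_zero_iff_mem.mpr hb]
      exact Mb.zero_mem
    have h2 := huniq _ hcm.isPrime hqc (le_of_isMaximal A I B _ hcm)
    apply hgm
    rw [← h2]
    exact hmem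
  obtain ⟨v, hv⟩ := hunit.exists_left_inv
  obtain ⟨u, rfl⟩ := Ideal.Quotient.mk_surjective v
  have hu : u * algebraMap A B f - 1 ∈ q.asIdeal := by
    rw [← Ideal.Quotient.eq_zero_iff_mem, map_sub, map_mul, hv, map_one, sub_self]
  refine ⟨f, hunit, fun ψ hψ => ?_⟩
  have hNTA : IsNoetherianRing (Localization.Away f) :=
    IsLocalization.isNoetherianRing (Submonoid.powers f) _ inferInstance
  have hNTB : IsNoetherianRing (Localization.Away (algebraMap A B f)) :=
    IsLocalization.isNoetherianRing (Submonoid.powers (algebraMap A B f)) _ inferInstance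
  have hNAh : IsNoetherianRing (AdicCompletion (I.map (algebraMap A (Localization.Away f)))
      (Localization.Away f)) := Groth.Agent.S0543.result _ _
  have hNBh : IsNoetherianRing (AdicCompletion ((I.map (algebraMap A B)).map
      (algebraMap B (Localization.Away (algebraMap A B f))))
      (Localization.Away (algebraMap A B f))) := Groth.Agent.S0543.result _ _
  have hftTB : Algebra.FiniteType B (Localization.Away (algebraMap A B f) ⧸
      (I.map (algebraMap A B)).map (algebraMap B (Localization.Away (algebraMap A B f)))) :=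
    inferInstance
  have hψ' : ψ.comp (algebraMap A (AdicCompletion (I.map (algebraMap A (Localization.Away f)))
      (Localization.Away f))) = algebraMap A (AdicCompletion ((I.map (algebraMap A B)).map
      (algebraMap B (Localization.Away (algebraMap A B f))))
      (Localization.Away (algebraMap A B f))) := by
    refine RingHom.ext fun a => ?_
    have h0 := RingHom.congr_fun hψ (algebraMap A (Localization.Away f) a)
    rw [RingHom.comp_apply, RingHom.comp_apply] at h0
    have h1 : Localization.awayMap (algebraMap A B) f (algebraMap A (Localization.Away f) a) =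
        algebraMap B (Localization.Away (algebraMap A B f)) (algebraMap A B a) :=
      IsLocalization.map_eq _ a
    rw [RingHom.comp_apply, IsScalarTower.algebraMap_apply A (Localization.Away f)
      (AdicCompletion (I.map (algebraMap A (Localization.Away f))) (Localization.Away f)), h0, h1]
    rfl
  have hCB := isAdicComplete_completion B (I.map (algebraMap A B))
    (Localization.Away (algebraMap A B f))
  have F1' := F1 (I.map (algebraMap A B)) (algebraMap A B f) u
    (Localization.Away (algebraMap A B f)) q.asIdeal hu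
  have F2' := F2 (I.map (algebraMap A B)) (algebraMap A B f) u
    (Localization.Away (algebraMap A B f)) q.asIdeal hu
  have hfu : IsUnit (algebraMap A (B ⧸ m) f) := Ne.isUnit hf0
  have hZ' : (IsLocalization.Away.lift (S := Localization.Away f) f hfu).Finite := by
    let _ : Algebra (Localization.Away f) (B ⧸ m) :=
      (IsLocalization.Away.lift (S := Localization.Away f) f hfu).toAlgebra
    have hST : IsScalarTower A (Localization.Away f) (B ⧸ m) :=
      IsScalarTower.of_algebraMap_eq (fun a => (IsLocalization.Away.lift_eq f hfu a).symm)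
    exact hZ (Localization.Away f)
  refine core A I B _ _ hft (isAdicComplete_completion A I (Localization.Away f)) hCB
    (finiteType_completion_quotient B (I.map (algebraMap A B))
      (Localization.Away (algebraMap A B f)) hftTB) q hq F1' F2' ψ hψ' ?_
  intro M hM hQM
  have hMp : M.IsPrime := hM.isPrime
  have hcp : (M.comap (algebraMap B (AdicCompletion ((I.map (algebraMap A B)).map
      (algebraMap B (Localization.Away (algebraMap A B f))))
      (Localization.Away (algebraMap A B f))))).IsPrime := Ideal.comap_isPrime _ _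
  have h1 : q.asIdeal ≤ M.comap (algebraMap B (AdicCompletion ((I.map (algebraMap A B)).map
      (algebraMap B (Localization.Away (algebraMap A B f))))
      (Localization.Away (algebraMap A B f)))) := Ideal.map_le_iff_le_comap.mp hQM
  have h2 : I.map (algebraMap A B) ≤ M.comap (algebraMap B (AdicCompletion
      ((I.map (algebraMap A B)).map (algebraMap B (Localization.Away (algebraMap A B f))))
      (Localization.Away (algebraMap A B f)))) :=
    Ideal.map_le_iff_le_comap.mp (le_of_isMaximal B (I.map (algebraMap A B)) _ M hM)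
  have h3 := huniq _ hcp h1 h2
  exact finite_mk_comp A B _ _ (Localization.Away f) f m hfu hZ' ψ hψ' M (le_of_eq h3.symm)
    (fun z => by
      obtain ⟨b, hb⟩ := F1' z
      exact ⟨b, hQM hb⟩)

end Groth.Agent.Lib.Helper63.RigPt
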