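import Mathlib.RingTheory.Valuation.ValuationSubring
import Mathlib.RingTheory.DiscreteValuationRing.Basic
import Mathlib.RingTheory.KrullDimension.Basic
import Mathlib.RingTheory.KrullDimension.Field
import Mathlib.RingTheory.Jacobson.Ideal
import Mathlib.RingTheory.Localization.Away.Basic
import Mathlib.RingTheory.Filtration
import Mathlib.RingTheory.Spectrum.Maximal.Basic
import Mathlib.RingTheory.Localization.FractionRing
import Mathlib.RingTheory.Ideal.Operations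

set_option autoImplicit false
universe u

namespace Groth.Agent.Lib.Helper63.SemilocalGlue

variable {K : Type u} [Field K]

theorem zpow_mem_of_mem (S : Subring K) {w : K} (h1 : w ∈ S) (h2 : w⁻¹ ∈ S) (n : ℤ) :
    w ^ n ∈ S := by
  cases n with
  | ofNat k =>
    rw [Int.ofNat_eq_natCast, zpow_natCast]
    exact S.pow_mem h1 k
  | negSucc k =>
    rw [zpow_negSucc, ← inv_pow]
    exact S.pow_mem h2 _

def UU (S : Subring K) (w : K) : Prop := w ∈ S ∧ w⁻¹ ∈ S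

theorem UU.mul {S : Subring K} {a b : K} (ha : UU S a) (hb : UU S b) : UU S (a * b) :=
  ⟨S.mul_mem ha.1 hb.1, by rw [mul_inv]; exact S.mul_mem ha.2 hb.2⟩

theorem UU.zpow {S : Subring K} {a : K} (ha : UU S a) (n : ℤ) : UU S (a ^ n) :=
  ⟨zpow_mem_of_mem S ha.1 ha.2 n, by
    rw [← inv_zpow]
    exact zpow_mem_of_mem S ha.2 (by rw [inv_inv]; exact ha.1) n⟩

theorem UU.pow {S : Subring K} {a : K} (ha : UU S a) (n : ℕ) : UU S (a ^ n) := by
  have := ha.zpow (n : ℤ)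
  rwa [zpow_natCast] at this

theorem dvr_decomp (B : ValuationSubring K) [IsDiscreteValuationRing B] {ϖ : B}
    (hϖ : Irreducible ϖ) {c : K} (hc : c ≠ 0) :
    ∃ (n : ℤ) (w : K), UU B.toSubring w ∧ c = w * (ϖ : K) ^ n := by
  obtain ⟨n, u, hu⟩ :=
    IsDiscreteValuationRing.exists_units_eq_smul_zpow_of_irreducible (K := K) hϖ hc
  refine ⟨n, ((u : B) : K), ⟨(u : B).2, ?_⟩, ?_⟩
  · have h1 : ((u : B) : K) * (((u⁻¹ : Bˣ) : B) : K) = 1 :=
      congrArg Subtype.val u.mul_inv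
    rw [inv_eq_of_mul_eq_one_right h1]
    exact ((u⁻¹ : Bˣ) : B).2
  · rw [hu]
    rfl

theorem irreducible_ne_zero (B : ValuationSubring K) {ϖ : B} (hϖ : Irreducible ϖ) :
    (ϖ : K) ≠ 0 := fun h => hϖ.ne_zero (Subtype.ext h)

theorem exponent_pos (B : ValuationSubring K) {ϖ : B}
    {x w : K} {j : ℤ} (hw : UU B.toSubring w) (hx : x = w * (ϖ : K) ^ j) (hxinv : x⁻¹ ∉ B) :
    1 ≤ j := by
  by_contra hj
  have hj' : 0 ≤ -j := by omega
  obtain ⟨k, hk⟩ := Int.eq_ofNat_of_zero_le hj'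
  apply hxinv
  rw [hx, mul_inv, ← zpow_neg, hk, zpow_natCast]
  exact B.toSubring.mul_mem hw.2 (B.toSubring.pow_mem ϖ.2 k)

theorem exists_pow_mul_mem (B : ValuationSubring K) [IsDiscreteValuationRing B]
    {x : K} (hx0 : x ≠ 0) (hxinv : x⁻¹ ∉ B) (c : K) :
    ∃ n : ℕ, x ^ n * c ∈ B := by
  by_cases hc : c = 0
  · exact ⟨0, by rw [hc, mul_zero]; exact B.zero_mem⟩
  obtain ⟨ϖ, hϖ⟩ := IsDiscreteValuationRing.exists_irreducible B
  have hϖ0 := irreducible_ne_zero B hϖ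
  obtain ⟨i, w, hw, hcw⟩ := dvr_decomp B hϖ hc
  obtain ⟨j, w', hw', hxw⟩ := dvr_decomp B hϖ hx0
  have hj := exponent_pos B hw' hxw hxinv
  refine ⟨i.natAbs, ?_⟩
  have hexp : 0 ≤ j * (i.natAbs : ℤ) + i := by
    have h1 : (i.natAbs : ℤ) ≤ j * (i.natAbs : ℤ) := by nlinarith [Int.natCast_nonneg i.natAbs]
    have h2 : -i ≤ (i.natAbs : ℤ) := by omega
    omega
  obtain ⟨k, hk⟩ := Int.eq_ofNat_of_zero_le hexp
  have heq : x ^ i.natAbs * c = w' ^ i.natAbs * w * (ϖ : K) ^ k := by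
    have h3 : ((ϖ : K) ^ j) ^ i.natAbs * (ϖ : K) ^ i = (ϖ : K) ^ k := by
      rw [← zpow_natCast ((ϖ : K) ^ j) i.natAbs, ← zpow_mul, ← zpow_add₀ hϖ0, hk, zpow_natCast]
    rw [← h3, hxw, hcw]
    ring
  rw [heq]
  exact B.toSubring.mul_mem (B.toSubring.mul_mem (hw'.pow _).1 hw.1) (B.toSubring.pow_mem ϖ.2 k)

theorem exists_unit_combination (B : ValuationSubring K) [IsDiscreteValuationRing B]
    {x s : K} (hx0 : x ≠ 0) (hxinv : x⁻¹ ∉ B) (hs : s ≠ 0) :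
    ∃ (J : ℕ) (i : ℤ), 1 ≤ J ∧ UU B.toSubring (s ^ J * x ^ (-i)) := by
  obtain ⟨ϖ, hϖ⟩ := IsDiscreteValuationRing.exists_irreducible B
  have hϖ0 := irreducible_ne_zero B hϖ
  obtain ⟨i, w, hw, hsw⟩ := dvr_decomp B hϖ hs
  obtain ⟨j, w', hw', hxw⟩ := dvr_decomp B hϖ hx0
  have hj := exponent_pos B hw' hxw hxinv
  obtain ⟨J, hJ⟩ := Int.eq_ofNat_of_zero_le (show 0 ≤ j by omega)
  refine ⟨J, i, by omega, ?_⟩
  have heq : s ^ J * x ^ (-i) = w ^ J * w' ^ (-i) := by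
    have h3 : ((ϖ : K) ^ i) ^ J * ((ϖ : K) ^ j) ^ (-i) = 1 := by
      rw [← zpow_natCast ((ϖ : K) ^ i) J, ← zpow_mul, ← zpow_mul, ← zpow_add₀ hϖ0, ← hJ]
      have : i * j + j * -i = 0 := by ring
      rw [this, zpow_zero]
    rw [hsw, hxw, mul_pow, mul_zpow]
    calc w ^ J * ((ϖ : K) ^ i) ^ J * (w' ^ (-i) * ((ϖ : K) ^ j) ^ (-i))
        = w ^ J * w' ^ (-i) * (((ϖ : K) ^ i) ^ J * ((ϖ : K) ^ j) ^ (-i)) := by ring
      _ = w ^ J * w' ^ (-i) := by rw [h3, mul_one]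
  rw [heq]
  exact (hw.pow J).mul (hw'.zpow (-i))

section Semilocal

variable {A : Type u} [CommRing A] [IsDomain A]

theorem exists_ne_zero_mem_jacobson (hsl : Finite (MaximalSpectrum A)) (hnf : ¬ IsField A) :
    ∃ s : A, s ≠ 0 ∧ s ∈ Ideal.jacobson (⊥ : Ideal A) := by
  classical
  have := Fintype.ofFinite (MaximalSpectrum A)
  have hch : ∀ m : MaximalSpectrum A, ∃ z : A, z ≠ 0 ∧ z ∈ m.asIdeal := by
    intro m
    have hne : m.asIdeal ≠ ⊥ := by
      intro h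
      apply hnf
      rw [Ring.isField_iff_maximal_bot, ← h]
      exact m.isMaximal
    obtain ⟨z, hz, hz0⟩ := Submodule.exists_mem_ne_zero_of_ne_bot hne
    exact ⟨z, hz0, hz⟩
  choose z hz0 hzm using hch
  refine ⟨∏ m, z m, Finset.prod_ne_zero_iff.mpr (fun m _ => hz0 m), ?_⟩
  rw [Ideal.jacobson, Ideal.mem_sInf]
  rintro J ⟨-, hJ⟩
  have hJp : J.IsPrime := hJ.isPrime
  exact Ideal.IsPrime.prod_mem_iff.mpr ⟨⟨J, hJ⟩, Finset.mem_univ _, hzm ⟨J, hJ⟩⟩

theorem exists_pow_mem_span [Ring.KrullDimLE 1 A] {s a : A}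
    (hs : s ∈ Ideal.jacobson (⊥ : Ideal A)) (ha : a ≠ 0) :
    ∃ n : ℕ, s ^ n ∈ Ideal.span {a} := by
  have : s ∈ (Ideal.span {a}).radical := by
    rw [Ideal.radical_eq_sInf, Ideal.mem_sInf]
    rintro q ⟨hq1, hq2⟩
    have hqne : q ≠ ⊥ := by
      intro h
      apply ha
      have h1 : a ∈ q := hq1 (Ideal.mem_span_singleton_self a)
      rw [h] at h1
      exact h1
    have hmax := hq2.isMaximal_of_ne_bot hqne
    rw [Ideal.jacobson, Ideal.mem_sInf] at hs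
    exact hs ⟨bot_le, hmax⟩
  exact this

theorem exists_pow_mul_eq_algebraMap [Ring.KrullDimLE 1 A] [Algebra A K] [IsFractionRing A K]
    {s : A} (hs : s ∈ Ideal.jacobson (⊥ : Ideal A)) (c : K) :
    ∃ (n : ℕ) (a : A), algebraMap A K s ^ n * c = algebraMap A K a := by
  obtain ⟨a1, a2, ha2, rfl⟩ := IsFractionRing.div_surjective (A := A) c
  have ha20 : a2 ≠ 0 := nonZeroDivisors.ne_zero ha2
  obtain ⟨n, hn⟩ := exists_pow_mem_span hs ha20
  obtain ⟨t, ht⟩ := Ideal.mem_span_singleton'.mp hn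
  refine ⟨n, t * a1, ?_⟩
  have h0 : algebraMap A K a2 ≠ 0 :=
    (map_ne_zero_iff _ (IsFractionRing.injective A K)).mpr ha20
  rw [← map_pow, ← ht, map_mul, map_mul]
  field_simp

end Semilocal

theorem away_of {R S : Subring K} (h : R ≤ S) (x : R) (hxinv : (x : K)⁻¹ ∈ S) (hx0 : (x : K) ≠ 0)
    (hsurj : ∀ c ∈ S, ∃ n : ℕ, (x : K) ^ n * c ∈ R) :
    @IsLocalization.Away R _ x S _ (Subring.inclusion h).toAlgebra := by
  let _ := (Subring.inclusion h).toAlgebra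
  refine (isLocalization_iff (Submonoid.powers x) S).mpr ⟨?_, ?_, ?_⟩
  · rintro ⟨_, n, rfl⟩
    refine isUnit_iff_exists_inv.mpr ⟨⟨((x : K)⁻¹) ^ n, S.pow_mem hxinv n⟩, Subtype.ext ?_⟩
    change ((x : K)) ^ n * ((x : K)⁻¹) ^ n = 1
    rw [← mul_pow, mul_inv_cancel₀ hx0, one_pow]
  · intro z
    obtain ⟨n, hn⟩ := hsurj z z.2
    refine ⟨(⟨(x : K) ^ n * z, hn⟩, ⟨x ^ n, n, rfl⟩), Subtype.ext ?_⟩
    change (z : K) * (x : K) ^ n = (x : K) ^ n * z
    exact mul_comm _ _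
  · intro a b hab
    refine ⟨1, ?_⟩
    have : a = b := Subtype.ext (congrArg (Subtype.val : S → K) hab)
    rw [this]

theorem le_of_units_mem (A : Subring K) (B : ValuationSubring K) [IsDiscreteValuationRing B]
    {s : A} (hs0 : s ≠ 0) (hs : s ∈ Ideal.jacobson (⊥ : Ideal A))
    (hunits : ∀ u : A, IsUnit u → (u : K) ∈ B) : A ≤ B.toSubring := by
  intro a ha
  by_contra haB
  have hc : a⁻¹ ∈ B := (B.mem_or_inv_mem a).resolve_left haB
  have ha0 : a ≠ 0 := fun h => haB (h ▸ B.zero_mem)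
  have hpow : ∀ n : ℕ, a ^ n * (s : K) ∈ B := by
    intro n
    have hu : IsUnit (s * (⟨a, ha⟩ : A) ^ n + 1) := Ideal.mem_jacobson_bot.mp hs _
    have h1 : (s : K) * a ^ n + 1 ∈ B := hunits _ hu
    have h2 := B.sub_mem h1 B.one_mem
    rw [add_sub_cancel_right, mul_comm] at h2
    exact h2
  have hsB : (s : K) ∈ B := by simpa using hpow 0
  have hcm : (⟨a⁻¹, hc⟩ : B) ∈ IsLocalRing.maximalIdeal B := by
    rw [IsLocalRing.mem_maximalIdeal, mem_nonunits_iff]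
    intro hu
    obtain ⟨d, hd⟩ := isUnit_iff_exists_inv.mp hu
    apply haB
    have h2 : a⁻¹ * (d : K) = 1 := congrArg Subtype.val hd
    have h3 : (d : K) = a := by
      rw [← inv_inv a]
      exact (inv_eq_of_mul_eq_one_right h2).symm
    rw [← h3]
    exact d.2
  have hmem : ∀ n : ℕ, (⟨s, hsB⟩ : B) ∈ IsLocalRing.maximalIdeal B ^ n := by
    intro n
    have h4 : (⟨s, hsB⟩ : B) = (⟨a⁻¹, hc⟩ : B) ^ n * ⟨a ^ n * s, hpow n⟩ := by
      apply Subtype.ext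
      change (s : K) = (a⁻¹) ^ n * (a ^ n * s)
      rw [← mul_assoc, ← mul_pow, inv_mul_cancel₀ ha0, one_pow, one_mul]
    rw [h4]
    exact Ideal.mul_mem_right _ _ (Ideal.pow_mem_pow hcm n)
  have hbot := Ideal.iInf_pow_eq_bot_of_isLocalRing (IsLocalRing.maximalIdeal B)
    (Ideal.IsPrime.ne_top inferInstance)
  have h5 : (⟨s, hsB⟩ : B) ∈ (⨅ n, IsLocalRing.maximalIdeal B ^ n) := (Ideal.mem_iInf).mpr hmem
  rw [hbot] at h5
  apply hs0
  exact Subtype.ext (congrArg (Subtype.val : B → K) ((Ideal.mem_bot).mp h5))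

theorem comap_maximalIdeal_isMaximal (A : Subring K) [IsFractionRing A K] [Ring.KrullDimLE 1 A]
    (B : ValuationSubring K) [IsDiscreteValuationRing B] (h : A ≤ B.toSubring) :
    (Ideal.comap (Subring.inclusion h) (IsLocalRing.maximalIdeal B)).IsMaximal := by
  have hprime : (Ideal.comap (Subring.inclusion h) (IsLocalRing.maximalIdeal B)).IsPrime :=
    Ideal.comap_isPrime _ _
  refine hprime.isMaximal_of_ne_bot ?_
  intro hbot
  obtain ⟨ϖ, hϖ⟩ := IsDiscreteValuationRing.exists_irreducible B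
  have hϖ0 : (ϖ : K) ≠ 0 := irreducible_ne_zero B hϖ
  obtain ⟨a1, a2, ha2, he⟩ := IsFractionRing.div_surjective (A := A) ((ϖ : K)⁻¹)
  have ha20 : a2 ≠ 0 := nonZeroDivisors.ne_zero ha2
  have hnot : a2 ∉ Ideal.comap (Subring.inclusion h) (IsLocalRing.maximalIdeal B) := by
    rw [hbot]
    exact ha20
  rw [Ideal.mem_comap, IsLocalRing.mem_maximalIdeal, mem_nonunits_iff, not_not] at hnot
  obtain ⟨d, hd⟩ := isUnit_iff_exists_inv.mp hnot
  have h2 : (a2 : K) * (d : K) = 1 := congrArg Subtype.val hd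
  have h3 : (ϖ : K)⁻¹ = (a1 : K) * (d : K) := by
    rw [← he, ← inv_eq_of_mul_eq_one_right h2, div_eq_mul_inv]
    rfl
  have hmem : (ϖ : K)⁻¹ ∈ B := by
    rw [h3]
    exact B.toSubring.mul_mem (h a1.2) d.2
  apply hϖ.not_isUnit
  exact isUnit_iff_exists_inv.mpr ⟨⟨(ϖ : K)⁻¹, hmem⟩, Subtype.ext (mul_inv_cancel₀ hϖ0)⟩

theorem dvr_ne_top (B : ValuationSubring K) [IsDiscreteValuationRing B] : B.toSubring ≠ ⊤ := by
  intro htop
  obtain ⟨ϖ, hϖ⟩ := IsDiscreteValuationRing.exists_irreducible B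
  have hϖ0 : (ϖ : K) ≠ 0 := irreducible_ne_zero B hϖ
  have hmem : (ϖ : K)⁻¹ ∈ B.toSubring := htop ▸ Subring.mem_top _
  apply hϖ.not_isUnit
  exact isUnit_iff_exists_inv.mpr ⟨⟨(ϖ : K)⁻¹, hmem⟩, Subtype.ext (mul_inv_cancel₀ hϖ0)⟩

theorem away_fractionField {A : Type u} [CommRing A] [IsDomain A] [Ring.KrullDimLE 1 A]
    [Algebra A K] [IsFractionRing A K] {s : A} (hs : s ∈ Ideal.jacobson (⊥ : Ideal A))
    (hs0 : s ≠ 0) : IsLocalization.Away s K := by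
  have h0 : algebraMap A K s ≠ 0 := (map_ne_zero_iff _ (IsFractionRing.injective A K)).mpr hs0
  refine (isLocalization_iff (Submonoid.powers s) K).mpr ⟨?_, ?_, ?_⟩
  · rintro ⟨_, n, rfl⟩
    rw [map_pow]
    exact (pow_ne_zero n h0).isUnit
  · intro c
    obtain ⟨n, a, hn⟩ := exists_pow_mul_eq_algebraMap (K := K) hs c
    refine ⟨(a, ⟨s ^ n, n, rfl⟩), ?_⟩
    change c * algebraMap A K (s ^ n) = algebraMap A K a
    rw [map_pow, mul_comm]
    exact hn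
  · intro a b hab
    refine ⟨1, ?_⟩
    rw [IsFractionRing.injective A K hab]

theorem isUnit_add_of_mem_jacobson {A : Type u} [CommRing A] {x y : A} (hx : IsUnit x)
    (hy : y ∈ Ideal.jacobson (⊥ : Ideal A)) : IsUnit (x + y) := by
  obtain ⟨x', hx'⟩ := isUnit_iff_exists_inv.mp hx
  have h1 : IsUnit (y * x' + 1) := Ideal.mem_jacobson_bot.mp hy x'
  have h2 : x + y = x * (y * x' + 1) := by
    calc x + y = x + y * (x * x') := by rw [hx', mul_one]
      _ = x * (y * x' + 1) := by ring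
  rw [h2]
  exact hx.mul h1

end Groth.Agent.Lib.Helper63.SemilocalGlue
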