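import Groth.Agent.Lib.Helper63.SemilocalNormal
import Mathlib.AlgebraicGeometry.OpenImmersion
import Mathlib.Algebra.Category.Ring.Constructions

set_option autoImplicit false
set_option linter.unusedSectionVars false
universe u

open CategoryTheory CategoryTheory.Limits AlgebraicGeometry

namespace Groth.Agent.Lib.Helper63.SemilocalGlue2

open Groth.Agent.Lib.Helper63.SemilocalGlue Groth.Agent.Lib.Helper63.SemilocalNormal

variable {K : Type u} [Field K]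

theorem exists_inv_mem_jacobson (A : Subring K) {ι : Type*} (s : Finset ι) (B : ι → Subring K)
    [∀ i, IsNoetherianRing (B i)] [∀ i, IsFractionRing (B i) K]
    (hdim : ∀ i, Ring.KrullDimLE 1 (B i)) (hnf : ∀ i, ¬ IsField (B i))
    (hsl : ∀ i, Finite (MaximalSpectrum (B i))) (hgen : ∀ i ∈ s, A ⊔ B i = ⊤) :
    ∃ x : K, x ∈ A ∧ x ≠ 0 ∧
      ∀ i ∈ s, ∃ hx : x⁻¹ ∈ B i, (⟨x⁻¹, hx⟩ : B i) ∈ Ideal.jacobson (⊥ : Ideal (B i)) := by
  classical
  choose W hW1 hW2 using fun i => exists_finset_valuationSubring K (B i) (hsl i) (hnf i)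
  have hA : ∀ V ∈ s.biUnion W, ¬ A ≤ (id V : ValuationSubring K).toSubring := by
    intro V hV hle
    obtain ⟨i, his, hVi⟩ := Finset.mem_biUnion.mp hV
    obtain ⟨hB, hne⟩ := hW1 i V hVi
    apply hne
    have hsup : A ⊔ B i ≤ V.toSubring := sup_le hle (fun b hb => hB ⟨b, hb⟩)
    rw [hgen i his] at hsup
    exact eq_top_iff.mpr (fun x _ => hsup (Subring.mem_top x))
  obtain ⟨x, hxA, hx0, hx⟩ := exists_notMem_valuationSubrings A (s.biUnion W) id hA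
  have hk : ∀ i, i ∈ s → ∃ k : ℕ, 0 < k ∧ ∃ b : B i, b ∈ Ideal.jacobson (⊥ : Ideal (B i)) ∧
      (b : K) = (x⁻¹) ^ k := fun i his =>
    hW2 i x hx0 (fun V hV => hx V (Finset.mem_biUnion.mpr ⟨i, his, hV⟩))
  choose! k hkpos b hbjac hbeq using hk
  have hNpos : 0 < ∏ i ∈ s, k i := Finset.prod_pos (fun i hi => hkpos i hi)
  refine ⟨x ^ (∏ i ∈ s, k i), A.pow_mem hxA _, pow_ne_zero _ hx0, fun i his => ?_⟩
  obtain ⟨q, hq⟩ := Finset.dvd_prod_of_mem k his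
  have hqpos : 0 < q := by
    rcases Nat.eq_zero_or_pos q with h | h
    · rw [h, mul_zero] at hq
      omega
    · exact h
  have heq : (x ^ (∏ i ∈ s, k i))⁻¹ = ((b i ^ q : B i) : K) := by
    rw [← inv_pow, hq, pow_mul, ← hbeq i his]
    rfl
  have hmem : (x ^ (∏ i ∈ s, k i))⁻¹ ∈ B i := heq ▸ (b i ^ q).2
  refine ⟨hmem, ?_⟩
  have h2 : (⟨(x ^ (∏ i ∈ s, k i))⁻¹, hmem⟩ : B i) = b i ^ q := Subtype.ext heq
  rw [h2]
  exact Ideal.pow_mem_of_mem _ (hbjac i his) q hqpos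

def radSet (A : Subring K) : Set K := {z | ∃ h : z ∈ A, (⟨z, h⟩ : A) ∈ Ideal.jacobson (⊥ : Ideal A)}

theorem radSet_mem {A : Subring K} {z : K} (hz : z ∈ radSet A) : z ∈ A := hz.1

theorem radSet_zero (A : Subring K) : (0 : K) ∈ radSet A :=
  ⟨A.zero_mem, by
    have : (⟨0, A.zero_mem⟩ : A) = 0 := rfl
    rw [this]
    exact Ideal.zero_mem _⟩

theorem radSet_add {A : Subring K} {z w : K} (hz : z ∈ radSet A) (hw : w ∈ radSet A) :
    z + w ∈ radSet A := by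
  obtain ⟨h1, h2⟩ := hz
  obtain ⟨h3, h4⟩ := hw
  refine ⟨A.add_mem h1 h3, ?_⟩
  have : (⟨z + w, A.add_mem h1 h3⟩ : A) = ⟨z, h1⟩ + ⟨w, h3⟩ := rfl
  rw [this]
  exact Ideal.add_mem _ h2 h4

theorem radSet_mul {A : Subring K} {a z : K} (ha : a ∈ A) (hz : z ∈ radSet A) :
    a * z ∈ radSet A := by
  obtain ⟨h1, h2⟩ := hz
  refine ⟨A.mul_mem ha h1, ?_⟩
  have : (⟨a * z, A.mul_mem ha h1⟩ : A) = ⟨a, ha⟩ * ⟨z, h1⟩ := rfl
  rw [this]
  exact Ideal.mul_mem_left _ _ h2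

theorem radSet_sum {A : Subring K} {ι : Type*} (s : Finset ι) (f : ι → K)
    (h : ∀ i ∈ s, f i ∈ radSet A) : ∑ i ∈ s, f i ∈ radSet A :=
  Finset.sum_induction f (· ∈ radSet A) (fun _ _ => radSet_add) (radSet_zero A) h

theorem radSet_one_add {A : Subring K} {z : K} (hz : z ∈ radSet A) :
    1 + z ∈ A ∧ (1 + z)⁻¹ ∈ A ∧ 1 + z ≠ 0 := by
  obtain ⟨h1, h2⟩ := hz
  have hu : IsUnit ((⟨z, h1⟩ : A) * 1 + 1) := Ideal.mem_jacobson_bot.mp h2 1
  obtain ⟨w, hw⟩ := isUnit_iff_exists_inv.mp hu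
  have hwK : (z * 1 + 1) * (w : K) = 1 := congrArg (Subtype.val : A → K) hw
  rw [mul_one, add_comm] at hwK
  refine ⟨A.add_mem A.one_mem h1, ?_, ?_⟩
  · rw [inv_eq_of_mul_eq_one_right hwK]
    exact w.2
  · intro h0
    rw [h0, zero_mul] at hwK
    exact zero_ne_one hwK

theorem exists_partition_of_unity {ι : Type*} [Fintype ι] [DecidableEq ι] [Nonempty ι]
    (A : ι → Subring K) [∀ i, IsNoetherianRing (A i)] [∀ i, IsFractionRing (A i) K]
    (hdim : ∀ i, Ring.KrullDimLE 1 (A i)) (hnf : ∀ i, ¬ IsField (A i))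
    (hsl : ∀ i, Finite (MaximalSpectrum (A i))) (hgen : ∀ i j, i ≠ j → A i ⊔ A j = ⊤) :
    ∃ e : ι → K, (∀ i, e i ∈ A i ∧ (e i)⁻¹ ∈ A i) ∧ (∀ i, e i ≠ 0) ∧
      (∀ k i, k ≠ i → e k ∈ radSet (A i)) ∧ ∑ i, e i = 1 := by
  have hx : ∀ i, ∃ x : K, x ∈ A i ∧ x ≠ 0 ∧ ∀ j ∈ Finset.univ.erase i,
      ∃ hx : x⁻¹ ∈ A j, (⟨x⁻¹, hx⟩ : A j) ∈ Ideal.jacobson (⊥ : Ideal (A j)) := fun i =>
    exists_inv_mem_jacobson (A i) (Finset.univ.erase i) A hdim hnf hsl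
      (fun j hj => hgen i j (Finset.ne_of_mem_erase hj).symm)
  choose x hxA hx0 hxjac using hx
  have hb : ∀ k i, k ≠ i → (x k)⁻¹ ∈ radSet (A i) := fun k i hki =>
    hxjac k i (Finset.mem_erase.mpr ⟨hki.symm, Finset.mem_univ i⟩)
  have hT : ∀ i, x i * ∑ j ∈ Finset.univ.erase i, (x j)⁻¹ ∈ radSet (A i) := fun i =>
    radSet_mul (hxA i) (radSet_sum _ _ (fun j hj => hb j i (Finset.ne_of_mem_erase hj)))
  have hS : ∀ i, ∑ j, (x j)⁻¹ =
      (x i)⁻¹ * (1 + x i * ∑ j ∈ Finset.univ.erase i, (x j)⁻¹) := by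
    intro i
    rw [mul_add, mul_one, ← mul_assoc, inv_mul_cancel₀ (hx0 i), one_mul]
    exact (Finset.add_sum_erase _ (fun j => (x j)⁻¹) (Finset.mem_univ i)).symm
  have hS0 : ∑ j, (x j)⁻¹ ≠ 0 := by
    obtain ⟨i⟩ := (inferInstance : Nonempty ι)
    rw [hS i]
    exact mul_ne_zero (inv_ne_zero (hx0 i)) (radSet_one_add (hT i)).2.2
  have he : ∀ i, (x i)⁻¹ / ∑ j, (x j)⁻¹ =
      (1 + x i * ∑ j ∈ Finset.univ.erase i, (x j)⁻¹)⁻¹ := by
    intro i
    have h2 := inv_ne_zero (hx0 i)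
    rw [hS i, div_mul_eq_div_div, div_self h2, one_div]
  refine ⟨fun i => (x i)⁻¹ / ∑ j, (x j)⁻¹, fun i => ?_, fun i => ?_, fun k i hki => ?_, ?_⟩
  · change (x i)⁻¹ / ∑ j, (x j)⁻¹ ∈ A i ∧ ((x i)⁻¹ / ∑ j, (x j)⁻¹)⁻¹ ∈ A i
    rw [he i, inv_inv]
    exact ⟨(radSet_one_add (hT i)).2.1, (radSet_one_add (hT i)).1⟩
  · exact div_ne_zero (inv_ne_zero (hx0 i)) hS0
  · change (x k)⁻¹ / ∑ j, (x j)⁻¹ ∈ radSet (A i)
    have h3 : (x k)⁻¹ / ∑ j, (x j)⁻¹ =
        (x i * (1 + x i * ∑ j ∈ Finset.univ.erase i, (x j)⁻¹)⁻¹) * (x k)⁻¹ := by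
      rw [hS i, div_eq_mul_inv, mul_inv, inv_inv]
      ring
    rw [h3]
    exact radSet_mul ((A i).mul_mem (hxA i) (radSet_one_add (hT i)).2.1) (hb k i hki)
  · change ∑ i, (x i)⁻¹ / ∑ j, (x j)⁻¹ = 1
    rw [← Finset.sum_div, div_self hS0]

theorem radSet_pow_mul {A : Subring K} [IsFractionRing A K] [Ring.KrullDimLE 1 A] {z : K}
    (hz : z ∈ radSet A) (c : K) : ∃ n : ℕ, z ^ n * c ∈ A := by
  obtain ⟨h1, h2⟩ := hz
  obtain ⟨n, a, hn⟩ := exists_pow_mul_eq_algebraMap (K := K) h2 c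
  refine ⟨n, ?_⟩
  have hn' : z ^ n * c = (a : K) := hn
  rw [hn']
  exact a.2

theorem glue_two (A B : Subring K) [IsFractionRing A K] [IsFractionRing B K]
    [Ring.KrullDimLE 1 A] [Ring.KrullDimLE 1 B]
    (e e' : K) (heA : e ∈ A) (heinv : e⁻¹ ∈ A) (he0 : e ≠ 0) (heB : e ∈ radSet B)
    (he'B : e' ∈ B) (he'inv : e'⁻¹ ∈ B) (he'0 : e' ≠ 0) (he'A : e' ∈ radSet A)
    (hsum : e + e' = 1) :
    IsOpenImmersion (Spec.map (CommRingCat.ofHom (Subring.inclusion (inf_le_left : A ⊓ B ≤ A)))) ∧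
      IsOpenImmersion (Spec.map (CommRingCat.ofHom (Subring.inclusion (inf_le_right : A ⊓ B ≤ B)))) ∧
      Set.range (Spec.map (CommRingCat.ofHom (Subring.inclusion (inf_le_left : A ⊓ B ≤ A)))).base ∪
        Set.range (Spec.map (CommRingCat.ofHom (Subring.inclusion (inf_le_right : A ⊓ B ≤ B)))).base =
          Set.univ ∧
      IsPushout (CommRingCat.ofHom (Subring.inclusion (inf_le_left : A ⊓ B ≤ A)))
        (CommRingCat.ofHom (Subring.inclusion (inf_le_right : A ⊓ B ≤ B)))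
        (CommRingCat.ofHom A.subtype) (CommRingCat.ofHom B.subtype) := by
  let x : ↥(A ⊓ B) := ⟨e, Subring.mem_inf.mpr ⟨heA, heB.1⟩⟩
  let y : ↥(A ⊓ B) := ⟨e', Subring.mem_inf.mpr ⟨he'A.1, he'B⟩⟩
  have locA : @IsLocalization.Away _ _ x A _
      (Subring.inclusion (inf_le_left : A ⊓ B ≤ A)).toAlgebra := by
    refine away_of (inf_le_left : A ⊓ B ≤ A) x heinv he0 ?_
    intro c hc
    obtain ⟨n, hn⟩ := radSet_pow_mul heB c
    exact ⟨n, Subring.mem_inf.mpr ⟨A.mul_mem (A.pow_mem heA n) hc, hn⟩⟩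
  have locB : @IsLocalization.Away _ _ y B _
      (Subring.inclusion (inf_le_right : A ⊓ B ≤ B)).toAlgebra := by
    refine away_of (inf_le_right : A ⊓ B ≤ B) y he'inv he'0 ?_
    intro c hc
    obtain ⟨n, hn⟩ := radSet_pow_mul he'A c
    exact ⟨n, Subring.mem_inf.mpr ⟨hn, B.mul_mem (B.pow_mem he'B n) hc⟩⟩
  have hxy : x + y = 1 := Subtype.ext hsum
  have locK : IsLocalization.Away (Subring.inclusion (inf_le_left : A ⊓ B ≤ A) y) K := by
    refine away_fractionField (K := K) he'A.2 ?_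
    intro h
    exact he'0 (congrArg (Subtype.val : A → K) h)
  let algA : Algebra ↥(A ⊓ B) A := (Subring.inclusion (inf_le_left : A ⊓ B ≤ A)).toAlgebra
  let algB : Algebra ↥(A ⊓ B) B := (Subring.inclusion (inf_le_right : A ⊓ B ≤ B)).toAlgebra
  have hrA : Set.range (Spec.map (CommRingCat.ofHom
      (Subring.inclusion (inf_le_left : A ⊓ B ≤ A)))).base =
      (PrimeSpectrum.basicOpen x : Set (PrimeSpectrum ↥(A ⊓ B))) :=
    PrimeSpectrum.localization_away_comap_range A x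
  have hrB : Set.range (Spec.map (CommRingCat.ofHom
      (Subring.inclusion (inf_le_right : A ⊓ B ≤ B)))).base =
      (PrimeSpectrum.basicOpen y : Set (PrimeSpectrum ↥(A ⊓ B))) :=
    PrimeSpectrum.localization_away_comap_range B y
  refine ⟨IsOpenImmersion.of_isLocalization (R := ↥(A ⊓ B)) (S := A) x,
    IsOpenImmersion.of_isLocalization (R := ↥(A ⊓ B)) (S := B) y, ?_, ?_⟩
  · rw [hrA, hrB]
    ext p
    simp only [Set.mem_union, Set.mem_univ, iff_true]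
    by_contra hcon
    push Not at hcon
    have h1 : x ∈ p.asIdeal := by
      by_contra h
      exact hcon.1 ((PrimeSpectrum.mem_basicOpen x p).mpr h)
    have h2 : y ∈ p.asIdeal := by
      by_contra h
      exact hcon.2 ((PrimeSpectrum.mem_basicOpen y p).mpr h)
    have hmem : x + y ∈ p.asIdeal := Ideal.add_mem _ h1 h2
    rw [hxy] at hmem
    exact p.2.ne_top ((Ideal.eq_top_iff_one _).mpr hmem)
  · have hloc : IsLocalization ((Submonoid.powers y).map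
        (Subring.inclusion (inf_le_left : A ⊓ B ≤ A))) K := by
      rw [Submonoid.map_powers]
      exact locK
    exact CommRingCat.isPushout_of_isLocalization
      (Subring.inclusion (inf_le_left : A ⊓ B ≤ A)) B.subtype rfl (Submonoid.powers y)

end Groth.Agent.Lib.Helper63.SemilocalGlue2
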