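import Groth.Agent.Lib.Helper63.SemilocalGlue
import Groth.Agent.Lib.Helper14.KrullAkizukiThm
import Mathlib.RingTheory.DedekindDomain.AdicValuation
import Mathlib.RingTheory.DedekindDomain.Factorization
import Mathlib.RingTheory.Ideal.GoingUp
import Mathlib.RingTheory.IntegralClosure.IntegrallyClosed
import Mathlib.RingTheory.Localization.Integral

set_option autoImplicit false
set_option linter.unusedSectionVars false
universe u

namespace Groth.Agent.Lib.Helper63.SemilocalNormal

open Groth.Agent.Lib.Helper63.SemilocalGlue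

variable {K : Type u} [Field K]

section Avoid

theorem not_two_pow_add_mem (V : ValuationSubring K) {x y : K} (hx : x ∉ V) {N M : ℕ}
    (hNM : N < M) (hN : x ^ N + y ∈ V) (hM : x ^ M + y ∈ V) : False := by
  have h1 : 1 < V.valuation x := by
    rw [← not_le, V.valuation_le_one_iff]
    exact hx
  have hsub : x ^ M - x ^ N ∈ V := by
    have := V.toSubring.sub_mem hM hN
    rwa [add_sub_add_right_eq_sub] at this
  have hlt : V.valuation (x ^ N) < V.valuation (x ^ M) := by
    rw [map_pow, map_pow]
    exact pow_lt_pow_right₀ h1 hNM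
  have heq : V.valuation (x ^ M - x ^ N) = V.valuation (x ^ M) :=
    Valuation.map_sub_eq_of_lt_left _ hlt
  have hle : V.valuation (x ^ M - x ^ N) ≤ 1 := (V.valuation_le_one_iff _).mpr hsub
  rw [heq, map_pow] at hle
  have hM0 : M ≠ 0 := by omega
  exact absurd hle (not_le.mpr (one_lt_pow₀ h1 hM0))

theorem exists_notMem_valuationSubrings (A : Subring K) {ι : Type*} (s : Finset ι)
    (V : ι → ValuationSubring K) (h : ∀ i ∈ s, ¬ A ≤ (V i).toSubring) :
    ∃ x ∈ A, x ≠ 0 ∧ ∀ i ∈ s, x ∉ V i := by
  classical
  induction s using Finset.induction_on with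
  | empty => exact ⟨1, A.one_mem, one_ne_zero, by simp⟩
  | insert j s hj ih =>
    obtain ⟨x, hxA, hx0, hx⟩ := ih (fun i hi => h i (Finset.mem_insert_of_mem hi))
    by_cases hxj : x ∉ V j
    · refine ⟨x, hxA, hx0, fun i hi => ?_⟩
      rcases Finset.mem_insert.mp hi with rfl | hi
      · exact hxj
      · exact hx i hi
    rw [not_not] at hxj
    obtain ⟨y, hyA, hyj⟩ := Set.not_subset.mp (h j (Finset.mem_insert_self j s))
    have hbad : ∀ i ∈ s, ∃ n : ℕ, ∀ N : ℕ, x ^ N + y ∈ V i → N = n := by
      intro i hi
      by_cases hex : ∃ n : ℕ, x ^ n + y ∈ V i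
      · obtain ⟨n, hn⟩ := hex
        refine ⟨n, fun N hN => ?_⟩
        by_contra hne
        rcases lt_or_gt_of_ne hne with hlt | hlt
        · exact not_two_pow_add_mem (V i) (hx i hi) hlt hN hn
        · exact not_two_pow_add_mem (V i) (hx i hi) hlt hn hN
      · exact ⟨0, fun N hN => absurd ⟨N, hN⟩ hex⟩
    choose! f hf using hbad
    have hcard : (s.image f).card < (Finset.range (s.card + 1)).card := by
      rw [Finset.card_range]
      exact Nat.lt_succ_of_le Finset.card_image_le
    obtain ⟨N, -, hN⟩ := Finset.exists_mem_notMem_of_card_lt_card hcard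
    have hyV : x ^ N + y ∉ V j := by
      intro hmem
      apply hyj
      have := (V j).toSubring.sub_mem hmem ((V j).toSubring.pow_mem hxj N)
      rwa [add_sub_cancel_left] at this
    refine ⟨x ^ N + y, A.add_mem (A.pow_mem hxA N) hyA, ?_, fun i hi => ?_⟩
    · intro h0
      rw [h0] at hyV
      exact hyV (V j).zero_mem
    · rcases Finset.mem_insert.mp hi with rfl | hi
      · exact hyV
      · intro hmem
        exact hN (Finset.mem_image.mpr ⟨i, hi, (hf i hi N hmem).symm⟩)

end Avoid

section Normal

open IsDedekindDomain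

variable (K) (B : Type u) [CommRing B] [IsDomain B] [IsNoetherianRing B] [Ring.KrullDimLE 1 B]
  [Algebra B K] [IsFractionRing B K]

theorem isDedekindDomain_integralClosure : IsDedekindDomain (integralClosure B K) := by
  have hinj : Function.Injective (algebraMap (integralClosure B K) K) := Subtype.val_injective
  have hN : IsNoetherianRing (integralClosure B K) :=
    Groth.Agent.Lib.Helper14.KrullAkizuki.isNoetherianRing_of_injective B K K hinj
  have hD : Ring.KrullDimLE 1 (integralClosure B K) :=
    Groth.Agent.Lib.Helper14.KrullAkizuki.krullDimLE_one_of_injective B K K hinj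
  have hIC : IsIntegrallyClosed (integralClosure B K) :=
    integralClosure.isIntegrallyClosedOfFiniteExtension K
  have hD1 : Ring.DimensionLEOne (integralClosure B K) :=
    ⟨fun hp hprime => hprime.isMaximal_of_ne_bot hp⟩
  exact { toIsNoetherian := hN, toDimensionLEOne := hD1, toIsIntegralClosure := hIC }

theorem isFractionRing_integralClosure : IsFractionRing (integralClosure B K) K :=
  integralClosure.isFractionRing_of_finite_extension K K

theorem algebraMap_integralClosure_injective :
    Function.Injective (algebraMap B (integralClosure B K)) := by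
  intro a b hab
  have h1 : algebraMap B K a = algebraMap B K b := by
    rw [IsScalarTower.algebraMap_apply B (integralClosure B K) K,
      IsScalarTower.algebraMap_apply B (integralClosure B K) K, hab]
  exact IsFractionRing.injective B K h1

theorem mem_of_mem_jacobson_of_isMaximal {s : B} (hs : s ∈ Ideal.jacobson (⊥ : Ideal B))
    (Q : Ideal (integralClosure B K)) (hQ : Q.IsPrime) (hQ0 : Q ≠ ⊥) :
    algebraMap B (integralClosure B K) s ∈ Q := by
  have hcomap_ne : Q.comap (algebraMap B (integralClosure B K)) ≠ ⊥ := by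
    obtain ⟨x, hx, hx0⟩ := Submodule.exists_mem_ne_zero_of_ne_bot hQ0
    exact Ideal.comap_ne_bot_of_integral_mem hx0 hx (Algebra.IsIntegral.isIntegral x)
  have hprime : (Q.comap (algebraMap B (integralClosure B K))).IsPrime := Ideal.comap_isPrime _ _
  have hmax := hprime.isMaximal_of_ne_bot hcomap_ne
  rw [Ideal.jacobson, Ideal.mem_sInf] at hs
  exact hs ⟨bot_le, hmax⟩

theorem finite_heightOneSpectrum (hsl : Finite (MaximalSpectrum B)) (hnf : ¬ IsField B) :
    Finite (HeightOneSpectrum (integralClosure B K)) := by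
  have hDed := isDedekindDomain_integralClosure K B
  obtain ⟨s, hs0, hs⟩ := exists_ne_zero_mem_jacobson hsl hnf
  have hI : Ideal.span {algebraMap B (integralClosure B K) s} ≠ 0 := by
    rw [Ne, Ideal.zero_eq_bot, Ideal.span_singleton_eq_bot]
    exact (map_ne_zero_iff _ (algebraMap_integralClosure_injective K B)).mpr hs0
  have hfin := Ideal.finite_factors hI
  have hall : ∀ v : HeightOneSpectrum (integralClosure B K),
      v ∈ {v : HeightOneSpectrum (integralClosure B K) |
        v.asIdeal ∣ Ideal.span {algebraMap B (integralClosure B K) s}} := by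
    intro v
    rw [Set.mem_ofPred_eq, Ideal.dvd_iff_le, Ideal.span_singleton_le_iff_mem]
    exact mem_of_mem_jacobson_of_isMaximal K B hs v.asIdeal v.isPrime v.ne_bot
  exact Set.finite_univ_iff.mp (hfin.subset (fun v _ => hall v))

theorem exists_common_denominator (C : Subalgebra B (integralClosure B K))
    (hfg : C.toSubmodule.FG) :
    ∃ c : B, c ≠ 0 ∧ ∀ m ∈ C, ∃ b : B,
      algebraMap B (integralClosure B K) b = algebraMap B (integralClosure B K) c * m := by
  classical
  obtain ⟨T, hT⟩ := hfg
  obtain ⟨⟨c, hc⟩, hcT⟩ := IsLocalization.exist_integer_multiples_of_finset (nonZeroDivisors B)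
    (T.image (fun t : integralClosure B K => (t : K)))
  refine ⟨c, nonZeroDivisors.ne_zero hc, fun m hm => ?_⟩
  have hm' : m ∈ Submodule.span B (T : Set (integralClosure B K)) := by
    rw [hT]
    exact hm
  clear hm
  induction hm' using Submodule.span_induction with
  | mem t ht =>
    obtain ⟨b, hb⟩ := hcT (t : K) (Finset.mem_image.mpr ⟨t, ht, rfl⟩)
    refine ⟨b, Subtype.ext ?_⟩
    change algebraMap B K b = algebraMap B K c * (t : K)
    rw [hb, Algebra.smul_def]
  | zero => exact ⟨0, by rw [map_zero, mul_zero]⟩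
  | add x y _ _ hx hy =>
    obtain ⟨b1, h1⟩ := hx
    obtain ⟨b2, h2⟩ := hy
    exact ⟨b1 + b2, by rw [map_add, h1, h2, mul_add]⟩
  | smul a x _ hx =>
    obtain ⟨b1, h1⟩ := hx
    exact ⟨a * b1, by rw [map_mul, h1, Algebra.smul_def]; ring⟩

theorem descent (hnf : ¬ IsField B) (z : integralClosure B K)
    (hz : ∀ v : HeightOneSpectrum (integralClosure B K), z ∈ v.asIdeal) :
    ∃ k : ℕ, 0 < k ∧ ∃ b : B, b ∈ Ideal.jacobson (⊥ : Ideal B) ∧
      algebraMap B K b = (z : K) ^ k := by
  have hinjB : Function.Injective (algebraMap B (integralClosure B K)) :=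
    algebraMap_integralClosure_injective K B
  have hnf' : ¬ IsField (integralClosure B K) := fun h =>
    hnf (isField_of_isIntegral_of_isField hinjB h)
  have hzmax : ∀ Q : Ideal (integralClosure B K), Q.IsMaximal → z ∈ Q := by
    intro Q hQ
    have hQ0 : Q ≠ ⊥ := by
      intro h
      apply hnf'
      rw [Ring.isField_iff_maximal_bot, ← h]
      exact hQ
    exact hz ⟨Q, hQ.isPrime, hQ0⟩
  let C : Subalgebra B (integralClosure B K) := Algebra.adjoin B {z}
  have hfg : C.toSubmodule.FG :=
    IsIntegral.fg_adjoin_singleton (Algebra.IsIntegral.isIntegral z)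
  obtain ⟨c, hc0, hc⟩ := exists_common_denominator K B C hfg
  have hzC : z ∈ C := Algebra.self_mem_adjoin_singleton B z
  have hintC : Algebra.IsIntegral C (integralClosure B K) :=
    ⟨fun y => (Algebra.IsIntegral.isIntegral (R := B) y).tower_top⟩
  have hinjC : Function.Injective (algebraMap C (integralClosure B K)) := Subtype.val_injective
  have hzjac : (⟨z, hzC⟩ : C) ∈ Ideal.jacobson (⊥ : Ideal C) := by
    rw [Ideal.jacobson, Ideal.mem_sInf]
    rintro N ⟨-, hN⟩
    have hker : RingHom.ker (algebraMap C (integralClosure B K)) ≤ N := by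
      rw [(RingHom.injective_iff_ker_eq_bot _).mp hinjC]
      exact bot_le
    obtain ⟨Q, hQ, hQN⟩ := Ideal.exists_ideal_over_maximal_of_isIntegral N hker
    rw [← hQN]
    exact hzmax Q hQ
  have hinjCK : Function.Injective (algebraMap C K) := by
    intro a b hab
    exact hinjC (Subtype.val_injective hab)
  have hT : IsScalarTower B C K := IsScalarTower.of_algebraMap_eq (fun _ => rfl)
  have hD : Ring.KrullDimLE 1 C :=
    Groth.Agent.Lib.Helper14.KrullAkizuki.krullDimLE_one_of_injective B K K hinjCK
  have hcC0 : algebraMap B C c ≠ 0 := by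
    intro h
    apply hc0
    apply hinjB
    rw [map_zero]
    exact congrArg (Subtype.val : C → integralClosure B K) h
  obtain ⟨k, hk⟩ := exists_pow_mem_span hzjac hcC0
  have hk1 : (⟨z, hzC⟩ : C) ^ (k + 1) ∈ Ideal.span {algebraMap B C c} := by
    rw [pow_succ]
    exact Ideal.mul_mem_right _ _ hk
  obtain ⟨m, hm⟩ := Ideal.mem_span_singleton'.mp hk1
  obtain ⟨b, hb⟩ := hc (m : integralClosure B K) m.2
  have hbz : algebraMap B (integralClosure B K) b = z ^ (k + 1) := by
    rw [hb, mul_comm]
    exact congrArg (Subtype.val : C → integralClosure B K) hm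
  refine ⟨k + 1, Nat.succ_pos k, b, ?_, ?_⟩
  · rw [Ideal.jacobson, Ideal.mem_sInf]
    rintro M ⟨-, hM⟩
    have hker : RingHom.ker (algebraMap B (integralClosure B K)) ≤ M := by
      rw [(RingHom.injective_iff_ker_eq_bot _).mp hinjB]
      exact bot_le
    obtain ⟨Q, hQ, hQM⟩ := Ideal.exists_ideal_over_maximal_of_isIntegral M hker
    rw [← hQM, Ideal.mem_comap, hbz]
    exact Ideal.pow_mem_of_mem _ (hzmax Q hQ) _ (Nat.succ_pos k)
  · rw [IsScalarTower.algebraMap_apply B (integralClosure B K) K, hbz]
    rfl

theorem exists_finset_valuationSubring (hsl : Finite (MaximalSpectrum B)) (hnf : ¬ IsField B) :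
    ∃ W : Finset (ValuationSubring K),
      (∀ V ∈ W, (∀ b : B, algebraMap B K b ∈ V) ∧ V ≠ ⊤) ∧
      ∀ x : K, x ≠ 0 → (∀ V ∈ W, x ∉ V) →
        ∃ k : ℕ, 0 < k ∧ ∃ b : B, b ∈ Ideal.jacobson (⊥ : Ideal B) ∧
          algebraMap B K b = (x⁻¹) ^ k := by
  classical
  have hDed := isDedekindDomain_integralClosure K B
  have hFr := isFractionRing_integralClosure K B
  have hfin := finite_heightOneSpectrum K B hsl hnf
  have := Fintype.ofFinite (HeightOneSpectrum (integralClosure B K))
  refine ⟨Finset.univ.image
    (fun v : HeightOneSpectrum (integralClosure B K) => (v.valuation K).valuationSubring),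
    ?_, ?_⟩
  · intro V hV
    obtain ⟨v, -, rfl⟩ := Finset.mem_image.mp hV
    refine ⟨fun b => ?_, ?_⟩
    · rw [Valuation.mem_valuationSubring_iff,
        IsScalarTower.algebraMap_apply B (integralClosure B K) K]
      exact v.valuation_le_one _
    · intro htop
      obtain ⟨y, hy, hy0⟩ := Submodule.exists_mem_ne_zero_of_ne_bot v.ne_bot
      have hlt : v.valuation K (algebraMap (integralClosure B K) K y) < 1 :=
        (v.valuation_lt_one_iff_mem y).mpr hy
      have hyK : algebraMap (integralClosure B K) K y ≠ 0 :=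
        (map_ne_zero_iff _ (IsFractionRing.injective (integralClosure B K) K)).mpr hy0
      have hmem : (algebraMap (integralClosure B K) K y)⁻¹ ∈
          (v.valuation K).valuationSubring := htop ▸ ValuationSubring.mem_top _
      rw [Valuation.mem_valuationSubring_iff, map_inv₀] at hmem
      have h0 : v.valuation K (algebraMap (integralClosure B K) K y) ≠ 0 :=
        (Valuation.ne_zero_iff _).mpr hyK
      have h1 : 1 < (v.valuation K (algebraMap (integralClosure B K) K y))⁻¹ :=
        (one_lt_inv₀ (zero_lt_iff.mpr h0)).mpr hlt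
      exact absurd hmem (not_le.mpr h1)
  · intro x hx0 hx
    have hval : ∀ v : HeightOneSpectrum (integralClosure B K), v.valuation K x⁻¹ < 1 := by
      intro v
      have h1 : ¬ v.valuation K x ≤ 1 := fun hle =>
        hx _ (Finset.mem_image.mpr ⟨v, Finset.mem_univ v, rfl⟩) hle
      rw [not_le] at h1
      rw [map_inv₀]
      exact inv_lt_one_of_one_lt₀ h1
    obtain ⟨z, hz⟩ := HeightOneSpectrum.mem_integers_of_valuation_le_one K x⁻¹
      (fun v => (hval v).le)
    have hzv : ∀ v : HeightOneSpectrum (integralClosure B K), z ∈ v.asIdeal := by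
      intro v
      rw [← v.valuation_lt_one_iff_mem (K := K)]
      have h2 := hval v
      rw [← hz] at h2
      exact h2
    obtain ⟨k, hk, b, hb, hbz⟩ := descent K B hnf z hzv
    refine ⟨k, hk, b, hb, ?_⟩
    rw [hbz, ← hz]
    rfl

end Normal

end Groth.Agent.Lib.Helper63.SemilocalNormal
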