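import Mathlib

set_option autoImplicit false

namespace Groth.Agent.Lib.Helper63.StalkIsoAlg

open scoped Classical in
theorem alg_core {R A : Type*} [CommRing R] [CommRing A] [Algebra R A] [Algebra.FiniteType R A]
    (p : Ideal A) [p.IsPrime] (q : Ideal R) [q.IsPrime]
    (H0 : ∀ t : R, t ∉ q → algebraMap R A t ∉ p)
    (H1 : ∀ z : A, ∃ (r t : R) (a' : A), t ∉ q ∧ a' ∉ p ∧
      a' * (algebraMap R A t * z - algebraMap R A r) = 0)
    (H2 : ∀ r : R, (∃ a' : A, a' ∉ p ∧ a' * algebraMap R A r = 0) → ∃ t : R, t ∉ q ∧ t * r = 0)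
    (H3 : ∃ g0 : R, g0 ∉ q ∧ ∀ r : R, (∃ t : R, t ∉ q ∧ t * r = 0) → g0 * r = 0) :
    ∃ (a : A) (rs : R), a ∉ p ∧
      (∃ (b : A) (k : ℕ), algebraMap R A rs * b = a ^ k) ∧
      (∀ z : A, ∃ (r : R) (k l : ℕ),
        a ^ l * (z * algebraMap R A rs ^ k - algebraMap R A r) = 0) ∧
      (∃ (r : R) (k l : ℕ), a ^ l * (algebraMap R A rs ^ k - a * algebraMap R A r) = 0) ∧
      (∀ r : R, (∃ l : ℕ, a ^ l * algebraMap R A r = 0) → ∃ k : ℕ, rs ^ k * r = 0) := by
  obtain ⟨G, hG⟩ := Algebra.FiniteType.out (R := R) (A := A)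
  choose r t a' ht ha' h using H1
  obtain ⟨g0, hg0, H3⟩ := H3
  set φ := algebraMap R A with hφ
  set s : R := ∏ x ∈ G, t x with hs
  set a0 : A := ∏ x ∈ G, a' x with ha0
  have hsq : s ∉ q := by
    rw [hs, Ideal.IsPrime.prod_mem_iff]
    push Not
    exact fun i _ => ht i
  have ha0p : a0 ∉ p := by
    rw [ha0, Ideal.IsPrime.prod_mem_iff]
    push Not
    exact fun i _ => ha' i
  have hQ : ∀ z : A, ∃ (r : R) (N M : ℕ), a0 ^ M * (z * φ s ^ N - φ r) = 0 := by
    intro z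
    have hz : z ∈ Algebra.adjoin R (G : Set A) := by rw [hG]; trivial
    induction hz using Algebra.adjoin_induction with
    | mem x hx =>
      have hx' : x ∈ G := hx
      refine ⟨r x * ∏ y ∈ G.erase x, t y, 1, 1, ?_⟩
      have e1 : s = t x * ∏ y ∈ G.erase x, t y := (Finset.mul_prod_erase G t hx').symm
      have e2 : a0 = a' x * ∏ y ∈ G.erase x, a' y := (Finset.mul_prod_erase G a' hx').symm
      rw [e1, e2, map_mul, map_mul]
      linear_combination ((∏ y ∈ G.erase x, a' y) * φ (∏ y ∈ G.erase x, t y)) * h x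
    | algebraMap c =>
      exact ⟨c, 0, 0, by simp [hφ]⟩
    | add z1 z2 _ _ h1 h2 =>
      obtain ⟨r1, N1, M1, h1⟩ := h1
      obtain ⟨r2, N2, M2, h2⟩ := h2
      refine ⟨r1 * s ^ N2 + r2 * s ^ N1, N1 + N2, M1 + M2, ?_⟩
      simp only [map_add, map_mul, map_pow]
      linear_combination (a0 ^ M2 * φ s ^ N2) * h1 + (a0 ^ M1 * φ s ^ N1) * h2
    | mul z1 z2 _ _ h1 h2 =>
      obtain ⟨r1, N1, M1, h1⟩ := h1
      obtain ⟨r2, N2, M2, h2⟩ := h2
      refine ⟨r1 * r2, N1 + N2, M1 + M2, ?_⟩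
      simp only [map_mul]
      linear_combination (a0 ^ M2 * z2 * φ s ^ N2) * h1 + (a0 ^ M1 * φ r1) * h2
  obtain ⟨ρ0, N0, M0, E⟩ := hQ a0
  refine ⟨a0 * φ s * φ g0, s * ρ0 * g0, ?_, ?_, ?_, ?_, ?_⟩
  · intro hmem
    rcases (Ideal.IsPrime.mem_or_mem inferInstance hmem) with h1 | h1
    · rcases (Ideal.IsPrime.mem_or_mem inferInstance h1) with h2 | h2
      · exact ha0p h2
      · exact H0 s hsq h2
    · exact H0 g0 hg0 h1
  · refine ⟨a0 ^ (M0 + N0) * φ s ^ M0 * φ g0 ^ (M0 + N0), M0 + N0 + 1, ?_⟩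
    simp only [map_mul]
    linear_combination (-(a0 ^ N0 * φ s ^ (M0 + 1) * φ g0 ^ (M0 + N0 + 1))) * E
  · intro z
    obtain ⟨r1, N, M, h1⟩ := hQ z
    refine ⟨r1 * ρ0 ^ N * g0 ^ N, N, M, ?_⟩
    simp only [map_mul, map_pow]
    linear_combination (φ s ^ M * φ g0 ^ M * φ ρ0 ^ N * φ g0 ^ N) * h1
  · refine ⟨s ^ N0, 1, M0, ?_⟩
    simp only [map_mul, map_pow]
    linear_combination (-(φ s ^ (M0 + 1) * φ g0 ^ (M0 + 1))) * E
  · rintro r1 ⟨l, hl⟩
    have h1 : ∃ t : R, t ∉ q ∧ t * r1 = 0 := by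
      refine H2 r1 ⟨(a0 * φ s * φ g0) ^ l, ?_, hl⟩
      intro hmem
      have hmem' := Ideal.IsPrime.mem_of_pow_mem inferInstance l hmem
      rcases (Ideal.IsPrime.mem_or_mem inferInstance hmem') with h1 | h1
      · rcases (Ideal.IsPrime.mem_or_mem inferInstance h1) with h2 | h2
        · exact ha0p h2
        · exact H0 s hsq h2
      · exact H0 g0 hg0 h1
    have h2 := H3 r1 h1
    refine ⟨1, ?_⟩
    linear_combination (s * ρ0) * h2

theorem isLocalization_away_of_core {R A L : Type*} [CommRing R] [CommRing A] [CommRing L]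
    [Algebra R A] [Algebra A L] [Algebra R L] [IsScalarTower R A L] (a : A) (rs : R)
    [IsLocalization.Away a L]
    (C1 : ∃ (b : A) (k : ℕ), algebraMap R A rs * b = a ^ k)
    (C2 : ∀ z : A, ∃ (r : R) (k l : ℕ),
      a ^ l * (z * algebraMap R A rs ^ k - algebraMap R A r) = 0)
    (C2' : ∃ (r : R) (k l : ℕ), a ^ l * (algebraMap R A rs ^ k - a * algebraMap R A r) = 0)
    (C3 : ∀ r : R, (∃ l : ℕ, a ^ l * algebraMap R A r = 0) → ∃ k : ℕ, rs ^ k * r = 0) :
    IsLocalization.Away rs L := by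
  have hau : IsUnit (algebraMap A L a) := IsLocalization.Away.algebraMap_isUnit a
  have htow : ∀ r : R, algebraMap R L r = algebraMap A L (algebraMap R A r) :=
    fun r => IsScalarTower.algebraMap_apply R A L r
  have hcancel : ∀ (l : ℕ) (w : A), a ^ l * w = 0 → algebraMap A L w = 0 := by
    intro l w hw
    have h1 : algebraMap A L (a ^ l) * algebraMap A L w = 0 := by
      rw [← map_mul, hw, map_zero]
    rw [map_pow] at h1
    exact (hau.pow l).mul_right_eq_zero.mp h1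
  have hrsu : IsUnit (algebraMap R L rs) := by
    obtain ⟨b, k, hb⟩ := C1
    have h1 : algebraMap R L rs * algebraMap A L b = algebraMap A L a ^ k := by
      rw [htow, ← map_mul, hb, map_pow]
    exact isUnit_of_mul_isUnit_left (h1 ▸ hau.pow k)
  refine ⟨⟨?_, ?_, ?_⟩⟩
  · rintro ⟨y, n, rfl⟩
    simpa using hrsu.pow n
  · intro z
    obtain ⟨z0, ⟨_, n, rfl⟩, rfl⟩ := IsLocalization.exists_mk'_eq (Submonoid.powers a) z
    obtain ⟨r1, k, l, h1⟩ := C2 z0
    obtain ⟨r2, k', l', h2⟩ := C2'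
    have e1 := hcancel l _ h1
    have e2 := hcancel l' _ h2
    simp only [map_sub, map_mul, map_pow, sub_eq_zero] at e1 e2
    refine ⟨⟨r1 * r2 ^ n, ⟨rs ^ (k' * n + k), _, rfl⟩⟩, ?_⟩
    have e3 : IsLocalization.mk' L z0 (⟨a ^ n, n, rfl⟩ : Submonoid.powers a) *
        algebraMap A L a ^ n = algebraMap A L z0 := by
      have := IsLocalization.mk'_spec L z0 (⟨a ^ n, n, rfl⟩ : Submonoid.powers a)
      simpa using this
    simp only [map_mul, map_pow, htow]
    rw [pow_add, pow_mul, e2, ← e1, ← e3]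
    ring
  · intro x y hxy
    have h1 : algebraMap A L (algebraMap R A (x - y)) = 0 := by
      rw [← htow, map_sub, hxy, sub_self]
    obtain ⟨⟨_, l, rfl⟩, hl⟩ := (IsLocalization.map_eq_zero_iff (Submonoid.powers a) L _).mp h1
    obtain ⟨k, hk⟩ := C3 (x - y) ⟨l, hl⟩
    refine ⟨⟨rs ^ k, k, rfl⟩, ?_⟩
    have : rs ^ k * x - rs ^ k * y = 0 := by rw [← mul_sub]; exact hk
    exact sub_eq_zero.mp this

theorem alg_main {R A : Type*} [CommRing R] [CommRing A] [Algebra R A] [Algebra.FiniteType R A]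
    (p : Ideal A) [p.IsPrime] (q : Ideal R) [q.IsPrime] (hq : q = p.comap (algebraMap R A))
    (hb : Function.Bijective (Localization.localRingHom q p (algebraMap R A) hq))
    (H3 : ∃ g0 : R, g0 ∉ q ∧ ∀ r : R, (∃ t : R, t ∉ q ∧ t * r = 0) → g0 * r = 0) :
    ∃ (a : A) (rs : R), a ∉ p ∧
      (∃ (b : A) (k : ℕ), algebraMap R A rs * b = a ^ k) ∧
      (∀ z : A, ∃ (r : R) (k l : ℕ),
        a ^ l * (z * algebraMap R A rs ^ k - algebraMap R A r) = 0) ∧
      (∃ (r : R) (k l : ℕ), a ^ l * (algebraMap R A rs ^ k - a * algebraMap R A r) = 0) ∧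
      (∀ r : R, (∃ l : ℕ, a ^ l * algebraMap R A r = 0) → ∃ k : ℕ, rs ^ k * r = 0) := by
  have H0 : ∀ t : R, t ∉ q → algebraMap R A t ∉ p := by
    intro t ht h
    apply ht
    rw [hq]
    exact h
  refine alg_core p q H0 ?_ ?_ H3
  · intro z
    obtain ⟨w, hw⟩ := hb.2 (algebraMap A (Localization.AtPrime p) z)
    obtain ⟨r, ⟨t, ht⟩, rfl⟩ := IsLocalization.exists_mk'_eq q.primeCompl w
    rw [Localization.localRingHom_mk'] at hw
    have h1 := (IsLocalization.mk'_eq_iff_eq_mul.mp hw)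
    rw [← map_mul] at h1
    obtain ⟨⟨a', ha'⟩, h2⟩ := (IsLocalization.eq_iff_exists p.primeCompl _).mp h1
    refine ⟨r, t, a', ht, ha', ?_⟩
    simp only at h2
    linear_combination (-1 : A) * h2
  · rintro r ⟨a', ha', h1⟩
    have h2 : algebraMap A (Localization.AtPrime p) (algebraMap R A r) = 0 :=
      (IsLocalization.map_eq_zero_iff p.primeCompl _ _).mpr ⟨⟨a', ha'⟩, h1⟩
    rw [← Localization.localRingHom_to_map q p (algebraMap R A) hq] at h2
    have h3 : algebraMap R (Localization.AtPrime q) r = 0 := hb.1 (by rw [h2, map_zero])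
    obtain ⟨⟨t, ht⟩, h4⟩ := (IsLocalization.map_eq_zero_iff q.primeCompl _ _).mp h3
    exact ⟨t, ht, h4⟩

end Groth.Agent.Lib.Helper63.StalkIsoAlg
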