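import Mathlib
import Groth.Agent.Lib.Helper63.StalkIsoAlg

set_option autoImplicit false
universe u
open CategoryTheory CategoryTheory.Limits AlgebraicGeometry

namespace Groth.Agent.Lib.Helper63.StalkIso

theorem mem_basicOpen_iff {X : Scheme.{u}} {U : X.Opens} (hU : IsAffineOpen U) (x : X)
    (hx : x ∈ U) (g : Γ(X, U)) :
    x ∈ X.basicOpen g ↔ g ∉ (hU.primeIdealOf ⟨x, hx⟩).asIdeal := by
  have h1 : hU.fromSpec (hU.primeIdealOf ⟨x, hx⟩) = x := hU.fromSpec_primeIdealOf ⟨x, hx⟩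
  have h2 := hU.fromSpec_preimage_basicOpen g
  have h3 := SetLike.ext_iff.mp h2 (hU.primeIdealOf ⟨x, hx⟩)
  have h5 : hU.fromSpec (hU.primeIdealOf ⟨x, hx⟩) ∈ X.basicOpen g ↔
      hU.primeIdealOf ⟨x, hx⟩ ∈ PrimeSpectrum.basicOpen g := h3
  rw [h1] at h5
  exact h5.trans (PrimeSpectrum.mem_basicOpen _ _)

theorem exists_annihilator {S : Scheme.{u}} [IsReduced S]
    (hS : (irreducibleComponents (S : Type u)).Finite) {V : S.Opens} (hV : IsAffineOpen V)
    (s : S) (hs : s ∈ V) :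
    ∃ g0 : Γ(S, V), g0 ∉ (hV.primeIdealOf ⟨s, hs⟩).asIdeal ∧
      ∀ r : Γ(S, V), (∃ t : Γ(S, V), t ∉ (hV.primeIdealOf ⟨s, hs⟩).asIdeal ∧ t * r = 0) →
        g0 * r = 0 := by
  let C : Set S := ⋃ Z ∈ {Z ∈ irreducibleComponents (S : Type u) | s ∉ Z}, Z
  have hC : IsClosed C := by
    refine Set.Finite.isClosed_biUnion (hS.subset fun Z hZ => hZ.1) ?_
    intro Z hZ
    exact isClosed_of_mem_irreducibleComponents Z hZ.1
  let W : S.Opens := ⟨Cᶜ, hC.isOpen_compl⟩
  have hsW : s ∈ W := by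
    show s ∉ C
    simp only [C, Set.mem_iUnion, not_exists]
    rintro Z ⟨-, hZ2⟩ hsZ
    exact hZ2 hsZ
  obtain ⟨g0, hg0W, hsg0⟩ := hV.exists_basicOpen_le (V := W) ⟨s, hsW⟩ hs
  refine ⟨g0, (mem_basicOpen_iff hV s hs g0).mp hsg0, ?_⟩
  rintro r ⟨t, ht, htr⟩
  rw [← basicOpen_eq_bot_iff, Scheme.basicOpen_mul]
  rw [eq_bot_iff]
  rintro y ⟨hy1, hy2⟩
  exfalso
  have hyW : y ∉ C := hg0W hy1
  have hsZ : s ∈ irreducibleComponent y := by
    by_contra hcon
    apply hyW
    simp only [C, Set.mem_iUnion]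
    exact ⟨irreducibleComponent y, ⟨irreducibleComponent_mem_irreducibleComponents y, hcon⟩,
      mem_irreducibleComponent⟩
  have hirr : IsPreirreducible (irreducibleComponent y) :=
    (isIrreducible_irreducibleComponent (x := y)).2
  have hst : s ∈ S.basicOpen t := (mem_basicOpen_iff hV s hs t).mpr ht
  obtain ⟨w, -, hw1, hw2⟩ := hirr (S.basicOpen r) (S.basicOpen t) (S.basicOpen r).2
    (S.basicOpen t).2 ⟨y, mem_irreducibleComponent, hy2⟩ ⟨s, hsZ, hst⟩
  have hw : w ∈ S.basicOpen (t * r) := by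
    rw [Scheme.basicOpen_mul]
    exact ⟨hw2, hw1⟩
  rw [htr, Scheme.basicOpen_zero] at hw
  exact hw

open Groth.Agent.Lib.Helper63.StalkIsoAlg in
theorem exists_openImmersion_of_affine {X S : Scheme.{u}} (f : X ⟶ S)
    [LocallyOfFiniteType f] [IsReduced S] (hS : (irreducibleComponents (S : Type u)).Finite)
    (x : X) (hx : IsIso (f.stalkMap x)) (V : S.Opens) (hV : IsAffineOpen V) (U' : X.Opens)
    (hU' : IsAffineOpen U') (hU'V : U' ≤ f ⁻¹ᵁ V) (hxU' : x ∈ U') :
    ∃ U : X.Opens, x ∈ U ∧ IsOpenImmersion (U.ι ≫ f) := by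
  have hft := f.finiteType_appLE hV hU' hU'V
  algebraize [(f.appLE V U' hU'V).hom]
  let q := (hV.primeIdealOf ⟨f x, hU'V hxU'⟩).asIdeal
  let p := (hU'.primeIdealOf ⟨x, hxU'⟩).asIdeal
  have hq : q = p.comap (algebraMap Γ(S, V) Γ(X, U')) :=
    congr($(IsAffineOpen.comap_primeIdealOf_appLE V hV U' hU' hU'V hxU').1).symm
  have hb : Function.Bijective
      (Localization.localRingHom q p (algebraMap Γ(S, V) Γ(X, U')) hq) := by
    have h1 : IsIso (CommRingCat.ofHom
        (Localization.localRingHom q p (f.appLE V U' hU'V).hom hq)) :=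
      ((MorphismProperty.isomorphisms CommRingCat).arrow_mk_iso_iff
        (IsAffineOpen.arrowStalkMapIso f V hV U' hU' hU'V hxU')).mp hx
    exact ConcreteCategory.bijective_of_isIso (CommRingCat.ofHom
        (Localization.localRingHom q p (f.appLE V U' hU'V).hom hq))
  obtain ⟨a, rs, hap, C1, C2, C2', C3⟩ :=
    alg_main p q hq hb (exists_annihilator hS hV (f x) (hU'V hxU'))
  refine ⟨X.basicOpen a, (mem_basicOpen_iff hU' x hxU' a).mpr hap, ?_⟩
  have hU : IsAffineOpen (X.basicOpen a) := hU'.basicOpen a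
  have hle : X.basicOpen a ≤ f ⁻¹ᵁ V := (X.basicOpen_le a).trans hU'V
  have e1 : (X.basicOpen a).ι ≫ f =
      hU.isoSpec.hom ≫ Spec.map (f.appLE V (X.basicOpen a) hle) ≫ hV.fromSpec := by
    rw [IsAffineOpen.SpecMap_appLE_fromSpec f hV hU hle, ← Category.assoc,
      IsAffineOpen.isoSpec_hom_fromSpec]
  rw [e1]
  have : IsOpenImmersion (Spec.map (f.appLE V (X.basicOpen a) hle)) := by
    have hloc := hU'.isLocalization_basicOpen a
    let : Algebra Γ(S, V) Γ(X, X.basicOpen a) :=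
      (f.appLE V (X.basicOpen a) hle).hom.toAlgebra
    have : IsScalarTower Γ(S, V) Γ(X, U') Γ(X, X.basicOpen a) :=
      IsScalarTower.of_algebraMap_eq' (by
        simp only [RingHom.algebraMap_toAlgebra, ← CommRingCat.hom_comp]
        rw [Scheme.Hom.appLE_map])
    have := isLocalization_away_of_core (L := Γ(X, X.basicOpen a)) a rs C1 C2 C2' C3
    exact IsOpenImmersion.of_isLocalization rs
  infer_instance

theorem exists_openImmersion_nhd {X S : Scheme.{u}} (f : X ⟶ S)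
    [LocallyOfFiniteType f] [IsReduced S] (hS : (irreducibleComponents (S : Type u)).Finite)
    (x : X) (hx : IsIso (f.stalkMap x)) :
    ∃ U : X.Opens, x ∈ U ∧ IsOpenImmersion (U.ι ≫ f) := by
  obtain ⟨_, ⟨V, hV, rfl⟩, hxV, -⟩ :=
    S.isBasis_affineOpens.exists_subset_of_mem_open (Set.mem_univ (f x)) isOpen_univ
  obtain ⟨_, ⟨U', hU', rfl⟩, hxU', hU'V⟩ :=
    X.isBasis_affineOpens.exists_subset_of_mem_open hxV (V.2.preimage f.continuous)
  exact exists_openImmersion_of_affine f hS x hx V hV U' hU' hU'V hxU'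

end Groth.Agent.Lib.Helper63.StalkIso
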