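import Mathlib
import Groth.Agent.Lib.Helper63.Chevalley

set_option autoImplicit false
universe u

namespace Groth.Agent.Lib.Helper63.SymbolicPow

open IsLocalRing

theorem sup_span_pow_le {A : Type*} [CommRing A] (p : Ideal A) (s : A) (n : ℕ) :
    (p ⊔ Ideal.span {s}) ^ n ≤ p ^ n ⊔ Ideal.span {s} := by
  induction n with
  | zero => simp
  | succ n ih =>
    rw [pow_succ]
    refine (Ideal.mul_mono_left ih).trans ?_
    rw [Ideal.sup_mul, Ideal.mul_sup, Ideal.mul_sup]
    refine sup_le (sup_le ?_ ?_) (sup_le ?_ ?_)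
    · rw [← pow_succ]
      exact le_sup_left
    · exact Ideal.mul_le_right.trans le_sup_right
    · exact Ideal.mul_le_left.trans le_sup_right
    · exact Ideal.mul_le_left.trans le_sup_right

theorem exists_smul_mem {A : Type*} [CommRing A] [IsNoetherianRing A] (p : Ideal A) [hp : p.IsPrime]
    (L : Type*) [CommRing L] [Algebra A L] [IsLocalization.AtPrime L p] (n : ℕ) :
    ∃ s : A, s ∉ p ∧ ∀ x ∈ ((Ideal.map (algebraMap A L) p) ^ n).comap (algebraMap A L),
      s * x ∈ p ^ n := by
  classical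
  have hel : ∀ x ∈ ((Ideal.map (algebraMap A L) p) ^ n).comap (algebraMap A L),
      ∃ s : A, s ∉ p ∧ s * x ∈ p ^ n := by
    intro x hx
    rw [Ideal.mem_comap, ← Ideal.map_pow, IsLocalization.mem_map_algebraMap_iff p.primeCompl] at hx
    obtain ⟨⟨a, s⟩, h⟩ := hx
    rw [← map_mul] at h
    obtain ⟨c, hc⟩ := (IsLocalization.eq_iff_exists p.primeCompl _).mp h
    refine ⟨c * s, fun h' => (hp.mem_or_mem h').elim c.2 s.2, ?_⟩
    have e : (c : A) * s * x = c * (x * s) := by ring
    rw [e, hc]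
    exact Ideal.mul_mem_left _ _ a.2
  obtain ⟨T, hT⟩ : (((Ideal.map (algebraMap A L) p) ^ n).comap (algebraMap A L)).FG :=
    IsNoetherian.noetherian _
  have hTmem : ∀ t ∈ T, t ∈ ((Ideal.map (algebraMap A L) p) ^ n).comap (algebraMap A L) := by
    intro t ht
    rw [← hT]
    exact Submodule.subset_span ht
  choose! f hf1 hf2 using hel
  refine ⟨∏ t ∈ T, f t, ?_, ?_⟩
  · intro h
    obtain ⟨t, ht, h'⟩ := (Ideal.IsPrime.prod_mem_iff (p := p)).mp h
    exact hf1 t (hTmem t ht) h'
  · intro x hx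
    rw [← hT] at hx
    induction hx using Submodule.span_induction with
    | mem t ht =>
      obtain ⟨c, hc⟩ := Finset.dvd_prod_of_mem f ht
      rw [hc]
      have e : f t * c * t = c * (f t * t) := by ring
      rw [e]
      exact Ideal.mul_mem_left _ _ (hf2 t (hTmem t ht))
    | zero => simp
    | add x y _ _ hx hy =>
      rw [mul_add]
      exact Ideal.add_mem _ hx hy
    | smul a x _ hx =>
      rw [smul_eq_mul, mul_left_comm]
      exact Ideal.mul_mem_left _ _ hx

theorem exists_pow_le_sup {A : Type*} [CommRing A] [IsLocalRing A] [IsNoetherianRing A]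
    (p : Ideal A) [hp : p.IsPrime] (hdim : ringKrullDim (A ⧸ p) = 1) (s : A) (hs : s ∉ p) :
    ∃ k : ℕ, (maximalIdeal A) ^ k ≤ p ⊔ Ideal.span {s} := by
  apply Ideal.exists_pow_le_of_le_radical_of_fg _ (IsNoetherian.noetherian _)
  rw [Ideal.radical_eq_sInf]
  refine le_sInf ?_
  rintro q ⟨hq, hqp⟩
  have hpq : p ≤ q := le_sup_left.trans hq
  have hsq : s ∈ q := hq (Ideal.mem_sup_right (Ideal.mem_span_singleton_self s))
  have hdim1 : Ring.KrullDimLE 1 (A ⧸ p) := by
    rw [Ring.KrullDimLE, Order.krullDimLE_iff]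
    exact hdim.le
  have hqmap : (q.map (Ideal.Quotient.mk p)).IsPrime :=
    Ideal.map_isPrime_of_surjective Ideal.Quotient.mk_surjective (by rwa [Ideal.mk_ker])
  have hne : q.map (Ideal.Quotient.mk p) ≠ ⊥ := by
    intro h
    rw [Ideal.map_eq_bot_iff_le_ker, Ideal.mk_ker] at h
    exact hs (h hsq)
  have hmax : (q.map (Ideal.Quotient.mk p)).IsMaximal := hqmap.isMaximal_of_ne_bot hne
  have hqmax : q.IsMaximal := by
    have h1 := Ideal.comap_isMaximal_of_surjective (Ideal.Quotient.mk p)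
      Ideal.Quotient.mk_surjective (K := q.map (Ideal.Quotient.mk p))
    have hker : Ideal.comap (Ideal.Quotient.mk p) ⊥ ≤ q := by
      rw [← RingHom.ker_eq_comap_bot, Ideal.mk_ker]
      exact hpq
    rw [Ideal.comap_map_of_surjective _ Ideal.Quotient.mk_surjective, sup_eq_left.mpr hker] at h1
    exact h1
  rw [IsLocalRing.eq_maximalIdeal hqmax]

theorem main {A : Type*} [CommRing A] [IsDomain A] [IsLocalRing A] [IsNoetherianRing A]
    [IsAdicComplete (maximalIdeal A) A] (p : Ideal A) [hp : p.IsPrime]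
    (hdim : ringKrullDim (A ⧸ p) = 1)
    (L : Type*) [CommRing L] [Algebra A L] [IsLocalization.AtPrime L p] (n : ℕ) :
    ∃ m : ℕ, n ≤ m ∧ ((Ideal.map (algebraMap A L) p) ^ m).comap (algebraMap A L) ≤ p ^ n := by
  have hLloc : IsLocalRing L := IsLocalization.AtPrime.isLocalRing L p
  have hLN : IsNoetherianRing L := IsLocalization.isNoetherianRing p.primeCompl L inferInstance
  have hinj : Function.Injective (algebraMap A L) :=
    IsLocalization.injective L (M := p.primeCompl) p.primeCompl_le_nonZeroDivisors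
  have hanti : Antitone (fun m => ((Ideal.map (algebraMap A L) p) ^ m).comap (algebraMap A L)) := by
    intro a b hab
    exact Ideal.comap_mono (Ideal.pow_le_pow_right hab)
  have hbot : ∀ x, (∀ m, x ∈ ((Ideal.map (algebraMap A L) p) ^ m).comap (algebraMap A L)) →
      x = 0 := by
    intro x hx
    apply hinj
    rw [map_zero]
    have hne : Ideal.map (algebraMap A L) p ≠ ⊤ := by
      rw [IsLocalization.AtPrime.map_eq_maximalIdeal p L]
      exact (maximalIdeal.isMaximal L).ne_top
    have h1 := Ideal.iInf_pow_eq_bot_of_isLocalRing (Ideal.map (algebraMap A L) p) hne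
    have h2 : algebraMap A L x ∈ ⨅ i, (Ideal.map (algebraMap A L) p) ^ i := by
      rw [Ideal.mem_iInf]
      exact hx
    rw [h1] at h2
    exact h2
  obtain ⟨s, hs, hsx⟩ := exists_smul_mem p L n
  obtain ⟨k, hk⟩ := exists_pow_le_sup p hdim s hs
  have hK : ∀ x ∈ ((Ideal.map (algebraMap A L) p) ^ n).comap (algebraMap A L),
      ∀ a ∈ (maximalIdeal A) ^ (k * n), a * x ∈ p ^ n := by
    intro x hx a ha
    have h1 : a ∈ p ^ n ⊔ Ideal.span {s} := by
      apply sup_span_pow_le p s n
      rw [pow_mul] at ha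
      exact Ideal.pow_right_mono hk n ha
    obtain ⟨y, hy, z, hz, rfl⟩ := Submodule.mem_sup.mp h1
    obtain ⟨c, rfl⟩ := Ideal.mem_span_singleton'.mp hz
    rw [add_mul]
    refine Ideal.add_mem _ (Ideal.mul_mem_right _ _ hy) ?_
    rw [mul_assoc]
    exact Ideal.mul_mem_left _ _ (hsx x hx)
  obtain ⟨c, hc⟩ := Ideal.exists_pow_inf_eq_pow_smul (maximalIdeal A)
    (((Ideal.map (algebraMap A L) p) ^ n).comap (algebraMap A L) : Submodule A A)
  obtain ⟨N, hN⟩ := Groth.Agent.Lib.Helper63.Chevalley.chevalley _ hanti hbot (k * n + c)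
  refine ⟨max N n, le_max_right _ _, ?_⟩
  intro x hx
  have hx1 : x ∈ (maximalIdeal A) ^ (k * n + c) := hN (hanti (le_max_left N n) hx)
  have hx2 : x ∈ ((Ideal.map (algebraMap A L) p) ^ n).comap (algebraMap A L) :=
    hanti (le_max_right N n) hx
  have h3 : x ∈ (maximalIdeal A) ^ (k * n + c) • (⊤ : Submodule A A) ⊓
      (((Ideal.map (algebraMap A L) p) ^ n).comap (algebraMap A L) : Submodule A A) := by
    refine ⟨?_, hx2⟩
    rw [smul_eq_mul, Ideal.mul_top]
    exact hx1
  rw [hc (k * n + c) (Nat.le_add_left _ _), Nat.add_sub_cancel] at h3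
  refine Submodule.smul_induction_on h3 ?_ ?_
  · intro a ha y hy
    exact hK y hy.2 a ha
  · intro y z hy hz
    exact Ideal.add_mem _ hy hz

end Groth.Agent.Lib.Helper63.SymbolicPow
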