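import Groth.Prelude.Def_W4c5t1liftcy3defoArt
import Groth.Prelude.Def_ArtFun2
import Mathlib.RingTheory.Flat.Basic

set_option autoImplicit false
universe u v

namespace Groth.Agent.Lib.Helper63.T1L

open CategoryTheory Polynomial T1Lift ArtFun ArtFun.Art

variable (k : Type u) [Field k]

theorem αAlg_mk (m : ℕ) (p : k[X]) :
    αAlg k m (AdjoinRoot.mk _ p) = AdjoinRoot.mk _ p := by
  rw [← AdjoinRoot.aeval_eq, ← AdjoinRoot.aeval_eq, ← Polynomial.aeval_algHom_apply, αAlg_t]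

theorem αAlg_surjective (m : ℕ) : Function.Surjective (αAlg k m) := by
  intro x
  induction x using AdjoinRoot.induction_on with
  | ih p => exact ⟨AdjoinRoot.mk _ p, αAlg_mk k m p⟩

theorem t_mul_eq_zero_of_resA (m : ℕ) (a : Tr k m) (ha : resA k m a = 0) :
    ∃ b : Tr k m, a = t k m * b := by
  obtain ⟨b, hb⟩ := eq_algebraMap_add_t_mul k m a
  refine ⟨b, ?_⟩
  rw [hb, ha, map_zero, zero_add]

theorem ker_αAlg (m : ℕ) (j : Tr k (m + 1)) (hj : αAlg k m j = 0) :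
    ∃ c : k, j = c • (t k (m + 1)) ^ (m + 1) := by
  induction j using AdjoinRoot.induction_on with
  | ih p =>
    rw [αAlg_mk, AdjoinRoot.mk_eq_zero] at hj
    obtain ⟨r, rfl⟩ := hj
    obtain ⟨b, hb⟩ := eq_algebraMap_add_t_mul k (m + 1) (AdjoinRoot.mk _ r)
    generalize resA k (m + 1) (AdjoinRoot.mk _ r) = c at hb
    refine ⟨c, ?_⟩
    rw [map_mul, map_pow, AdjoinRoot.mk_X, hb, mul_add, ← mul_assoc, ← pow_succ, t_pow, zero_mul,
      add_zero, Algebra.smul_def, mul_comm]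

theorem smul_t_pow_eq_zero (m : ℕ) (c : k) (h : c • (t k m) ^ m = 0) : c = 0 := by
  have h1 : c • (t k m) ^ m = AdjoinRoot.mk _ (C c * X ^ m) := by
    rw [map_mul, map_pow, AdjoinRoot.mk_X, AdjoinRoot.mk_C, Algebra.smul_def]
    rfl
  rw [h1, AdjoinRoot.mk_eq_zero, Polynomial.X_pow_dvd_iff] at h
  have := h m (Nat.lt_succ_self m)
  simpa using this

theorem ε_β (m : ℕ) : ε k m ≫ β k m = α k m := by
  refine Art.hom_ext (AdjoinRoot.algHom_ext ?_)
  change TrivSqZeroExt.fst (εAlg k m (t k (m + 1))) = αAlg k m (t k (m + 1))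
  rw [εAlg_t, αAlg_t]
  simp

theorem ε_ξ (m : ℕ) : ε k (m + 1) ≫ ξ k m = α k (m + 1) ≫ ε k m := by
  refine Art.hom_ext (AdjoinRoot.algHom_ext ?_)
  change dualMap k (αAlg k m) (εAlg k (m + 1) (t k (m + 2))) =
    εAlg k m (αAlg k (m + 1) (t k (m + 2)))
  rw [εAlg_t, αAlg_t, εAlg_t]
  refine TrivSqZeroExt.ext ?_ ?_
  · change αAlg k m (TrivSqZeroExt.fst (TrivSqZeroExt.inl (t k (m + 1)) + DualNumber.eps)) = _
    simp
  · change αAlg k m (TrivSqZeroExt.snd (TrivSqZeroExt.inl (t k (m + 1)) + DualNumber.eps)) = _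
    simp

theorem β_surjective (m : ℕ) : Function.Surjective (β k m) := by
  intro a
  exact ⟨TrivSqZeroExt.inl a, rfl⟩

theorem α_surjective (m : ℕ) : Function.Surjective (α k m) := αAlg_surjective k m

theorem α_isSemismallExt (m : ℕ) : IsSemismallExt (α k m) := by
  refine ⟨α_surjective k m, ?_⟩
  rw [eq_bot_iff, Ideal.mul_le]
  intro a ha j hj
  rw [Ideal.mem_bot]
  have ha' : resA k (m + 1) a = 0 := (mem_maximalIdeal_iff (A k (m + 1)) a).1 ha
  obtain ⟨b, rfl⟩ := t_mul_eq_zero_of_resA k (m + 1) a ha'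
  obtain ⟨c, rfl⟩ := ker_αAlg k m j hj
  have h := t_pow k (m + 1)
  calc t k (m + 1) * b * c • t k (m + 1) ^ (m + 1)
      = c • (b * t k (m + 1) ^ (m + 1 + 1)) := by
        rw [mul_smul_comm, pow_succ (t k (m + 1)) (m + 1)]
        ring_nf
    _ = 0 := by rw [h, mul_zero, smul_zero]

section C

variable (n : ℕ)

noncomputable def w : DualNumber (Tr k (n + 1)) := TrivSqZeroExt.inr ((t k (n + 1)) ^ (n + 1))

noncomputable def K : Ideal (DualNumber (Tr k (n + 1))) := Ideal.span {w k n}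

theorem mul_w (a : DualNumber (Tr k (n + 1))) :
    a * w k n = TrivSqZeroExt.inr (a.fst * (t k (n + 1)) ^ (n + 1)) := by
  refine TrivSqZeroExt.ext ?_ ?_
  · simp [w]
  · simp [w, TrivSqZeroExt.snd_mul, smul_eq_mul, mul_comm]

theorem fst_eq_zero_of_mem_K (x : DualNumber (Tr k (n + 1))) (hx : x ∈ K k n) : x.fst = 0 := by
  obtain ⟨r, rfl⟩ := Ideal.mem_span_singleton'.1 hx
  rw [mul_w, TrivSqZeroExt.fst_inr]

theorem inr_smul_mem_K (c : k) :
    (TrivSqZeroExt.inr (c • (t k (n + 1)) ^ (n + 1)) : DualNumber (Tr k (n + 1))) ∈ K k n := by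
  have h : (TrivSqZeroExt.inr (c • (t k (n + 1)) ^ (n + 1)) : DualNumber (Tr k (n + 1))) =
      TrivSqZeroExt.inl (algebraMap k (Tr k (n + 1)) c) * w k n := by
    rw [mul_w, TrivSqZeroExt.fst_inl, Algebra.smul_def]
  rw [h]
  exact Ideal.mul_mem_left _ _ (Ideal.subset_span rfl)

theorem mul_eq_zero_of_mem_K (a : DualNumber (Tr k (n + 1)))
    (ha : resA k (n + 1) (TrivSqZeroExt.fst a) = 0) (j : DualNumber (Tr k (n + 1)))
    (hj : j ∈ K k n) : a * j = 0 := by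
  obtain ⟨r, rfl⟩ := Ideal.mem_span_singleton'.1 hj
  obtain ⟨b, hb⟩ := t_mul_eq_zero_of_resA k (n + 1) _ ha
  rw [← mul_assoc, mul_w]
  have : (a * r).fst * t k (n + 1) ^ (n + 1) = 0 := by
    rw [TrivSqZeroExt.fst_mul, hb]
    calc t k (n + 1) * b * r.fst * t k (n + 1) ^ (n + 1)
        = b * r.fst * t k (n + 1) ^ (n + 1 + 1) := by
          rw [pow_succ (t k (n + 1)) (n + 1)]
          ring
      _ = 0 := by rw [t_pow, mul_zero]
  rw [this, TrivSqZeroExt.inr_zero]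

theorem K_le : (K k n : Ideal (B k (n + 1))) ≤ IsLocalRing.maximalIdeal (B k (n + 1)) := by
  intro x hx
  refine (mem_maximalIdeal_iff (B k (n + 1)) x).2 ?_
  change resA k (n + 1) (TrivSqZeroExt.fst x) = 0
  rw [fst_eq_zero_of_mem_K k n x hx, map_zero]

noncomputable def Cobj : Art k k := Art.quot (B k (n + 1)) (K k n) (K_le k n)

noncomputable def q : B k (n + 1) ⟶ Cobj k n := Art.quotMk (B k (n + 1)) (K k n) (K_le k n)

theorem q_surjective : Function.Surjective (q k n) := Art.quotMk_surjective _ _ _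

theorem ker_q : RingHom.ker (q k n).toAlgHom = K k n := Ideal.Quotient.mkₐ_ker k (K k n)

theorem q_eq_zero_iff (b : B k (n + 1)) : q k n b = 0 ↔ b ∈ K k n :=
  Ideal.Quotient.eq_zero_iff_mem

theorem q_isSemismallExt : IsSemismallExt (q k n) := by
  refine ⟨q_surjective k n, ?_⟩
  rw [eq_bot_iff, Ideal.mul_le]
  intro a ha j hj
  have hj' : j ∈ K k n := by
    have := hj
    rw [ker_q] at this
    exact this
  exact mul_eq_zero_of_mem_K k n a ((mem_maximalIdeal_iff (B k (n + 1)) a).1 ha) j hj'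

end C

section E

variable (n : ℕ)

noncomputable def x0 : DualNumber (Tr k (n + 1)) :=
  TrivSqZeroExt.inl (t k (n + 1)) + DualNumber.eps

theorem fst_x0 : (x0 k n).fst = t k (n + 1) := by simp [x0]

theorem snd_x0 : (x0 k n).snd = 1 := by simp [x0]

theorem x0_pow : (x0 k n) ^ (n + 2) =
    TrivSqZeroExt.inr (((n + 2 : ℕ) : k) • (t k (n + 1)) ^ (n + 1)) := by
  refine TrivSqZeroExt.ext ?_ ?_
  · rw [TrivSqZeroExt.fst_pow, fst_x0, TrivSqZeroExt.fst_inr]
    exact t_pow k (n + 1)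
  · rw [TrivSqZeroExt.snd_pow, fst_x0, snd_x0, TrivSqZeroExt.snd_inr, Nat.cast_smul_eq_nsmul]
    simp

theorem x0_pow_mem : (x0 k n) ^ (n + 2) ∈ K k n := by
  rw [x0_pow]
  exact inr_smul_mem_K k n _

noncomputable def eAlg : Tr k (n + 1) →ₐ[k] (Cobj k n) :=
  AdjoinRoot.liftAlgHom _ (Algebra.ofId k _) ((q k n).toAlgHom (x0 k n)) (by
    rw [eval₂_X_pow, ← map_pow]
    exact (q_eq_zero_iff k n _).2 (x0_pow_mem k n))

theorem eAlg_t : eAlg k n (t k (n + 1)) = (q k n).toAlgHom (x0 k n) :=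
  AdjoinRoot.liftAlgHom_root _ _ _ _

noncomputable def e : A k (n + 1) ⟶ Cobj k n :=
  Art.homMk (eAlg k n) (AdjoinRoot.algHom_ext (by
    change (Cobj k n).res (eAlg k n (t k (n + 1))) = resA k (n + 1) (t k (n + 1))
    rw [eAlg_t, resA_t]
    have h := Art.res_app (q k n) (x0 k n)
    refine h.trans ?_
    change resA k (n + 1) (TrivSqZeroExt.fst (x0 k n)) = 0
    rw [fst_x0, resA_t]))

theorem e_t : (e k n).toAlgHom (t k (n + 1)) = (q k n).toAlgHom (x0 k n) := eAlg_t k n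

end E

section P

variable (n : ℕ)

theorem K_le_ker_β : (K k n : Ideal (B k (n + 1))) ≤ RingHom.ker (β k (n + 1)).toAlgHom := by
  intro x hx
  exact RingHom.mem_ker.2 (fst_eq_zero_of_mem_K k n x hx)

theorem ξ_w : dualMap k (αAlg k n) (w k n) = 0 := by
  refine TrivSqZeroExt.ext ?_ ?_
  · change αAlg k n (TrivSqZeroExt.fst (w k n)) = 0
    rw [w, TrivSqZeroExt.fst_inr, map_zero]
  · change αAlg k n (TrivSqZeroExt.snd (w k n)) = 0
    rw [w, TrivSqZeroExt.snd_inr, map_pow, αAlg_t, t_pow]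

theorem K_le_ker_ξ : (K k n : Ideal (B k (n + 1))) ≤ RingHom.ker (ξ k n).toAlgHom := by
  have h : (Ideal.span {w k n} : Ideal (DualNumber (Tr k (n + 1)))) ≤
      RingHom.ker (dualMap k (αAlg k n)) := by
    rw [Ideal.span_le, Set.singleton_subset_iff, SetLike.mem_coe, RingHom.mem_ker]
    exact ξ_w k n
  exact h

noncomputable def pC1 : Cobj k n ⟶ A k (n + 1) :=
  Art.quotFactor (K_le k n) (β k (n + 1)) (K_le_ker_β k n)

noncomputable def pC2 : Cobj k n ⟶ B k n :=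
  Art.quotFactor (K_le k n) (ξ k n) (K_le_ker_ξ k n)

theorem q_pC1 : q k n ≫ pC1 k n = β k (n + 1) := Art.quotMk_quotFactor _ _ _

theorem q_pC2 : q k n ≫ pC2 k n = ξ k n := Art.quotMk_quotFactor _ _ _

theorem ξ_x0 : dualMap k (αAlg k n) (x0 k n) = TrivSqZeroExt.inl (t k n) + DualNumber.eps := by
  refine TrivSqZeroExt.ext ?_ ?_
  · change αAlg k n (TrivSqZeroExt.fst (x0 k n)) = _
    rw [fst_x0, αAlg_t]
    simp
  · change αAlg k n (TrivSqZeroExt.snd (x0 k n)) = _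
    rw [snd_x0, map_one]
    simp

theorem e_pC1 : e k n ≫ pC1 k n = 𝟙 (A k (n + 1)) := by
  refine Art.hom_ext (AdjoinRoot.algHom_ext ?_)
  change (pC1 k n).toAlgHom ((e k n).toAlgHom (t k (n + 1))) = t k (n + 1)
  rw [e_t]
  change TrivSqZeroExt.fst (x0 k n) = _
  exact fst_x0 k n

theorem e_pC2 : e k n ≫ pC2 k n = ε k n := by
  refine Art.hom_ext (AdjoinRoot.algHom_ext ?_)
  change (pC2 k n).toAlgHom ((e k n).toAlgHom (t k (n + 1))) = εAlg k n (t k (n + 1))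
  rw [e_t, εAlg_t]
  change dualMap k (αAlg k n) (x0 k n) = _
  exact ξ_x0 k n

theorem α_e : α k (n + 1) ≫ e k n = ε k (n + 1) ≫ q k n := by
  refine Art.hom_ext (AdjoinRoot.algHom_ext ?_)
  change (e k n).toAlgHom (αAlg k (n + 1) (t k (n + 2))) =
    (q k n).toAlgHom (εAlg k (n + 1) (t k (n + 2)))
  rw [αAlg_t, e_t, εAlg_t]
  rfl

theorem sub_mem_K (b₁ b₂ : DualNumber (Tr k (n + 1)))
    (h1' : TrivSqZeroExt.fst b₁ = TrivSqZeroExt.fst b₂)
    (h2' : dualMap k (αAlg k n) b₁ = dualMap k (αAlg k n) b₂) : b₁ - b₂ ∈ K k n := by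
  have h3 : αAlg k n (TrivSqZeroExt.snd b₁ - TrivSqZeroExt.snd b₂) = 0 := by
    rw [map_sub, sub_eq_zero]
    exact congrArg TrivSqZeroExt.snd h2'
  obtain ⟨c, hc⟩ := ker_αAlg k n _ h3
  have : b₁ - b₂ = TrivSqZeroExt.inr (c • (t k (n + 1)) ^ (n + 1)) := by
    refine TrivSqZeroExt.ext ?_ ?_
    · rw [TrivSqZeroExt.fst_sub, TrivSqZeroExt.fst_inr, h1', sub_self]
    · rw [TrivSqZeroExt.snd_sub, TrivSqZeroExt.snd_inr, hc]
  rw [this]
  exact inr_smul_mem_K k n c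

theorem isFibreProd : IsFibreProd (pC1 k n) (pC2 k n) (α k n) (β k n) where
  w := by
    refine Art.hom_ext (AlgHom.ext fun c => ?_)
    obtain ⟨b, rfl⟩ := q_surjective k n c
    rfl
  inj := by
    intro c₁ c₂ h1 h2
    obtain ⟨b₁, rfl⟩ := q_surjective k n c₁
    obtain ⟨b₂, rfl⟩ := q_surjective k n c₂
    have hmem : b₁ - b₂ ∈ K k n := sub_mem_K k n b₁ b₂ h1 h2
    exact (Ideal.Quotient.eq).2 hmem
  surj := by
    intro a' b'' h
    obtain ⟨z, hz⟩ := αAlg_surjective k n (TrivSqZeroExt.snd b'')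
    refine ⟨q k n (a', z), rfl, ?_⟩
    change dualMap k (αAlg k n) (a', z) = b''
    refine TrivSqZeroExt.ext ?_ ?_
    · exact h
    · exact hz

end P

section L

variable (n : ℕ)

theorem q_ε_eq_zero (j : A k (n + 2)) (hj : j ∈ RingHom.ker (α k (n + 1)).toAlgHom) :
    (q k n).toAlgHom ((ε k (n + 1)).toAlgHom j) = 0 := by
  have h1 : (α k (n + 1) ≫ e k n).toAlgHom j = (ε k (n + 1) ≫ q k n).toAlgHom j := by
    rw [α_e]
  have h2 : (α k (n + 1) ≫ e k n).toAlgHom j = 0 := by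
    change (e k n).toAlgHom ((α k (n + 1)).toAlgHom j) = 0
    rw [RingHom.mem_ker.1 hj, map_zero]
  rw [h2] at h1
  exact h1.symm

noncomputable def ell :
    ↥(RingHom.ker (α k (n + 1)).toAlgHom) →ₗ[k] ↥(RingHom.ker (q k n).toAlgHom) where
  toFun j := ⟨(ε k (n + 1)).toAlgHom j, RingHom.mem_ker.2 (q_ε_eq_zero k n j j.2)⟩
  map_add' _ _ := Subtype.ext (map_add _ _ _)
  map_smul' c x := Subtype.ext (map_smul (ε k (n + 1)).toAlgHom c (x : A k (n + 2)))

theorem ell_apply (j : ↥(RingHom.ker (α k (n + 1)).toAlgHom)) :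
    ((ell k n j : ↥(RingHom.ker (q k n).toAlgHom)) : B k (n + 1)) =
      (ε k (n + 1)).toAlgHom (j : A k (n + 2)) := rfl

theorem εAlg_eq_zero [CharZero k] (j : Tr k (n + 2)) (hj : αAlg k (n + 1) j = 0)
    (h : εAlg k (n + 1) j = 0) : j = 0 := by
  obtain ⟨c, rfl⟩ := ker_αAlg k (n + 1) j hj
  rw [map_smul, map_pow, εAlg_t] at h
  have h1 : (TrivSqZeroExt.inl (t k (n + 1)) + DualNumber.eps : DualNumber (Tr k (n + 1)))
      ^ (n + 1 + 1) = TrivSqZeroExt.inr (((n + 2 : ℕ) : k) • (t k (n + 1)) ^ (n + 1)) :=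
    x0_pow k n
  rw [h1] at h
  have h2 := congrArg TrivSqZeroExt.snd h
  rw [TrivSqZeroExt.snd_smul, TrivSqZeroExt.snd_inr, TrivSqZeroExt.snd_zero, smul_smul] at h2
  have h3 := smul_t_pow_eq_zero k (n + 1) _ h2
  have h4 : ((n + 2 : ℕ) : k) ≠ 0 := Nat.cast_ne_zero.2 (by omega)
  have h5 : c = 0 := (mul_eq_zero.1 h3).resolve_right h4
  rw [h5, zero_smul]

theorem ell_injective [CharZero k] : Function.Injective (ell k n) := by
  rw [← LinearMap.ker_eq_bot, LinearMap.ker_eq_bot']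
  intro j hj
  have h1 : (ε k (n + 1)).toAlgHom (j : A k (n + 2)) = 0 := by
    rw [← ell_apply, hj]
    rfl
  have h2 : (j : A k (n + 2)) = 0 := εAlg_eq_zero k n _ (RingHom.mem_ker.1 j.2) h1
  exact Subtype.ext h2

end L

end Groth.Agent.Lib.Helper63.T1L
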