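import Groth.Agent.Lib.Helper70.LinTop

set_option autoImplicit false
universe u v

namespace Groth.Agent.Lib.Helper63.Taut

open Topology Groth.Agent.Lib.Helper70.LinTopLib

section

set_option linter.unusedSectionVars false

variable {A : Type u} [CommRing A] [TopologicalSpace A] [IsTopologicalRing A]
variable {B : Type v} [CommRing B] [TopologicalSpace B] [IsTopologicalRing B]

theorem map_closure_le (φ : A →+* B) (hφ : Continuous φ) (K : Ideal A) :
    K.closure.map φ ≤ (K.map φ).closure := by
  rw [Ideal.map_le_iff_le_comap]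
  intro x hx
  have hx' : x ∈ closure (K : Set A) := by rw [← Ideal.coe_closure]; exact hx
  have h1 : φ x ∈ closure (φ '' (K : Set A)) := image_closure_subset_closure_image hφ ⟨x, hx', rfl⟩
  have h2 : φ '' (K : Set A) ⊆ ((K.map φ : Ideal B) : Set B) := by
    rintro _ ⟨a, ha, rfl⟩
    exact Ideal.mem_map_of_mem φ ha
  have h3 : φ x ∈ closure ((K.map φ : Ideal B) : Set B) := closure_mono h2 h1
  rw [← Ideal.coe_closure] at h3
  exact h3

theorem closure_map_closure (φ : A →+* B) (hφ : Continuous φ) (K : Ideal A) :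
    closure ((K.closure.map φ : Ideal B) : Set B) = closure ((K.map φ : Ideal B) : Set B) := by
  apply subset_antisymm
  · have h := map_closure_le φ hφ K
    have h' : ((K.closure.map φ : Ideal B) : Set B) ⊆ closure ((K.map φ : Ideal B) : Set B) := by
      rw [← Ideal.coe_closure]
      exact h
    exact closure_minimal h' isClosed_closure
  · exact closure_mono (Ideal.map_mono (le_closure_ideal K))

theorem comap_closure_map_eq (φ : A →+* B) (h : LinTop.IsTautFFlat φ) (I : Ideal A)
    (hI : IsOpen (I : Set A)) : (I.map φ).closure.comap φ = I := by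
  apply le_antisymm
  · intro a ha
    have hinj := (h.2 I hI).injective
    have h0 : LinTop.descentMap φ I (Ideal.Quotient.mk I a) = 0 := by
      change Ideal.Quotient.mk _ (φ a) = 0
      rw [Ideal.Quotient.eq_zero_iff_mem]
      exact ha
    have h1 : Ideal.Quotient.mk I a = 0 := hinj (by rw [h0, map_zero])
    rwa [Ideal.Quotient.eq_zero_iff_mem] at h1
  · exact Ideal.le_comap_map.trans (Ideal.comap_mono (le_closure_ideal _))

theorem mem_of_map_mem_closure (φ : A →+* B) (h : LinTop.IsTautFFlat φ) (I : Ideal A)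
    (hI : IsOpen (I : Set A)) {a : A} (ha : φ a ∈ closure ((I.map φ : Ideal B) : Set B)) :
    a ∈ I := by
  rw [← comap_closure_map_eq φ h I hI, Ideal.mem_comap, ← SetLike.mem_coe, Ideal.coe_closure]
  exact ha

theorem le_of_closure_map_subset (φ : A →+* B) (h : LinTop.IsTautFFlat φ) (I I' : Ideal A)
    (hI : IsOpen (I : Set A))
    (hsub : ((I'.map φ : Ideal B) : Set B) ⊆ closure ((I.map φ : Ideal B) : Set B)) :
    I' ≤ I := by
  intro a ha
  exact mem_of_map_mem_closure φ h I hI (hsub (Ideal.mem_map_of_mem φ ha))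

theorem mem_closure_of_forall_mem_sup [IsLinearTopology A A] (K : Ideal A) (x : A)
    (h : ∀ I' : Ideal A, IsOpen (I' : Set A) → x ∈ K ⊔ I') : x ∈ closure (K : Set A) := by
  rw [mem_closure_iff_nhds]
  intro U hU
  have h0 : (fun y => x + y) ⁻¹' U ∈ 𝓝 (0 : A) := by
    have hc : Continuous (fun y : A => x + y) := continuous_const.add continuous_id
    refine hc.continuousAt.preimage_mem_nhds ?_
    simpa using hU
  obtain ⟨I', hI', hI'U⟩ := exists_open_ideal_subset h0
  obtain ⟨k, hk, i, hi, hki⟩ := Submodule.mem_sup.1 (h I' hI')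
  refine ⟨k, ?_, hk⟩
  have : x + (-i) ∈ U := hI'U (I'.neg_mem hi)
  have hk' : k = x + -i := by rw [← hki]; ring
  rw [hk']
  exact this

theorem isOpen_sup_right (K I' : Ideal A) (hI' : IsOpen (I' : Set A)) :
    IsOpen ((K ⊔ I' : Ideal A) : Set A) :=
  isOpen_of_le le_sup_right hI'

theorem isOpen_closure_of_le {L K : Ideal A} (hL : IsOpen (L : Set A))
    (h : (L : Set A) ⊆ closure (K : Set A)) : IsOpen (closure (K : Set A)) := by
  rw [← Ideal.coe_closure] at h ⊢
  exact isOpen_of_le h hL

theorem exists_sub_mem_of_mem_closure (K L : Ideal A) (hL : IsOpen (L : Set A)) (x : A)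
    (hx : x ∈ closure (K : Set A)) : ∃ y ∈ K, x - y ∈ L := by
  have hnhd : (fun y => x - y) ⁻¹' (L : Set A) ∈ 𝓝 x := by
    have hc : Continuous (fun y : A => x - y) := continuous_const.sub continuous_id
    refine hc.continuousAt.preimage_mem_nhds ?_
    simp only [sub_self]
    exact mem_nhds_zero_of_isOpen_ideal L hL
  obtain ⟨y, hyL, hyK⟩ := mem_closure_iff_nhds.1 hx _ hnhd
  exact ⟨y, hyK, hyL⟩

theorem closure_subset_sup (K L : Ideal A) (hL : IsOpen (L : Set A)) :
    closure (K : Set A) ⊆ ((K ⊔ L : Ideal A) : Set A) := by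
  intro x hx
  obtain ⟨y, hy, hxy⟩ := exists_sub_mem_of_mem_closure K L hL x hx
  have : x = y + (x - y) := by ring
  rw [this]
  exact (K ⊔ L).add_mem (Ideal.mem_sup_left hy) (Ideal.mem_sup_right hxy)

end

end Groth.Agent.Lib.Helper63.Taut
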