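import Groth.Agent.Lib.Helper55.FL.GenFreeIrred

set_option autoImplicit false

universe u

namespace Groth.Agent.Lib.Helper63.UFlat

open TensorProduct Groth.Agent.Lib.Helper55.FL Groth.Agent.Lib.Helper6.NilpNakayama

section cover

variable {Λ : Type u} [CommRing Λ] (I : Ideal Λ) (N : Type u) [AddCommGroup N] [Module Λ N]

theorem exists_cover_of_free_quot (hI : IsNilpotent I)
    [Module.Free (Λ ⧸ I) ((Λ ⧸ I) ⊗[Λ] N)] :
    ∃ (ι : Type u) (v : ι → N), Function.Surjective (Finsupp.linearCombination Λ v) ∧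
      ∀ x : ι →₀ Λ, Finsupp.linearCombination Λ v x = 0 → ∀ i, x i ∈ I := by
  classical
  let w := Module.Free.chooseBasis (Λ ⧸ I) ((Λ ⧸ I) ⊗[Λ] N)
  have ⟨v, eq⟩ := (TensorProduct.mk_surjective Λ N (Λ ⧸ I)
    Ideal.Quotient.mk_surjective).comp_left w
  have hvw : ∀ i, (1 : Λ ⧸ I) ⊗ₜ[Λ] v i = w i := fun i => congrFun eq i
  refine ⟨_, v, ?_, ?_⟩
  · rw [← LinearMap.range_eq_top, Finsupp.range_linearCombination]
    apply eq_top_of_sup_smul_top_of_isNilpotent _ hI
    have hker : LinearMap.ker (TensorProduct.mk Λ (Λ ⧸ I) N 1) =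
        I • (⊤ : Submodule Λ N) := LinearMap.ker_tensorProductMk N
    rw [← hker, ← Submodule.comap_map_eq, Submodule.map_span,
      ← Submodule.restrictScalars_span Λ (Λ ⧸ I) Ideal.Quotient.mk_surjective,
      ← Set.range_comp]
    have : (⇑(TensorProduct.mk Λ (Λ ⧸ I) N 1) ∘ v) = ⇑w := funext hvw
    rw [this, w.span_eq]
    simp
  · have key : ∀ y : _ →₀ Λ,
        Finsupp.linearCombination (Λ ⧸ I) w (y.mapRange (Ideal.Quotient.mk I) (map_zero _)) =
          (TensorProduct.mk Λ (Λ ⧸ I) N 1) (Finsupp.linearCombination Λ v y) := by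
      intro y
      induction y using Finsupp.induction_linear with
      | zero => simp
      | add a b ha hb =>
        rw [Finsupp.mapRange_add (map_add _), map_add, ha, hb, map_add, map_add]
      | single i r =>
        rw [Finsupp.mapRange_single, Finsupp.linearCombination_single,
          Finsupp.linearCombination_single, map_smul, TensorProduct.mk_apply, hvw]
        exact algebraMap_smul (Λ ⧸ I) r (w i)
    intro x hx i
    have h1 : Finsupp.linearCombination (Λ ⧸ I) w (x.mapRange (Ideal.Quotient.mk I) (map_zero _))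
        = 0 := by rw [key, hx, map_zero]
    have h3 := linearIndependent_iff.1 w.linearIndependent _ h1
    have h4 : Ideal.Quotient.mk I (x i) = 0 := by
      have := DFunLike.congr_fun h3 i
      simpa using this
    exact Ideal.Quotient.eq_zero_iff_mem.1 h4

end cover

section univ

variable {Λ : Type u} [CommRing Λ] (I : Ideal Λ) {N : Type u} [AddCommGroup N] [Module Λ N]
  {ι : Type u} (v : ι → N)

def contentIdeal : Ideal Λ :=
  Ideal.span {r | ∃ x : ι →₀ Λ, Finsupp.linearCombination Λ v x = 0 ∧ ∃ i, x i = r}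

theorem contentIdeal_le
    (hc : ∀ x : ι →₀ Λ, Finsupp.linearCombination Λ v x = 0 → ∀ i, x i ∈ I) :
    contentIdeal v ≤ I := by
  refine Ideal.span_le.2 ?_
  rintro r ⟨x, hx, i, rfl⟩
  exact hc x hx i

theorem tmul_mem_map_smul_top (C : Type u) [CommRing C] [Algebra Λ C] {F : Type u}
    [AddCommGroup F] [Module Λ F] (c : C) {y : F} (hy : y ∈ I • (⊤ : Submodule Λ F)) :
    c ⊗ₜ[Λ] y ∈ (I.map (algebraMap Λ C)) • (⊤ : Submodule C (C ⊗[Λ] F)) := by
  refine Submodule.smul_induction_on hy (fun r hr n _ => ?_) (fun x y hx hy => ?_)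
  · have : c ⊗ₜ[Λ] (r • n) = algebraMap Λ C r • (c ⊗ₜ[Λ] n) := by
      rw [TensorProduct.tmul_smul, TensorProduct.smul_tmul', TensorProduct.smul_tmul',
        Algebra.smul_def, smul_eq_mul]
    rw [this]
    exact Submodule.smul_mem_smul (Ideal.mem_map_of_mem _ hr) Submodule.mem_top
  · rw [TensorProduct.tmul_add]
    exact add_mem hx hy

theorem mem_smul_top_of_forall_mem {x : ι →₀ Λ} (hx : ∀ i, x i ∈ I) :
    x ∈ I • (⊤ : Submodule Λ (ι →₀ Λ)) := by
  classical
  rw [← Finsupp.sum_single x]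
  refine Submodule.sum_mem _ fun i _ => ?_
  have : Finsupp.single i (x i) = x i • Finsupp.single i (1 : Λ) := by
    rw [Finsupp.smul_single, smul_eq_mul, mul_one]
  rw [this]
  exact Submodule.smul_mem_smul (hx i) Submodule.mem_top

theorem range_lTensor_le (C : Type u) [CommRing C] [Algebra Λ C]
    (hc : ∀ x : ι →₀ Λ, Finsupp.linearCombination Λ v x = 0 → ∀ i, x i ∈ I)
    (t : C ⊗[Λ] ↥(LinearMap.ker (Finsupp.linearCombination Λ v))) :
    ((LinearMap.ker (Finsupp.linearCombination Λ v)).subtype.lTensor C) t ∈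
      (I.map (algebraMap Λ C)) • (⊤ : Submodule C (C ⊗[Λ] (ι →₀ Λ))) := by
  induction t using TensorProduct.induction_on with
  | zero => rw [map_zero]; exact zero_mem _
  | tmul c x =>
    rw [LinearMap.lTensor_tmul, Submodule.subtype_apply]
    exact tmul_mem_map_smul_top I C c
      (mem_smul_top_of_forall_mem I (hc x.1 (LinearMap.mem_ker.1 x.2)))
  | add a b ha hb =>
    rw [map_add]
    exact add_mem ha hb

theorem lTensor_eq_zero (C : Type u) [CommRing C] [Algebra Λ C]
    (hJ : (contentIdeal v).map (algebraMap Λ C) = ⊥)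
    (t : C ⊗[Λ] ↥(LinearMap.ker (Finsupp.linearCombination Λ v))) :
    ((LinearMap.ker (Finsupp.linearCombination Λ v)).subtype.lTensor C) t = 0 := by
  classical
  induction t using TensorProduct.induction_on with
  | zero => rw [map_zero]
  | tmul c x =>
    rw [LinearMap.lTensor_tmul, Submodule.subtype_apply]
    apply (TensorProduct.finsuppScalarRight Λ C C ι).injective
    rw [map_zero]
    ext i
    rw [TensorProduct.finsuppScalarRight_apply_tmul_apply, Algebra.smul_def]
    have hmem : algebraMap Λ C (x.1 i) ∈ (contentIdeal v).map (algebraMap Λ C) :=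
      Ideal.mem_map_of_mem _ (Ideal.subset_span ⟨x.1, LinearMap.mem_ker.1 x.2, i, rfl⟩)
    rw [hJ, Ideal.mem_bot] at hmem
    rw [hmem, zero_mul]
    rfl
  | add a b ha hb => rw [map_add, ha, hb, add_zero]

theorem flat_iff_contentIdeal_map_eq_bot (hI : IsNilpotent I)
    (hs : Function.Surjective (Finsupp.linearCombination Λ v))
    (hc : ∀ x : ι →₀ Λ, Finsupp.linearCombination Λ v x = 0 → ∀ i, x i ∈ I)
    (C : Type u) [CommRing C] [Algebra Λ C] :
    Module.Flat C (C ⊗[Λ] N) ↔ (contentIdeal v).map (algebraMap Λ C) = ⊥ := by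
  classical
  have hex :=
    _root_.lTensor_exact C (M := ↥(LinearMap.ker (Finsupp.linearCombination Λ v)))
      (f := (LinearMap.ker (Finsupp.linearCombination Λ v)).subtype)
      (g := Finsupp.linearCombination Λ v)
      (LinearMap.exact_subtype_ker_map _) hs
  have hsC : Function.Surjective ((Finsupp.linearCombination Λ v).baseChange C) := by
    rw [LinearMap.baseChange_eq_ltensor]
    exact LinearMap.lTensor_surjective C hs
  constructor
  · intro hflat
    have hI' : IsNilpotent (I.map (algebraMap Λ C)) := by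
      obtain ⟨n, hn⟩ := hI
      refine ⟨n, ?_⟩
      rw [← Ideal.map_pow, hn, Ideal.zero_eq_bot, Ideal.map_bot]
      rfl
    have hker : LinearMap.ker ((Finsupp.linearCombination Λ v).baseChange C) ≤
        (I.map (algebraMap Λ C)) • (⊤ : Submodule C (C ⊗[Λ] (ι →₀ Λ))) := by
      intro z hz
      have hz' : ((Finsupp.linearCombination Λ v).lTensor C) z = 0 := by
        have := LinearMap.mem_ker.1 hz
        rwa [LinearMap.baseChange_eq_ltensor] at this
      obtain ⟨t, rfl⟩ := (hex z).1 hz'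
      exact range_lTensor_le I v C hc t
    have hinj := injective_of_flat_of_ker_le (I.map (algebraMap Λ C)) hI'
      ((Finsupp.linearCombination Λ v).baseChange C) hsC hker
    rw [contentIdeal, Ideal.map_span, Ideal.span_eq_bot]
    rintro _ ⟨r, ⟨x, hx, i, rfl⟩, rfl⟩
    have h0 : (1 : C) ⊗ₜ[Λ] x = 0 := by
      apply hinj
      rw [LinearMap.baseChange_tmul, hx, TensorProduct.tmul_zero, map_zero]
    have h1 : (TensorProduct.finsuppScalarRight Λ C C ι) ((1 : C) ⊗ₜ[Λ] x) i = 0 := by
      rw [h0, map_zero]; rfl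
    rw [TensorProduct.finsuppScalarRight_apply_tmul_apply, Algebra.smul_def, mul_one] at h1
    exact h1
  · intro hJ
    have hinj : Function.Injective ((Finsupp.linearCombination Λ v).baseChange C) := by
      rw [← LinearMap.ker_eq_bot, eq_bot_iff]
      intro z hz
      have hz' : ((Finsupp.linearCombination Λ v).lTensor C) z = 0 := by
        have := LinearMap.mem_ker.1 hz
        rwa [LinearMap.baseChange_eq_ltensor] at this
      obtain ⟨t, rfl⟩ := (hex z).1 hz'
      rw [lTensor_eq_zero v C hJ t]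
      exact zero_mem _
    exact Module.Flat.of_linearEquiv
      (LinearEquiv.ofBijective ((Finsupp.linearCombination Λ v).baseChange C) ⟨hinj, hsC⟩).symm

end univ

section core

attribute [local instance] Algebra.TensorProduct.rightAlgebra

theorem exists_free_quot {k R S₁ M₁ : Type u} [CommRing k] [CommRing R] [IsNoetherianRing R]
    [Algebra k R] [CommRing S₁] [Algebra k S₁] [Algebra.FiniteType k S₁] [AddCommGroup M₁]
    [Module S₁ M₁] [Module k M₁] [IsScalarTower k S₁ M₁] [Module.Finite S₁ M₁]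
    [hprime : (nilradical R).IsPrime] :
    ∃ f : R, f ∉ nilradical R ∧
      Module.Free (Localization.Away f ⧸ (nilradical R).map (algebraMap R (Localization.Away f)))
        ((Localization.Away f ⧸ (nilradical R).map (algebraMap R (Localization.Away f)))
          ⊗[Localization.Away f] (Localization.Away f ⊗[k] M₁)) := by
  have : IsDomain (R ⧸ nilradical R) := Ideal.Quotient.isDomain _
  obtain ⟨f', hf', hfree⟩ := Groth.Agent.Lib.Helper18.exists_free_tensor
    (R := R ⧸ nilradical R) ((R ⧸ nilradical R) ⊗[k] S₁)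
    (((R ⧸ nilradical R) ⊗[k] S₁) ⊗[S₁] M₁)
  obtain ⟨f, rfl⟩ := Ideal.Quotient.mk_surjective f'
  have hfn : f ∉ nilradical R := fun h => hf' (Ideal.Quotient.eq_zero_iff_mem.2 h)
  refine ⟨f, hfn, ?_⟩
  have hfree' : Module.Free (Localization.Away (Ideal.Quotient.mk (nilradical R) f))
      (Localization.Away (Ideal.Quotient.mk (nilradical R) f) ⊗[R ⧸ nilradical R]
        ((R ⧸ nilradical R) ⊗[k] M₁)) :=
    Module.Free.of_equiv (AlgebraTensorModule.congr
      (LinearEquiv.refl (Localization.Away (Ideal.Quotient.mk (nilradical R) f))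
        (Localization.Away (Ideal.Quotient.mk (nilradical R) f)))
      (Algebra.IsPushout.cancelBaseChange k (R ⧸ nilradical R) S₁
        ((R ⧸ nilradical R) ⊗[k] S₁) M₁))
  exact free_quot_tensor_of_free (k := k) (M₁ := M₁) f hfree'

def UF (A₀ : Type u) [CommRing A₀]
    (Q : ∀ (C : Type u) [CommRing C] [Algebra A₀ C], Prop) : Prop :=
  ∃ h₀ : A₀, ¬ IsNilpotent h₀ ∧ ∃ J₀ : Ideal (Localization.Away h₀), J₀.FG ∧
    J₀ ≤ nilradical (Localization.Away h₀) ∧
    ∀ (C : Type u) [CommRing C] [Algebra A₀ C] [Algebra (Localization.Away h₀) C]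
      [IsScalarTower A₀ (Localization.Away h₀) C],
      Q C ↔ J₀.map (algebraMap (Localization.Away h₀) C) = ⊥

theorem ringCore {A₀ B M : Type u} [CommRing A₀] [CommRing B] [Algebra A₀ B]
    [Algebra.FinitePresentation A₀ B] (hprime : (nilradical A₀).IsPrime)
    [AddCommGroup M] [Module B M] [Module A₀ M] [IsScalarTower A₀ B M]
    [Module.FinitePresentation B M] :
    UF A₀ (fun C _ _ => Module.Flat C (C ⊗[A₀] M)) := by
  classical
  obtain ⟨k₁, _, _, S₁, _, _, M₁, _, _, _, _, hk₁, hS₁, hM₁, ⟨eRM⟩⟩ :=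
    exists_module_model (R := A₀) (S := B) (M := M)
  have : IsNoetherianRing k₁ := Algebra.FiniteType.isNoetherianRing ℤ k₁
  let R : Subalgebra k₁ A₀ := ⊥
  have ftR : Algebra.FiniteType k₁ ↥R := (Subalgebra.fg_iff_finiteType R).1 Subalgebra.fg_bot
  have : IsNoetherianRing ↥R := Algebra.FiniteType.isNoetherianRing k₁ ↥R
  have hnR : nilradical ↥R = (nilradical A₀).comap (algebraMap ↥R A₀) := by
    ext x
    rw [mem_nilradical, Ideal.mem_comap, mem_nilradical]
    constructor
    · intro hx
      exact hx.map _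
    · rintro ⟨n, hn⟩
      refine ⟨n, Subtype.ext ?_⟩
      have : ((x ^ n : ↥R) : A₀) = (algebraMap ↥R A₀ x) ^ n := by
        rw [← map_pow]; rfl
      rw [this, hn]
      rfl
  have hprimeR : (nilradical ↥R).IsPrime := by
    rw [hnR]
    exact Ideal.comap_isPrime _ _
  obtain ⟨f, hfn, hfree⟩ := exists_free_quot (k := k₁) (R := ↥R) (S₁ := S₁) (M₁ := M₁)
  have hnil : IsNilpotent ((nilradical ↥R).map (algebraMap ↥R (Localization.Away f))) := by
    obtain ⟨n, hn⟩ := IsNoetherianRing.isNilpotent_nilradical ↥R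
    refine ⟨n, ?_⟩
    rw [← Ideal.map_pow, hn, Ideal.zero_eq_bot, Ideal.map_bot]
    rfl
  have := hfree
  obtain ⟨ι, v, hs, hc⟩ := exists_cover_of_free_quot
    ((nilradical ↥R).map (algebraMap ↥R (Localization.Away f)))
    (Localization.Away f ⊗[k₁] M₁) hnil
  have hh₀ : ¬ IsNilpotent (algebraMap ↥R A₀ f) := by
    intro hn
    apply hfn
    rw [hnR, Ideal.mem_comap, mem_nilradical]
    exact hn
  have hunit : IsUnit (((algebraMap A₀ (Localization.Away (algebraMap ↥R A₀ f))).comp
      (algebraMap ↥R A₀)) f) := IsLocalization.Away.algebraMap_isUnit (algebraMap ↥R A₀ f)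
  let ψ : Localization.Away f →+* Localization.Away (algebraMap ↥R A₀ f) :=
    IsLocalization.Away.lift f hunit
  have hψ : ∀ r : ↥R, ψ (algebraMap ↥R (Localization.Away f) r) =
      algebraMap A₀ (Localization.Away (algebraMap ↥R A₀ f)) (algebraMap ↥R A₀ r) :=
    fun r => IsLocalization.Away.lift_eq f hunit r
  have : IsNoetherianRing (Localization.Away f) :=
    IsLocalization.isNoetherianRing (Submonoid.powers f) (Localization.Away f) inferInstance
  refine ⟨algebraMap ↥R A₀ f, hh₀, (contentIdeal v).map ψ,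
    Ideal.FG.map (IsNoetherian.noetherian (contentIdeal v)) ψ, ?_, ?_⟩
  · rw [Ideal.map_le_iff_le_comap]
    intro x hx
    have hxI := contentIdeal_le _ v hc hx
    rw [Ideal.mem_comap, mem_nilradical]
    have hxn : IsNilpotent x := by
      obtain ⟨n, hn⟩ := hnil
      refine ⟨n, ?_⟩
      have h1 := Ideal.pow_mem_pow hxI n
      rw [hn] at h1
      exact h1
    exact hxn.map ψ
  · intro C _ _ _ _
    let algΛC : Algebra (Localization.Away f) C :=
      ((algebraMap (Localization.Away (algebraMap ↥R A₀ f)) C).comp ψ).toAlgebra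
    let algk₁C : Algebra k₁ C := ((algebraMap A₀ C).comp (algebraMap k₁ A₀)).toAlgebra
    have t1 : IsScalarTower k₁ A₀ C := IsScalarTower.of_algebraMap_eq' rfl
    have t2 : IsScalarTower k₁ (Localization.Away f) C := IsScalarTower.of_algebraMap_eq fun c => by
      show algebraMap A₀ C (algebraMap k₁ A₀ c) =
        algebraMap (Localization.Away (algebraMap ↥R A₀ f)) C
          (ψ (algebraMap k₁ (Localization.Away f) c))
      rw [IsScalarTower.algebraMap_apply k₁ ↥R (Localization.Away f), hψ,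
        ← IsScalarTower.algebraMap_apply A₀ (Localization.Away (algebraMap ↥R A₀ f)) C,
        ← IsScalarTower.algebraMap_apply k₁ ↥R A₀]
    have e1 : C ⊗[A₀] M ≃ₗ[C] C ⊗[k₁] M₁ :=
      (AlgebraTensorModule.congr (LinearEquiv.refl C C) eRM.symm).trans
        (AlgebraTensorModule.cancelBaseChange k₁ A₀ C C M₁)
    have e2 : C ⊗[Localization.Away f] (Localization.Away f ⊗[k₁] M₁) ≃ₗ[C] C ⊗[k₁] M₁ :=
      AlgebraTensorModule.cancelBaseChange k₁ (Localization.Away f) C C M₁
    show Module.Flat C (C ⊗[A₀] M) ↔ _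
    rw [Module.Flat.equiv_iff (e1.trans e2.symm),
      flat_iff_contentIdeal_map_eq_bot _ v hnil hs hc C, Ideal.map_map]
    rfl

end core

section comb

variable {A₀ : Type u} [CommRing A₀]

theorem UF.congr {Q Q' : ∀ (C : Type u) [CommRing C] [Algebra A₀ C], Prop}
    (h : ∀ (C : Type u) [CommRing C] [Algebra A₀ C], Q C ↔ Q' C) (hQ : UF A₀ Q) : UF A₀ Q' := by
  obtain ⟨a, ha, J, fg, le, u⟩ := hQ
  exact ⟨a, ha, J, fg, le, fun C _ _ _ _ => (h C).symm.trans (u C)⟩

theorem UF.top [Nontrivial A₀] : UF A₀ (fun _ _ _ => True) := by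
  refine ⟨1, ?_, ⊥, Submodule.fg_bot, bot_le, fun C _ _ _ _ => ?_⟩
  · exact not_isNilpotent_one
  · simp [Ideal.map_bot]

theorem UF.and (hp : (nilradical A₀).IsPrime)
    {Q₁ Q₂ : ∀ (C : Type u) [CommRing C] [Algebra A₀ C], Prop} (h₁ : UF A₀ Q₁) (h₂ : UF A₀ Q₂) :
    UF A₀ (fun C _ _ => Q₁ C ∧ Q₂ C) := by
  obtain ⟨a, ha, J₁, fg₁, le₁, u₁⟩ := h₁
  obtain ⟨b, hb, J₂, fg₂, le₂, u₂⟩ := h₂
  let ψ₁ : Localization.Away a →+* Localization.Away (a * b) :=
    IsLocalization.Away.awayToAwayRight a b
  let ψ₂ : Localization.Away b →+* Localization.Away (a * b) :=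
    IsLocalization.Away.awayToAwayLeft b a
  have hψ₁ : ∀ r, ψ₁ (algebraMap A₀ _ r) = algebraMap A₀ _ r :=
    IsLocalization.Away.awayToAwayRight_eq a b
  have hψ₂ : ∀ r, ψ₂ (algebraMap A₀ _ r) = algebraMap A₀ _ r :=
    IsLocalization.Away.awayToAwayLeft_eq b a
  refine ⟨a * b, ?_, J₁.map ψ₁ ⊔ J₂.map ψ₂, Submodule.FG.sup (Ideal.FG.map fg₁ ψ₁) (Ideal.FG.map fg₂ ψ₂),
    ?_, ?_⟩
  · intro hn
    have hmem : a * b ∈ nilradical A₀ := mem_nilradical.2 hn
    rcases hp.mem_or_mem hmem with h | h
    · exact ha (mem_nilradical.1 h)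
    · exact hb (mem_nilradical.1 h)
  · refine sup_le ?_ ?_
    · rw [Ideal.map_le_iff_le_comap]
      intro x hx
      rw [Ideal.mem_comap, mem_nilradical]
      exact (mem_nilradical.1 (le₁ hx)).map ψ₁
    · rw [Ideal.map_le_iff_le_comap]
      intro x hx
      rw [Ideal.mem_comap, mem_nilradical]
      exact (mem_nilradical.1 (le₂ hx)).map ψ₂
  · intro C _ _ _ _
    let alg1 : Algebra (Localization.Away a) C :=
      ((algebraMap (Localization.Away (a * b)) C).comp ψ₁).toAlgebra
    have t1 : IsScalarTower A₀ (Localization.Away a) C := IsScalarTower.of_algebraMap_eq fun r => by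
      show algebraMap A₀ C r = algebraMap (Localization.Away (a * b)) C (ψ₁ (algebraMap A₀ _ r))
      rw [hψ₁, ← IsScalarTower.algebraMap_apply]
    let alg2 : Algebra (Localization.Away b) C :=
      ((algebraMap (Localization.Away (a * b)) C).comp ψ₂).toAlgebra
    have t2 : IsScalarTower A₀ (Localization.Away b) C := IsScalarTower.of_algebraMap_eq fun r => by
      show algebraMap A₀ C r = algebraMap (Localization.Away (a * b)) C (ψ₂ (algebraMap A₀ _ r))
      rw [hψ₂, ← IsScalarTower.algebraMap_apply]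
    have e1 := u₁ C
    have e2 := u₂ C
    show Q₁ C ∧ Q₂ C ↔ _
    rw [e1, e2, Ideal.map_sup, sup_eq_bot_iff, Ideal.map_map, Ideal.map_map]
    rfl

theorem UF.forall_finset (hp : (nilradical A₀).IsPrime) {κ : Type*} (s : Finset κ)
    (Q : κ → ∀ (C : Type u) [CommRing C] [Algebra A₀ C], Prop) (h : ∀ i ∈ s, UF A₀ (Q i)) :
    UF A₀ (fun C _ _ => ∀ i ∈ s, Q i C) := by
  classical
  have : Nontrivial A₀ := by
    by_contra hnt
    rw [not_nontrivial_iff_subsingleton] at hnt
    exact hp.ne_top (Subsingleton.elim _ _)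
  induction s using Finset.induction_on with
  | empty => exact UF.congr (fun C _ _ => by simp) UF.top
  | insert a s ha ih =>
    have h1 := UF.and hp (h a (Finset.mem_insert_self a s))
      (ih fun i hi => h i (Finset.mem_insert_of_mem hi))
    exact UF.congr (fun C _ _ => by rw [Finset.forall_mem_insert]) h1

end comb

end Groth.Agent.Lib.Helper63.UFlat
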