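import Groth.Agent.Lib.Helper22.FlatBC
import Groth.Agent.Lib.Helper63.UFlat1

set_option autoImplicit false
universe u
open CategoryTheory CategoryTheory.Limits AlgebraicGeometry TopologicalSpace TensorProduct

namespace Groth.Agent.Lib.Helper63.UFlat

open Groth.Agent.Lib.Lead.PullbackAff Groth.Agent.Lib.Lead.QCohAff Scheme.Modules
  Groth.Agent.Lib.Helper22.FlatBC

theorem flat_sections_pullback_iff {X Y Y' : Scheme.{u}} (f : X ⟶ Y) (g : Y' ⟶ Y) (M : X.Modules)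
    [M.IsQuasicoherent] {U : X.Opens} {V : Y.Opens} {V' : Y'.Opens} (hU : IsAffineOpen U)
    (hV : IsAffineOpen V) (hV' : IsAffineOpen V') (e : U ≤ f ⁻¹ᵁ V) (e' : V' ≤ g ⁻¹ᵁ V) :
    letI _algAA' : Algebra Γ(Y, V) Γ(Y', V') := (g.appLE V V' e').hom.toAlgebra
    letI _modAN : Module Γ(Y, V) Γ(M, U) := Module.compHom Γ(M, U) (f.appLE V U e).hom
    (@Module.Flat Γ(Y', V') Γ((Scheme.Modules.pullback (pullback.fst f g)).obj M,
        pullback.fst f g ⁻¹ᵁ U ⊓ pullback.snd f g ⁻¹ᵁ V') _ _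
      (Module.compHom _ ((pullback.snd f g).appLE V'
        (pullback.fst f g ⁻¹ᵁ U ⊓ pullback.snd f g ⁻¹ᵁ V') inf_le_right).hom)) ↔
      Module.Flat Γ(Y', V') (Γ(Y', V') ⊗[Γ(Y, V)] Γ(M, U)) := by
  have H : IsPullback (pullback.fst f g) (pullback.snd f g) f g := IsPullback.of_hasPullback f g
  have hpush := (isIso_pushoutSection_iff H e' e rfl).mp
    (isIso_pushoutSection_of_isAffineOpen H e' e rfl hV hV' hU)
  have hW : IsAffineOpen (pullback.fst f g ⁻¹ᵁ U ⊓ pullback.snd f g ⁻¹ᵁ V') := by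
    have : IsAffine V := hV
    have : IsAffine V' := hV'
    have : IsAffine U := hU
    exact .of_isIso (Scheme.Hom.isPullback_resLE H e' e rfl).isoPullback.hom
  let algAB : Algebra Γ(Y, V) Γ(X, U) := (f.appLE V U e).hom.toAlgebra
  let algAA' : Algebra Γ(Y, V) Γ(Y', V') := (g.appLE V V' e').hom.toAlgebra
  let algBB' : Algebra Γ(X, U) Γ(pullback f g, pullback.fst f g ⁻¹ᵁ U ⊓ pullback.snd f g ⁻¹ᵁ V') :=
    ((pullback.fst f g).appLE U _ inf_le_left).hom.toAlgebra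
  let algA'B' : Algebra Γ(Y', V')
      Γ(pullback f g, pullback.fst f g ⁻¹ᵁ U ⊓ pullback.snd f g ⁻¹ᵁ V') :=
    ((pullback.snd f g).appLE V' _ inf_le_right).hom.toAlgebra
  let algAB' : Algebra Γ(Y, V)
      Γ(pullback f g, pullback.fst f g ⁻¹ᵁ U ⊓ pullback.snd f g ⁻¹ᵁ V') :=
    ((algebraMap Γ(X, U) Γ(pullback f g, pullback.fst f g ⁻¹ᵁ U ⊓ pullback.snd f g ⁻¹ᵁ V')).comp
      (algebraMap Γ(Y, V) Γ(X, U))).toAlgebra
  have t1 : IsScalarTower Γ(Y, V) Γ(X, U)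
      Γ(pullback f g, pullback.fst f g ⁻¹ᵁ U ⊓ pullback.snd f g ⁻¹ᵁ V') :=
    IsScalarTower.of_algebraMap_eq' rfl
  have t2 : IsScalarTower Γ(Y, V) Γ(Y', V')
      Γ(pullback f g, pullback.fst f g ⁻¹ᵁ U ⊓ pullback.snd f g ⁻¹ᵁ V') :=
    IsScalarTower.of_algebraMap_eq' (by
      have := congrArg CommRingCat.Hom.hom hpush.w
      exact this)
  have hP : Algebra.IsPushout Γ(Y, V) Γ(Y', V') Γ(X, U)
      Γ(pullback f g, pullback.fst f g ⁻¹ᵁ U ⊓ pullback.snd f g ⁻¹ᵁ V') := by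
    apply Algebra.IsPushout.symm
    exact CommRingCat.isPushout_iff_isPushout.mp hpush
  let modAN : Module Γ(Y, V) Γ(M, U) := Module.compHom Γ(M, U) (f.appLE V U e).hom
  have : IsScalarTower Γ(Y, V) Γ(X, U) Γ(M, U) := IsScalarTower.of_algebraMap_smul fun r m => rfl
  let modA'N' : Module Γ(Y', V') Γ((Scheme.Modules.pullback (pullback.fst f g)).obj M,
        pullback.fst f g ⁻¹ᵁ U ⊓ pullback.snd f g ⁻¹ᵁ V') :=
    Module.compHom _ ((pullback.snd f g).appLE V'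
        (pullback.fst f g ⁻¹ᵁ U ⊓ pullback.snd f g ⁻¹ᵁ V') inf_le_right).hom
  have : IsScalarTower Γ(Y', V')
      Γ(pullback f g, pullback.fst f g ⁻¹ᵁ U ⊓ pullback.snd f g ⁻¹ᵁ V')
      Γ((Scheme.Modules.pullback (pullback.fst f g)).obj M,
        pullback.fst f g ⁻¹ᵁ U ⊓ pullback.snd f g ⁻¹ᵁ V') :=
    IsScalarTower.of_algebraMap_smul fun r m => rfl
  let eq := (sectionsPullbackEquiv (pullback.fst f g) M hW hU inf_le_left).restrictScalars Γ(Y', V')
  let eq2 := Algebra.IsPushout.cancelBaseChange Γ(Y, V) Γ(Y', V') Γ(X, U)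
    Γ(pullback f g, pullback.fst f g ⁻¹ᵁ U ⊓ pullback.snd f g ⁻¹ᵁ V') Γ(M, U)
  exact Module.Flat.equiv_iff (eq.trans eq2)

theorem isAffineOpen_pullback_inf {X Y Y' : Scheme.{u}} (f : X ⟶ Y) (g : Y' ⟶ Y)
    {U : X.Opens} {V : Y.Opens} {V' : Y'.Opens} (hU : IsAffineOpen U)
    (hV : IsAffineOpen V) (hV' : IsAffineOpen V') (e : U ≤ f ⁻¹ᵁ V) (e' : V' ≤ g ⁻¹ᵁ V) :
    IsAffineOpen (pullback.fst f g ⁻¹ᵁ U ⊓ pullback.snd f g ⁻¹ᵁ V') := by
  have H : IsPullback (pullback.fst f g) (pullback.snd f g) f g := IsPullback.of_hasPullback f g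
  have : IsAffine V := hV
  have : IsAffine V' := hV'
  have : IsAffine U := hU
  exact .of_isIso (Scheme.Hom.isPullback_resLE H e' e rfl).isoPullback.hom

theorem isFlatOver_pullback_iff {X Y Y' : Scheme.{u}} [IsAffine Y] [IsAffine Y'] (f : X ⟶ Y)
    (g : Y' ⟶ Y) (F : X.Modules) [F.IsQuasicoherent] {κ : Type*} (U : κ → X.Opens)
    (hU : ∀ i, IsAffineOpen (U i)) (hcov : ∀ x : X, ∃ i, x ∈ U i) :
    FlatMod.IsFlatOver (pullback.snd f g)
        ((Scheme.Modules.pullback (pullback.fst f g)).obj F) ↔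
      ∀ i, letI _alg : Algebra Γ(Y, ⊤) Γ(Y', ⊤) := (g.appLE ⊤ ⊤ le_top).hom.toAlgebra
        letI _mod : Module Γ(Y, ⊤) Γ(F, U i) :=
          Module.compHom Γ(F, U i) (f.appLE ⊤ (U i) le_top).hom
        Module.Flat Γ(Y', ⊤) (Γ(Y', ⊤) ⊗[Γ(Y, ⊤)] Γ(F, U i)) := by
  have hY := isAffineOpen_top Y
  have hY' := isAffineOpen_top Y'
  constructor
  · intro h i
    have hW := isAffineOpen_pullback_inf f g (hU i) hY hY' le_top le_top
    refine (flat_sections_pullback_iff f g F (hU i) hY hY' le_top le_top).1 ?_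
    exact (flat_sections_iff (pullback.snd f g) _ hW hY' inf_le_right).2 (fun x _ => h x)
  · intro h x'
    obtain ⟨i, hi⟩ := hcov (pullback.fst f g x')
    have hW := isAffineOpen_pullback_inf f g (hU i) hY hY' le_top le_top
    have h1 := (flat_sections_pullback_iff f g F (hU i) hY hY' le_top le_top).2 (h i)
    exact (flat_sections_iff (pullback.snd f g) _ hW hY' inf_le_right).1 h1 x' ⟨hi, trivial⟩

end Groth.Agent.Lib.Helper63.UFlat
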