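import Mathlib.RingTheory.Valuation.ValuationSubring
import Mathlib.RingTheory.Localization.AsSubring
import Mathlib.RingTheory.Spectrum.Maximal.Localization
import Mathlib.RingTheory.Ideal.Operations
import Mathlib.Algebra.Ring.GeomSum
import Mathlib.Algebra.Field.Subfield.Basic

set_option autoImplicit false
set_option linter.unusedSectionVars false
universe u

namespace Groth.Agent.Lib.Helper63.ValInter

open Finset

variable {L : Type u} [Field L]

theorem exists_modulus_aux (V : ValuationSubring L) (f : ℕ → L) (hV : ∀ s, f s ∈ V)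
    (h1 : V.valuation (f 1) = 1)
    (h : ∀ d k : ℕ, ∃ c ∈ V, f (1 + d * k) - f 1 = f d * c) :
    ∃ d : ℕ, 0 < d ∧ ∀ s : ℕ, 1 ≤ s → s ≡ 1 [MOD d] → V.valuation (f s) = 1 := by
  by_cases hex : ∃ d : ℕ, 0 < d ∧ V.valuation (f d) < 1
  · obtain ⟨d, hd0, hd⟩ := hex
    refine ⟨d, hd0, fun s hs hmod => ?_⟩
    obtain ⟨k, hk⟩ : ∃ k, s = 1 + d * k := by
      have := (Nat.modEq_iff_dvd' hs).mp hmod.symm
      obtain ⟨k, hk⟩ := this
      exact ⟨k, by omega⟩
    obtain ⟨c, hc, hfc⟩ := h d k
    have hlt : V.valuation (f d * c) < 1 := by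
      rw [map_mul]
      calc V.valuation (f d) * V.valuation c ≤ V.valuation (f d) * 1 := by
            gcongr
            exact (V.valuation_le_one_iff c).mpr hc
        _ = V.valuation (f d) := mul_one _
        _ < 1 := hd
    have : f s = f 1 + f d * c := by rw [hk, ← hfc]; ring
    rw [this, Valuation.map_add_eq_of_lt_left _ (by rw [h1]; exact hlt), h1]
  · refine ⟨1, one_pos, fun s hs _ => ?_⟩
    push Not at hex
    exact le_antisymm ((V.valuation_le_one_iff _).mpr (hV s)) (hex s hs)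

theorem valuation_geom_sum_of_notMem (V : ValuationSubring L) {x : L} (hx : x ∉ V) (n : ℕ) :
    V.valuation (∑ j ∈ range (n + 1), x ^ j) = V.valuation x ^ n := by
  have h1 : 1 < V.valuation x := by
    rw [← not_le, V.valuation_le_one_iff]
    exact hx
  induction n with
  | zero => simp
  | succ n ih =>
    rw [geom_sum_succ']
    have hlt : V.valuation (∑ j ∈ range (n + 1), x ^ j) < V.valuation (x ^ (n + 1)) := by
      rw [ih, map_pow]
      exact pow_lt_pow_right₀ h1 (Nat.lt_succ_self n)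
    rw [Valuation.map_add_eq_of_lt_left _ hlt, map_pow]

theorem exists_modulus (V : ValuationSubring L) (x : L) :
    ∃ d : ℕ, 0 < d ∧ ∀ s : ℕ, 2 ≤ s → s ≡ 1 [MOD d] →
      (∑ j ∈ range s, x ^ j) ≠ 0 ∧ (∑ j ∈ range s, x ^ j)⁻¹ ∈ V ∧
      x * (∑ j ∈ range s, x ^ j)⁻¹ ∈ V ∧ (x ∈ V → (∑ j ∈ range s, x ^ j) ∈ V) := by
  by_cases hx : x ∈ V
  · have hy : ∀ s, (∑ j ∈ range s, x ^ j) ∈ V := fun s =>
      V.toSubring.sum_mem (fun j _ => V.toSubring.pow_mem hx j)
    suffices hsuff : ∃ d : ℕ, 0 < d ∧ ∀ s : ℕ, 1 ≤ s → s ≡ 1 [MOD d] →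
        V.valuation (∑ j ∈ range s, x ^ j) = 1 by
      obtain ⟨d, hd, hs⟩ := hsuff
      refine ⟨d, hd, fun s hs2 hmod => ?_⟩
      have hv := hs s (by omega) hmod
      have hne : (∑ j ∈ range s, x ^ j) ≠ 0 := by
        intro h0
        rw [h0, map_zero] at hv
        exact zero_ne_one hv
      have hinv : (∑ j ∈ range s, x ^ j)⁻¹ ∈ V := by
        rw [← V.valuation_le_one_iff, map_inv₀, hv, inv_one]
      exact ⟨hne, hinv, V.toSubring.mul_mem hx hinv, fun _ => hy s⟩
    by_cases h1x : V.valuation (1 - x) < 1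
    · obtain ⟨d, hd, hs⟩ := exists_modulus_aux V (fun s => (s : L))
        (fun s => natCast_mem V.toSubring s) (by simp)
        (fun d k => ⟨(k : L), natCast_mem V.toSubring k, by push_cast; ring⟩)
      refine ⟨d, hd, fun s hs1 hmod => ?_⟩
      have hvs : V.valuation (s : L) = 1 := hs s hs1 hmod
      have hdiff : V.valuation ((∑ j ∈ range s, x ^ j) - (s : L)) < 1 := by
        have hEq : (∑ j ∈ range s, x ^ j) - (s : L) =
            (1 - x) * (-(∑ j ∈ range s, ∑ i ∈ range j, x ^ i)) := by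
          rw [mul_neg, mul_sum]
          simp_rw [mul_neg_geom_sum]
          simp [sum_sub_distrib]
        rw [hEq, map_mul]
        have hmem : (-(∑ j ∈ range s, ∑ i ∈ range j, x ^ i)) ∈ V :=
          V.toSubring.neg_mem (V.toSubring.sum_mem (fun j _ => hy j))
        calc V.valuation (1 - x) * V.valuation (-(∑ j ∈ range s, ∑ i ∈ range j, x ^ i))
            ≤ V.valuation (1 - x) * 1 := by
              gcongr
              exact (V.valuation_le_one_iff _).mpr hmem
          _ < 1 := by rwa [mul_one]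
      have hEq2 : (∑ j ∈ range s, x ^ j) = (s : L) + ((∑ j ∈ range s, x ^ j) - (s : L)) := by ring
      rw [hEq2, Valuation.map_add_eq_of_lt_left _ (by rw [hvs]; exact hdiff), hvs]
    · have h1x' : V.valuation (1 - x) = 1 :=
        le_antisymm ((V.valuation_le_one_iff _).mpr (V.toSubring.sub_mem V.toSubring.one_mem hx))
          (not_lt.mp h1x)
      obtain ⟨d, hd, hs⟩ := exists_modulus_aux V (fun s => 1 - x ^ s)
        (fun s => V.toSubring.sub_mem V.toSubring.one_mem (V.toSubring.pow_mem hx s))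
        (by simpa using h1x')
        (fun d k => ⟨x * ∑ i ∈ range k, (x ^ d) ^ i,
          V.toSubring.mul_mem hx (V.toSubring.sum_mem (fun i _ =>
            V.toSubring.pow_mem (V.toSubring.pow_mem hx d) i)), by
            have := mul_neg_geom_sum (x ^ d) k
            rw [mul_left_comm, this]
            ring⟩)
      refine ⟨d, hd, fun s hs1 hmod => ?_⟩
      have hvs : V.valuation (1 - x ^ s) = 1 := hs s hs1 hmod
      have hmul := mul_neg_geom_sum x s
      have : V.valuation (1 - x) * V.valuation (∑ j ∈ range s, x ^ j) = 1 := by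
        rw [← map_mul, hmul]
        exact hvs
      rwa [h1x', one_mul] at this
  · refine ⟨1, one_pos, fun s hs2 _ => ?_⟩
    obtain ⟨n, rfl⟩ : ∃ n, s = n + 1 := ⟨s - 1, by omega⟩
    have hn : n ≠ 0 := by omega
    have h1 : 1 < V.valuation x := by
      rw [← not_le, V.valuation_le_one_iff]
      exact hx
    have hv := valuation_geom_sum_of_notMem V hx n
    have hpos : 0 < V.valuation x ^ n := pow_pos (lt_trans zero_lt_one h1) n
    have hne : (∑ j ∈ range (n + 1), x ^ j) ≠ 0 := by
      intro h0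
      rw [h0, map_zero] at hv
      exact hpos.ne hv
    refine ⟨hne, ?_, ?_, fun h => absurd h hx⟩
    · rw [← V.valuation_le_one_iff, map_inv₀, hv]
      exact inv_le_one_of_one_le₀ (one_le_pow₀ h1.le)
    · rw [← V.valuation_le_one_iff, map_mul, map_inv₀, hv]
      rw [mul_inv_le_iff₀ hpos, one_mul]
      exact le_self_pow₀ h1.le hn

section Good

variable {ι : Type*} [Finite ι] [Nonempty ι]

theorem exists_good (V : ι → ValuationSubring L) (x : L) :
    ∃ y : L, y ≠ 0 ∧ (∀ i, y⁻¹ ∈ V i ∧ x * y⁻¹ ∈ V i ∧ (x ∈ V i → y ∈ V i)) ∧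
      ∀ K : Subfield L, x ∈ K → y ∈ K := by
  classical
  have := Fintype.ofFinite ι
  choose d hd hs using fun i => exists_modulus (V i) x
  have hprod : 0 < ∏ i, d i := Finset.prod_pos (fun i _ => hd i)
  have hs2 : 2 ≤ 1 + ∏ i, d i := by omega
  have hmod : ∀ i, 1 + ∏ i, d i ≡ 1 [MOD d i] := by
    intro i
    have hdvd : d i ∣ ∏ i, d i := Finset.dvd_prod_of_mem d (Finset.mem_univ i)
    have h0 : ∏ i, d i ≡ 0 [MOD d i] := (Nat.modEq_zero_iff_dvd).mpr hdvd
    exact Nat.ModEq.add_left 1 h0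
  refine ⟨∑ j ∈ range (1 + ∏ i, d i), x ^ j, ?_, fun i => ?_, fun K hK => ?_⟩
  · exact (hs (Classical.arbitrary ι) _ hs2 (hmod _)).1
  · exact (hs i _ hs2 (hmod i)).2
  · exact K.toSubring.sum_mem (fun j _ => K.toSubring.pow_mem hK j)

end Good

section Main

variable {ι : Type*} [Finite ι] [Nonempty ι] (V : ι → ValuationSubring L) (K : Subfield L)
  (S : Subring L) (hS : ∀ z, z ∈ S ↔ (∀ i, z ∈ V i) ∧ z ∈ K)

include hS

theorem exists_div (x : L) (hx : x ∈ K) :
    ∃ a b : L, a ∈ S ∧ b ∈ S ∧ b ≠ 0 ∧ x = a / b := by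
  obtain ⟨y, hy0, hy, hyK⟩ := exists_good V x
  refine ⟨x * y⁻¹, y⁻¹, ?_, ?_, inv_ne_zero hy0, ?_⟩
  · exact (hS _).mpr ⟨fun i => (hy i).2.1, K.mul_mem hx (K.inv_mem (hyK K hx))⟩
  · exact (hS _).mpr ⟨fun i => (hy i).1, K.inv_mem (hyK K hx)⟩
  · field_simp

def pIdeal (i : ι) : Ideal S where
  carrier := {z | (V i).valuation (z : L) < 1}
  add_mem' := fun {a b} ha hb => by
    change (V i).valuation ((a : L) + (b : L)) < 1
    exact lt_of_le_of_lt (Valuation.map_add _ _ _) (max_lt ha hb)
  zero_mem' := by simp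
  smul_mem' := fun c z hz => by
    have hc : (V i).valuation (c : L) ≤ 1 :=
      ((V i).valuation_le_one_iff _).mpr (((hS _).mp c.2).1 i)
    change (V i).valuation ((c : L) * (z : L)) < 1
    rw [map_mul]
    calc (V i).valuation (c : L) * (V i).valuation (z : L)
        ≤ 1 * (V i).valuation (z : L) := by gcongr
      _ < 1 := by rw [one_mul]; exact hz

theorem mem_pIdeal (i : ι) (z : S) : z ∈ pIdeal V K S hS i ↔ (V i).valuation (z : L) < 1 :=
  Iff.rfl

theorem valuation_le_one (i : ι) (z : S) : (V i).valuation (z : L) ≤ 1 :=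
  ((V i).valuation_le_one_iff _).mpr (((hS _).mp z.2).1 i)

theorem pIdeal_isPrime (i : ι) : (pIdeal V K S hS i).IsPrime := by
  refine ⟨?_, fun {a b} hab => ?_⟩
  · rw [Ideal.ne_top_iff_one, mem_pIdeal]
    simp
  · rw [mem_pIdeal] at hab
    by_contra hcon
    push Not at hcon
    rw [mem_pIdeal, mem_pIdeal, not_lt, not_lt] at hcon
    have ha := le_antisymm (valuation_le_one V K S hS i a) hcon.1
    have hb := le_antisymm (valuation_le_one V K S hS i b) hcon.2
    have : (V i).valuation ((a * b : S) : L) = 1 := by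
      push_cast
      rw [map_mul, ha, hb, one_mul]
    rw [this] at hab
    exact lt_irrefl _ hab

theorem isUnit_of_forall_notMem (z : S) (hz : ∀ i, z ∉ pIdeal V K S hS i) : IsUnit z := by
  have hv : ∀ i, (V i).valuation (z : L) = 1 := fun i =>
    le_antisymm (valuation_le_one V K S hS i z) (not_lt.mp (hz i))
  have hz0 : (z : L) ≠ 0 := by
    intro h0
    have := hv (Classical.arbitrary ι)
    rw [h0, map_zero] at this
    exact zero_ne_one this
  have hinv : (z : L)⁻¹ ∈ S := by
    refine (hS _).mpr ⟨fun i => ?_, K.inv_mem ((hS _).mp z.2).2⟩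
    rw [← (V i).valuation_le_one_iff, map_inv₀, hv i, inv_one]
  exact isUnit_iff_exists_inv.mpr ⟨⟨(z : L)⁻¹, hinv⟩, Subtype.ext (mul_inv_cancel₀ hz0)⟩

theorem exists_le_pIdeal (P : Ideal S) (hP : P ≠ ⊤) : ∃ i, P ≤ pIdeal V K S hS i := by
  classical
  have := Fintype.ofFinite ι
  by_contra hcon
  push Not at hcon
  have key := Ideal.subset_union_prime (s := Finset.univ) (f := pIdeal V K S hS)
    (Classical.arbitrary ι) (Classical.arbitrary ι)
    (fun i _ _ _ => pIdeal_isPrime V K S hS i) (I := P)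
  have hnot : ¬ ((P : Set S) ⊆ ⋃ i ∈ ((Finset.univ : Finset ι) : Set ι), pIdeal V K S hS i) := by
    rw [key]
    rintro ⟨i, -, hi⟩
    exact hcon i hi
  obtain ⟨z, hzP, hz⟩ := Set.not_subset.mp hnot
  have hz' : ∀ i, z ∉ pIdeal V K S hS i := by
    intro i hi
    exact hz (Set.mem_iUnion₂.mpr ⟨i, by simp, hi⟩)
  exact hP (Ideal.eq_top_of_isUnit_mem _ hzP (isUnit_of_forall_notMem V K S hS z hz'))

theorem finite_maximalSpectrum : Finite (MaximalSpectrum S) := by
  choose f hf using fun M : MaximalSpectrum S =>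
    exists_le_pIdeal V K S hS M.asIdeal M.isMaximal.ne_top
  have hf' : ∀ M : MaximalSpectrum S, M.asIdeal = pIdeal V K S hS (f M) := fun M =>
    M.isMaximal.eq_of_le (pIdeal_isPrime V K S hS _).ne_top (hf M)
  refine Finite.of_injective f (fun M M' h => ?_)
  apply MaximalSpectrum.ext
  rw [hf' M, hf' M', h]

theorem exists_cross (P : Ideal S) (hP : P.IsPrime) (a b : S) :
    ∃ α β : S, β ∉ P ∧ (a * α = b * β ∨ b * α = a * β) := by
  obtain ⟨i, hi⟩ := exists_le_pIdeal V K S hS P hP.ne_top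
  have h1P : (1 : S) ∉ P := (Ideal.ne_top_iff_one P).mp hP.ne_top
  by_cases ha : a = 0
  · exact ⟨0, 1, h1P, Or.inr (by simp [ha])⟩
  by_cases hb : b = 0
  · exact ⟨0, 1, h1P, Or.inl (by simp [hb])⟩
  have ha' : (a : L) ≠ 0 := fun h => ha (Subtype.ext h)
  have hb' : (b : L) ≠ 0 := fun h => hb (Subtype.ext h)
  have haK : (a : L) ∈ K := ((hS _).mp a.2).2
  have hbK : (b : L) ∈ K := ((hS _).mp b.2).2
  have aux : ∀ x : L, x ∈ K → x ∈ V i → ∃ α β : S, β ∉ P ∧ (α : L) = x * (β : L) := by
    intro x hxK hxV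
    obtain ⟨y, hy0, hy, hyK⟩ := exists_good V x
    have hαS : x * y⁻¹ ∈ S :=
      (hS _).mpr ⟨fun j => (hy j).2.1, K.mul_mem hxK (K.inv_mem (hyK K hxK))⟩
    have hβS : y⁻¹ ∈ S := (hS _).mpr ⟨fun j => (hy j).1, K.inv_mem (hyK K hxK)⟩
    refine ⟨⟨x * y⁻¹, hαS⟩, ⟨y⁻¹, hβS⟩, fun hβP => ?_, rfl⟩
    have hlt : (V i).valuation (y⁻¹) < 1 := hi hβP
    have hyV : (V i).valuation y ≤ 1 := ((V i).valuation_le_one_iff _).mpr ((hy i).2.2 hxV)
    rw [map_inv₀] at hlt
    have hpos : 0 < (V i).valuation y := by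
      rw [Valuation.pos_iff]
      exact hy0
    have : 1 ≤ ((V i).valuation y)⁻¹ := (one_le_inv₀ hpos).mpr hyV
    exact absurd hlt (not_lt.mpr this)
  rcases (V i).mem_or_inv_mem ((b : L) / (a : L)) with hx | hx
  · obtain ⟨α, β, hβ, h⟩ := aux _ (K.div_mem hbK haK) hx
    refine ⟨α, β, hβ, Or.inl (Subtype.ext ?_)⟩
    push_cast
    rw [h]
    field_simp
  · rw [inv_div] at hx
    obtain ⟨α, β, hβ, h⟩ := aux _ (K.div_mem haK hbK) hx
    refine ⟨α, β, hβ, Or.inr (Subtype.ext ?_)⟩
    push_cast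
    rw [h]
    field_simp

theorem valuationRing_localization (P : Ideal S) [hP : P.IsPrime] :
    ValuationRing (Localization.AtPrime P) := by
  refine { cond' := fun a b => ?_ }
  obtain ⟨a', s, rfl⟩ := IsLocalization.exists_mk'_eq P.primeCompl a
  obtain ⟨b', t, rfl⟩ := IsLocalization.exists_mk'_eq P.primeCompl b
  obtain ⟨α, β, hβ, h⟩ := exists_cross V K S hS P hP a' b'
  rcases h with h | h
  · refine ⟨IsLocalization.mk' _ (α * s) ((⟨β, hβ⟩ : P.primeCompl) * t), Or.inl ?_⟩
    rw [← IsLocalization.mk'_mul, IsLocalization.mk'_eq_iff_eq]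
    congr 1
    push_cast
    linear_combination ((t : S) * (s : S)) * h
  · refine ⟨IsLocalization.mk' _ (α * t) ((⟨β, hβ⟩ : P.primeCompl) * s), Or.inr ?_⟩
    rw [← IsLocalization.mk'_mul, IsLocalization.mk'_eq_iff_eq]
    congr 1
    push_cast
    linear_combination ((t : S) * (s : S)) * h

end Main

section Prufer

variable (R : Type u) [CommRing R] [IsDomain R] [Algebra R L] [IsFractionRing R L]
  (hR : ∀ (p : Ideal R) [p.IsPrime], ValuationRing (Localization.AtPrime p))

include hR in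
theorem mem_or_inv_mem_ofField (p : Ideal R) [hp : p.IsPrime] (x : L) :
    x ∈ Localization.subalgebra.ofField L p.primeCompl p.primeCompl_le_nonZeroDivisors ∨
    x⁻¹ ∈ Localization.subalgebra.ofField L p.primeCompl p.primeCompl_le_nonZeroDivisors := by
  have hval := hR p
  have hinj : Function.Injective (algebraMap R (Localization.AtPrime p)) :=
    IsLocalization.injective _ p.primeCompl_le_nonZeroDivisors
  have hinjL : Function.Injective (algebraMap R L) := IsFractionRing.injective R L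
  obtain ⟨a, b, hb, rfl⟩ := IsFractionRing.div_surjective (A := R) x
  have hb0 : algebraMap R L b ≠ 0 := by
    intro h0
    rw [← map_zero (algebraMap R L)] at h0
    exact nonZeroDivisors.ne_zero hb (hinjL h0)
  obtain ⟨c, hc⟩ := ValuationRing.cond (algebraMap R (Localization.AtPrime p) a)
    (algebraMap R (Localization.AtPrime p) b)
  obtain ⟨c', s, rfl⟩ := IsLocalization.exists_mk'_eq p.primeCompl c
  have hs0 : algebraMap R L (s : R) ≠ 0 := by
    intro h0
    rw [← map_zero (algebraMap R L)] at h0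
    have := hinjL h0
    exact s.2 (this ▸ p.zero_mem)
  rcases hc with hc | hc
  · rw [IsLocalization.mul_mk'_eq_mk'_of_mul, IsLocalization.mk'_eq_iff_eq_mul, ← map_mul] at hc
    have hc' : a * c' = b * s := hinj hc
    have hL : algebraMap R L a * algebraMap R L c' = algebraMap R L b * algebraMap R L s := by
      rw [← map_mul, ← map_mul, hc']
    by_cases ha0 : algebraMap R L a = 0
    · left
      rw [ha0, zero_div]
      exact Subalgebra.zero_mem _
    · right
      refine ⟨c', s, s.2, ?_⟩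
      rw [inv_div]
      field_simp
      linear_combination -hL
  · rw [IsLocalization.mul_mk'_eq_mk'_of_mul, IsLocalization.mk'_eq_iff_eq_mul, ← map_mul] at hc
    have hc' : b * c' = a * s := hinj hc
    have hL : algebraMap R L b * algebraMap R L c' = algebraMap R L a * algebraMap R L s := by
      rw [← map_mul, ← map_mul, hc']
    left
    refine ⟨c', s, s.2, ?_⟩
    field_simp
    linear_combination -hL

noncomputable def locVal (m : MaximalSpectrum R) : ValuationSubring L :=
  { (Localization.subalgebra.ofField L m.asIdeal.primeCompl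
      m.asIdeal.primeCompl_le_nonZeroDivisors).toSubring with
    mem_or_inv_mem' := fun x => by
      have : m.asIdeal.IsPrime := m.isMaximal.isPrime
      exact mem_or_inv_mem_ofField R hR m.asIdeal x }

theorem mem_range_iff (z : L) : z ∈ (algebraMap R L).range ↔ ∀ m, z ∈ locVal R hR m := by
  have h := MaximalSpectrum.iInf_localization_eq_bot R L
  constructor
  · rintro ⟨r, rfl⟩ m
    exact Subalgebra.algebraMap_mem (Localization.subalgebra.ofField L m.asIdeal.primeCompl
      m.asIdeal.primeCompl_le_nonZeroDivisors) r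
  · intro hz
    have hmem : z ∈ (⨅ v : MaximalSpectrum R, Localization.subalgebra.ofField L _
        v.asIdeal.primeCompl_le_nonZeroDivisors) := by
      rw [Algebra.mem_iInf]
      exact hz
    rw [h, Algebra.mem_bot] at hmem
    exact hmem

include hR in
theorem semilocal_prufer_inf_subfield (hfin : Finite (MaximalSpectrum R)) (K : Subfield L) :
    (∀ (p : Ideal ↥((algebraMap R L).range ⊓ K.toSubring)) [p.IsPrime],
        ValuationRing (Localization.AtPrime p)) ∧
      Finite (MaximalSpectrum ↥((algebraMap R L).range ⊓ K.toSubring)) ∧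
      ∀ x : L, x ∈ K → ∃ a b : L, a ∈ (algebraMap R L).range ⊓ K.toSubring ∧
        b ∈ (algebraMap R L).range ⊓ K.toSubring ∧ b ≠ 0 ∧ x = a / b := by
  have hne : Nonempty (MaximalSpectrum R) := by
    obtain ⟨m, hm⟩ := Ideal.exists_maximal R
    exact ⟨⟨m, hm⟩⟩
  have hS : ∀ z, z ∈ (algebraMap R L).range ⊓ K.toSubring ↔
      (∀ m, z ∈ locVal R hR m) ∧ z ∈ K := by
    intro z
    rw [Subring.mem_inf, mem_range_iff R hR]
    rfl
  exact ⟨fun p _ => valuationRing_localization (locVal R hR) K _ hS p,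
    finite_maximalSpectrum (locVal R hR) K _ hS, fun x hx => exists_div (locVal R hR) K _ hS x hx⟩

end Prufer

end Groth.Agent.Lib.Helper63.ValInter
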